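import Mathlib
import Cfsg.Prelude.Def_ClassicalGeometry
import Cfsg.Agent.S0765
import Cfsg.Agent.S0271
import Cfsg.Agent.Lib.Helper13.SympGen

/-!
# The symplectic group acts primitively on the points of projective space (helper8)
-/

set_option autoImplicit false

namespace Cfsg.Agent.Lib.Helper8

open Matrix Cfsg.Agent.S0765
open scoped LinearAlgebra.Projectivization Pointwise

section
variable {F : Type*} [Field F] {m : ℕ}

theorem B_eq_sympForm (x y : Fin m ⊕ Fin m → F) : B x y = Cfsg.sympForm m F x y := rfl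

theorem sp_smul_eq (g : Matrix.symplecticGroup (Fin m) F) (v : Fin m ⊕ Fin m → F) :
    g • v = (g : Matrix (Fin m ⊕ Fin m) (Fin m ⊕ Fin m) F) *ᵥ v := rfl

/-- Witt for pairs with a common first vector. -/
theorem exists_fix_move (u v w : Fin m ⊕ Fin m → F) (huv : LinearIndependent F ![u, v])
    (huw : LinearIndependent F ![u, w]) (hB : B u v = B u w) :
    ∃ g : Matrix.symplecticGroup (Fin m) F,
      (g : Matrix (Fin m ⊕ Fin m) (Fin m ⊕ Fin m) F) *ᵥ u = u ∧
      (g : Matrix (Fin m ⊕ Fin m) (Fin m ⊕ Fin m) F) *ᵥ v = w := by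
  obtain ⟨M, -, hM⟩ := Cfsg.Agent.Lib.Helper13.witt_families_symp 2 ![u, v] ![u, w] huv huw (by
    intro i j
    fin_cases i <;> fin_cases j
    · rfl
    · exact hB
    · show B v u = B w u
      rw [B_skew u v, B_skew u w, hB]
    · show B v v = B w w
      rw [B_self, B_self])
  exact ⟨M, hM 0, hM 1⟩

theorem exists_both (u w : Fin m ⊕ Fin m → F) (hu : u ≠ 0) (hw : w ≠ 0) :
    ∃ x, B u x ≠ 0 ∧ B w x ≠ 0 := by
  obtain ⟨x1, h1⟩ := B_nondeg u hu
  obtain ⟨x2, h2⟩ := B_nondeg w hw
  by_cases h3 : B w x1 = 0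
  · by_cases h4 : B u x2 = 0
    · refine ⟨x1 + x2, ?_, ?_⟩
      · rw [B_add_right, h4, add_zero]; exact h1
      · rw [B_add_right, h3, zero_add]; exact h2
    · exact ⟨x2, h4, h2⟩
  · exact ⟨x1, h1, h3⟩

theorem linInd_of_B_ne (u v : Fin m ⊕ Fin m → F) (h : B u v ≠ 0) : LinearIndependent F ![u, v] := by
  have hu : u ≠ 0 := by
    rintro rfl
    exact h (B_zero_left v)
  rw [LinearIndependent.pair_iff' hu]
  intro a ha
  apply h
  rw [← ha, B_smul_right, B_self, mul_zero]

variable {𝔅 : Set (ℙ F (Fin m ⊕ Fin m → F))}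

theorem block_move (hB : MulAction.IsBlock (Matrix.symplecticGroup (Fin m) F) 𝔅)
    {u v w : Fin m ⊕ Fin m → F} (hu : u ≠ 0) (hv : v ≠ 0) (hw : w ≠ 0)
    (hPu : Projectivization.mk F u hu ∈ 𝔅) (hPv : Projectivization.mk F v hv ∈ 𝔅)
    (g : Matrix.symplecticGroup (Fin m) F)
    (hgu : (g : Matrix (Fin m ⊕ Fin m) (Fin m ⊕ Fin m) F) *ᵥ u = u)
    (hgv : (g : Matrix (Fin m ⊕ Fin m) (Fin m ⊕ Fin m) F) *ᵥ v = w) :
    Projectivization.mk F w hw ∈ 𝔅 := by
  have h1 : g • Projectivization.mk F u hu = Projectivization.mk F u hu := by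
    rw [Projectivization.smul_mk]
    congr 1
  have h2 : g • 𝔅 = 𝔅 := hB.smul_eq_of_mem hPu (by rw [h1]; exact hPu)
  have h3 : g • Projectivization.mk F v hv ∈ g • 𝔅 := Set.smul_mem_smul_set hPv
  rw [h2, Projectivization.smul_mk] at h3
  have h4 : Projectivization.mk F w hw =
      Projectivization.mk F (g • v) ((smul_ne_zero_iff_ne g).mpr hv) := by
    congr 1
    exact hgv.symm
  rw [h4]
  exact h3

/-- non-orthogonal neighbours of a point of a block -/
theorem block_nonorth (hB : MulAction.IsBlock (Matrix.symplecticGroup (Fin m) F) 𝔅)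
    {u v w : Fin m ⊕ Fin m → F} (hu : u ≠ 0) (hv : v ≠ 0) (hw : w ≠ 0)
    (hPu : Projectivization.mk F u hu ∈ 𝔅) (hPv : Projectivization.mk F v hv ∈ 𝔅)
    (huv : B u v ≠ 0) (huw : B u w ≠ 0) : Projectivization.mk F w hw ∈ 𝔅 := by
  set a : F := B u v / B u w with ha
  have ha0 : a ≠ 0 := div_ne_zero huv huw
  have haw : a • w ≠ 0 := smul_ne_zero ha0 hw
  have hBw : B u (a • w) = B u v := by
    rw [B_smul_right, ha, div_mul_cancel₀ _ huw]
  obtain ⟨g, hgu, hgv⟩ := exists_fix_move u v (a • w) (linInd_of_B_ne u v huv)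
    (linInd_of_B_ne u (a • w) (by rw [hBw]; exact huv)) hBw.symm
  have := block_move hB hu hv haw hPu hPv g hgu hgv
  have e : Projectivization.mk F w hw = Projectivization.mk F (a • w) haw := by
    rw [Projectivization.mk_eq_mk_iff']
    exact ⟨a⁻¹, by rw [smul_smul, inv_mul_cancel₀ ha0, one_smul]⟩
  rw [e]
  exact this

/-- orthogonal neighbours of a point of a block -/
theorem block_orth (hB : MulAction.IsBlock (Matrix.symplecticGroup (Fin m) F) 𝔅)
    {u v w : Fin m ⊕ Fin m → F} (hu : u ≠ 0) (hv : v ≠ 0) (hw : w ≠ 0)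
    (hPu : Projectivization.mk F u hu ∈ 𝔅) (hPv : Projectivization.mk F v hv ∈ 𝔅)
    (huv : B u v = 0) (hiv : LinearIndependent F ![u, v])
    (huw : B u w = 0) (hiw : LinearIndependent F ![u, w]) : Projectivization.mk F w hw ∈ 𝔅 := by
  obtain ⟨g, hgu, hgv⟩ := exists_fix_move u v w hiv hiw (by rw [huv, huw])
  exact block_move hB hu hv hw hPu hPv g hgu hgv

theorem block_eq_univ (hB : MulAction.IsBlock (Matrix.symplecticGroup (Fin m) F) 𝔅)
    {u v : Fin m ⊕ Fin m → F} (hu : u ≠ 0) (hv : v ≠ 0)
    (hPu : Projectivization.mk F u hu ∈ 𝔅) (hPv : Projectivization.mk F v hv ∈ 𝔅)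
    (hiv : LinearIndependent F ![u, v]) (w : Fin m ⊕ Fin m → F) (hw : w ≠ 0) :
    Projectivization.mk F w hw ∈ 𝔅 := by
  by_cases huv : B u v = 0
  · -- orthogonal case
    by_cases huw : B u w = 0
    · by_cases hiw : LinearIndependent F ![u, w]
      · exact block_orth hB hu hv hw hPu hPv huv hiv huw hiw
      · rw [LinearIndependent.pair_iff' hu] at hiw
        push Not at hiw
        obtain ⟨a, ha⟩ := hiw
        have e : Projectivization.mk F w hw = Projectivization.mk F u hu := by
          rw [Projectivization.mk_eq_mk_iff']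
          exact ⟨a, ha⟩
        rw [e]; exact hPu
    · -- w not orthogonal to u
      have hwu : B w u ≠ 0 := by rw [B_skew]; exact neg_ne_zero.mpr huw
      set c : F := B w v / B w u with hc
      set x : Fin m ⊕ Fin m → F := v - c • u with hx
      have hux : B u x = 0 := by
        rw [hx, B_sub_right, B_smul_right, B_self, huv, mul_zero, sub_zero]
      have hwx : B w x = 0 := by
        rw [hx, B_sub_right, B_smul_right, hc, div_mul_cancel₀ _ hwu, sub_self]
      have hix : LinearIndependent F ![u, x] := by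
        rw [LinearIndependent.pair_iff' hu] at hiv ⊢
        intro a ha
        apply hiv (a + c)
        rw [add_smul, ha, hx]
        abel
      have hx0 : x ≠ 0 := by
        intro h
        rw [LinearIndependent.pair_iff' hu] at hix
        exact hix 0 (by rw [zero_smul, h])
      have hPx : Projectivization.mk F x hx0 ∈ 𝔅 :=
        block_orth hB hu hv hx0 hPu hPv huv hiv hux hix
      have hxu : B x u = 0 := by rw [B_skew, hux, neg_zero]
      have hxw : B x w = 0 := by rw [B_skew, hwx, neg_zero]
      have hixu : LinearIndependent F ![x, u] := by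
        rw [LinearIndependent.pair_iff' hx0]
        intro a ha
        rw [LinearIndependent.pair_iff' hu] at hix
        have ha0 : a ≠ 0 := by
          rintro rfl
          rw [zero_smul] at ha
          exact hu ha.symm
        apply hix a⁻¹
        rw [← ha, smul_smul, inv_mul_cancel₀ ha0, one_smul]
      have hixw : LinearIndependent F ![x, w] := by
        rw [LinearIndependent.pair_iff' hx0]
        intro a ha
        apply huw
        rw [← ha, B_smul_right, hux, mul_zero]
      exact block_orth hB hx0 hu hw hPx hPu hxu hixu hxw hixw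
  · -- non-orthogonal case
    by_cases huw : B u w = 0
    · obtain ⟨x, hux, hwx⟩ := exists_both u w hu hw
      have hx0 : x ≠ 0 := by
        rintro rfl
        exact hux (B_zero_right u)
      have hPx : Projectivization.mk F x hx0 ∈ 𝔅 :=
        block_nonorth hB hu hv hx0 hPu hPv huv hux
      have hxu : B x u ≠ 0 := by rw [B_skew]; exact neg_ne_zero.mpr hux
      have hxw : B x w ≠ 0 := by rw [B_skew]; exact neg_ne_zero.mpr hwx
      exact block_nonorth hB hx0 hu hw hPx hPu hxu hxw
    · exact block_nonorth hB hu hv hw hPu hPv huv huw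

instance sp_isPretransitive :
    MulAction.IsPretransitive (Matrix.symplecticGroup (Fin m) F) (ℙ F (Fin m ⊕ Fin m → F)) := by
  constructor
  intro P Q
  induction P using Projectivization.ind with | _ u hu =>
  induction Q using Projectivization.ind with | _ w hw =>
  obtain ⟨g, hg⟩ := Cfsg.Agent.S0271.result m u w hu hw
  refine ⟨g, ?_⟩
  rw [Projectivization.smul_mk]
  congr 1

/-- The symplectic group acts primitively on the points of projective space. -/
theorem sp_isPreprimitive :
    MulAction.IsPreprimitive (Matrix.symplecticGroup (Fin m) F) (ℙ F (Fin m ⊕ Fin m → F)) := by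
  constructor
  intro 𝔅 hB
  by_cases hs : 𝔅.Subsingleton
  · exact Or.inl hs
  right
  rw [Set.not_subsingleton_iff] at hs
  obtain ⟨P, hP, Q, hQ, hPQ⟩ := hs
  rw [Set.eq_univ_iff_forall]
  intro R
  induction P using Projectivization.ind with | _ u hu =>
  induction Q using Projectivization.ind with | _ v hv =>
  induction R using Projectivization.ind with | _ w hw =>
  have hiv : LinearIndependent F ![u, v] := by
    rw [LinearIndependent.pair_iff' hu]
    intro a ha
    apply hPQ
    rw [Projectivization.mk_eq_mk_iff']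
    have ha0 : a ≠ 0 := by
      rintro rfl
      rw [zero_smul] at ha
      exact hv ha.symm
    exact ⟨a⁻¹, by rw [← ha, smul_smul, inv_mul_cancel₀ ha0, one_smul]⟩
  exact block_eq_univ hB hu hv hP hQ hiv w hw

end

end Cfsg.Agent.Lib.Helper8
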