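import Mathlib
import Cfsg.Prelude.Def_Spor_Conway
import Cfsg.Agent.S0432
import Cfsg.Agent.S0433
import Cfsg.Agent.Lib.Helper7.M24Trans

/-!
# Basic elements of `Co0` (helper8): negation, sign changes on code words, coordinate
permutations from `M24`; the lattice vectors `8 e_i`.
-/

set_option autoImplicit false

namespace Cfsg.Agent.Lib.Helper8

open Cfsg
open scoped Pointwise

/-- sign change on a set of coordinates -/
def signFun (C : Finset GolayPt) (x : GolayPt → ℤ) : GolayPt → ℤ :=
  fun i => if i ∈ C then -x i else x i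

theorem signFun_signFun (C : Finset GolayPt) (x : GolayPt → ℤ) : signFun C (signFun C x) = x := by
  funext i
  unfold signFun
  split_ifs <;> simp

theorem signFun_add (C : Finset GolayPt) (x y : GolayPt → ℤ) :
    signFun C (x + y) = signFun C x + signFun C y := by
  funext i
  simp only [signFun, Pi.add_apply]
  split_ifs <;> ring

theorem sqNorm_signFun (C : Finset GolayPt) (x : GolayPt → ℤ) :
    sqNorm (signFun C x) = sqNorm x := by
  unfold sqNorm signFun
  apply Finset.sum_congr rfl
  intro i _
  split_ifs <;> ring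

/-- the sign change on the support of a code word, as a permutation of the lattice -/
def signPerm (C : Finset GolayPt)
    (hC : C ∈ supports (golayCode : Set (GolayPt → ZMod 2))) : Equiv.Perm leechLattice where
  toFun v := ⟨signFun C v.1, Cfsg.Agent.S0433.result C hC v.1 v.2⟩
  invFun v := ⟨signFun C v.1, Cfsg.Agent.S0433.result C hC v.1 v.2⟩
  left_inv v := Subtype.ext (signFun_signFun C v.1)
  right_inv v := Subtype.ext (signFun_signFun C v.1)

theorem signPerm_apply (C : Finset GolayPt)
    (hC : C ∈ supports (golayCode : Set (GolayPt → ZMod 2))) (v : leechLattice) :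
    ((signPerm C hC v : leechLattice) : GolayPt → ℤ) = signFun C v.1 := rfl

theorem signPerm_mem (C : Finset GolayPt)
    (hC : C ∈ supports (golayCode : Set (GolayPt → ZMod 2))) : signPerm C hC ∈ Co0 := by
  refine ⟨fun v w => ?_, fun v => ?_⟩
  · apply Subtype.ext
    exact signFun_add C v.1 w.1
  · exact sqNorm_signFun C v.1

/-- coordinate permutation -/
def coordFun (σ : Equiv.Perm GolayPt) (x : GolayPt → ℤ) : GolayPt → ℤ := fun i => x (σ i)

theorem sqNorm_coordFun (σ : Equiv.Perm GolayPt) (x : GolayPt → ℤ) :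
    sqNorm (coordFun σ x) = sqNorm x := by
  unfold sqNorm coordFun
  exact Equiv.sum_comp σ (fun i => x i ^ 2)

/-- the coordinate permutation by an element of `M24`, as a permutation of the lattice -/
def coordPerm (σ : Equiv.Perm GolayPt) (hσ : σ ∈ M24) : Equiv.Perm leechLattice where
  toFun v := ⟨coordFun σ v.1, Cfsg.Agent.S0432.result σ hσ v.1 v.2⟩
  invFun v := ⟨coordFun σ⁻¹ v.1, Cfsg.Agent.S0432.result σ⁻¹ (M24.inv_mem hσ) v.1 v.2⟩
  left_inv v := by
    apply Subtype.ext
    funext i
    simp [coordFun]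
  right_inv v := by
    apply Subtype.ext
    funext i
    simp [coordFun]

theorem coordPerm_apply (σ : Equiv.Perm GolayPt) (hσ : σ ∈ M24) (v : leechLattice) :
    ((coordPerm σ hσ v : leechLattice) : GolayPt → ℤ) = coordFun σ v.1 := rfl

theorem coordPerm_mem (σ : Equiv.Perm GolayPt) (hσ : σ ∈ M24) : coordPerm σ hσ ∈ Co0 := by
  refine ⟨fun v w => ?_, fun v => ?_⟩
  · apply Subtype.ext
    rfl
  · exact sqNorm_coordFun σ v.1

/-- negation, as a permutation of the lattice -/
def negPerm : Equiv.Perm leechLattice where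
  toFun v := -v
  invFun v := -v
  left_inv v := neg_neg v
  right_inv v := neg_neg v

theorem negPerm_apply (v : leechLattice) : negPerm v = -v := rfl

theorem negPerm_mem : negPerm ∈ Co0 := by
  refine ⟨fun v w => ?_, fun v => ?_⟩
  · simp only [negPerm_apply]
    abel
  · simp only [negPerm_apply]
    unfold sqNorm
    apply Finset.sum_congr rfl
    intro i _
    simp

/-- the vector `8 e_i` -/
def e8 (i : GolayPt) : GolayPt → ℤ := fun j => if j = i then 8 else 0

theorem e8_mem (i : GolayPt) : e8 i ∈ leechLattice := by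
  apply AddSubgroup.subset_closure
  refine Cfsg.Spor.mem_leechSet_of_const_mod_four (e8 i) 0 0 (by decide) (fun j => ?_) ?_
  · unfold e8
    split_ifs <;> decide
  · have : ∑ j, e8 i j = 8 := by
      unfold e8
      rw [Finset.sum_ite_eq' Finset.univ i (fun _ => (8 : ℤ))]
      simp
    rw [this]
    decide

/-- `8 e_i` as a lattice vector -/
def b8 (i : GolayPt) : leechLattice := ⟨e8 i, e8_mem i⟩

theorem b8_apply (i j : GolayPt) : (b8 i : GolayPt → ℤ) j = if j = i then 8 else 0 := rfl

theorem sqNorm_e8 (i : GolayPt) : sqNorm (e8 i) = 64 := by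
  unfold sqNorm e8
  have : ∀ j : GolayPt, (if j = i then (8 : ℤ) else 0) ^ 2 = if j = i then 64 else 0 := by
    intro j; split_ifs <;> norm_num
  simp only [this]
  rw [Finset.sum_ite_eq' Finset.univ i (fun _ => (64 : ℤ))]
  simp

/-- an additive map of the lattice as an `AddMonoidHom` -/
def toAddHom (g : Equiv.Perm leechLattice) (hg : g ∈ Co0) : leechLattice →+ leechLattice :=
  AddMonoidHom.mk' g hg.1

theorem toAddHom_apply (g : Equiv.Perm leechLattice) (hg : g ∈ Co0) (v : leechLattice) :
    toAddHom g hg v = g v := rfl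

/-- `8 x` is an integral combination of the `8 e_i` -/
theorem eight_smul_eq_sum (x : leechLattice) :
    (8 : ℤ) • x = ∑ j : GolayPt, ((x : GolayPt → ℤ) j) • b8 j := by
  apply Subtype.ext
  funext i
  rw [AddSubgroup.val_finsetSum]
  simp only [AddSubgroup.coe_zsmul, Pi.smul_apply, Finset.sum_apply, smul_eq_mul, b8_apply]
  rw [Finset.sum_eq_single i]
  · simp; ring
  · intro j _ hji
    simp [Ne.symm hji]
  · intro h; exact absurd (Finset.mem_univ i) h

/-- the code separates points -/
theorem exists_separating (i j : GolayPt) (hij : i ≠ j) :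
    ∃ C ∈ supports (golayCode : Set (GolayPt → ZMod 2)), i ∈ C ∧ j ∉ C := by
  have hC0 : support₂ (qrWord 0) ∈ supports (golayCode : Set (GolayPt → ZMod 2)) :=
    ⟨qrWord 0, Submodule.subset_span (Or.inl ⟨0, rfl⟩), rfl⟩
  have h1 : (some 0 : GolayPt) ∈ support₂ (qrWord 0) := by
    simp only [support₂, Finset.mem_filter, Finset.mem_univ, true_and]
    decide
  have h2 : (none : GolayPt) ∉ support₂ (qrWord 0) := by
    simp only [support₂, Finset.mem_filter, Finset.mem_univ, true_and]
    decide
  have hne : (some 0 : GolayPt) ≠ none := by decide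
  let x : Fin 2 ↪ GolayPt := ⟨![some 0, none], by
    intro a b hab
    fin_cases a <;> fin_cases b <;> simp_all⟩
  let y : Fin 2 ↪ GolayPt := ⟨![i, j], by
    intro a b hab
    fin_cases a <;> fin_cases b <;> simp_all [hij.symm]⟩
  obtain ⟨g, hg, hgxy⟩ := Cfsg.Agent.Lib.Helper7.exists_M24_map_emb (k := 2) (by decide) x y
  have hg0 : g (some 0) = i := hgxy 0
  have hg1 : g none = j := hgxy 1
  refine ⟨g • support₂ (qrWord 0), Cfsg.Agent.Lib.Helper7.smul_mem_supports_of_mem_M24 hg hC0, ?_, ?_⟩
  · rw [← hg0, Cfsg.Agent.Lib.Helper7.apply_mem_perm_smul_finset]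
    exact h1
  · rw [← hg1, Cfsg.Agent.Lib.Helper7.apply_mem_perm_smul_finset]
    exact h2

end Cfsg.Agent.Lib.Helper8
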