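import Mathlib
import Cfsg.Prelude.Def_Sporadic_a
import Cfsg.Agent.Lib.Helper7.LeechSet
import Cfsg.Agent.Lib.Helper7.LeechNorm
import Cfsg.Agent.Lib.Helper7.GolayFacts
import Cfsg.Agent.Lib.Helper26.GolayBitsWeights

/-!
# Counting vectors of small norm in the Leech lattice

Fibre the vectors of `leechSet` over (parity type, Golay code word); each fibre is a product set cut
out by `sum of squares = n` (counted by a generating function evaluated at `BB = 2^64`, i.e.
Kronecker substitution, and digit extraction in `Nat`) and a coordinate-sum condition (automatic in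
the odd type, automatic or impossible for the zero word, and exactly half for a nonzero word).
-/

set_option autoImplicit false

namespace Cfsg.Agent.Lib.Helper8
open Cfsg Cfsg.Agent.Lib.Helper7

/-- Digit extraction (Kronecker substitution): if `X` has fewer than `B` elements then the
`n`-th base-`B` digit of `∑ x ∈ X, B ^ Φ x` counts the `x` with `Φ x = n`. -/
theorem digit_extract {α : Type*} (X : Finset α) (Φ : α → ℕ) (B n : ℕ) (hB : X.card < B) :
    (∑ x ∈ X, B ^ Φ x) / B ^ n % B = (X.filter (fun x => Φ x = n)).card := by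
  classical
  have hBpos : 0 < B := by omega
  have hBn : 0 < B ^ n := pow_pos hBpos n
  have h1 : ∑ x ∈ X, B ^ Φ x =
      ∑ x ∈ X.filter (fun x => Φ x < n), B ^ Φ x
        + ∑ x ∈ X.filter (fun x => ¬ Φ x < n), B ^ Φ x :=
    (Finset.sum_filter_add_sum_filter_not X _ _).symm
  have h2 : ∑ x ∈ X.filter (fun x => ¬ Φ x < n), B ^ Φ x =
      ∑ x ∈ (X.filter (fun x => ¬ Φ x < n)).filter (fun x => Φ x = n), B ^ Φ x
        + ∑ x ∈ (X.filter (fun x => ¬ Φ x < n)).filter (fun x => ¬ Φ x = n), B ^ Φ x :=
    (Finset.sum_filter_add_sum_filter_not _ _ _).symm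
  have e1 : (X.filter (fun x => ¬ Φ x < n)).filter (fun x => Φ x = n)
      = X.filter (fun x => Φ x = n) := by
    ext x; simp only [Finset.mem_filter]; constructor
    · rintro ⟨⟨hx, _⟩, h⟩; exact ⟨hx, h⟩
    · rintro ⟨hx, h⟩; exact ⟨⟨hx, by omega⟩, h⟩
  have h3 : ∑ x ∈ X.filter (fun x => Φ x = n), B ^ Φ x
      = B ^ n * (X.filter (fun x => Φ x = n)).card := by
    rw [Finset.sum_congr rfl (g := fun _ => B ^ n)]
    · rw [Finset.sum_const, smul_eq_mul, mul_comm]
    · intro x hx; rw [(Finset.mem_filter.1 hx).2]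
  have h4 : ∑ x ∈ (X.filter (fun x => ¬ Φ x < n)).filter (fun x => ¬ Φ x = n), B ^ Φ x
      = B ^ n * (B * ∑ x ∈ (X.filter (fun x => ¬ Φ x < n)).filter (fun x => ¬ Φ x = n),
          B ^ (Φ x - n - 1)) := by
    rw [Finset.mul_sum, Finset.mul_sum]
    refine Finset.sum_congr rfl fun x hx => ?_
    have hx1 := (Finset.mem_filter.1 hx).2
    have hx2 := (Finset.mem_filter.1 (Finset.mem_filter.1 hx).1).2
    rw [← pow_succ', ← pow_add]
    congr 1; omega
  have h5 : (∑ x ∈ X.filter (fun x => Φ x < n), B ^ Φ x) < B ^ n := by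
    have : (∑ x ∈ X.filter (fun x => Φ x < n), B ^ Φ x) * B ≤ X.card * B ^ n := by
      rw [Finset.sum_mul]
      calc ∑ x ∈ X.filter (fun x => Φ x < n), B ^ Φ x * B
          ≤ ∑ x ∈ X.filter (fun x => Φ x < n), B ^ n := by
            refine Finset.sum_le_sum fun x hx => ?_
            have hx1 := (Finset.mem_filter.1 hx).2
            rw [← pow_succ]
            exact Nat.pow_le_pow_right hBpos (by omega)
        _ = (X.filter (fun x => Φ x < n)).card * B ^ n := by
            rw [Finset.sum_const, smul_eq_mul]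
        _ ≤ X.card * B ^ n := Nat.mul_le_mul_right _ (Finset.card_filter_le _ _)
    have h6 : X.card * B ^ n < B ^ n * B := by
      rw [mul_comm]; exact Nat.mul_lt_mul_of_pos_left hB hBn
    exact Nat.lt_of_mul_lt_mul_right (lt_of_le_of_lt this h6)
  rw [h1, h2, e1, h3, h4, ← mul_add, Nat.add_mul_div_left _ _ hBn, Nat.div_eq_of_lt h5, zero_add,
    Nat.add_mul_mod_self_left, Nat.mod_eq_of_lt]
  exact lt_of_le_of_lt (Finset.card_filter_le _ _) hB

/-- Generating-function product formula. -/
theorem gf_prod {ι : Type*} [Fintype ι] [DecidableEq ι] (V : ι → Finset ℤ) (B : ℕ) :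
    ∏ i, ∑ v ∈ V i, B ^ (v.natAbs ^ 2)
      = ∑ x ∈ Fintype.piFinset V, B ^ (∑ i, (x i).natAbs ^ 2) := by
  rw [Finset.prod_univ_sum]
  refine Finset.sum_congr rfl fun x _ => ?_
  rw [Finset.prod_pow_eq_pow_sum]

/-- residue pattern mod 4 attached to a parity type and a binary word -/
def res (odd : Bool) (w : GolayPt → ZMod 2) (i : GolayPt) : ℤ :=
  if odd then (if w i = 1 then 1 else 3) else (if w i = 1 then 2 else 0)

theorem leechSet_structure {x : GolayPt → ℤ} (hx : x ∈ leechSet) :
    ∃ (odd : Bool) (w : GolayPt → ZMod 2), w ∈ golayCode ∧ (∀ i, x i % 4 = res odd w i) ∧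
      (∑ i, x i) % 8 = (if odd then 4 else 0) := by
  obtain ⟨m, h1, h2, h3⟩ := hx
  rcases Int.emod_two_eq_zero_or_one m with hm | hm
  · obtain ⟨w, hw, hwi⟩ := exists_word_of_mem_supports (h3 2)
    refine ⟨false, w, hw, fun i => ?_, ?_⟩
    · have e1 := h1 i
      have e2 := hwi i
      simp only [Int.ModEq] at e1 e2
      simp only [res, Bool.false_eq_true, if_false]
      by_cases hwi1 : w i = 1
      · rw [if_pos hwi1]; have := e2.1 hwi1; omega
      · rw [if_neg hwi1]
        have : ¬ (x i % 4 = 2 % 4) := fun h => hwi1 (e2.2 h)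
        omega
    · simp only [Int.ModEq] at h2
      simp only [Bool.false_eq_true, if_false]
      omega
  · obtain ⟨w, hw, hwi⟩ := exists_word_of_mem_supports (h3 1)
    refine ⟨true, w, hw, fun i => ?_, ?_⟩
    · have e1 := h1 i
      have e2 := hwi i
      simp only [Int.ModEq] at e1 e2
      simp only [res, if_true]
      by_cases hwi1 : w i = 1
      · rw [if_pos hwi1]; have := e2.1 hwi1; omega
      · rw [if_neg hwi1]
        have : ¬ (x i % 4 = 1 % 4) := fun h => hwi1 (e2.2 h)
        omega
    · simp only [Int.ModEq] at h2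
      simp only [if_true]
      omega

theorem zmod2_add_one_eq_one_iff (a : ZMod 2) : a + 1 = 1 ↔ ¬ a = 1 := by
  revert a; decide

theorem mem_leechSet_of_structure {x : GolayPt → ℤ} (odd : Bool) (w : GolayPt → ZMod 2)
    (hw : w ∈ golayCode) (h4 : ∀ i, x i % 4 = res odd w i)
    (hs : (∑ i, x i) % 8 = (if odd then 4 else 0)) : x ∈ leechSet := by
  cases odd with
  | false =>
    simp only [res, Bool.false_eq_true, if_false] at h4 hs
    refine ⟨0, fun i => ?_, ?_, fun k => ?_⟩
    · have := h4 i
      simp only [Int.ModEq]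
      split_ifs at this <;> omega
    · simp only [Int.ModEq]; omega
    · have hk : k % 4 = 0 ∨ k % 4 = 1 ∨ k % 4 = 2 ∨ k % 4 = 3 := by omega
      rcases hk with hk | hk | hk | hk
      · refine mem_supports_of_word (w + 1) (golayCode.add_mem hw golay_one_mem) (fun i => ?_)
        have := h4 i
        simp only [Pi.add_apply, Pi.one_apply, zmod2_add_one_eq_one_iff, Int.ModEq]
        split_ifs at this with h <;> simp only [h, not_true_eq_false, not_false_eq_true, false_iff, true_iff] <;> omega
      · refine mem_supports_of_word 0 golayCode.zero_mem (fun i => ?_)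
        have := h4 i
        simp only [Pi.zero_apply, Int.ModEq]
        constructor
        · intro h; simp at h
        · intro h; split_ifs at this <;> omega
      · refine mem_supports_of_word w hw (fun i => ?_)
        have := h4 i
        simp only [Int.ModEq]
        split_ifs at this with h <;> simp only [h, false_iff, true_iff] <;> omega
      · refine mem_supports_of_word 0 golayCode.zero_mem (fun i => ?_)
        have := h4 i
        simp only [Pi.zero_apply, Int.ModEq]
        constructor
        · intro h; simp at h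
        · intro h; split_ifs at this <;> omega
  | true =>
    simp only [res, if_true] at h4 hs
    refine ⟨1, fun i => ?_, ?_, fun k => ?_⟩
    · have := h4 i
      simp only [Int.ModEq]
      split_ifs at this <;> omega
    · simp only [Int.ModEq]; omega
    · have hk : k % 4 = 0 ∨ k % 4 = 1 ∨ k % 4 = 2 ∨ k % 4 = 3 := by omega
      rcases hk with hk | hk | hk | hk
      · refine mem_supports_of_word 0 golayCode.zero_mem (fun i => ?_)
        have := h4 i
        simp only [Pi.zero_apply, Int.ModEq]
        constructor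
        · intro h; simp at h
        · intro h; split_ifs at this <;> omega
      · refine mem_supports_of_word w hw (fun i => ?_)
        have := h4 i
        simp only [Int.ModEq]
        split_ifs at this with h <;> simp only [h, false_iff, true_iff] <;> omega
      · refine mem_supports_of_word 0 golayCode.zero_mem (fun i => ?_)
        have := h4 i
        simp only [Pi.zero_apply, Int.ModEq]
        constructor
        · intro h; simp at h
        · intro h; split_ifs at this <;> omega
      · refine mem_supports_of_word (w + 1) (golayCode.add_mem hw golay_one_mem) (fun i => ?_)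
        have := h4 i
        simp only [Pi.add_apply, Pi.one_apply, zmod2_add_one_eq_one_iff, Int.ModEq]
        split_ifs at this with h <;> simp only [h, not_true_eq_false, not_false_eq_true, false_iff, true_iff] <;> omega

theorem res_unique {x : GolayPt → ℤ} {odd odd' : Bool} {w w' : GolayPt → ZMod 2}
    (h : ∀ i, x i % 4 = res odd w i) (h' : ∀ i, x i % 4 = res odd' w' i) :
    odd = odd' ∧ w = w' := by
  have e := fun i => (h i).symm.trans (h' i)
  have h0 : odd = odd' := by
    have := e none
    cases odd <;> cases odd' <;> simp only [res, Bool.false_eq_true, if_false, if_true] at this ⊢ <;>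
      split_ifs at this <;> omega
  subst h0
  refine ⟨rfl, funext fun i => ?_⟩
  have := e i
  rcases zmod2_cases (w i) with a | a <;> rcases zmod2_cases (w' i) with b | b <;>
    cases odd <;> simp [res, a, b] at this ⊢

/-- allowed values in `[-8, 8]` with a given residue mod 4 -/
def Vres (r : ℤ) : Finset ℤ :=
  if r = 0 then {0, 4, -4, 8, -8} else if r = 1 then {1, -3, 5, -7}
  else if r = 2 then {2, -2, 6, -6} else {-1, 3, -5, 7}

theorem mem_Vres {r v : ℤ} (hr : r = 0 ∨ r = 1 ∨ r = 2 ∨ r = 3) :
    v ∈ Vres r ↔ -8 ≤ v ∧ v ≤ 8 ∧ v % 4 = r := by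
  rcases hr with rfl | rfl | rfl | rfl <;> simp [Vres] <;> omega

theorem card_Vres_le (r : ℤ) : (Vres r).card ≤ 5 := by
  unfold Vres
  split_ifs <;> decide

theorem neg_mem_Vres_two {v : ℤ} (h : v ∈ Vres 2) : -v ∈ Vres 2 := by
  rw [mem_Vres (by omega)] at h ⊢
  omega

theorem res_cases (odd : Bool) (w : GolayPt → ZMod 2) (i : GolayPt) :
    res odd w i = 0 ∨ res odd w i = 1 ∨ res odd w i = 2 ∨ res odd w i = 3 := by
  unfold res; split_ifs <;> simp

def BB : ℕ := 2 ^ 64

/-- one-coordinate generating function evaluated at `BB` -/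
def theta (r : ℤ) : ℕ := ∑ v ∈ Vres r, BB ^ (v.natAbs ^ 2)

theorem theta_zero : theta 0 = 1 + 2 * BB ^ 16 + 2 * BB ^ 64 := by
  simp [theta, Vres]; ring

theorem theta_one : theta 1 = BB + BB ^ 9 + BB ^ 25 + BB ^ 49 := by
  simp [theta, Vres]; ring

theorem theta_two : theta 2 = 2 * BB ^ 4 + 2 * BB ^ 36 := by
  simp [theta, Vres]; ring

theorem theta_three : theta 3 = theta 1 := by
  simp [theta, Vres]

/-- vectors with prescribed residues mod 4, coordinates in `[-8,8]`, and squared norm `n` -/
def TF (odd : Bool) (w : GolayPt → ZMod 2) (n : ℕ) : Finset (GolayPt → ℤ) :=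
  (Fintype.piFinset fun i => Vres (res odd w i)).filter fun x => ∑ i, (x i).natAbs ^ 2 = n

/-- ... and with the coordinate-sum condition -/
def TS (odd : Bool) (w : GolayPt → ZMod 2) (n : ℕ) : Finset (GolayPt → ℤ) :=
  (TF odd w n).filter fun x => (∑ i, x i) % 8 = (if odd then 4 else 0)

theorem mem_TF {odd : Bool} {w : GolayPt → ZMod 2} {n : ℕ} {x : GolayPt → ℤ} :
    x ∈ TF odd w n ↔ (∀ i, -8 ≤ x i ∧ x i ≤ 8 ∧ x i % 4 = res odd w i) ∧
      ∑ i, (x i).natAbs ^ 2 = n := by
  unfold TF
  rw [Finset.mem_filter, Fintype.mem_piFinset]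
  refine and_congr (forall_congr' fun i => ?_) Iff.rfl
  exact mem_Vres (res_cases odd w i)

theorem sqNorm_eq_iff (x : GolayPt → ℤ) (n : ℕ) :
    sqNorm x = (n : ℤ) ↔ ∑ i, (x i).natAbs ^ 2 = n := by
  have : sqNorm x = ((∑ i, (x i).natAbs ^ 2 : ℕ) : ℤ) := by
    unfold sqNorm
    push_cast
    refine Finset.sum_congr rfl fun i _ => ?_
    rw [sq_abs]
  rw [this]
  exact Int.ofNat_inj

theorem coord_bound {x : GolayPt → ℤ} {n : ℕ} (h : sqNorm x = (n : ℤ)) (hn : n < 81) (i : GolayPt) :
    -8 ≤ x i ∧ x i ≤ 8 := by
  have h1 : x i ^ 2 ≤ sqNorm x := by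
    unfold sqNorm
    exact Finset.single_le_sum (f := fun j => x j ^ 2) (fun j _ => sq_nonneg (x j)) (Finset.mem_univ i)
  have h2 : x i ^ 2 < 81 := by
    rw [h] at h1
    have : (n : ℤ) < 81 := by exact_mod_cast hn
    omega
  constructor <;> nlinarith

open Classical in
noncomputable def codeF : Finset (GolayPt → ZMod 2) := Finset.univ.filter fun w => w ∈ golayCode

theorem mem_codeF {w : GolayPt → ZMod 2} : w ∈ codeF ↔ w ∈ golayCode := by
  unfold codeF; simp

theorem ncard_eq_sum (n : ℕ) (hn : n < 81) :
    {x : GolayPt → ℤ | x ∈ leechLattice ∧ sqNorm x = (n : ℤ)}.ncard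
      = ∑ w ∈ codeF, ((TS false w n).card + (TS true w n).card) := by
  classical
  have hset : {x : GolayPt → ℤ | x ∈ leechLattice ∧ sqNorm x = (n : ℤ)}
      = ↑(((Finset.univ : Finset Bool) ×ˢ codeF).biUnion fun p => TS p.1 p.2 n) := by
    ext x
    simp only [Set.mem_ofPred_eq, Finset.coe_biUnion, Finset.mem_coe, Finset.mem_product,
      Finset.mem_univ, true_and, Set.mem_iUnion, exists_prop, Prod.exists, mem_codeF, TS,
      Finset.mem_filter, mem_TF, mem_leechLattice_iff]
    constructor
    · rintro ⟨hx, hnorm⟩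
      obtain ⟨odd, w, hw, h4, hs⟩ := leechSet_structure hx
      refine ⟨odd, w, hw, ⟨fun i => ?_, (sqNorm_eq_iff x n).1 hnorm⟩, hs⟩
      exact ⟨(coord_bound hnorm hn i).1, (coord_bound hnorm hn i).2, h4 i⟩
    · rintro ⟨odd, w, hw, ⟨h4, hnorm⟩, hs⟩
      exact ⟨mem_leechSet_of_structure odd w hw (fun i => (h4 i).2.2) hs,
        (sqNorm_eq_iff x n).2 hnorm⟩
  rw [hset, Set.ncard_coe_finset, Finset.card_biUnion]
  · rw [Finset.sum_product, Fintype.sum_bool, ← Finset.sum_add_distrib]
    refine Finset.sum_congr rfl fun w _ => ?_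
    rw [add_comm]
  · rintro ⟨odd, w⟩ _ ⟨odd', w'⟩ _ hne
    rw [Function.onFun, Finset.disjoint_left]
    intro x hx hx'
    apply hne
    simp only [TS, Finset.mem_filter, mem_TF] at hx hx'
    obtain ⟨h1, h2⟩ := res_unique (fun i => (hx.1.1 i).2.2) (fun i => (hx'.1.1 i).2.2)
    rw [h1, h2]

theorem card_golayPt' : Fintype.card GolayPt = 24 := by
  simp [GolayPt, ZMod.card]

theorem card_TF (odd : Bool) (w : GolayPt → ZMod 2) (n : ℕ) :
    (TF odd w n).card = (∏ i, theta (res odd w i)) / BB ^ n % BB := by
  unfold TF theta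
  rw [gf_prod, digit_extract]
  rw [Fintype.card_piFinset]
  calc ∏ i : GolayPt, (Vres (res odd w i)).card ≤ ∏ _i : GolayPt, 5 :=
        Finset.prod_le_prod' fun i _ => card_Vres_le _
    _ = 5 ^ 24 := by rw [Finset.prod_const, Finset.card_univ, card_golayPt']
    _ < BB := by unfold BB; norm_num

theorem prod_theta_odd (w : GolayPt → ZMod 2) : ∏ i, theta (res true w i) = theta 1 ^ 24 := by
  have : ∀ i, theta (res true w i) = theta 1 := by
    intro i
    simp only [res, if_true]
    split_ifs
    · rfl
    · exact theta_three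
  rw [Finset.prod_congr rfl fun i _ => this i, Finset.prod_const, Finset.card_univ, card_golayPt']

theorem support₂_card_compl (w : GolayPt → ZMod 2) :
    (Finset.univ.filter fun i => ¬ w i = 1).card = 24 - (support₂ w).card := by
  have h1 : support₂ w = Finset.univ.filter fun i => w i = 1 := by
    unfold support₂
    refine Finset.filter_congr fun i _ => ?_
    exact zmod2_ne_zero_iff (w i)
  rw [h1]
  have := Finset.card_filter_add_card_filter_not (s := (Finset.univ : Finset GolayPt)) (fun i => w i = 1)
  rw [Finset.card_univ, card_golayPt'] at this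
  omega

theorem prod_theta_even (w : GolayPt → ZMod 2) :
    ∏ i, theta (res false w i) = theta 2 ^ (support₂ w).card * theta 0 ^ (24 - (support₂ w).card) := by
  have h1 : support₂ w = Finset.univ.filter fun i => w i = 1 := by
    unfold support₂
    refine Finset.filter_congr fun i _ => ?_
    exact zmod2_ne_zero_iff (w i)
  have : ∀ i, theta (res false w i) = if w i = 1 then theta 2 else theta 0 := by
    intro i
    simp only [res, Bool.false_eq_true, if_false]
    split_ifs <;> rfl
  rw [Finset.prod_congr rfl fun i _ => this i, Finset.prod_ite, Finset.prod_const, Finset.prod_const,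
    support₂_card_compl, h1]

theorem sum_sq_int (x : GolayPt → ℤ) (n : ℕ) (h : ∑ i, (x i).natAbs ^ 2 = n) :
    ∑ i, x i ^ 2 = (n : ℤ) := by
  rw [← h]; push_cast
  refine Finset.sum_congr rfl fun i _ => ?_
  rw [sq_abs]

/-- Odd type: the sum condition is automatic when `16 ∣ n`. -/
theorem TS_odd_eq {w : GolayPt → ZMod 2} (hw : w ∈ golayCode) (n : ℕ) (hn : n % 16 = 0) :
    TS true w n = TF true w n := by
  unfold TS
  refine Finset.filter_true_of_mem fun x hx => ?_
  rw [mem_TF] at hx
  obtain ⟨h4, hnorm⟩ := hx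
  have hnorm' := sum_sq_int x n hnorm
  simp only [if_true]
  set e : GolayPt → ℤ := fun i => if w i = 1 then 0 else 1 with he
  set a : GolayPt → ℤ := fun i => x i / 4 with ha
  have hx : ∀ i, x i = 4 * a i + 1 + 2 * e i := by
    intro i
    have := (h4 i).2.2
    simp only [res, if_true] at this
    simp only [ha, he]
    split_ifs at this ⊢ <;> omega
  have hsq : ∀ i, x i ^ 2 = 16 * (a i ^ 2 + a i * e i) + 8 * a i + 8 * e i + 1 := by
    intro i
    rw [hx i]
    have : e i * e i = e i := by
      simp only [he]; split_ifs <;> norm_num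
    linear_combination 4 * this
  have hE : ∑ i, e i = 24 - ((support₂ w).card : ℤ) := by
    simp only [he]
    rw [Finset.sum_ite, Finset.sum_const_zero, zero_add, Finset.sum_const, support₂_card_compl]
    have : (support₂ w).card ≤ 24 := by
      have := Finset.card_le_univ (support₂ w)
      rwa [card_golayPt'] at this
    simp only [nsmul_eq_mul, mul_one]
    omega
  have hs4 : (support₂ w).card % 4 = 0 := Nat.mod_eq_zero_of_dvd (golay_doubly_even hw)
  have hS : ∑ i, x i = 4 * ∑ i, a i + 24 + 2 * ∑ i, e i := by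
    rw [Finset.sum_congr rfl fun i _ => hx i]
    simp only [Finset.sum_add_distrib, ← Finset.mul_sum, Finset.sum_const, Finset.card_univ,
      card_golayPt']
    norm_num
  have hQ : ∑ i, x i ^ 2 = 16 * ∑ i, (a i ^ 2 + a i * e i) + 8 * ∑ i, a i + 8 * ∑ i, e i + 24 := by
    rw [Finset.sum_congr rfl fun i _ => hsq i]
    simp only [Finset.sum_add_distrib, ← Finset.mul_sum, Finset.sum_const, Finset.card_univ,
      card_golayPt']
    norm_num
  rw [hQ, hE] at hnorm'
  rw [hS, hE]
  generalize ∑ i, a i = A at *
  generalize ∑ i, (a i ^ 2 + a i * e i) = P at *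
  omega

/-- Even type, zero word: the sum condition holds iff `32 ∣ n`. -/
theorem TS_even_zero (n : ℕ) :
    TS false 0 n = if n % 32 = 0 then TF false 0 n else ∅ := by
  unfold TS
  have key : ∀ x ∈ TF false 0 n, ((∑ i, x i) % 8 = 0 ↔ n % 32 = 0) := by
    intro x hx
    rw [mem_TF] at hx
    obtain ⟨h4, hnorm⟩ := hx
    have hnorm' := sum_sq_int x n hnorm
    set z : GolayPt → ℤ := fun i => x i / 4 with hz
    have hx : ∀ i, x i = 4 * z i := by
      intro i
      have := (h4 i).2.2
      simp only [res, Bool.false_eq_true, if_false, Pi.zero_apply, zero_ne_one] at this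
      simp only [hz]; omega
    have hc : ∀ i, ∃ c : ℤ, z i ^ 2 = z i + 2 * c := by
      intro i
      obtain ⟨c, hc⟩ := Int.even_mul_pred_self (z i)
      exact ⟨c, by linear_combination hc⟩
    choose c hc using hc
    have hS : ∑ i, x i = 4 * ∑ i, z i := by
      rw [Finset.sum_congr rfl fun i _ => hx i, Finset.mul_sum]
    have hQ : ∑ i, x i ^ 2 = 16 * ∑ i, z i + 32 * ∑ i, c i := by
      rw [Finset.mul_sum, Finset.mul_sum, ← Finset.sum_add_distrib]
      refine Finset.sum_congr rfl fun i _ => ?_
      rw [hx i]; linear_combination 16 * hc i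
    rw [hQ] at hnorm'
    rw [hS]
    omega
  simp only [Bool.false_eq_true, if_false]
  by_cases h : n % 32 = 0
  · rw [if_pos h]
    exact Finset.filter_true_of_mem fun x hx => (key x hx).2 h
  · rw [if_neg h]
    exact Finset.filter_false_of_mem fun x hx h' => h ((key x hx).1 h')

/-- Even type, nonzero word: exactly half of the vectors satisfy the sum condition. -/
theorem two_mul_card_TS_even {w : GolayPt → ZMod 2} (hw : w ∈ golayCode) (hw0 : w ≠ 0) (n : ℕ) :
    2 * (TS false w n).card = (TF false w n).card := by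
  classical
  obtain ⟨i0, hi0⟩ : ∃ i0, w i0 = 1 := by
    by_contra h
    rw [not_exists] at h
    apply hw0
    funext i
    rcases zmod2_cases (w i) with h' | h'
    · exact h'
    · exact absurd h' (h i)
  set σ : (GolayPt → ℤ) → (GolayPt → ℤ) := fun x => Function.update x i0 (- x i0) with hσ
  have hσσ : ∀ x, σ (σ x) = x := by
    intro x; simp [hσ]
  have hσapp : ∀ x i, σ x i = x i + (if i = i0 then -2 * x i0 else 0) := by
    intro x i
    by_cases h : i = i0
    · subst h; simp [hσ]; ring
    · simp [hσ, h]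
  have hσabs : ∀ x i, (σ x i).natAbs = (x i).natAbs := by
    intro x i
    by_cases h : i = i0
    · subst h; simp [hσ]
    · simp [hσ, h]
  have hσsum : ∀ x, ∑ i, σ x i = ∑ i, x i - 2 * x i0 := by
    intro x
    simp only [hσapp, Finset.sum_add_distrib, Finset.sum_ite_eq', Finset.mem_univ, if_true]
    ring
  have hσmem : ∀ x ∈ TF false w n, σ x ∈ TF false w n := by
    intro x hx
    rw [mem_TF] at hx ⊢
    refine ⟨fun i => ?_, ?_⟩
    · by_cases h : i = i0
      · have := hx.1 i0
        subst h
        simp only [hσ, Function.update_self]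
        simp only [res, Bool.false_eq_true, if_false, hi0, if_true] at this ⊢
        omega
      · simp only [hσ, Function.update_of_ne h]
        exact hx.1 i
    · rw [← hx.2]
      exact Finset.sum_congr rfl fun i _ => by rw [hσabs]
  -- sum is 0 or 4 mod 8
  have hs4 : (support₂ w).card % 4 = 0 := Nat.mod_eq_zero_of_dvd (golay_doubly_even hw)
  have hmod : ∀ x ∈ TF false w n, (∑ i, x i) % 8 = 0 ∨ (∑ i, x i) % 8 = 4 := by
    intro x hx
    rw [mem_TF] at hx
    set e : GolayPt → ℤ := fun i => if w i = 1 then 1 else 0 with he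
    set a : GolayPt → ℤ := fun i => x i / 4 with ha
    have hx' : ∀ i, x i = 4 * a i + 2 * e i := by
      intro i
      have := (hx.1 i).2.2
      simp only [res, Bool.false_eq_true, if_false] at this
      simp only [ha, he]
      split_ifs at this ⊢ <;> omega
    have hE : ∑ i, e i = ((support₂ w).card : ℤ) := by
      simp only [he]
      rw [Finset.sum_ite, Finset.sum_const_zero, add_zero, Finset.sum_const]
      have h1 : support₂ w = Finset.univ.filter fun i => w i = 1 := by
        unfold support₂
        refine Finset.filter_congr fun i _ => ?_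
        exact zmod2_ne_zero_iff (w i)
      rw [h1]; simp
    have hS : ∑ i, x i = 4 * ∑ i, a i + 2 * ∑ i, e i := by
      rw [Finset.sum_congr rfl fun i _ => hx' i]
      simp only [Finset.sum_add_distrib, ← Finset.mul_sum]
    rw [hS, hE]
    omega
  have hx0 : ∀ x ∈ TF false w n, x i0 % 4 = 2 := by
    intro x hx
    rw [mem_TF] at hx
    have := (hx.1 i0).2.2
    simpa [res, hi0] using this
  have hsplit := Finset.card_filter_add_card_filter_not (s := TF false w n)
    (fun x => (∑ i, x i) % 8 = 0)
  have hbij : ((TF false w n).filter fun x => ¬ (∑ i, x i) % 8 = 0).card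
      = ((TF false w n).filter fun x => (∑ i, x i) % 8 = 0).card := by
    refine Finset.card_nbij' σ σ ?_ ?_ (fun x _ => hσσ x) (fun x _ => hσσ x)
    · intro x hx
      simp only [Finset.coe_filter, Set.mem_ofPred_eq] at hx ⊢
      refine ⟨hσmem x hx.1, ?_⟩
      rw [hσsum]
      have := hmod x hx.1
      have := hx0 x hx.1
      omega
    · intro x hx
      simp only [Finset.coe_filter, Set.mem_ofPred_eq] at hx ⊢
      refine ⟨hσmem x hx.1, ?_⟩
      rw [hσsum]
      have := hx0 x hx.1
      omega
  unfold TS
  simp only [Bool.false_eq_true, if_false]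
  omega

theorem card_codeF : codeF.card = 4096 := by
  classical
  rw [← golay_card, Nat.card_eq_fintype_card, Fintype.card_subtype]
  unfold codeF
  congr 1

theorem support₂_injective : Function.Injective (support₂ : (GolayPt → ZMod 2) → Finset GolayPt) := by
  intro v w h
  funext i
  have := congrArg (fun s => i ∈ s) h
  simp only [support₂, Finset.mem_filter, Finset.mem_univ, true_and, eq_iff_iff] at this
  rcases zmod2_cases (v i) with a | a <;> rcases zmod2_cases (w i) with b | b <;>
    simp [a, b] at this ⊢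

/-- number of code words of weight `k` -/
noncomputable def wtCount (k : ℕ) : ℕ := (codeF.filter fun w => (support₂ w).card = k).card

theorem wtCount_eq_ncard (k : ℕ) :
    wtCount k = (wordsOfWeight (golayCode : Set (GolayPt → ZMod 2)) k).ncard := by
  classical
  have : wordsOfWeight (golayCode : Set (GolayPt → ZMod 2)) k
      = support₂ '' ↑(codeF.filter fun w => (support₂ w).card = k) := by
    ext b
    simp only [wordsOfWeight, supports, Set.mem_ofPred_eq, Set.mem_image, Finset.coe_filter,
      mem_codeF, SetLike.mem_coe]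
    constructor
    · rintro ⟨⟨w, hw, rfl⟩, hk⟩
      exact ⟨w, ⟨hw, hk⟩, rfl⟩
    · rintro ⟨w, ⟨hw, hk⟩, rfl⟩
      exact ⟨⟨w, hw, rfl⟩, hk⟩
  rw [this, Set.ncard_image_of_injective _ support₂_injective, Set.ncard_coe_finset]
  rfl

theorem wtCount_8 : wtCount 8 = 759 := by
  rw [wtCount_eq_ncard]; exact Cfsg.Agent.Lib.Helper26.ncard_octads

theorem wtCount_12 : wtCount 12 = 2576 := by
  rw [wtCount_eq_ncard]; exact Cfsg.Agent.Lib.Helper26.ncard_dodecads

theorem wtCount_0 : wtCount 0 = 1 := by
  classical
  unfold wtCount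
  rw [Finset.card_eq_one]
  refine ⟨0, ?_⟩
  ext w
  simp only [Finset.mem_filter, mem_codeF, Finset.mem_singleton, Finset.card_eq_zero,
    Cfsg.Agent.Lib.Helper26.support₂_eq_empty_iff]
  constructor
  · rintro ⟨_, h⟩; exact h
  · rintro rfl; exact ⟨golayCode.zero_mem, rfl⟩

theorem wtCount_24 : wtCount 24 = 1 := by
  classical
  unfold wtCount
  rw [Finset.card_eq_one]
  refine ⟨1, ?_⟩
  ext w
  simp only [Finset.mem_filter, mem_codeF, Finset.mem_singleton]
  constructor
  · rintro ⟨_, h⟩
    have h1 : support₂ w = Finset.univ := by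
      apply Finset.eq_univ_of_card
      rw [h, card_golayPt']
    funext i
    have : i ∈ support₂ w := by rw [h1]; exact Finset.mem_univ i
    simp only [support₂, Finset.mem_filter, Finset.mem_univ, true_and] at this
    simpa using (zmod2_ne_zero_iff (w i)).1 this
  · rintro rfl
    refine ⟨golay_one_mem, ?_⟩
    have : support₂ (1 : GolayPt → ZMod 2) = Finset.univ := by
      ext i; simp [support₂]
    rw [this, Finset.card_univ, card_golayPt']

theorem sum_codeF (g : ℕ → ℕ) :
    ∑ w ∈ codeF, g (support₂ w).card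
      = wtCount 0 * g 0 + wtCount 8 * g 8 + wtCount 12 * g 12 + wtCount 16 * g 16
        + wtCount 24 * g 24 := by
  classical
  have hmaps : ∀ w ∈ codeF, (support₂ w).card ∈ ({0, 8, 12, 16, 24} : Finset ℕ) := by
    intro w hw
    have := Cfsg.Agent.Lib.Helper26.card_support₂_cases (mem_codeF.1 hw)
    simp only [Finset.mem_insert, Finset.mem_singleton]
    omega
  rw [← Finset.sum_fiberwise_of_maps_to hmaps]
  have : ∀ k ∈ ({0, 8, 12, 16, 24} : Finset ℕ),
      ∑ w ∈ codeF.filter (fun w => (support₂ w).card = k), g (support₂ w).card = wtCount k * g k := by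
    intro k _
    rw [Finset.sum_congr rfl (g := fun _ => g k)]
    · rw [Finset.sum_const, smul_eq_mul]; rfl
    · intro w hw; rw [(Finset.mem_filter.1 hw).2]
  rw [Finset.sum_congr rfl this]
  simp [Finset.sum_insert]
  ring

theorem wtCount_16 : wtCount 16 = 759 := by
  have h := sum_codeF (fun _ => 1)
  simp only [Finset.sum_const, smul_eq_mul, mul_one, card_codeF, wtCount_0, wtCount_8, wtCount_12,
    wtCount_24] at h
  omega

theorem sum_codeF' (g : ℕ → ℕ) :
    ∑ w ∈ codeF, g (support₂ w).card = g 0 + 759 * g 8 + 2576 * g 12 + 759 * g 16 + g 24 := by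
  rw [sum_codeF, wtCount_0, wtCount_8, wtCount_12, wtCount_16, wtCount_24, one_mul, one_mul]

/-- digit of the generating function: even type, word of weight `k` -/
def gE (k n : ℕ) : ℕ := theta 2 ^ k * theta 0 ^ (24 - k) / BB ^ n % BB

/-- digit of the generating function: odd type -/
def gO (n : ℕ) : ℕ := theta 1 ^ 24 / BB ^ n % BB

theorem card_TF_even (w : GolayPt → ZMod 2) (n : ℕ) :
    (TF false w n).card = gE (support₂ w).card n := by
  rw [card_TF, prod_theta_even]; rfl

theorem card_TF_odd (w : GolayPt → ZMod 2) (n : ℕ) : (TF true w n).card = gO n := by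
  rw [card_TF, prod_theta_odd]; rfl

theorem support₂_zero_card : (support₂ (0 : GolayPt → ZMod 2)).card = 0 := by
  rw [Finset.card_eq_zero, Cfsg.Agent.Lib.Helper26.support₂_eq_empty_iff]

/-- **Counting Leech vectors of squared norm `n`** (`n < 81`, `16 ∣ n`; `sqNorm` is 8 times the
customary normalisation). -/
theorem two_mul_leech_count (n : ℕ) (hn : n < 81) (hn16 : n % 16 = 0) :
    2 * {x : GolayPt → ℤ | x ∈ leechLattice ∧ sqNorm x = (n : ℤ)}.ncard
      = 2 * (4096 * gO n) + 2 * (if n % 32 = 0 then gE 0 n else 0) + 759 * gE 8 n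
        + 2576 * gE 12 n + 759 * gE 16 n + gE 24 n := by
  classical
  rw [ncard_eq_sum n hn, Finset.sum_add_distrib, mul_add]
  have hodd : ∑ w ∈ codeF, (TS true w n).card = 4096 * gO n := by
    rw [Finset.sum_congr rfl (g := fun _ => gO n)]
    · rw [Finset.sum_const, card_codeF, smul_eq_mul]
    · intro w hw
      rw [TS_odd_eq (mem_codeF.1 hw) n hn16, card_TF_odd]
  have h0mem : (0 : GolayPt → ZMod 2) ∈ codeF := mem_codeF.2 golayCode.zero_mem
  have h0 : 2 * (TS false 0 n).card = 2 * (if n % 32 = 0 then gE 0 n else 0) := by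
    rw [TS_even_zero]
    split_ifs
    · rw [card_TF_even, support₂_zero_card]
    · rw [Finset.card_empty]
  have heven : 2 * ∑ w ∈ codeF, (TS false w n).card + gE 0 n
      = 2 * (if n % 32 = 0 then gE 0 n else 0)
        + (gE 0 n + 759 * gE 8 n + 2576 * gE 12 n + 759 * gE 16 n + gE 24 n) := by
    rw [← sum_codeF' (fun k => gE k n), ← Finset.add_sum_erase _ _ h0mem,
      ← Finset.add_sum_erase _ (fun w => gE (support₂ w).card n) h0mem, mul_add, h0,
      support₂_zero_card, Finset.mul_sum]
    have : ∑ w ∈ codeF.erase 0, 2 * (TS false w n).card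
        = ∑ w ∈ codeF.erase 0, gE (support₂ w).card n := by
      refine Finset.sum_congr rfl fun w hw => ?_
      rw [Finset.mem_erase] at hw
      rw [two_mul_card_TS_even (mem_codeF.1 hw.2) hw.1, card_TF_even]
    rw [this]
    ring
  rw [hodd]
  omega

end Cfsg.Agent.Lib.Helper8
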