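import Mathlib
import Cfsg.Agent.S0393
import Cfsg.Agent.Lib.Helper7.GolayFacts
import Cfsg.Agent.Lib.Helper7.LeechNorm
import Cfsg.Agent.Lib.Helper8.LeechCount

/-!
# Generators of the Leech lattice

`leech_le_of_gens`: an additive subgroup of `GolayPt → ℤ` containing `4e_i - 4e_∞` (all `i`),
`4e_∞ + 4e_0`, the vectors `2·1_O` for the twelve octads `O` of helper7's systematic basis of the
code, and `(-3, 1^23)` contains `leechLattice`.
-/

set_option autoImplicit false

namespace Cfsg.Agent.Lib.Helper8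
open Cfsg Cfsg.Agent.Lib.Helper7 Cfsg.Agent.S0393

/-- If an additive subgroup contains all `4e_i - 4e_j` and some `4e_p + 4e_q` (`p ≠ q`... here
`none` and `some 0`), it contains `4z` for every `z` of even coordinate sum. -/
theorem four_mul_mem (M : AddSubgroup (GolayPt → ℤ))
    (hsub : ∀ i : GolayPt, (Pi.single i (4 : ℤ) - Pi.single none (4 : ℤ) : GolayPt → ℤ) ∈ M)
    (hadd : (Pi.single none (4 : ℤ) + Pi.single (some 0) (4 : ℤ) : GolayPt → ℤ) ∈ M)
    (z : GolayPt → ℤ) (hz : (∑ i, z i) % 2 = 0) : (fun k => 4 * z k) ∈ M := by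
  classical
  obtain ⟨q, hq⟩ : ∃ q, ∑ i, z i = 2 * q := ⟨(∑ i, z i) / 2, by omega⟩
  have h8 : (Pi.single none (8 : ℤ) : GolayPt → ℤ) ∈ M := by
    have h1 := hsub (some 0)
    have h2 := M.sub_mem hadd h1
    convert h2 using 1
    funext k
    simp only [Pi.add_apply, Pi.sub_apply, Pi.single_apply]
    split_ifs <;> norm_num
  have key : (fun k => 4 * z k)
      = ∑ i, z i • (Pi.single i (4 : ℤ) - Pi.single none (4 : ℤ) : GolayPt → ℤ)
        + q • (Pi.single none (8 : ℤ) : GolayPt → ℤ) := by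
    funext k
    simp only [Pi.add_apply, Finset.sum_apply, Pi.smul_apply, Pi.sub_apply, Pi.single_apply,
      smul_eq_mul, mul_sub, Finset.sum_sub_distrib, mul_ite, mul_zero, Finset.sum_ite_eq,
      Finset.mem_univ, if_true]
    by_cases hk : k = none
    · simp only [hk, if_true]
      rw [← Finset.sum_mul, hq]; ring
    · simp only [hk, if_false, Finset.sum_const_zero]; ring
  rw [key]
  exact M.add_mem (M.sum_mem fun i _ => M.zsmul_mem (hsub i) _) (M.zsmul_mem h8 _)

theorem twoVec_add (a b : GolayPt → ZMod 2) :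
    twoVec (a + b) = twoVec a + twoVec b - fourVec (a * b) := by
  funext i
  simp only [twoVec, fourVec, Pi.add_apply, Pi.sub_apply, Pi.mul_apply]
  rcases zmod2_cases (a i) with h | h <;> rcases zmod2_cases (b i) with h' | h' <;>
    simp [h, h', zmod2_one_add_one]

theorem fourVec_mem_of_orth (M : AddSubgroup (GolayPt → ℤ))
    (h4 : ∀ z : GolayPt → ℤ, (∑ i, z i) % 2 = 0 → (fun k => 4 * z k) ∈ M)
    (t : GolayPt → ZMod 2) (ht : ∑ i, t i = 0) : fourVec t ∈ M := by
  have h1 : fourVec t = fun k => 4 * (if t k = 1 then (1 : ℤ) else 0) := by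
    funext k; unfold fourVec; split_ifs <;> norm_num
  rw [h1]
  apply h4
  rw [zmod2_sum_eq_card] at ht
  rw [Finset.sum_ite, Finset.sum_const_zero, add_zero, Finset.sum_const, nsmul_eq_mul, mul_one]
  have := (ZMod.natCast_eq_zero_iff_even).1 ht
  obtain ⟨r, hr⟩ := this
  rw [hr]; push_cast; omega

theorem twoVec_encL_mem (M : AddSubgroup (GolayPt → ℤ))
    (h4 : ∀ z : GolayPt → ℤ, (∑ i, z i) % 2 = 0 → (fun k => 4 * z k) ∈ M)
    (bs : List ℕ) (hbs : ∀ b ∈ bs, wordOf b ∈ golayCode ∧ twoVec (wordOf b) ∈ M) (j c : ℕ) :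
    twoVec (wordOf (encL bs j c)) ∈ M := by
  induction bs generalizing j with
  | nil =>
    simp only [encL, wordOf_zero]
    have : twoVec (0 : GolayPt → ZMod 2) = 0 := by
      funext i; simp [twoVec]
    rw [this]; exact M.zero_mem
  | cons b bs ih =>
    have ih' := ih (fun b' hb' => hbs b' (List.mem_cons_of_mem _ hb')) (j + 1)
    have hmem : wordOf (encL bs (j + 1) c) ∈ golayCode :=
      wordOf_encL_mem bs (fun b' hb' => (hbs b' (List.mem_cons_of_mem _ hb')).1) _ _
    simp only [encL, wordOf_xor]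
    split_ifs
    · rw [twoVec_add]
      refine M.sub_mem (M.add_mem (hbs b List.mem_cons_self).2 ih') ?_
      apply fourVec_mem_of_orth M h4
      exact golay_orth _ _ (hbs b List.mem_cons_self).1 hmem
    · rw [wordOf_zero, zero_add]; exact ih'

theorem twoVec_mem_of_basis (M : AddSubgroup (GolayPt → ℤ))
    (h4 : ∀ z : GolayPt → ℤ, (∑ i, z i) % 2 = 0 → (fun k => 4 * z k) ∈ M)
    (hb : ∀ b ∈ basisMasks, twoVec (wordOf b) ∈ M) {w : GolayPt → ZMod 2} (hw : w ∈ golayCode) :
    twoVec w ∈ M := by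
  obtain ⟨c, _, rfl⟩ := (mem_golayCode_iff w).1 hw
  exact twoVec_encL_mem M h4 basisMasks (fun b hb' => ⟨wordOf_basis_mem b hb', hb b hb'⟩) 0 c

theorem sum_twoVec (a : GolayPt → ZMod 2) : ∑ i, twoVec a i = 2 * ((support₂ a).card : ℤ) := by
  unfold twoVec
  rw [Finset.sum_ite, Finset.sum_const_zero, add_zero, Finset.sum_const, nsmul_eq_mul, mul_comm]
  congr 2
  unfold support₂
  congr 1
  ext i
  simp only [Finset.mem_filter, Finset.mem_univ, true_and]
  exact (zmod2_ne_zero_iff (a i)).symm

/-- the minimal vector `(-3, 1^23)` -/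
def vOdd : GolayPt → ℤ := fun i => if i = none then -3 else 1

theorem vOdd_mem : vOdd ∈ leechLattice := by
  apply AddSubgroup.subset_closure
  refine Cfsg.Spor.mem_leechSet_of_const_mod_four vOdd 1 1 (by decide) (fun i => ?_) (by decide)
  unfold vOdd; split_ifs <;> decide

theorem even_mem_of_gens (M : AddSubgroup (GolayPt → ℤ))
    (h4 : ∀ z : GolayPt → ℤ, (∑ i, z i) % 2 = 0 → (fun k => 4 * z k) ∈ M)
    (hb : ∀ b ∈ basisMasks, twoVec (wordOf b) ∈ M) {x : GolayPt → ℤ} (hx : x ∈ leechSet)
    (hev : ∀ k, x k % 2 = 0) : x ∈ M := by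
  obtain ⟨odd, w, hw, hres, hs⟩ := leechSet_structure hx
  cases odd with
  | true =>
    exfalso
    have h1 := hres none
    have h2 := hev none
    simp only [res, if_true] at h1
    split_ifs at h1 <;> omega
  | false =>
    simp only [Bool.false_eq_true, if_false] at hs
    have htw := twoVec_mem_of_basis M h4 hb hw
    have hy : x - twoVec w = fun k => 4 * ((x k - twoVec w k) / 4) := by
      funext k
      have h1 := hres k
      simp only [res, Bool.false_eq_true, if_false] at h1
      simp only [Pi.sub_apply, twoVec]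
      split_ifs at h1 ⊢ <;> omega
    have hz : (∑ k, (x k - twoVec w k) / 4) % 2 = 0 := by
      have h1 : ∑ k, (x - twoVec w) k = 4 * ∑ k, (x k - twoVec w k) / 4 := by
        rw [hy, Finset.mul_sum]
      simp only [Pi.sub_apply, Finset.sum_sub_distrib, sum_twoVec] at h1
      obtain ⟨r, hr⟩ := golay_doubly_even hw
      rw [hr] at h1
      push_cast at h1
      omega
    have := M.add_mem (h4 _ hz) htw
    rw [← hy, sub_add_cancel] at this
    exact this

/-- **Generators of the Leech lattice.** An additive subgroup containing the vectors `4e_i - 4e_∞`,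
`4e_∞ + 4e_0`, `2·1_O` for the twelve basis octads `O`, and `(-3, 1^23)` contains the lattice. -/
theorem leech_le_of_gens (M : AddSubgroup (GolayPt → ℤ))
    (hsub : ∀ i : GolayPt, (Pi.single i (4 : ℤ) - Pi.single none (4 : ℤ) : GolayPt → ℤ) ∈ M)
    (hadd : (Pi.single none (4 : ℤ) + Pi.single (some 0) (4 : ℤ) : GolayPt → ℤ) ∈ M)
    (hb : ∀ b ∈ basisMasks, twoVec (wordOf b) ∈ M) (hv : vOdd ∈ M) : leechLattice ≤ M := by
  have h4 := four_mul_mem M hsub hadd
  intro x hx
  by_cases hev : ∀ k, x k % 2 = 0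
  · exact even_mem_of_gens M h4 hb ((mem_leechLattice_iff x).1 hx) hev
  · have hx' : x - vOdd ∈ leechLattice := leechLattice.sub_mem hx vOdd_mem
    have hodd : ∀ k, x k % 2 = 1 := by
      obtain ⟨m, hm, -, -⟩ := (mem_leechLattice_iff x).1 hx
      rw [not_forall] at hev
      obtain ⟨k0, hk0⟩ := hev
      intro k
      have h1 := hm k0
      have h2 := hm k
      simp only [Int.ModEq] at h1 h2
      omega
    have hev' : ∀ k, (x - vOdd) k % 2 = 0 := by
      intro k
      have := hodd k
      simp only [Pi.sub_apply, vOdd]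
      split_ifs <;> omega
    have := M.add_mem (even_mem_of_gens M h4 hb ((mem_leechLattice_iff _).1 hx') hev') hv
    rwa [sub_add_cancel] at this

end Cfsg.Agent.Lib.Helper8
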