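import Mathlib
import Cfsg.Agent.Lib.Helper8.LeechGen
import Cfsg.Agent.Lib.Helper26.GolayBitsCode
import Cfsg.Agent.S1567

/-!
# An automorphism of the Leech lattice outside the monomial group

For the sextet `{1,2,3,∞}, {0,5,14,17}, {4,6,15,18}, {7,8,20,22}, {9,12,13,19}, {10,11,16,21}`
the map `ξ : x ↦ ε (x - (1/2) (tetrad sum))` (`ε = -1` on the first tetrad) preserves the lattice
(checked on the generators of `LeechGen` with a decidable membership test), is additive, an
involution and norm preserving: `xiPerm ∈ Co0`.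
-/

set_option autoImplicit false

namespace Cfsg.Agent.Lib.Helper8
open Cfsg Cfsg.Agent.Lib.Helper7 Cfsg.Agent.S0393

/-- tetrad index of a point (by `idx`) in a fixed sextet:
`{1,2,3,∞}, {0,5,14,17}, {4,6,15,18}, {7,8,20,22}, {9,12,13,19}, {10,11,16,21}` -/
def tetList : List ℕ := [1, 0, 0, 0, 2, 1, 2, 3, 3, 4, 5, 5, 4, 4, 1, 2, 5, 1, 2, 4, 3, 5, 3, 0]

/-- tetrad index of a point -/
def tet (p : GolayPt) : ℕ := tetList.getD (idx p) 0

theorem tet_lt : ∀ p : GolayPt, tet p < 6 := by decide

theorem card_tet : ∀ t < 6, (Finset.univ.filter fun j : GolayPt => tet j = t).card = 4 := by decide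

/-- sum of the coordinates over a tetrad -/
def tetSum (x : GolayPt → ℤ) (t : ℕ) : ℤ := ∑ j ∈ Finset.univ.filter (fun j => tet j = t), x j

/-- the sign attached to a tetrad: `-1` on the first, `+1` elsewhere -/
def sgnT (t : ℕ) : ℤ := if t = 0 then -1 else 1

theorem sgnT_mul_self (t : ℕ) : sgnT t * sgnT t = 1 := by
  unfold sgnT; split_ifs <;> norm_num

/-- the extra automorphism `ξ` (as a function on integer vectors) -/
def xiFun (x : GolayPt → ℤ) : GolayPt → ℤ :=
  fun i => sgnT (tet i) * (x i - tetSum x (tet i) / 2)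

/-- all tetrad sums are even -/
def EvenT (x : GolayPt → ℤ) : Prop := ∀ t, tetSum x t % 2 = 0

theorem tetSum_add (x y : GolayPt → ℤ) (t : ℕ) : tetSum (x + y) t = tetSum x t + tetSum y t := by
  unfold tetSum
  simp only [Pi.add_apply, Finset.sum_add_distrib]

theorem tetSum_neg (x : GolayPt → ℤ) (t : ℕ) : tetSum (-x) t = - tetSum x t := by
  unfold tetSum
  simp only [Pi.neg_apply, Finset.sum_neg_distrib]

theorem tetSum_ge (x : GolayPt → ℤ) (t : ℕ) (ht : 6 ≤ t) : tetSum x t = 0 := by
  unfold tetSum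
  apply Finset.sum_eq_zero
  intro j hj
  rw [Finset.mem_filter] at hj
  have := tet_lt j
  omega

theorem tetSum_tetconst (c d : ℕ → ℤ) (x : GolayPt → ℤ) (t : ℕ) (ht : t < 6) :
    tetSum (fun j => c (tet j) * x j + d (tet j)) t = c t * tetSum x t + 4 * d t := by
  unfold tetSum
  rw [Finset.sum_add_distrib, Finset.mul_sum]
  congr 1
  · refine Finset.sum_congr rfl fun j hj => ?_
    rw [(Finset.mem_filter.1 hj).2]
  · rw [Finset.sum_congr rfl (g := fun _ => d t)]
    · rw [Finset.sum_const, card_tet t ht]; simp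
    · intro j hj
      rw [(Finset.mem_filter.1 hj).2]

theorem evenT_add {x y : GolayPt → ℤ} (hx : EvenT x) (hy : EvenT y) : EvenT (x + y) := by
  intro t
  rw [tetSum_add]
  have := hx t
  have := hy t
  omega

theorem evenT_neg {x : GolayPt → ℤ} (hx : EvenT x) : EvenT (-x) := by
  intro t
  rw [tetSum_neg]
  have := hx t
  omega

theorem evenT_of_mem {x : GolayPt → ℤ} (hx : x ∈ leechLattice) : EvenT x := by
  obtain ⟨m, hm, -, -⟩ := (mem_leechLattice_iff x).1 hx
  intro t
  by_cases ht : t < 6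
  · have hx' : ∀ j, x j = 2 * ((x j - m % 2) / 2) + m % 2 := by
      intro j
      have := hm j
      simp only [Int.ModEq] at this
      omega
    unfold tetSum
    rw [Finset.sum_congr rfl (fun j _ => hx' j), Finset.sum_add_distrib, ← Finset.mul_sum,
      Finset.sum_const, card_tet t ht]
    simp only [nsmul_eq_mul, Nat.cast_ofNat]
    omega
  · rw [tetSum_ge x t (by omega)]; rfl

theorem xiFun_eq (x : GolayPt → ℤ) :
    xiFun x = fun j => sgnT (tet j) * x j + (fun t => - sgnT t * (tetSum x t / 2)) (tet j) := by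
  funext j
  simp only [xiFun]
  ring

theorem tetSum_xiFun {x : GolayPt → ℤ} (hx : EvenT x) (t : ℕ) :
    tetSum (xiFun x) t = - sgnT t * tetSum x t := by
  by_cases ht : t < 6
  · rw [xiFun_eq, tetSum_tetconst sgnT (fun t => - sgnT t * (tetSum x t / 2)) x t ht]
    have := hx t
    have h2 : tetSum x t = 2 * (tetSum x t / 2) := by omega
    linear_combination (2 * sgnT t) * h2
  · rw [tetSum_ge _ t (by omega), tetSum_ge _ t (by omega), mul_zero]

theorem evenT_xiFun {x : GolayPt → ℤ} (hx : EvenT x) : EvenT (xiFun x) := by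
  intro t
  rw [tetSum_xiFun hx]
  have := hx t
  unfold sgnT
  split_ifs <;> omega

theorem xiFun_xiFun {x : GolayPt → ℤ} (hx : EvenT x) : xiFun (xiFun x) = x := by
  funext i
  simp only [xiFun]
  rw [tetSum_xiFun hx]
  have := hx (tet i)
  have h2 : tetSum x (tet i) = 2 * (tetSum x (tet i) / 2) := by omega
  have h3 : (- sgnT (tet i) * tetSum x (tet i)) / 2 = - sgnT (tet i) * (tetSum x (tet i) / 2) := by
    unfold sgnT
    split_ifs <;> omega
  rw [h3]
  have := sgnT_mul_self (tet i)
  linear_combination (x i) * this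

theorem xiFun_add {x y : GolayPt → ℤ} (hx : EvenT x) (hy : EvenT y) :
    xiFun (x + y) = xiFun x + xiFun y := by
  funext i
  simp only [xiFun, Pi.add_apply, tetSum_add]
  have := hx (tet i)
  have := hy (tet i)
  have h3 : (tetSum x (tet i) + tetSum y (tet i)) / 2 = tetSum x (tet i) / 2 + tetSum y (tet i) / 2 := by
    omega
  rw [h3]; ring

theorem sum_fiberwise_tet (f : GolayPt → ℤ) :
    ∑ i, f i = ∑ t ∈ Finset.range 6, ∑ j ∈ Finset.univ.filter (fun j => tet j = t), f j := by
  rw [Finset.sum_fiberwise_of_maps_to (fun i _ => Finset.mem_range.2 (tet_lt i))]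

theorem sqNorm_xiFun {x : GolayPt → ℤ} (hx : EvenT x) : sqNorm (xiFun x) = sqNorm x := by
  unfold sqNorm
  rw [sum_fiberwise_tet, sum_fiberwise_tet (fun i => x i ^ 2)]
  refine Finset.sum_congr rfl fun t ht => ?_
  rw [Finset.mem_range] at ht
  have h1 : ∀ j ∈ Finset.univ.filter (fun j => tet j = t),
      xiFun x j ^ 2 = x j ^ 2 + ((tetSum x t / 2) ^ 2 - 2 * (tetSum x t / 2) * x j) := by
    intro j hj
    rw [Finset.mem_filter] at hj
    simp only [xiFun, hj.2]
    have := sgnT_mul_self t
    linear_combination ((x j - tetSum x t / 2) ^ 2) * this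
  rw [Finset.sum_congr rfl h1, Finset.sum_add_distrib, Finset.sum_sub_distrib, Finset.sum_const,
    card_tet t ht, ← Finset.mul_sum]
  have := hx t
  have h2 : tetSum x t = 2 * (tetSum x t / 2) := by omega
  have h3 : ∑ j ∈ Finset.univ.filter (fun j => tet j = t), x j = tetSum x t := rfl
  rw [h3]
  simp only [nsmul_eq_mul, Nat.cast_ofNat]
  linear_combination (-2 * (tetSum x t / 2)) * h2

/-- a decidable sufficient test for membership in `leechSet` -/
def leechTest (x : GolayPt → ℤ) : Prop :=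
  (∀ i, x i % 2 = x none % 2) ∧ (∑ i, x i) % 8 = (4 * (x none % 2)) % 8 ∧
    ∀ k ∈ ({0, 1, 2, 3} : Finset ℤ),
      Cfsg.Agent.Lib.Helper26.isCode (Cfsg.Agent.Lib.Helper26.maskOfSet
        (Finset.univ.filter fun i => x i % 4 = k)) = true

instance (x : GolayPt → ℤ) : Decidable (leechTest x) := by
  unfold leechTest; infer_instance

theorem mem_leechSet_of_test {x : GolayPt → ℤ} (h : leechTest x) : x ∈ leechSet := by
  obtain ⟨h1, h2, h3⟩ := h
  refine ⟨x none % 2, fun i => ?_, ?_, fun k => ?_⟩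
  · rw [Int.ModEq, h1 i]; omega
  · rw [Int.ModEq, h2]
  · have hk : k % 4 ∈ ({0, 1, 2, 3} : Finset ℤ) := by
      simp only [Finset.mem_insert, Finset.mem_singleton]; omega
    have := (Cfsg.Agent.Lib.Helper26.mem_supports_golayCode_iff _).2 (h3 _ hk)
    convert this using 2
    rename_i i
    simp only [Int.ModEq]


theorem xiFun_zero : xiFun 0 = 0 := by
  funext i
  simp [xiFun, tetSum]

theorem xiFun_neg {x : GolayPt → ℤ} (hx : EvenT x) : xiFun (-x) = - xiFun x := by
  have h := xiFun_add hx (evenT_neg hx)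
  rw [add_neg_cancel, xiFun_zero] at h
  exact (neg_eq_of_add_eq_zero_right h.symm).symm

/-- the lattice vectors whose image under `ξ` is in the lattice -/
def xiSub : AddSubgroup (GolayPt → ℤ) where
  carrier := {x | x ∈ leechLattice ∧ xiFun x ∈ leechLattice}
  zero_mem' := ⟨leechLattice.zero_mem, by rw [xiFun_zero]; exact leechLattice.zero_mem⟩
  add_mem' := by
    intro a b ha hb
    refine ⟨leechLattice.add_mem ha.1 hb.1, ?_⟩
    rw [xiFun_add (evenT_of_mem ha.1) (evenT_of_mem hb.1)]
    exact leechLattice.add_mem ha.2 hb.2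
  neg_mem' := by
    intro a ha
    refine ⟨leechLattice.neg_mem ha.1, ?_⟩
    rw [xiFun_neg (evenT_of_mem ha.1)]
    exact leechLattice.neg_mem ha.2

theorem xi_gen1 : ∀ i : GolayPt,
    leechTest (xiFun (Pi.single i (4 : ℤ) - Pi.single none (4 : ℤ))) := by decide +kernel

theorem xi_gen2 : leechTest (xiFun (Pi.single none (4 : ℤ) + Pi.single (some 0) (4 : ℤ))) := by
  decide +kernel

theorem xi_gen3 : ∀ b ∈ basisMasks, leechTest (xiFun (twoVec (wordOf b))) := by decide +kernel

theorem xi_gen4 : leechTest (xiFun vOdd) := by decide +kernel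

theorem xiFun_mem {x : GolayPt → ℤ} (hx : x ∈ leechLattice) : xiFun x ∈ leechLattice := by
  have h : leechLattice ≤ xiSub := by
    apply leech_le_of_gens
    · intro i
      exact ⟨Cfsg.Agent.S1567.sub_mem_leech i,
        (mem_leechLattice_iff _).2 (mem_leechSet_of_test (xi_gen1 i))⟩
    · exact ⟨Cfsg.Agent.S1567.add_mem_leech, (mem_leechLattice_iff _).2 (mem_leechSet_of_test xi_gen2)⟩
    · intro b hb
      exact ⟨lamE_le (twoVec_mem _ (wordOf_basis_mem b hb)),
        (mem_leechLattice_iff _).2 (mem_leechSet_of_test (xi_gen3 b hb))⟩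
    · exact ⟨vOdd_mem, (mem_leechLattice_iff _).2 (mem_leechSet_of_test xi_gen4)⟩
  exact (h hx).2

/-- the extra automorphism `ξ` of the Leech lattice -/
def xiPerm : Equiv.Perm leechLattice where
  toFun v := ⟨xiFun v.1, xiFun_mem v.2⟩
  invFun v := ⟨xiFun v.1, xiFun_mem v.2⟩
  left_inv v := Subtype.ext (xiFun_xiFun (evenT_of_mem v.2))
  right_inv v := Subtype.ext (xiFun_xiFun (evenT_of_mem v.2))

theorem xiPerm_apply (v : leechLattice) : ((xiPerm v : leechLattice) : GolayPt → ℤ) = xiFun v.1 := rfl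

theorem xiPerm_mem : xiPerm ∈ Co0 := by
  refine ⟨fun v w => ?_, fun v => ?_⟩
  · apply Subtype.ext
    exact xiFun_add (evenT_of_mem v.2) (evenT_of_mem w.2)
  · exact sqNorm_xiFun (evenT_of_mem v.2)

end Cfsg.Agent.Lib.Helper8
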