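import Mathlib
import Cfsg.Agent.Lib.Helper8.XiAut
import Cfsg.Agent.Lib.Helper8.Co0Basic
import Cfsg.Agent.Lib.Helper7.M24Trans
import Cfsg.Agent.Lib.Helper7.M24Dodecads
import Cfsg.Agent.Lib.Helper26.GolayBitsWeights

/-!
# Tools for orbits of `Co0` on lattice vectors

`CoRel v w`: `v` and `w` are in the same `Co0`-orbit.  Every even lattice vector with a coordinate
`≡ 2 mod 4` whose set of such coordinates is an octad / dodecad / complement of an octad is
equivalent to an odd vector (`exists_odd_of_smul`); odd vectors can be sign-normalised to have all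
coordinates `≡ 1 mod 4` (`exists_normalized`).
-/

set_option autoImplicit false

namespace Cfsg.Agent.Lib.Helper8
open Cfsg Cfsg.Agent.Lib.Helper7
open scoped Pointwise

/-- equivalence under the automorphism group -/
def CoRel (v w : leechLattice) : Prop := ∃ g : Co0, g • v = w

theorem CoRel.refl (v : leechLattice) : CoRel v v := ⟨1, one_smul _ _⟩

theorem CoRel.symm {v w : leechLattice} (h : CoRel v w) : CoRel w v := by
  obtain ⟨g, rfl⟩ := h
  exact ⟨g⁻¹, inv_smul_smul g v⟩

theorem CoRel.trans {u v w : leechLattice} (h1 : CoRel u v) (h2 : CoRel v w) : CoRel u w := by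
  obtain ⟨g, rfl⟩ := h1
  obtain ⟨g', rfl⟩ := h2
  exact ⟨g' * g, mul_smul g' g u⟩

theorem coRel_of_mem (g : Equiv.Perm leechLattice) (hg : g ∈ Co0) (v : leechLattice) :
    CoRel v (g v) := ⟨⟨g, hg⟩, rfl⟩

theorem CoRel.sqNorm_eq {v w : leechLattice} (h : CoRel v w) :
    sqNorm (w : GolayPt → ℤ) = sqNorm (v : GolayPt → ℤ) := by
  obtain ⟨g, rfl⟩ := h
  exact g.2.2 v

theorem sqNorm_xiPerm (v : leechLattice) :
    sqNorm ((xiPerm v : leechLattice) : GolayPt → ℤ) = sqNorm (v : GolayPt → ℤ) :=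
  xiPerm_mem.2 v

theorem sqNorm_coordPerm (σ : Equiv.Perm GolayPt) (hσ : σ ∈ M24) (v : leechLattice) :
    sqNorm ((coordPerm σ hσ v : leechLattice) : GolayPt → ℤ) = sqNorm (v : GolayPt → ℤ) :=
  (coordPerm_mem σ hσ).2 v

theorem tetSum_zero_eq (y : GolayPt → ℤ) :
    tetSum y 0 = y (some 1) + y (some 2) + y (some 3) + y none := by
  have h : (Finset.univ.filter fun j : GolayPt => tet j = 0) = {some 1, some 2, some 3, none} := by
    decide
  unfold tetSum
  rw [h, Finset.sum_insert (by decide), Finset.sum_insert (by decide),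
    Finset.sum_insert (by decide), Finset.sum_singleton]
  ring

/-- a standard octad meeting the first tetrad `{1,2,3,∞}` of the sextet of `ξ` in `{2}` -/
def O0 : Finset GolayPt :=
  {some 0, some 2, some 13, some 14, some 15, some 16, some 17, some 20}

theorem O0_mem : O0 ∈ octads := by
  rw [Cfsg.Agent.Lib.Helper26.mem_octads_iff]
  decide +kernel

/-- a standard dodecad meeting the first tetrad `{1,2,3,∞}` in `{2}` -/
def D0 : Finset GolayPt :=
  {some 2, some 4, some 5, some 6, some 8, some 9, some 10, some 11, some 12, some 13, some 15,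
    some 16}

theorem D0_mem : D0 ∈ dodecads := by
  rw [Cfsg.Agent.Lib.Helper26.mem_dodecads_iff]
  decide +kernel

/-- a standard octad meeting the first tetrad `{1,2,3,∞}` in `{1,3,∞}` -/
def O1 : Finset GolayPt :=
  {some 1, some 3, some 5, some 13, some 15, some 16, some 20, none}

theorem O1_mem : O1 ∈ octads := by
  rw [Cfsg.Agent.Lib.Helper26.mem_octads_iff]
  decide +kernel

/-- If the coordinates `≡ 2 mod 4` of an even lattice vector form the image under an element of
`M24` of a set meeting the first tetrad exactly in the point `2`, the vector is equivalent to a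
vector with an odd coordinate. -/
theorem exists_odd_of_smul (v : leechLattice) (hev : ∀ j, (v : GolayPt → ℤ) j % 2 = 0)
    (A0 : Finset GolayPt) (hA2 : some 2 ∈ A0) (hA1 : some 1 ∉ A0) (hA3 : some 3 ∉ A0)
    (hA4 : none ∉ A0) (g : M24)
    (hg : g • A0 = Finset.univ.filter fun j => (v : GolayPt → ℤ) j % 4 = 2) :
    ∃ v' : leechLattice, sqNorm (v' : GolayPt → ℤ) = sqNorm (v : GolayPt → ℤ) ∧
      (∃ i, (v' : GolayPt → ℤ) i % 2 = 1) ∧ CoRel v v' := by
  classical
  obtain ⟨x, hx⟩ := v
  simp only at hev hg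
  have hgmem : ∀ k, x ((g : Equiv.Perm GolayPt) k) % 4 = 2 ↔ k ∈ A0 := by
    intro k
    have : (g : Equiv.Perm GolayPt) k ∈ g • A0 ↔ k ∈ A0 := by
      constructor
      · intro h
        rw [Finset.mem_smul_finset] at h
        obtain ⟨k', hk', hkk⟩ := h
        have : k' = k := (g : Equiv.Perm GolayPt).injective hkk
        rwa [← this]
      · intro h
        exact Finset.smul_mem_smul_finset h
    rw [← this, hg, Finset.mem_filter]
    simp
  refine ⟨xiPerm (coordPerm g.1 g.2 ⟨x, hx⟩), ?_, ⟨some 2, ?_⟩,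
    (coRel_of_mem _ (coordPerm_mem g.1 g.2) _).trans (coRel_of_mem _ xiPerm_mem _)⟩
  · rw [sqNorm_xiPerm, sqNorm_coordPerm]
  · rw [xiPerm_apply, coordPerm_apply]
    show xiFun (coordFun g.1 x) (some 2) % 2 = 1
    have htet : tet (some 2) = 0 := by decide
    simp only [xiFun, htet, tetSum_zero_eq, coordFun]
    have e2 := (hgmem (some 2)).2 hA2
    have e1 : x ((g : Equiv.Perm GolayPt) (some 1)) % 4 = 0 := by
      have h1 := hev ((g : Equiv.Perm GolayPt) (some 1))
      have h2 : ¬ x ((g : Equiv.Perm GolayPt) (some 1)) % 4 = 2 := fun h => hA1 ((hgmem _).1 h)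
      omega
    have e3 : x ((g : Equiv.Perm GolayPt) (some 3)) % 4 = 0 := by
      have h1 := hev ((g : Equiv.Perm GolayPt) (some 3))
      have h2 : ¬ x ((g : Equiv.Perm GolayPt) (some 3)) % 4 = 2 := fun h => hA3 ((hgmem _).1 h)
      omega
    have e4 : x ((g : Equiv.Perm GolayPt) none) % 4 = 0 := by
      have h1 := hev ((g : Equiv.Perm GolayPt) none)
      have h2 : ¬ x ((g : Equiv.Perm GolayPt) none) % 4 = 2 := fun h => hA4 ((hgmem _).1 h)
      omega
    simp only [sgnT, if_true]
    omega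

/-- An odd lattice vector is equivalent to one with all coordinates `≡ 1 mod 4` and the same
squares of coordinates. -/
theorem exists_normalized (v : leechLattice) (hodd : ∀ j, (v : GolayPt → ℤ) j % 2 = 1) :
    ∃ v' : leechLattice, CoRel v v' ∧ (∀ j, (v' : GolayPt → ℤ) j % 4 = 1) ∧
      ∀ j, (v' : GolayPt → ℤ) j ^ 2 = (v : GolayPt → ℤ) j ^ 2 := by
  classical
  obtain ⟨x, hx⟩ := v
  simp only at hodd
  obtain ⟨m, -, -, h3⟩ := (mem_leechLattice_iff x).1 hx
  obtain ⟨C, hCdef⟩ : ∃ C : Finset GolayPt, C = Finset.univ.filter fun i => x i ≡ 3 [ZMOD 4] :=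
    ⟨_, rfl⟩
  have hCs : C ∈ supports (golayCode : Set (GolayPt → ZMod 2)) := by rw [hCdef]; exact h3 3
  have hmemC : ∀ j, j ∈ C ↔ x j % 4 = 3 := by
    intro j
    rw [hCdef, Finset.mem_filter]
    simp [Int.ModEq]
  refine ⟨signPerm C hCs ⟨x, hx⟩, coRel_of_mem _ (signPerm_mem C hCs) _, fun j => ?_, fun j => ?_⟩
  · rw [signPerm_apply]
    have := hodd j
    simp only [signFun, hmemC]
    split_ifs with h <;> omega
  · rw [signPerm_apply]
    simp only [signFun]
    split_ifs <;> ring

theorem odd_sq_cases' (v : ℤ) (hv : v % 2 = 1) :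
    v ^ 2 = 1 ∨ v ^ 2 = 9 ∨ v ^ 2 = 25 ∨ 49 ≤ v ^ 2 := by
  have : v ≤ -7 ∨ v = -5 ∨ v = -3 ∨ v = -1 ∨ v = 1 ∨ v = 3 ∨ v = 5 ∨ 7 ≤ v := by omega
  rcases this with h | rfl | rfl | rfl | rfl | rfl | rfl | h
  · right; right; right; nlinarith
  · right; right; left; norm_num
  · right; left; norm_num
  · left; norm_num
  · left; norm_num
  · right; left; norm_num
  · right; right; left; norm_num
  · right; right; right; nlinarith

/-- values of a coordinate `≡ 1 mod 4` from its square -/
theorem val_of_sq_one {a : ℤ} (h4 : a % 4 = 1) (h : a ^ 2 = 1) : a = 1 := by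
  have h' : (a - 1) * (a + 1) = 0 := by ring_nf; omega
  rcases mul_eq_zero.1 h' with h' | h' <;> omega

theorem val_of_sq_nine {a : ℤ} (h4 : a % 4 = 1) (h : a ^ 2 = 9) : a = -3 := by
  have h' : (a - 3) * (a + 3) = 0 := by ring_nf; omega
  rcases mul_eq_zero.1 h' with h' | h' <;> omega

theorem val_of_sq_25 {a : ℤ} (h4 : a % 4 = 1) (h : a ^ 2 = 25) : a = 5 := by
  have h' : (a - 5) * (a + 5) = 0 := by ring_nf; omega
  rcases mul_eq_zero.1 h' with h' | h' <;> omega

theorem card_univ_golayPt : (Finset.univ : Finset GolayPt).card = 24 := by rfl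

end Cfsg.Agent.Lib.Helper8
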