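import Mathlib
import Cfsg.Agent.S0393
import Cfsg.Agent.S0394
import Cfsg.Agent.S0395
import Cfsg.Agent.S0396
import Cfsg.Agent.Lib.Helper7.LeechNorm
import Cfsg.Agent.Lib.Helper8.LeechCount

/-!
# The Leech lattice modulo twice itself

`[L : 2L] = 2^24`; two short vectors (`sqNorm ≤ 64`) congruent modulo `2L` are equal, opposite, or
orthogonal of `sqNorm` 64; the classical count `1 + 196560/2 + 16773120/2 + 398034000/48 = 2^24`
shows that every class has a short representative and that the classes of vectors of `sqNorm` 64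
have exactly 48 short members.
-/

set_option autoImplicit false

namespace Cfsg.Agent.Lib.Helper8
open Cfsg Cfsg.Agent.Lib.Helper7 Cfsg.Agent.S0393

/-- doubling -/
def dbl : (GolayPt → ℤ) →+ (GolayPt → ℤ) := zsmulAddGroupHom 2

theorem dbl_apply (x : GolayPt → ℤ) : dbl x = 2 • x := rfl

theorem dbl_injective : Function.Injective dbl := by
  intro x y h
  funext i
  have := congrFun h i
  simp only [dbl_apply, Pi.smul_apply, nsmul_eq_mul, Nat.cast_ofNat] at this
  omega

/-- twice the lattice -/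
def L2 : AddSubgroup (GolayPt → ℤ) := leechLattice.map dbl

theorem mem_L2 {x : GolayPt → ℤ} : x ∈ L2 ↔ ∃ z ∈ leechLattice, x = 2 • z := by
  unfold L2
  rw [AddSubgroup.mem_map]
  constructor
  · rintro ⟨z, hz, rfl⟩; exact ⟨z, hz, rfl⟩
  · rintro ⟨z, hz, rfl⟩; exact ⟨z, hz, rfl⟩

theorem L2_le : L2 ≤ leechLattice := by
  intro x hx
  obtain ⟨z, hz, rfl⟩ := mem_L2.1 hx
  exact leechLattice.zsmul_mem hz 2

theorem map_top_dbl : (⊤ : AddSubgroup (GolayPt → ℤ)).map dbl = divLat 2 := by
  ext x
  rw [AddSubgroup.mem_map, mem_divLat]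
  constructor
  · rintro ⟨z, _, rfl⟩ i
    exact ⟨z i, by simp [dbl_apply]⟩
  · intro h
    choose z hz using h
    exact ⟨z, AddSubgroup.mem_top _, by funext i; simp [dbl_apply, hz i]⟩

theorem index_divLat_two : (divLat 2).index = 2 ^ 24 := by
  have h1 : divLat 2 = (redHom 2).ker := by
    ext x
    rw [AddMonoidHom.mem_ker, redHom_eq_zero_iff]
    rfl
  rw [h1, AddSubgroup.index_ker, AddMonoidHom.range_eq_top.mpr (redHom_surjective 2),
    AddSubgroup.card_top, Nat.card_fun, Nat.card_zmod, card_GolayPt]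

theorem relIndex_L2 : L2.relIndex leechLattice = 2 ^ 24 := by
  have h1 := AddSubgroup.relIndex_mul_index L2_le
  have hle : L2 ≤ divLat 2 := by
    rw [← map_top_dbl]
    exact AddSubgroup.map_mono le_top
  have h2 := AddSubgroup.relIndex_mul_index hle
  have h3 : L2.relIndex (divLat 2) = leechLattice.index := by
    rw [← map_top_dbl]
    unfold L2
    rw [AddSubgroup.relIndex_map_map_of_injective _ _ dbl_injective, AddSubgroup.relIndex_top_right]
  rw [h3, index_divLat_two, Cfsg.Agent.S0393.result] at h2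
  rw [Cfsg.Agent.S0393.result, ← h2] at h1
  have : (2 : ℕ) ^ 36 ≠ 0 := by positivity
  rw [mul_comm] at h1
  exact Nat.eq_of_mul_eq_mul_left (by positivity) h1

theorem sqNorm_add' (x y : GolayPt → ℤ) : sqNorm (x + y) = sqNorm x + sqNorm y + 2 * dotInt x y := by
  unfold sqNorm dotInt
  rw [Finset.mul_sum, ← Finset.sum_add_distrib, ← Finset.sum_add_distrib]
  refine Finset.sum_congr rfl fun i _ => ?_
  simp only [Pi.add_apply]; ring

theorem sqNorm_sub' (x y : GolayPt → ℤ) : sqNorm (x - y) = sqNorm x + sqNorm y - 2 * dotInt x y := by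
  unfold sqNorm dotInt
  rw [Finset.mul_sum, ← Finset.sum_add_distrib, ← Finset.sum_sub_distrib]
  refine Finset.sum_congr rfl fun i _ => ?_
  simp only [Pi.sub_apply]; ring

theorem sqNorm_two_smul (x : GolayPt → ℤ) : sqNorm (2 • x) = 4 * sqNorm x := by
  unfold sqNorm
  rw [Finset.mul_sum]
  refine Finset.sum_congr rfl fun i _ => ?_
  simp only [Pi.smul_apply, nsmul_eq_mul, Nat.cast_ofNat]; ring

theorem sqNorm_neg' (x : GolayPt → ℤ) : sqNorm (-x) = sqNorm x := by
  unfold sqNorm
  refine Finset.sum_congr rfl fun i _ => ?_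
  simp only [Pi.neg_apply]; ring

theorem sqNorm_eq_dotInt (x : GolayPt → ℤ) : sqNorm x = dotInt x x := by
  unfold sqNorm dotInt
  refine Finset.sum_congr rfl fun i _ => ?_
  ring

theorem sqNorm_eq_zero_iff (x : GolayPt → ℤ) : sqNorm x = 0 ↔ x = 0 := by
  constructor
  · intro h
    unfold sqNorm at h
    rw [Finset.sum_eq_zero_iff_of_nonneg (fun i _ => sq_nonneg (x i))] at h
    funext i
    have := h i (Finset.mem_univ i)
    simpa using this
  · rintro rfl
    simp [sqNorm]

theorem card_le_of_orth (F : Finset (GolayPt → ℤ)) (h0 : ∀ y ∈ F, dotInt y y ≠ 0)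
    (h : ∀ y ∈ F, ∀ y' ∈ F, y' = y ∨ y' = -y ∨ dotInt y y' = 0) : F.card ≤ 48 := by
  classical
  set f : (GolayPt → ℤ) → Finset (GolayPt → ℤ) := fun y => {y, -y} with hf
  set C := F.image f with hC
  have h1 : F.card ≤ 2 * C.card := by
    refine Finset.card_le_mul_card_image F 2 fun c _ => ?_
    have hsub : F.filter (fun y => f y = c) ⊆ c := by
      intro y hy
      rw [Finset.mem_filter] at hy
      rw [← hy.2]; simp [hf]
    rcases Finset.mem_image.1 ‹c ∈ F.image f› with ⟨y, _, rfl⟩
    exact le_trans (Finset.card_le_card hsub) (Finset.card_le_two)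
  -- representatives
  have hrep : ∀ c : C, ∃ y ∈ F, f y = c.1 := fun c => Finset.mem_image.1 c.2
  choose rep hrepF hrepc using hrep
  have horth : ∀ c c' : C, c ≠ c' → dotInt (rep c) (rep c') = 0 := by
    intro c c' hne
    rcases h (rep c) (hrepF c) (rep c') (hrepF c') with e | e | e
    · exfalso; apply hne; apply Subtype.ext; rw [← hrepc c, ← hrepc c', e]
    · exfalso; apply hne; apply Subtype.ext; rw [← hrepc c, ← hrepc c', e]
      simp only [hf, neg_neg]
      exact Finset.pair_comm _ _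
    · exact e
  have hli : LinearIndependent ℤ rep := by
    rw [linearIndependent_iff']
    intro s g hsum j hj
    have hdot : dotInt (∑ i ∈ s, g i • rep i) (rep j) = 0 := by
      rw [hsum]; simp [dotInt]
    have hexp : dotInt (∑ i ∈ s, g i • rep i) (rep j) = ∑ i ∈ s, g i * dotInt (rep i) (rep j) := by
      unfold dotInt
      simp only [Finset.sum_apply, Pi.smul_apply, smul_eq_mul, Finset.sum_mul, Finset.mul_sum]
      rw [Finset.sum_comm]
      refine Finset.sum_congr rfl fun i _ => Finset.sum_congr rfl fun k _ => ?_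
      ring
    rw [hexp, Finset.sum_eq_single j] at hdot
    · rcases mul_eq_zero.1 hdot with e | e
      · exact e
      · exact absurd e (h0 _ (hrepF j))
    · intro i _ hij
      rw [horth i j hij, mul_zero]
    · intro hj'; exact absurd hj hj'
  have h2 := hli.fintype_card_le_finrank
  rw [Module.finrank_pi, Fintype.card_coe] at h2
  have h24 : Fintype.card GolayPt = 24 := by rfl
  omega

theorem pair_lemma {y y' : GolayPt → ℤ} (hy : y ∈ leechLattice) (hy' : y' ∈ leechLattice)
    (hcong : y - y' ∈ L2) (hn : sqNorm y ≤ 64) (hn' : sqNorm y' ≤ 64) (hne : y' ≠ y)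
    (hne' : y' ≠ -y) : sqNorm y = 64 ∧ sqNorm y' = 64 ∧ dotInt y y' = 0 := by
  obtain ⟨a, ha, hya⟩ := mem_L2.1 hcong
  have ha0 : a ≠ 0 := by
    rintro rfl
    apply hne
    rw [smul_zero, sub_eq_zero] at hya
    exact hya.symm
  have hb : a + y' ∈ leechLattice := leechLattice.add_mem ha hy'
  have hyb : y + y' = 2 • (a + y') := by
    rw [smul_add, ← hya]; abel
  have hb0 : a + y' ≠ 0 := by
    intro h
    apply hne'
    rw [h, smul_zero] at hyb
    exact (eq_neg_of_add_eq_zero_right hyb)
  have h1 := sqNorm_ge_of_mem_leechLattice ha ha0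
  have h2 := sqNorm_ge_of_mem_leechLattice hb hb0
  have e1 := sqNorm_sub' y y'
  have e2 := sqNorm_add' y y'
  rw [hya, sqNorm_two_smul] at e1
  rw [hyb, sqNorm_two_smul] at e2
  refine ⟨by omega, by omega, by omega⟩

/-- the quotient map modulo twice the lattice -/
def piQ : (GolayPt → ℤ) →+ (GolayPt → ℤ) ⧸ L2 := QuotientAddGroup.mk' L2

theorem piQ_eq_iff (x y : GolayPt → ℤ) : piQ x = piQ y ↔ x - y ∈ L2 := by
  unfold piQ
  rw [QuotientAddGroup.mk'_apply, QuotientAddGroup.mk'_apply, QuotientAddGroup.eq]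
  rw [← neg_mem_iff (H := L2)]
  simp only [neg_add_rev, neg_neg]
  rw [sub_eq_add_neg, add_comm]

theorem card_map_piQ : Nat.card (leechLattice.map piQ) = 2 ^ 24 := by
  rw [← relIndex_L2, relIndex_eq_card_map piQ L2 leechLattice]
  intro x _
  unfold piQ
  rw [QuotientAddGroup.mk'_apply, QuotientAddGroup.eq_zero_iff]

/-- the lattice vectors of squared norm at most 64 -/
def shortSet : Set (GolayPt → ℤ) := {x | x ∈ leechLattice ∧ sqNorm x ≤ 64}

theorem shortSet_finite : shortSet.Finite := by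
  refine Set.Finite.subset (Finset.finite_toSet
    (Fintype.piFinset fun _ : GolayPt => Finset.Icc (-8 : ℤ) 8)) ?_
  intro x hx
  rw [Finset.mem_coe, Fintype.mem_piFinset]
  intro i
  rw [Finset.mem_Icc]
  have h1 : x i ^ 2 ≤ sqNorm x := by
    unfold sqNorm
    exact Finset.single_le_sum (f := fun j => x j ^ 2) (fun j _ => sq_nonneg (x j)) (Finset.mem_univ i)
  have h2 : x i ^ 2 ≤ 64 := le_trans h1 hx.2
  constructor <;> nlinarith

/-- the lattice vectors of squared norm at most 64, as a finset -/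
noncomputable def shortF : Finset (GolayPt → ℤ) := shortSet_finite.toFinset

theorem mem_shortF {x : GolayPt → ℤ} : x ∈ shortF ↔ x ∈ leechLattice ∧ sqNorm x ≤ 64 := by
  unfold shortF
  rw [Set.Finite.mem_toFinset]; rfl

theorem sqNorm_cases {x : GolayPt → ℤ} (hx : x ∈ leechLattice) (h : sqNorm x ≤ 64) :
    sqNorm x = 0 ∨ sqNorm x = 32 ∨ sqNorm x = 48 ∨ sqNorm x = 64 := by
  have h16 := sqNorm_dvd_of_mem_leechLattice hx
  have h0 := sqNorm_nonneg' x
  by_cases hx0 : x = 0
  · left; rw [hx0]; simp [sqNorm]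
  · have := sqNorm_ge_of_mem_leechLattice hx hx0
    omega

/-- the weight function -/
def wt (y : GolayPt → ℤ) : ℕ := if sqNorm y = 0 then 48 else if sqNorm y = 64 then 1 else 24

theorem card_shortF_filter (n : ℤ) (hn : n ≤ 64) :
    (shortF.filter fun y => sqNorm y = n).card
      = {x : GolayPt → ℤ | x ∈ leechLattice ∧ sqNorm x = n}.ncard := by
  classical
  rw [← Set.ncard_coe_finset]
  congr 1
  ext x
  simp only [Finset.coe_filter, mem_shortF, Set.mem_ofPred_eq]
  constructor
  · rintro ⟨⟨h1, _⟩, h2⟩; exact ⟨h1, h2⟩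
  · rintro ⟨h1, h2⟩; exact ⟨⟨h1, by omega⟩, h2⟩

theorem sum_wt : ∑ y ∈ shortF, wt y = 48 * 2 ^ 24 := by
  classical
  have hmaps : ∀ y ∈ shortF, sqNorm y ∈ ({0, 32, 48, 64} : Finset ℤ) := by
    intro y hy
    rw [mem_shortF] at hy
    have := sqNorm_cases hy.1 hy.2
    simp only [Finset.mem_insert, Finset.mem_singleton]
    exact this
  rw [← Finset.sum_fiberwise_of_maps_to hmaps]
  have hconst : ∀ n : ℤ, ∑ y ∈ shortF.filter (fun y => sqNorm y = n), wt y
      = (shortF.filter fun y => sqNorm y = n).card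
        * (if n = 0 then 48 else if n = 64 then 1 else 24) := by
    intro n
    rw [Finset.sum_congr rfl (g := fun _ => (if n = 0 then 48 else if n = 64 then 1 else 24))]
    · rw [Finset.sum_const, smul_eq_mul]
    · intro y hy
      rw [Finset.mem_filter] at hy
      simp only [wt, hy.2]
  have h0 : (shortF.filter fun y => sqNorm y = 0).card = 1 := by
    rw [Finset.card_eq_one]
    refine ⟨0, ?_⟩
    ext y
    simp only [Finset.mem_filter, mem_shortF, Finset.mem_singleton, sqNorm_eq_zero_iff]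
    constructor
    · rintro ⟨_, h⟩; exact h
    · rintro rfl
      refine ⟨⟨leechLattice.zero_mem, ?_⟩, rfl⟩
      simp [sqNorm]
  simp only [hconst]
  rw [Finset.sum_insert (by decide), Finset.sum_insert (by decide), Finset.sum_insert (by decide),
    Finset.sum_singleton, h0, card_shortF_filter 32 (by norm_num), card_shortF_filter 48 (by norm_num),
    card_shortF_filter 64 (by norm_num), Cfsg.Agent.S0394.result, Cfsg.Agent.S0395.result,
    Cfsg.Agent.S0396.result]
  norm_num

/-- the short vectors in a class modulo twice the lattice -/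
noncomputable def fib (t : (GolayPt → ℤ) ⧸ L2) : Finset (GolayPt → ℤ) := by
  classical exact shortF.filter fun y => piQ y = t

theorem mem_fib {t : (GolayPt → ℤ) ⧸ L2} {y : GolayPt → ℤ} :
    y ∈ fib t ↔ (y ∈ leechLattice ∧ sqNorm y ≤ 64) ∧ piQ y = t := by
  classical
  unfold fib
  rw [Finset.mem_filter, mem_shortF]

theorem fib_pair {t : (GolayPt → ℤ) ⧸ L2} {y y' : GolayPt → ℤ} (hy : y ∈ fib t) (hy' : y' ∈ fib t) :
    y' = y ∨ y' = -y ∨ (sqNorm y = 64 ∧ sqNorm y' = 64 ∧ dotInt y y' = 0) := by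
  rw [mem_fib] at hy hy'
  by_cases h1 : y' = y
  · exact Or.inl h1
  by_cases h2 : y' = -y
  · exact Or.inr (Or.inl h2)
  refine Or.inr (Or.inr (pair_lemma hy.1.1 hy'.1.1 ?_ hy.1.2 hy'.1.2 h1 h2))
  rw [← piQ_eq_iff, hy.2, hy'.2]

theorem sum_wt_fib_le (t : (GolayPt → ℤ) ⧸ L2) : ∑ y ∈ fib t, wt y ≤ 48 := by
  classical
  by_cases hall : ∀ y ∈ fib t, sqNorm y = 64
  · rw [Finset.sum_congr rfl (g := fun _ => 1)]
    · rw [Finset.sum_const, smul_eq_mul, mul_one]
      refine card_le_of_orth _ ?_ ?_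
      · intro y hy
        rw [← sqNorm_eq_dotInt, hall y hy]; norm_num
      · intro y hy y' hy'
        rcases fib_pair hy hy' with h | h | h
        · exact Or.inl h
        · exact Or.inr (Or.inl h)
        · exact Or.inr (Or.inr h.2.2)
    · intro y hy
      simp [wt, hall y hy]
  · rw [not_forall] at hall
    obtain ⟨y0, hall⟩ := hall
    rw [Classical.not_imp] at hall
    obtain ⟨hy0, hn0⟩ := hall
    have hsub : fib t ⊆ {y0, -y0} := by
      intro y hy
      rw [Finset.mem_insert, Finset.mem_singleton]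
      rcases fib_pair hy0 hy with h | h | h
      · exact Or.inl h
      · exact Or.inr h
      · exact absurd h.1 hn0
    refine le_trans (Finset.sum_le_sum_of_subset hsub) ?_
    by_cases h0 : y0 = 0
    · subst h0
      simp [wt, sqNorm]
    · have hne : y0 ≠ -y0 := by
        intro h
        apply h0
        funext i
        have := congrFun h i
        simp only [Pi.neg_apply, Pi.zero_apply] at this ⊢
        omega
      rw [Finset.sum_pair hne]
      have h1 : sqNorm y0 ≠ 0 := fun h => h0 ((sqNorm_eq_zero_iff y0).1 h)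
      simp [wt, sqNorm_neg', h1, hn0]

/-- the classes of short vectors -/
noncomputable def classF : Finset ((GolayPt → ℤ) ⧸ L2) := by
  classical exact shortF.image piQ

theorem classF_subset : (↑classF : Set ((GolayPt → ℤ) ⧸ L2)) ⊆ ↑(leechLattice.map piQ) := by
  classical
  intro t ht
  unfold classF at ht
  rw [Finset.mem_coe, Finset.mem_image] at ht
  obtain ⟨y, hy, rfl⟩ := ht
  exact AddSubgroup.mem_map_of_mem _ (mem_shortF.1 hy).1

theorem ncard_map_piQ : (↑(leechLattice.map piQ) : Set ((GolayPt → ℤ) ⧸ L2)).ncard = 2 ^ 24 := by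
  rw [← Nat.card_coe_set_eq, SetLike.coe_sort_coe]
  exact card_map_piQ

theorem map_piQ_finite : (↑(leechLattice.map piQ) : Set ((GolayPt → ℤ) ⧸ L2)).Finite := by
  apply Set.finite_of_ncard_ne_zero
  rw [ncard_map_piQ]
  norm_num

theorem card_classF_le : classF.card ≤ 2 ^ 24 := by
  rw [← ncard_map_piQ, ← Set.ncard_coe_finset]
  exact Set.ncard_le_ncard classF_subset map_piQ_finite

theorem sum_wt_eq_sum_fib : ∑ y ∈ shortF, wt y = ∑ t ∈ classF, ∑ y ∈ fib t, wt y := by
  classical
  unfold classF fib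
  rw [Finset.sum_fiberwise_of_maps_to (fun y hy => Finset.mem_image_of_mem piQ hy)]

theorem card_classF : classF.card = 2 ^ 24 := by
  have h1 := sum_wt
  rw [sum_wt_eq_sum_fib] at h1
  have h2 : ∑ t ∈ classF, ∑ y ∈ fib t, wt y ≤ ∑ _t ∈ classF, 48 :=
    Finset.sum_le_sum fun t _ => sum_wt_fib_le t
  rw [Finset.sum_const, smul_eq_mul, h1] at h2
  have := card_classF_le
  omega

theorem sum_wt_fib_eq {t : (GolayPt → ℤ) ⧸ L2} (ht : t ∈ classF) : ∑ y ∈ fib t, wt y = 48 := by
  by_contra hne
  have hlt : ∑ y ∈ fib t, wt y < 48 := lt_of_le_of_ne (sum_wt_fib_le t) hne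
  have h1 := sum_wt
  rw [sum_wt_eq_sum_fib] at h1
  have h2 : ∑ t ∈ classF, ∑ y ∈ fib t, wt y < ∑ _t ∈ classF, 48 :=
    Finset.sum_lt_sum (fun t _ => sum_wt_fib_le t) ⟨t, ht, hlt⟩
  rw [Finset.sum_const, smul_eq_mul, h1, card_classF] at h2
  omega

theorem classF_eq : (↑classF : Set ((GolayPt → ℤ) ⧸ L2)) = ↑(leechLattice.map piQ) := by
  refine Set.eq_of_subset_of_ncard_le classF_subset ?_ map_piQ_finite
  rw [Set.ncard_coe_finset, card_classF, ncard_map_piQ]

/-- Every class modulo twice the lattice contains a vector of squared norm at most 64. -/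
theorem exists_short_rep (x : GolayPt → ℤ) (hx : x ∈ leechLattice) :
    ∃ y ∈ leechLattice, sqNorm y ≤ 64 ∧ ∃ z ∈ leechLattice, x - y = 2 • z := by
  classical
  have h1 : piQ x ∈ (↑(leechLattice.map piQ) : Set ((GolayPt → ℤ) ⧸ L2)) :=
    AddSubgroup.mem_map_of_mem _ hx
  rw [← classF_eq] at h1
  unfold classF at h1
  rw [Finset.mem_coe, Finset.mem_image] at h1
  obtain ⟨y, hy, hyx⟩ := h1
  rw [mem_shortF] at hy
  refine ⟨y, hy.1, hy.2, ?_⟩
  have := (piQ_eq_iff x y).1 hyx.symm
  exact mem_L2.1 this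

/-- The cross through a vector of squared norm 64 has 48 members. -/
theorem card_fib_of_norm64 (x : GolayPt → ℤ) (hx : x ∈ leechLattice) (hxn : sqNorm x = 64) :
    (fib (piQ x)).card = 48 := by
  classical
  have hxS : x ∈ shortF := mem_shortF.2 ⟨hx, by omega⟩
  have hxf : x ∈ fib (piQ x) := mem_fib.2 ⟨⟨hx, by omega⟩, rfl⟩
  have ht : piQ x ∈ classF := by
    unfold classF; exact Finset.mem_image_of_mem piQ hxS
  have h1 := sum_wt_fib_eq ht
  have hall : ∀ y ∈ fib (piQ x), sqNorm y = 64 := by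
    intro y hy
    rcases fib_pair hxf hy with h | h | h
    · rw [h, hxn]
    · rw [h, sqNorm_neg', hxn]
    · exact h.2.1
  rw [Finset.sum_congr rfl (g := fun _ => 1)] at h1
  · rw [Finset.sum_const, smul_eq_mul, mul_one] at h1
    exact h1
  · intro y hy
    simp [wt, hall y hy]

end Cfsg.Agent.Lib.Helper8
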