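import Mathlib
import Cfsg.Prelude.Def_SporadicCombinatorics
import Cfsg.Agent.Lib.Helper8.Co0Basic
import Cfsg.Agent.Lib.Helper8.LeechGen
import Cfsg.Agent.Lib.Helper8.LeechMod2
import Cfsg.Agent.Lib.Helper7.M24Mem
import Cfsg.Agent.Lib.Helper7.GolayFacts
import Cfsg.Agent.Lib.Helper7.M24Chain

/-!
# The stabiliser of the standard cross in `Co0` is the monomial group `2^12 : M24`

* `co0_dotInt`: elements of `Co0` preserve the coordinate dot product.
* `exists_signedPerm_of_presCross`: an element preserving `stdCross` acts as `signedPerm σ c` with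
  `σ ∈ M24` and `c` the support of a code word.
* `monoCo0 σ c`: the monomial element of `Co0`; `card_presCross`: there are `4096 * |M24|` elements
  preserving the standard cross.
-/

set_option autoImplicit false

namespace Cfsg.Agent.Lib.Helper8
open Cfsg Cfsg.Agent.Lib.Helper7 Cfsg.Agent.S0393

theorem co0_smul_def (g : Co0) (v : leechLattice) : g • v = (g : Equiv.Perm leechLattice) v := rfl

theorem co0_smul_add (g : Co0) (v w : leechLattice) : g • (v + w) = g • v + g • w := g.2.1 v w

theorem co0_sqNorm (g : Co0) (v : leechLattice) :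
    sqNorm ((g • v : leechLattice) : GolayPt → ℤ) = sqNorm (v : GolayPt → ℤ) := g.2.2 v

/-- elements of `Co0` preserve dot products -/
theorem co0_dotInt (g : Co0) (v w : leechLattice) :
    dotInt ((g • v : leechLattice) : GolayPt → ℤ) ((g • w : leechLattice) : GolayPt → ℤ)
      = dotInt (v : GolayPt → ℤ) (w : GolayPt → ℤ) := by
  have h1 := co0_sqNorm g (v + w)
  rw [co0_smul_add, AddSubgroup.coe_add, AddSubgroup.coe_add, sqNorm_add', sqNorm_add',
    co0_sqNorm, co0_sqNorm] at h1
  linarith

theorem e8_eq_single (i : GolayPt) : e8 i = Pi.single i 8 := by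
  funext j
  simp only [e8, Pi.single_apply]

theorem e8_mem_stdCross (i : GolayPt) : e8 i ∈ stdCross := ⟨i, 8, Or.inl rfl, e8_eq_single i⟩

/-- `g` maps the standard cross into itself -/
def PresCross (g : Co0) : Prop :=
  ∀ v : leechLattice, (v : GolayPt → ℤ) ∈ stdCross →
    ((g • v : leechLattice) : GolayPt → ℤ) ∈ stdCross

theorem dotInt_single_single (p : GolayPt) (a b : ℤ) :
    dotInt (Pi.single p a : GolayPt → ℤ) (Pi.single p b) = a * b := by
  unfold dotInt
  rw [Finset.sum_eq_single p]
  · simp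
  · intro k _ hk; simp [hk]
  · intro h; exact absurd (Finset.mem_univ p) h

theorem dotInt_b8_b8 {i j : GolayPt} (hne : i ≠ j) :
    dotInt ((b8 i : leechLattice) : GolayPt → ℤ) ((b8 j : leechLattice) : GolayPt → ℤ) = 0 := by
  unfold dotInt
  apply Finset.sum_eq_zero
  intro k _
  rw [b8_apply, b8_apply]
  by_cases hk : k = i
  · subst hk
    rw [if_neg hne]; ring
  · rw [if_neg hk]; ring

theorem twoVec_mem_leech (a : GolayPt → ZMod 2) (ha : a ∈ golayCode) : twoVec a ∈ leechLattice :=
  (twoVec_mem a ha).1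

/-- An element of `Co0` preserving the standard cross is a signed permutation from the monomial
group of the code. -/
theorem exists_signedPerm_of_presCross (g : Co0) (hg : PresCross g) :
    ∃ σ ∈ M24, ∃ c ∈ supports (golayCode : Set (GolayPt → ZMod 2)),
      ∀ v : leechLattice,
        ((g • v : leechLattice) : GolayPt → ℤ) = signedPerm σ c (v : GolayPt → ℤ) := by
  classical
  have h1 : ∀ i : GolayPt, ∃ (j : GolayPt) (s : ℤ), (s = 8 ∨ s = -8) ∧
      ((g • b8 i : leechLattice) : GolayPt → ℤ) = Pi.single j s :=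
    fun i => hg (b8 i) (e8_mem_stdCross i)
  choose π s hs hπ using h1
  have hinj : Function.Injective π := by
    intro i j hij
    by_contra hne
    have hd := co0_dotInt g (b8 i) (b8 j)
    rw [hπ i, hπ j, hij, dotInt_b8_b8 hne, dotInt_single_single] at hd
    rcases hs i with a | a <;> rcases hs j with b | b <;> rw [a, b] at hd <;> norm_num at hd
  have hbij : Function.Bijective π := Finite.injective_iff_bijective.1 hinj
  obtain ⟨σ, hσ⟩ : ∃ σ : Equiv.Perm GolayPt, ∀ i, σ i = π i :=
    ⟨Equiv.ofBijective π hbij, fun i => rfl⟩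
  have hform : ∀ (x : leechLattice) (i : GolayPt),
      8 * ((g • x : leechLattice) : GolayPt → ℤ) (π i) = (x : GolayPt → ℤ) i * s i := by
    intro x i
    have h8 : (8 : ℤ) • (g • x) = ∑ j : GolayPt, ((x : GolayPt → ℤ) j) • (g • b8 j) := by
      have h9 := congrArg (toAddHom g.1 g.2) (eight_smul_eq_sum x)
      rw [map_zsmul, map_sum] at h9
      rw [co0_smul_def, ← toAddHom_apply g.1 g.2, h9]
      refine Finset.sum_congr rfl fun j _ => ?_
      rw [map_zsmul]; rfl
    have h10 := congrArg (fun v : leechLattice => (v : GolayPt → ℤ) (π i)) h8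
    simp only [AddSubgroup.coe_zsmul, Pi.smul_apply, smul_eq_mul, AddSubgroup.val_finsetSum,
      Finset.sum_apply, hπ] at h10
    rw [h10, Finset.sum_eq_single i]
    · simp
    · intro j _ hji
      have : π i ≠ π j := fun h => hji (hinj h).symm
      simp [this]
    · intro h; exact absurd (Finset.mem_univ i) h
  obtain ⟨c, hc⟩ : ∃ c : Finset GolayPt, ∀ k, k ∈ c ↔ s (σ.symm k) = -8 :=
    ⟨Finset.univ.filter fun k => s (σ.symm k) = -8, fun k => by simp⟩
  have hval : ∀ (x : leechLattice),
      ((g • x : leechLattice) : GolayPt → ℤ) = signedPerm σ c (x : GolayPt → ℤ) := by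
    intro x
    funext k
    have h := hform x (σ.symm k)
    rw [← hσ, Equiv.apply_symm_apply] at h
    unfold signedPerm
    by_cases hk : k ∈ c
    · rw [if_pos hk]
      rw [(hc k).1 hk] at h
      omega
    · rw [if_neg hk]
      have : s (σ.symm k) = 8 := by
        rcases hs (σ.symm k) with a | a
        · exact a
        · exact absurd ((hc k).2 a) hk
      rw [this] at h
      omega
  -- the permutation part preserves the code
  have hσinv : σ⁻¹ ∈ M24 := by
    apply mem_M24_of_forall_qrWord
    intro t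
    have hw : qrWord t ∈ golayCode := Submodule.subset_span (Or.inl ⟨t, rfl⟩)
    have hy := (g • (⟨twoVec (qrWord t), twoVec_mem_leech _ hw⟩ : leechLattice)).2
    rw [hval] at hy
    obtain ⟨m, -, -, h3⟩ := (mem_leechLattice_iff _).1 hy
    obtain ⟨w', hw', hw's⟩ := h3 2
    have : w' = fun i => qrWord t (σ⁻¹ i) := by
      apply Cfsg.Agent.Lib.Helper8.support₂_injective
      rw [hw's]
      ext k
      rw [Finset.mem_filter]
      simp only [support₂, Finset.mem_filter, Finset.mem_univ, true_and, signedPerm, twoVec,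
        Int.ModEq]
      have e : (σ⁻¹ : Equiv.Perm GolayPt) k = σ.symm k := rfl
      rw [e]
      have h01 : ¬ ((0 : ZMod 2) = 1) := by decide
      have h10 : ¬ ((1 : ZMod 2) = 0) := by decide
      rcases zmod2_cases (qrWord t (σ.symm k)) with h | h <;> rw [h] <;>
        simp only [h01, h10, if_true, if_false, ne_eq, not_true_eq_false, not_false_eq_true,
          iff_true, iff_false] <;> split_ifs <;> decide
    rw [← this]
    exact hw'
  have hσM : σ ∈ M24 := by
    have := M24.inv_mem hσinv
    rwa [inv_inv] at this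
  refine ⟨σ, hσM, c, ?_, hval⟩
  -- the sign part is a code word
  have hy := (g • (⟨vOdd, vOdd_mem⟩ : leechLattice)).2
  rw [hval] at hy
  obtain ⟨m, -, -, h3⟩ := (mem_leechLattice_iff _).1 hy
  have h33 := h3 3
  have : (Finset.univ.filter fun i => signedPerm σ c vOdd i ≡ 3 [ZMOD 4]) = c := by
    ext k
    rw [Finset.mem_filter]
    simp only [Finset.mem_univ, true_and, signedPerm, vOdd, Int.ModEq]
    by_cases hk : k ∈ c
    · simp only [hk, if_true, iff_true]
      split_ifs <;> decide
    · simp only [hk, if_false, iff_false]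
      split_ifs <;> decide
  rwa [this] at h33

/-- the monomial element of `Co0` attached to `σ ∈ M24` and the support `c` of a code word -/
def monoCo0 (σ : Equiv.Perm GolayPt) (hσ : σ ∈ M24) (c : Finset GolayPt)
    (hc : c ∈ supports (golayCode : Set (GolayPt → ZMod 2))) : Co0 :=
  ⟨signPerm c hc * coordPerm σ⁻¹ (M24.inv_mem hσ),
    Co0.mul_mem (signPerm_mem c hc) (coordPerm_mem _ _)⟩

theorem monoCo0_apply (σ : Equiv.Perm GolayPt) (hσ : σ ∈ M24) (c : Finset GolayPt)
    (hc : c ∈ supports (golayCode : Set (GolayPt → ZMod 2))) (v : leechLattice) :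
    ((monoCo0 σ hσ c hc • v : leechLattice) : GolayPt → ℤ) = signedPerm σ c (v : GolayPt → ℤ) := by
  funext i
  show signFun c (coordFun σ⁻¹ v.1) i = _
  unfold signFun coordFun signedPerm
  rfl

theorem signedPerm_single (σ : Equiv.Perm GolayPt) (c : Finset GolayPt) (i : GolayPt) (s : ℤ) :
    signedPerm σ c (Pi.single i s) = Pi.single (σ i) (if σ i ∈ c then -s else s) := by
  funext k
  unfold signedPerm
  by_cases hk : k = σ i
  · subst hk
    simp
  · have h1 : σ.symm k ≠ i := fun h => hk (by rw [← h]; simp)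
    simp [hk, h1]

theorem presCross_monoCo0 (σ : Equiv.Perm GolayPt) (hσ : σ ∈ M24) (c : Finset GolayPt)
    (hc : c ∈ supports (golayCode : Set (GolayPt → ZMod 2))) : PresCross (monoCo0 σ hσ c hc) := by
  intro v hv
  obtain ⟨i, s, hs, hvs⟩ := hv
  rw [monoCo0_apply, hvs, signedPerm_single]
  refine ⟨σ i, _, ?_, rfl⟩
  rcases hs with h | h <;> rw [h] <;> split_ifs <;> simp

/-- the parametrisation of the stabiliser of the standard cross -/
def monoMap (p : golayCode × M24) : {g : Co0 // PresCross g} :=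
  ⟨monoCo0 p.2.1 p.2.2 (support₂ p.1.1) ⟨p.1.1, p.1.2, rfl⟩, presCross_monoCo0 _ _ _ _⟩

theorem monoMap_injective : Function.Injective monoMap := by
  rintro ⟨⟨w, hw⟩, ⟨σ, hσ⟩⟩ ⟨⟨w', hw'⟩, ⟨σ', hσ'⟩⟩ h
  have h1 : ∀ v : leechLattice, signedPerm σ (support₂ w) (v : GolayPt → ℤ)
      = signedPerm σ' (support₂ w') (v : GolayPt → ℤ) := by
    intro v
    have h' : monoCo0 σ hσ (support₂ w) ⟨w, hw, rfl⟩ = monoCo0 σ' hσ' (support₂ w') ⟨w', hw', rfl⟩ :=
      congrArg Subtype.val h
    rw [← monoCo0_apply σ hσ (support₂ w) ⟨w, hw, rfl⟩, ← monoCo0_apply σ' hσ' (support₂ w') ⟨w', hw', rfl⟩,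
      h']
  have h2 : ∀ i, σ i = σ' i ∧ (σ i ∈ support₂ w ↔ σ i ∈ support₂ w') := by
    intro i
    have h3 := h1 (b8 i)
    have e : ((b8 i : leechLattice) : GolayPt → ℤ) = Pi.single i 8 := e8_eq_single i
    rw [e, signedPerm_single, signedPerm_single] at h3
    have h4 := congrFun h3 (σ i)
    rw [Pi.single_eq_same] at h4
    have hii : σ i = σ' i := by
      by_contra hne
      rw [Pi.single_eq_of_ne hne] at h4
      split_ifs at h4 <;> omega
    refine ⟨hii, ?_⟩
    rw [← hii, Pi.single_eq_same] at h4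
    by_cases a : σ i ∈ support₂ w <;> by_cases b : σ i ∈ support₂ w'
    · exact ⟨fun _ => b, fun _ => a⟩
    · rw [if_pos a, if_neg b] at h4; omega
    · rw [if_neg a, if_pos b] at h4; omega
    · exact ⟨fun x => absurd x a, fun x => absurd x b⟩
  have hσσ : σ = σ' := Equiv.ext fun i => (h2 i).1
  subst hσσ
  have hww : w = w' := by
    apply Cfsg.Agent.Lib.Helper8.support₂_injective
    ext k
    have := (h2 (σ.symm k)).2
    rwa [Equiv.apply_symm_apply] at this
  subst hww
  rfl

theorem monoMap_surjective : Function.Surjective monoMap := by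
  rintro ⟨g, hg⟩
  obtain ⟨σ, hσ, c, ⟨w, hw, rfl⟩, hval⟩ := exists_signedPerm_of_presCross g hg
  refine ⟨⟨⟨w, hw⟩, ⟨σ, hσ⟩⟩, ?_⟩
  apply Subtype.ext
  apply Subtype.ext
  apply Equiv.ext
  intro v
  apply Subtype.ext
  have h1 := monoCo0_apply σ hσ (support₂ w) ⟨w, hw, rfl⟩ v
  have h2 := hval v
  rw [co0_smul_def] at h1 h2
  exact h1.trans h2.symm

/-- the stabiliser of the standard cross has order `2^12 * |M24|` -/
theorem card_presCross : Nat.card {g : Co0 // PresCross g} = 4096 * 244823040 := by
  rw [← Nat.card_congr (Equiv.ofBijective monoMap ⟨monoMap_injective, monoMap_surjective⟩),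
    Nat.card_prod, golay_card, card_M24]

end Cfsg.Agent.Lib.Helper8
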