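import Mathlib
import Cfsg.Agent.Lib.Helper8.CrossStab
import Cfsg.Agent.Lib.Helper8.Co0Orbit
import Cfsg.Agent.Lib.Helper7.LeechNorm
import Cfsg.Agent.S5593

/-!
# Decompositions of `8 e_∞` into two minimal vectors, and transitivity on orthogonal pairs

* `half_of_e8`: a minimal vector `v` with `v · 8e_∞ = 32` is `4e_∞ ± 4e_j`.
* `orth_pair_trans`: `Co0` is transitive on ordered pairs of orthogonal minimal vectors.
-/

set_option autoImplicit false

namespace Cfsg.Agent.Lib.Helper8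
open Cfsg Cfsg.Agent.Lib.Helper7

theorem even_of_mem_leech {x : GolayPt → ℤ} (hx : x ∈ leechLattice) (h : ∃ i, x i % 2 = 0) :
    ∀ j, x j % 2 = 0 := by
  obtain ⟨m, hm, -, -⟩ := (mem_leechLattice_iff _).1 hx
  obtain ⟨i, hi⟩ := h
  intro j
  have h1 := hm i
  have h2 := hm j
  simp only [Int.ModEq] at h1 h2
  omega

theorem sq_of_four_mod (a : ℤ) (h : a % 4 = 0) : a = 0 ∨ 16 ≤ a ^ 2 := by
  have : a ≤ -4 ∨ a = 0 ∨ 4 ≤ a := by omega
  rcases this with h | rfl | h
  · right; nlinarith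
  · left; rfl
  · right; nlinarith

theorem dotInt_e8 (x : GolayPt → ℤ) (i : GolayPt) : dotInt x (e8 i) = 8 * x i := by
  unfold dotInt
  rw [Finset.sum_eq_single i]
  · simp [e8]; ring
  · intro k _ hk
    simp [e8, hk]
  · intro h; exact absurd (Finset.mem_univ i) h

theorem sum_three_le (x : GolayPt → ℤ) {a b c : GolayPt} (hab : a ≠ b) (hac : a ≠ c) (hbc : b ≠ c) :
    x a ^ 2 + x b ^ 2 + x c ^ 2 ≤ sqNorm x := by
  classical
  have h1 : ∑ j ∈ ({a, b, c} : Finset GolayPt), x j ^ 2 ≤ ∑ j, x j ^ 2 :=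
    Finset.sum_le_sum_of_subset_of_nonneg (Finset.subset_univ _) fun j _ _ => sq_nonneg _
  rw [Finset.sum_insert (by simp [hab, hac]), Finset.sum_insert (by simp [hbc]),
    Finset.sum_singleton] at h1
  unfold sqNorm
  linarith

theorem sum_two_le (x : GolayPt → ℤ) {a b : GolayPt} (hab : a ≠ b) :
    x a ^ 2 + x b ^ 2 ≤ sqNorm x := by
  classical
  have h1 : ∑ j ∈ ({a, b} : Finset GolayPt), x j ^ 2 ≤ ∑ j, x j ^ 2 :=
    Finset.sum_le_sum_of_subset_of_nonneg (Finset.subset_univ _) fun j _ _ => sq_nonneg _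
  rw [Finset.sum_insert (by simp [hab]), Finset.sum_singleton] at h1
  unfold sqNorm
  linarith

/-- a minimal vector with coordinate `4` at `∞` is `4 e_∞ ± 4 e_j` -/
theorem half_of_e8 {v : GolayPt → ℤ} (hv : v ∈ leechLattice) (hn : sqNorm v = 32)
    (h4 : v none = 4) :
    ∃ j : GolayPt, j ≠ none ∧ ∃ s : ℤ, (s = 4 ∨ s = -4) ∧ v = Pi.single none 4 + Pi.single j s := by
  classical
  have hev := even_of_mem_leech hv ⟨none, by rw [h4]; rfl⟩
  obtain ⟨m, -, -, h3⟩ := (mem_leechLattice_iff _).1 hv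
  -- no coordinate is `2 mod 4`
  have hno2 : ∀ j, v j % 4 = 0 := by
    by_contra hcon
    push Not at hcon
    obtain ⟨j0, hj0⟩ := hcon
    have hj02 : v j0 % 4 = 2 := by have := hev j0; omega
    have hS := h3 2
    obtain ⟨S, hSdef⟩ : ∃ S : Finset GolayPt,
      S = Finset.univ.filter fun i => v i ≡ 2 [ZMOD 4] := ⟨_, rfl⟩
    rw [← hSdef] at hS
    have hmemS : ∀ j, j ∈ S ↔ v j % 4 = 2 := by
      intro j; rw [hSdef, Finset.mem_filter]; simp [Int.ModEq]
    have hcard := eight_le_card_of_mem_supports hS ⟨j0, (hmemS j0).2 hj02⟩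
    have hnone : none ∉ S := by
      rw [hmemS, h4]; decide
    have hge : ∀ j ∈ S, 4 ≤ v j ^ 2 := by
      intro j hj
      have := (hmemS j).1 hj
      have : v j ≤ -2 ∨ 2 ≤ v j := by omega
      rcases this with h | h <;> nlinarith
    have h1 : ∑ _j ∈ S, (4 : ℤ) ≤ ∑ j ∈ S, v j ^ 2 := Finset.sum_le_sum hge
    have h2 : ∑ j ∈ insert none S, v j ^ 2 ≤ ∑ j, v j ^ 2 :=
      Finset.sum_le_sum_of_subset_of_nonneg (Finset.subset_univ _) fun j _ _ => sq_nonneg _
    rw [Finset.sum_insert hnone, h4] at h2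
    rw [Finset.sum_const] at h1
    simp only [nsmul_eq_mul] at h1
    have h5 : ∑ j, v j ^ 2 = 32 := hn
    have : (8 : ℤ) ≤ S.card := by exact_mod_cast hcard
    linarith
  -- some other coordinate is nonzero
  have hex : ∃ j, j ≠ none ∧ v j ≠ 0 := by
    by_contra hcon
    push Not at hcon
    have : sqNorm v = 16 := by
      unfold sqNorm
      rw [Finset.sum_eq_single none]
      · rw [h4]; norm_num
      · intro k _ hk
        rw [hcon k hk]; norm_num
      · intro h; exact absurd (Finset.mem_univ _) h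
    omega
  obtain ⟨j, hj, hvj⟩ := hex
  have hvj16 : 16 ≤ v j ^ 2 := by
    rcases sq_of_four_mod (v j) (hno2 j) with h | h
    · exact absurd h hvj
    · exact h
  have hother : ∀ k, k ≠ none → k ≠ j → v k = 0 := by
    intro k hk hkj
    rcases sq_of_four_mod (v k) (hno2 k) with h | h
    · exact h
    · exfalso
      have := sum_three_le v (Ne.symm hj) (Ne.symm hk) (Ne.symm hkj)
      rw [h4] at this
      omega
  have hvj_eq : v j ^ 2 = 16 := by
    have := sum_two_le v (Ne.symm hj)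
    rw [h4] at this
    omega
  have hs : v j = 4 ∨ v j = -4 := by
    have h' : (v j - 4) * (v j + 4) = 0 := by ring_nf; omega
    rcases mul_eq_zero.1 h' with h' | h'
    · left; omega
    · right; omega
  refine ⟨j, hj, v j, hs, ?_⟩
  funext k
  simp only [Pi.add_apply, Pi.single_apply]
  by_cases hk : k = none
  · subst hk
    rw [if_pos rfl, if_neg (Ne.symm hj), h4]; ring
  · by_cases hkj : k = j
    · subst hkj
      rw [if_neg hk, if_pos rfl]; ring
    · rw [if_neg hk, if_neg hkj, hother k hk hkj]; ring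

theorem signedPerm_add (σ : Equiv.Perm GolayPt) (c : Finset GolayPt) (x y : GolayPt → ℤ) :
    signedPerm σ c (x + y) = signedPerm σ c x + signedPerm σ c y := by
  funext k
  simp only [signedPerm, Pi.add_apply]
  split_ifs <;> ring

/-- the two halves of `8 e_∞` -/
theorem halves_of_e8 {v w : GolayPt → ℤ} (hv : v ∈ leechLattice) (hvn : sqNorm v = 32)
    (hwn : sqNorm w = 32) (hsum : v + w = e8 none) :
    ∃ j : GolayPt, j ≠ none ∧ ∃ s : ℤ, (s = 4 ∨ s = -4) ∧ v = Pi.single none 4 + Pi.single j s ∧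
      w = Pi.single none 4 + Pi.single j (-s) := by
  have hw : w = e8 none - v := by rw [← hsum]; abel
  have h1 : sqNorm w = 64 + 32 - 2 * dotInt (e8 none) v := by
    rw [hw, sqNorm_sub', sqNorm_e8, hvn]
  have h2 : dotInt (e8 none) v = dotInt v (e8 none) := by
    unfold dotInt
    exact Finset.sum_congr rfl fun i _ => mul_comm _ _
  rw [h2, dotInt_e8] at h1
  have h4 : v none = 4 := by omega
  obtain ⟨j, hj, s, hs, hvs⟩ := half_of_e8 hv hvn h4
  refine ⟨j, hj, s, hs, hvs, ?_⟩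
  rw [hw, hvs, e8_eq_single, Pi.single_neg]
  have : (Pi.single none 8 : GolayPt → ℤ) = Pi.single none 4 + Pi.single none 4 := by
    rw [← Pi.single_add]; norm_num
  rw [this]; abel

/-- `Co0` is transitive on ordered pairs of orthogonal minimal vectors -/
theorem orth_pair_trans (v w v' w' : leechLattice)
    (hv : sqNorm (v : GolayPt → ℤ) = 32) (hw : sqNorm (w : GolayPt → ℤ) = 32)
    (hv' : sqNorm (v' : GolayPt → ℤ) = 32) (hw' : sqNorm (w' : GolayPt → ℤ) = 32)
    (hd : dotInt (v : GolayPt → ℤ) (w : GolayPt → ℤ) = 0)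
    (hd' : dotInt (v' : GolayPt → ℤ) (w' : GolayPt → ℤ) = 0) :
    ∃ g : Co0, g • v = v' ∧ g • w = w' := by
  classical
  -- move the sums to `8 e_∞`
  have hmove : ∀ a b : leechLattice, sqNorm (a : GolayPt → ℤ) = 32 → sqNorm (b : GolayPt → ℤ) = 32 →
      dotInt (a : GolayPt → ℤ) (b : GolayPt → ℤ) = 0 →
      ∃ g : Co0, ∃ j : GolayPt, j ≠ none ∧ ∃ s : ℤ, (s = 4 ∨ s = -4) ∧
        ((g • a : leechLattice) : GolayPt → ℤ) = Pi.single none 4 + Pi.single j s ∧
        ((g • b : leechLattice) : GolayPt → ℤ) = Pi.single none 4 + Pi.single j (-s) := by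
    intro a b ha hb hab
    have hsum : sqNorm ((a + b : leechLattice) : GolayPt → ℤ) = 64 := by
      rw [AddSubgroup.coe_add, sqNorm_add', ha, hb, hab]; norm_num
    obtain ⟨g, hg⟩ := (Cfsg.Agent.S5593.rel_a0 (a + b) hsum).trans
      (Cfsg.Agent.S5593.rel_a0 (b8 none) (sqNorm_e8 none)).symm
    have hg' : ((g • a : leechLattice) : GolayPt → ℤ) + ((g • b : leechLattice) : GolayPt → ℤ)
        = e8 none := by
      rw [co0_smul_add] at hg
      exact congrArg Subtype.val hg
    obtain ⟨j, hj, s, hs, h1, h2⟩ := halves_of_e8 (g • a).2 (by rw [co0_sqNorm, ha])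
      (by rw [co0_sqNorm, hb]) hg'
    exact ⟨g, j, hj, s, hs, h1, h2⟩
  obtain ⟨g1, j, hj, s, hs, h1v, h1w⟩ := hmove v w hv hw hd
  obtain ⟨g2, j', hj', s', hs', h2v, h2w⟩ := hmove v' w' hv' hw' hd'
  -- a monomial element carrying the first standard pair to the second
  have hinj1 : Function.Injective (![none, j] : Fin 2 → GolayPt) := by
    intro a b hab
    fin_cases a <;> fin_cases b <;> simp_all [Ne.symm hj]
  have hinj2 : Function.Injective (![none, j'] : Fin 2 → GolayPt) := by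
    intro a b hab
    fin_cases a <;> fin_cases b <;> simp_all [Ne.symm hj']
  obtain ⟨σ, hσM, hσ⟩ := exists_M24_map_emb (k := 2) (by norm_num) ⟨_, hinj1⟩ ⟨_, hinj2⟩
  have hσ0 : σ none = none := hσ 0
  have hσ1 : σ j = j' := hσ 1
  obtain ⟨c, hc, hcn, hcj⟩ : ∃ c ∈ supports (golayCode : Set (GolayPt → ZMod 2)),
      none ∉ c ∧ (j' ∈ c ↔ s' = -s) := by
    by_cases hss : s' = -s
    · obtain ⟨C, hC, h1, h2⟩ := exists_separating j' none hj'
      exact ⟨C, hC, h2, by simp [h1, hss]⟩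
    · exact ⟨∅, Cfsg.Spor.empty_mem_supports_golayCode, by simp, by simp [hss]⟩
  have hs's : (if j' ∈ c then -s else s) = s' := by
    by_cases hss : s' = -s
    · rw [if_pos (hcj.2 hss), hss]
    · rw [if_neg (fun h => hss (hcj.1 h))]
      rcases hs with h | h <;> rcases hs' with h' | h' <;> omega
  set h := monoCo0 σ hσM c hc with hh
  have key1 : h • (g1 • v) = g2 • v' := by
    apply Subtype.ext
    rw [monoCo0_apply, h1v, h2v, signedPerm_add, signedPerm_single, signedPerm_single, hσ0, hσ1,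
      if_neg hcn, hs's]
  have key2 : h • (g1 • w) = g2 • w' := by
    apply Subtype.ext
    rw [monoCo0_apply, h1w, h2w, signedPerm_add, signedPerm_single, signedPerm_single, hσ0, hσ1,
      if_neg hcn]
    congr 2
    by_cases hjc : j' ∈ c
    · rw [if_pos hjc] at hs's ⊢
      rw [← hs's]
    · rw [if_neg hjc] at hs's ⊢
      rw [hs's]
  refine ⟨g2⁻¹ * h * g1, ?_, ?_⟩
  · rw [mul_smul, mul_smul, key1, inv_smul_smul]
  · rw [mul_smul, mul_smul, key2, inv_smul_smul]

end Cfsg.Agent.Lib.Helper8
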