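import Mathlib
import Cfsg.Agent.Lib.Helper8.Type4
import Cfsg.Agent.S0400

/-!
# Shapes of the minimal vectors of the Leech lattice

`min_shape`: a lattice vector of squared norm 32 is `(±4, ±4, 0^22)`, or `(±2^8, 0^16)` on an octad,
or `(∓3, ±1^23)`.
-/

set_option autoImplicit false

namespace Cfsg.Agent.Lib.Helper8
open Cfsg Cfsg.Agent.Lib.Helper7

theorem val_of_sq_sixteen {a : ℤ} (h : a ^ 2 = 16) : a = 4 ∨ a = -4 := by
  have h' : (a - 4) * (a + 4) = 0 := by ring_nf; omega
  rcases mul_eq_zero.1 h' with h' | h'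
  · left; omega
  · right; omega

theorem val_of_sq_four {a : ℤ} (h : a ^ 2 = 4) : a = 2 ∨ a = -2 := by
  have h' : (a - 2) * (a + 2) = 0 := by ring_nf; omega
  rcases mul_eq_zero.1 h' with h' | h'
  · left; omega
  · right; omega

theorem sq_of_two_mod (a : ℤ) (h : a % 4 = 2) : a ^ 2 = 4 ∨ 36 ≤ a ^ 2 := by
  have : a ≤ -6 ∨ a = -2 ∨ a = 2 ∨ 6 ≤ a := by omega
  rcases this with h | rfl | rfl | h
  · right; nlinarith
  · left; norm_num
  · left; norm_num
  · right; nlinarith

/-- shape of an even minimal vector all of whose coordinates are divisible by `4` -/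
theorem min_shape_four {x : GolayPt → ℤ} (hn : sqNorm x = 32) (h4 : ∀ i, x i % 4 = 0) :
    ∃ j k : GolayPt, j ≠ k ∧ (x j = 4 ∨ x j = -4) ∧ (x k = 4 ∨ x k = -4) ∧
      ∀ i, i ≠ j → i ≠ k → x i = 0 := by
  classical
  have hex1 : ∃ i, x i ≠ 0 := by
    by_contra hcon
    push Not at hcon
    have : sqNorm x = 0 := by
      unfold sqNorm
      exact Finset.sum_eq_zero fun j _ => by rw [hcon j]; norm_num
    omega
  obtain ⟨j, hj⟩ := hex1
  have hj16 : 16 ≤ x j ^ 2 := by
    rcases sq_of_four_mod (x j) (h4 j) with h | h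
    · exact absurd h hj
    · exact h
  have hex2 : ∃ k, k ≠ j ∧ x k ≠ 0 := by
    by_contra hcon
    push Not at hcon
    have : sqNorm x = x j ^ 2 := by
      unfold sqNorm
      rw [Finset.sum_eq_single j]
      · intro k _ hk
        rw [hcon k hk]; norm_num
      · intro h; exact absurd (Finset.mem_univ _) h
    have h16 : (16 : ℤ) ∣ x j ^ 2 := by
      have : x j = 4 * (x j / 4) := by have := h4 j; omega
      rw [this]
      exact ⟨(x j / 4) ^ 2, by ring⟩
    rw [hn] at this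
    -- 32 is not 16 times a square
    obtain ⟨m, hm⟩ : ∃ m, x j = 4 * m := ⟨x j / 4, by have := h4 j; omega⟩
    rw [hm] at this
    have : m ^ 2 = 2 := by nlinarith
    have hm1 : m ≤ 1 := by nlinarith
    have hm2 : -1 ≤ m := by nlinarith
    interval_cases m <;> omega
  obtain ⟨k, hkj, hk⟩ := hex2
  have hk16 : 16 ≤ x k ^ 2 := by
    rcases sq_of_four_mod (x k) (h4 k) with h | h
    · exact absurd h hk
    · exact h
  have h2 := sum_two_le x (Ne.symm hkj)
  have hother : ∀ i, i ≠ j → i ≠ k → x i = 0 := by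
    intro i hij hik
    rcases sq_of_four_mod (x i) (h4 i) with h | h
    · exact h
    · exfalso
      have := sum_three_le x (Ne.symm hkj) (Ne.symm hij) (Ne.symm hik)
      omega
  refine ⟨j, k, Ne.symm hkj, val_of_sq_sixteen (by omega), val_of_sq_sixteen (by omega), hother⟩

/-- shape of an even minimal vector with a coordinate `≡ 2 mod 4` -/
theorem min_shape_two {x : GolayPt → ℤ} (hx : x ∈ leechLattice) (hn : sqNorm x = 32)
    (hev : ∀ i, x i % 2 = 0) (h2 : ∃ i, x i % 4 = 2) :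
    (∀ i, x i = 0 ∨ x i = 2 ∨ x i = -2) ∧
      (Finset.univ.filter fun i => x i % 4 = 2) ∈ octads := by
  classical
  obtain ⟨m, -, -, h3⟩ := (mem_leechLattice_iff _).1 hx
  have hS := h3 2
  obtain ⟨S, hSdef⟩ : ∃ S : Finset GolayPt, S = Finset.univ.filter fun i => x i % 4 = 2 := ⟨_, rfl⟩
  have hSeq : (Finset.univ.filter fun i => x i ≡ 2 [ZMOD 4]) = S := by
    rw [hSdef]
    exact Finset.filter_congr fun i _ => by simp [Int.ModEq]
  rw [hSeq] at hS
  rw [← hSdef]
  have hmemS : ∀ j, j ∈ S ↔ x j % 4 = 2 := by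
    intro j; rw [hSdef, Finset.mem_filter]; simp
  obtain ⟨i0, hi0⟩ := h2
  have hcard := eight_le_card_of_mem_supports hS ⟨i0, (hmemS i0).2 hi0⟩
  have hge : ∀ j ∈ S, 4 ≤ x j ^ 2 := by
    intro j hj
    rcases sq_of_two_mod (x j) ((hmemS j).1 hj) with h | h <;> omega
  have hsplit : ∑ j ∈ S, x j ^ 2 + ∑ j ∈ Sᶜ, x j ^ 2 = 32 := by
    rw [Finset.sum_add_sum_compl]; exact hn
  have h1 : ∑ _j ∈ S, (4 : ℤ) ≤ ∑ j ∈ S, x j ^ 2 := Finset.sum_le_sum hge
  rw [Finset.sum_const] at h1
  simp only [nsmul_eq_mul] at h1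
  have hnn : 0 ≤ ∑ j ∈ Sᶜ, x j ^ 2 := Finset.sum_nonneg fun j _ => sq_nonneg _
  have hc8 : (8 : ℤ) ≤ S.card := by exact_mod_cast hcard
  have hcard8 : S.card = 8 := by
    have : (S.card : ℤ) ≤ 8 := by linarith
    omega
  have hSsum : ∑ j ∈ S, x j ^ 2 = 32 := by
    rw [hcard8] at h1
    push_cast at h1
    linarith
  have hCsum : ∑ j ∈ Sᶜ, x j ^ 2 = 0 := by linarith
  have hz : ∑ j ∈ S, (x j ^ 2 - 4) = 0 := by
    rw [Finset.sum_sub_distrib, Finset.sum_const, hcard8, hSsum]; norm_num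
  rw [Finset.sum_eq_zero_iff_of_nonneg (fun j hj => by have := hge j hj; omega)] at hz
  rw [Finset.sum_eq_zero_iff_of_nonneg (fun j _ => sq_nonneg _)] at hCsum
  refine ⟨fun i => ?_, hS, hcard8⟩
  by_cases hi : i ∈ S
  · right
    exact val_of_sq_four (by have := hz i hi; omega)
  · left
    have := hCsum i (Finset.mem_compl.2 hi)
    exact pow_eq_zero_iff (two_ne_zero) |>.1 this

/-- **Shapes of the minimal vectors.** -/
theorem min_shape {x : GolayPt → ℤ} (hx : x ∈ leechLattice) (hn : sqNorm x = 32) :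
    (∃ j k : GolayPt, j ≠ k ∧ (x j = 4 ∨ x j = -4) ∧ (x k = 4 ∨ x k = -4) ∧
      ∀ i, i ≠ j → i ≠ k → x i = 0) ∨
    ((∀ i, x i = 0 ∨ x i = 2 ∨ x i = -2) ∧
      (Finset.univ.filter fun i => x i % 4 = 2) ∈ octads) ∨
    ((∀ i, x i % 2 = 1) ∧ ∃ j, x j ^ 2 = 9 ∧ ∀ i, i ≠ j → x i ^ 2 = 1) := by
  by_cases hodd : ∃ i, x i % 2 = 1
  · right; right
    have hall : ∀ j, x j % 2 = 1 := by
      obtain ⟨m, hm, -, -⟩ := (mem_leechLattice_iff _).1 hx
      obtain ⟨i, hi⟩ := hodd
      intro j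
      have h1 := hm i
      have h2 := hm j
      simp only [Int.ModEq] at h1 h2
      omega
    exact ⟨hall, Cfsg.Agent.S0400.odd_shape hall hn⟩
  · push Not at hodd
    have hev : ∀ i, x i % 2 = 0 := fun i => by have := hodd i; omega
    by_cases h2 : ∃ i, x i % 4 = 2
    · right; left
      exact min_shape_two hx hn hev h2
    · left
      push Not at h2
      exact min_shape_four hn fun i => by have := hev i; have := h2 i; omega

/-- `± 4 e_j ± 4 e_k` is a lattice vector -/
theorem pm4_pair_mem (j k : GolayPt) {s s' : ℤ} (hs : s = 4 ∨ s = -4) (hs' : s' = 4 ∨ s' = -4) :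
    (Pi.single j s + Pi.single k s' : GolayPt → ℤ) ∈ leechLattice := by
  apply AddSubgroup.subset_closure
  refine Cfsg.Spor.mem_leechSet_of_const_mod_four _ 0 0 (by decide) (fun i => ?_) ?_
  · simp only [Pi.add_apply, Pi.single_apply, Int.ModEq]
    rcases hs with rfl | rfl <;> rcases hs' with rfl | rfl <;> split_ifs <;> decide
  · rw [Finset.sum_congr rfl (fun i _ => Pi.add_apply _ _ i), Finset.sum_add_distrib,
      Finset.sum_pi_single', Finset.sum_pi_single']
    simp only [Finset.mem_univ, if_true, Int.ModEq]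
    rcases hs with rfl | rfl <;> rcases hs' with rfl | rfl <;> decide

theorem sqNorm_single (j : GolayPt) (s : ℤ) : sqNorm (Pi.single j s : GolayPt → ℤ) = s ^ 2 := by
  unfold sqNorm
  rw [Finset.sum_eq_single j]
  · simp
  · intro l _ hl; simp [hl]
  · intro h; exact absurd (Finset.mem_univ j) h

theorem dotInt_single_left (j : GolayPt) (s : ℤ) (w : GolayPt → ℤ) :
    dotInt (Pi.single j s : GolayPt → ℤ) w = s * w j := by
  unfold dotInt
  rw [Finset.sum_eq_single j]
  · simp
  · intro l _ hl; simp [hl]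
  · intro h; exact absurd (Finset.mem_univ j) h

theorem dotInt_add_left (x y w : GolayPt → ℤ) : dotInt (x + y) w = dotInt x w + dotInt y w := by
  unfold dotInt
  rw [← Finset.sum_add_distrib]
  exact Finset.sum_congr rfl fun i _ => by simp only [Pi.add_apply]; ring

theorem dotInt_comm (x y : GolayPt → ℤ) : dotInt x y = dotInt y x := by
  unfold dotInt
  exact Finset.sum_congr rfl fun i _ => mul_comm _ _

theorem dotInt_pair_left (j k : GolayPt) (s s' : ℤ) (w : GolayPt → ℤ) :
    dotInt (Pi.single j s + Pi.single k s' : GolayPt → ℤ) w = s * w j + s' * w k := by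
  rw [dotInt_add_left, dotInt_single_left, dotInt_single_left]

theorem sqNorm_pm4_pair {j k : GolayPt} (hjk : j ≠ k) {s s' : ℤ} (hs : s = 4 ∨ s = -4)
    (hs' : s' = 4 ∨ s' = -4) : sqNorm (Pi.single j s + Pi.single k s' : GolayPt → ℤ) = 32 := by
  rw [sqNorm_add', sqNorm_single, sqNorm_single, dotInt_single_left, Pi.single_eq_of_ne hjk]
  rcases hs with rfl | rfl <;> rcases hs' with rfl | rfl <;> norm_num

end Cfsg.Agent.Lib.Helper8
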