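import Mathlib
import Cfsg.Agent.Lib.Helper8.MinShape

/-!
# Orbits of the stabiliser of the minimal vector `(4, 4, 0^22)` on minimal vectors

Method: for a minimal vector `w` with prescribed inner product with `u = (4,4,0^22)` we exhibit a
minimal vector `y` orthogonal to `u` with `y · w = -16`; by `orth_pair_trans` the pair `(u, y)` can
be moved to `(u, (4,-4,0^22))`, after which `w` lies in a small explicit set on which the monomial
part of the stabiliser is transitive.
-/

set_option autoImplicit false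

namespace Cfsg.Agent.Lib.Helper8
open Cfsg Cfsg.Agent.Lib.Helper7 Cfsg.Spor

theorem vecU_eq : vecU = Pi.single none 4 + Pi.single (some 0) 4 := by
  funext k
  simp only [Pi.add_apply, Pi.single_apply, vecU]
  by_cases h1 : k = none
  · subst h1; simp
  · by_cases h2 : k = some 0
    · subst h2; simp
    · simp [h1, h2]

theorem dotInt_vecU (w : GolayPt → ℤ) : dotInt vecU w = 4 * w none + 4 * w (some 0) := by
  rw [vecU_eq, dotInt_pair_left]

theorem sqNorm_vecU : sqNorm vecU = 32 := by
  rw [vecU_eq]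
  exact sqNorm_pm4_pair (by decide) (Or.inl rfl) (Or.inl rfl)

/-- `(4, -4, 0^22)` -/
def yU : leechLattice :=
  ⟨Pi.single none 4 + Pi.single (some 0) (-4), pm4_pair_mem _ _ (Or.inl rfl) (Or.inr rfl)⟩

theorem dotInt_yU (w : GolayPt → ℤ) :
    dotInt (yU : GolayPt → ℤ) w = 4 * w none - 4 * w (some 0) := by
  show dotInt (Pi.single none 4 + Pi.single (some 0) (-4) : GolayPt → ℤ) w = _
  rw [dotInt_pair_left]; ring

theorem sqNorm_yU : sqNorm (yU : GolayPt → ℤ) = 32 :=
  sqNorm_pm4_pair (by decide) (Or.inl rfl) (Or.inr rfl)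

theorem dotInt_vecU_yU : dotInt vecU (yU : GolayPt → ℤ) = 0 := by
  rw [dotInt_comm, dotInt_yU]
  simp [vecU]

/-- equivalence under the stabiliser of `u = (4,4,0^22)` -/
def URel (w w' : leechLattice) : Prop := ∃ g : Co0, g • leechU = leechU ∧ g • w = w'

theorem URel.symm {w w' : leechLattice} (h : URel w w') : URel w' w := by
  obtain ⟨g, h1, h2⟩ := h
  refine ⟨g⁻¹, ?_, ?_⟩
  · rw [inv_smul_eq_iff, h1]
  · rw [inv_smul_eq_iff, h2]

theorem URel.trans {w w' w'' : leechLattice} (h : URel w w') (h' : URel w' w'') : URel w w'' := by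
  obtain ⟨g, h1, h2⟩ := h
  obtain ⟨g', h1', h2'⟩ := h'
  exact ⟨g' * g, by rw [mul_smul, h1, h1'], by rw [mul_smul, h2, h2']⟩

/-- moving an auxiliary orthogonal minimal vector to `yU` inside the stabiliser of `u` -/
theorem exists_move_yU (y : leechLattice) (hy : sqNorm (y : GolayPt → ℤ) = 32)
    (hd : dotInt vecU (y : GolayPt → ℤ) = 0) : ∃ g : Co0, g • leechU = leechU ∧ g • y = yU :=
  orth_pair_trans leechU y leechU yU sqNorm_vecU hy sqNorm_vecU sqNorm_yU hd dotInt_vecU_yU

/-- an octad avoiding `∞` and `0` -/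
def Oy : Finset GolayPt :=
  {some 1, some 12, some 13, some 14, some 15, some 16, some 19, some 22}

/-- `-2` on the octad `Oy` -/
def y0 : GolayPt → ℤ := fun i => if i ∈ Oy then -2 else 0

theorem y0_test : leechTest y0 := by decide +kernel

theorem y0_mem : y0 ∈ leechLattice := (mem_leechLattice_iff _).2 (mem_leechSet_of_test y0_test)

theorem sqNorm_y0 : sqNorm y0 = 32 := by decide +kernel

theorem card_Oy : Oy.card = 8 := by decide

theorem Oy_none : (none : GolayPt) ∉ Oy := by decide

theorem Oy_zero : (some 0 : GolayPt) ∉ Oy := by decide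

/-- the auxiliary vector for an odd minimal vector whose `±3` is at `∞` or `0` -/
theorem exists_orth_of_odd {w : GolayPt → ℤ} (hw : w ∈ leechLattice)
    (hodd : ∀ i, w i % 2 = 1) (hone : ∀ i, i ≠ none → i ≠ some 0 → w i ^ 2 = 1) :
    ∃ y ∈ leechLattice, sqNorm y = 32 ∧ dotInt vecU y = 0 ∧ dotInt y w = -16 := by
  classical
  obtain ⟨m, -, -, h3⟩ := (mem_leechLattice_iff _).1 hw
  obtain ⟨C, hCdef⟩ : ∃ C : Finset GolayPt, C = Finset.univ.filter fun i => w i ≡ 3 [ZMOD 4] :=
    ⟨_, rfl⟩
  have hCs : C ∈ supports (golayCode : Set (GolayPt → ZMod 2)) := by rw [hCdef]; exact h3 3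
  have hmemC : ∀ j, j ∈ C ↔ w j % 4 = 3 := by
    intro j
    rw [hCdef, Finset.mem_filter]
    simp [Int.ModEq]
  refine ⟨signFun C y0, Cfsg.Agent.S0433.result C hCs y0 y0_mem, ?_, ?_, ?_⟩
  · rw [sqNorm_signFun, sqNorm_y0]
  · rw [dotInt_vecU]
    have h1 : signFun C y0 none = 0 := by
      simp only [signFun, y0, if_neg Oy_none]; split_ifs <;> rfl
    have h2 : signFun C y0 (some 0) = 0 := by
      simp only [signFun, y0, if_neg Oy_zero]; split_ifs <;> rfl
    rw [h1, h2]; rfl
  · have hterm : ∀ i, signFun C y0 i * w i = if i ∈ Oy then -2 else 0 := by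
      intro i
      by_cases hi : i ∈ Oy
      · have hin : i ≠ none := fun h => Oy_none (h ▸ hi)
        have hi0 : i ≠ some 0 := fun h => Oy_zero (h ▸ hi)
        have hsq := hone i hin hi0
        have hv : w i = 1 ∨ w i = -1 := by
          have h' : (w i - 1) * (w i + 1) = 0 := by ring_nf; omega
          rcases mul_eq_zero.1 h' with h' | h'
          · left; omega
          · right; omega
        simp only [signFun, y0, if_pos hi]
        by_cases hc : i ∈ C
        · rw [if_pos hc]
          have := (hmemC i).1 hc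
          rcases hv with h | h
          · rw [h] at this; omega
          · rw [h]; norm_num
        · rw [if_neg hc]
          have : ¬ w i % 4 = 3 := fun h => hc ((hmemC i).2 h)
          rcases hv with h | h
          · rw [h]; norm_num
          · rw [h] at this; omega
      · simp only [signFun, y0, if_neg hi]
        split_ifs <;> ring
    unfold dotInt
    rw [Finset.sum_congr rfl fun i _ => hterm i, Finset.sum_ite_mem, Finset.univ_inter,
      Finset.sum_const, card_Oy]
    norm_num

/-- for every minimal `w` with `u · w = -16` there is a minimal `y ⊥ u` with `y · w = -16` -/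
theorem exists_orth16 {w : GolayPt → ℤ} (hw : w ∈ leechLattice) (hn : sqNorm w = 32)
    (hd : dotInt vecU w = -16) :
    ∃ y ∈ leechLattice, sqNorm y = 32 ∧ dotInt vecU y = 0 ∧ dotInt y w = -16 := by
  classical
  rw [dotInt_vecU] at hd
  rcases min_shape hw hn with ⟨j, k, hjk, hj, hk, hother⟩ | ⟨hvals, hoct⟩ | ⟨hodd, j, hj9, hj1⟩
  · -- shape (±4, ±4, 0^22)
    have hval : ∀ i, w i = 0 ∨ w i = 4 ∨ w i = -4 := by
      intro i
      by_cases hij : i = j
      · rw [hij]; exact Or.inr hj
      · by_cases hik : i = k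
        · rw [hik]; exact Or.inr hk
        · exact Or.inl (hother i hij hik)
    have hcases : (w none = -4 ∧ w (some 0) = 0) ∨ (w none = 0 ∧ w (some 0) = -4) := by
      rcases hval none with h | h | h <;> rcases hval (some 0) with h' | h' | h' <;> omega
    rcases hcases with ⟨h1, h2⟩ | ⟨h1, h2⟩
    · refine ⟨_, yU.2, sqNorm_yU, dotInt_vecU_yU, ?_⟩
      rw [dotInt_yU, h1, h2]; norm_num
    · refine ⟨Pi.single none (-4) + Pi.single (some 0) 4,
        pm4_pair_mem _ _ (Or.inr rfl) (Or.inl rfl),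
        sqNorm_pm4_pair (by decide) (Or.inr rfl) (Or.inl rfl), ?_, ?_⟩
      · rw [dotInt_vecU]
        simp
      · rw [dotInt_pair_left, h1, h2]; norm_num
  · -- shape (±2^8, 0^16)
    have h1 : w none = -2 ∧ w (some 0) = -2 := by
      rcases hvals none with h | h | h <;> rcases hvals (some 0) with h' | h' | h' <;> omega
    obtain ⟨S, hSdef⟩ : ∃ S : Finset GolayPt, S = Finset.univ.filter fun i => w i % 4 = 2 :=
      ⟨_, rfl⟩
    rw [← hSdef] at hoct
    have hmemS : ∀ i, i ∈ S ↔ w i % 4 = 2 := by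
      intro i; rw [hSdef, Finset.mem_filter]; simp
    have hcard : ((S.erase none).erase (some 0)).card = 6 := by
      rw [Finset.card_erase_of_mem, Finset.card_erase_of_mem, hoct.2]
      · rw [hmemS, h1.1]; decide
      · rw [Finset.mem_erase]
        exact ⟨by decide, by rw [hmemS, h1.2]; decide⟩
    obtain ⟨p, hp, q, hq, hpq⟩ := Finset.one_lt_card.1 (by rw [hcard]; norm_num :
      1 < ((S.erase none).erase (some 0)).card)
    have hp' : p ≠ some 0 ∧ p ≠ none ∧ w p % 4 = 2 := by
      rw [Finset.mem_erase, Finset.mem_erase, hmemS] at hp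
      exact ⟨hp.1, hp.2.1, hp.2.2⟩
    have hq' : q ≠ some 0 ∧ q ≠ none ∧ w q % 4 = 2 := by
      rw [Finset.mem_erase, Finset.mem_erase, hmemS] at hq
      exact ⟨hq.1, hq.2.1, hq.2.2⟩
    have hwp : w p = 2 ∨ w p = -2 := by
      rcases hvals p with h | h | h
      · rw [h] at hp'; omega
      · exact Or.inl h
      · exact Or.inr h
    have hwq : w q = 2 ∨ w q = -2 := by
      rcases hvals q with h | h | h
      · rw [h] at hq'; omega
      · exact Or.inl h
      · exact Or.inr h
    have hsp : -2 * w p = 4 ∨ -2 * w p = -4 := by rcases hwp with h | h <;> rw [h] <;> norm_num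
    have hsq : -2 * w q = 4 ∨ -2 * w q = -4 := by rcases hwq with h | h <;> rw [h] <;> norm_num
    refine ⟨Pi.single p (-2 * w p) + Pi.single q (-2 * w q), pm4_pair_mem _ _ hsp hsq,
      sqNorm_pm4_pair hpq hsp hsq, ?_, ?_⟩
    · rw [dotInt_vecU]
      simp only [Pi.add_apply]
      rw [Pi.single_eq_of_ne (Ne.symm hp'.2.1), Pi.single_eq_of_ne (Ne.symm hq'.2.1),
        Pi.single_eq_of_ne (Ne.symm hp'.1), Pi.single_eq_of_ne (Ne.symm hq'.1)]
      norm_num
    · rw [dotInt_pair_left]
      rcases hwp with h | h <;> rcases hwq with h' | h' <;> rw [h, h'] <;> norm_num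
  · -- odd shape
    apply exists_orth_of_odd hw hodd
    intro i hi hi0
    apply hj1
    rintro rfl
    -- the coordinate `±3` is at `∞` or `0`
    have hn1 := hj1 none (Ne.symm hi)
    have hn0 := hj1 (some 0) (Ne.symm hi0)
    have a1 : w none = 1 ∨ w none = -1 := by
      have h' : (w none - 1) * (w none + 1) = 0 := by ring_nf; omega
      rcases mul_eq_zero.1 h' with h' | h'
      · left; omega
      · right; omega
    have a0 : w (some 0) = 1 ∨ w (some 0) = -1 := by
      have h' : (w (some 0) - 1) * (w (some 0) + 1) = 0 := by ring_nf; omega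
      rcases mul_eq_zero.1 h' with h' | h'
      · left; omega
      · right; omega
    rcases a1 with h | h <;> rcases a0 with h' | h' <;> omega

/-- a minimal vector with inner products `-16` with both `u` and `yU` is `-4 e_∞ ± 4 e_j` -/
theorem rigid16 {w : GolayPt → ℤ} (hw : w ∈ leechLattice) (hn : sqNorm w = 32)
    (hd : dotInt vecU w = -16) (hd' : dotInt (yU : GolayPt → ℤ) w = -16) :
    ∃ j : GolayPt, j ≠ none ∧ j ≠ some 0 ∧ ∃ s : ℤ, (s = 4 ∨ s = -4) ∧
      w = Pi.single none (-4) + Pi.single j s := by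
  rw [dotInt_vecU] at hd
  rw [dotInt_yU] at hd'
  have h1 : w none = -4 := by omega
  have h2 : w (some 0) = 0 := by omega
  have hneg : (-w) none = 4 := by rw [Pi.neg_apply, h1]; norm_num
  obtain ⟨j, hj, s, hs, hws⟩ := half_of_e8 (leechLattice.neg_mem hw)
    (by rw [sqNorm_neg', hn]) hneg
  have hw' : w = Pi.single none (-4) + Pi.single j (-s) := by
    have : w = -(-w) := (neg_neg w).symm
    rw [this, hws, neg_add, ← Pi.single_neg, ← Pi.single_neg]
  refine ⟨j, hj, ?_, -s, ?_, hw'⟩
  · rintro rfl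
    have := congrFun hw' (some 0)
    rw [h2, Pi.add_apply, Pi.single_eq_of_ne (by decide), Pi.single_eq_same] at this
    rcases hs with rfl | rfl <;> omega
  · rcases hs with rfl | rfl
    · right; rfl
    · left; norm_num

/-- a code word through a given point avoiding `∞` and `0` -/
theorem exists_qr_sep : ∀ j : ZMod 23, j ≠ 0 →
    ∃ t : ZMod 23, qrWord t (some j) = 1 ∧ qrWord t (some 0) = 0 := by decide +kernel

theorem exists_separating3 (j : GolayPt) (hj : j ≠ none) (hj0 : j ≠ some 0) :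
    ∃ C ∈ supports (golayCode : Set (GolayPt → ZMod 2)), j ∈ C ∧ none ∉ C ∧ some 0 ∉ C := by
  cases j with
  | none => exact absurd rfl hj
  | some x =>
    have hx : x ≠ 0 := fun h => hj0 (by rw [h])
    obtain ⟨t, h1, h2⟩ := exists_qr_sep x hx
    refine ⟨support₂ (qrWord t), ⟨qrWord t, Submodule.subset_span (Or.inl ⟨t, rfl⟩), rfl⟩, ?_, ?_, ?_⟩
    · simp only [support₂, Finset.mem_filter, Finset.mem_univ, true_and]
      rw [h1]; decide
    · simp only [support₂, Finset.mem_filter, Finset.mem_univ, true_and, not_not]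
      rfl
    · simp only [support₂, Finset.mem_filter, Finset.mem_univ, true_and, not_not]
      exact h2

/-- monomial elements of the stabiliser of `u` fixing `∞` and `0` -/
theorem monoCo0_fix_U (σ : Equiv.Perm GolayPt) (hσ : σ ∈ M24) (c : Finset GolayPt)
    (hc : c ∈ supports (golayCode : Set (GolayPt → ZMod 2))) (h0 : σ none = none)
    (h1 : σ (some 0) = some 0) (hc0 : none ∉ c) (hc1 : some 0 ∉ c) :
    monoCo0 σ hσ c hc • leechU = leechU := by
  apply Subtype.ext
  rw [monoCo0_apply]
  show signedPerm σ c vecU = vecU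
  rw [vecU_eq, signedPerm_add, signedPerm_single, signedPerm_single, h0, h1, if_neg hc0,
    if_neg hc1]

/-- the stabiliser of `u` is transitive on the vectors `-4 e_∞ ± 4 e_j` -/
theorem urel_rigid16 {j j' : GolayPt} (hj : j ≠ none) (hj0 : j ≠ some 0) (hj' : j' ≠ none)
    (hj0' : j' ≠ some 0) {s s' : ℤ} (hs : s = 4 ∨ s = -4) (hs' : s' = 4 ∨ s' = -4)
    (w w' : leechLattice) (hw : (w : GolayPt → ℤ) = Pi.single none (-4) + Pi.single j s)
    (hw' : (w' : GolayPt → ℤ) = Pi.single none (-4) + Pi.single j' s') : URel w w' := by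
  classical
  have hinj1 : Function.Injective (![none, some 0, j] : Fin 3 → GolayPt) := by
    intro a b hab
    fin_cases a <;> fin_cases b <;> simp_all [Ne.symm hj, Ne.symm hj0]
  have hinj2 : Function.Injective (![none, some 0, j'] : Fin 3 → GolayPt) := by
    intro a b hab
    fin_cases a <;> fin_cases b <;> simp_all [Ne.symm hj', Ne.symm hj0']
  obtain ⟨σ, hσM, hσ⟩ := exists_M24_map_emb (k := 3) (by norm_num) ⟨_, hinj1⟩ ⟨_, hinj2⟩
  have hσ0 : σ none = none := hσ 0
  have hσ1 : σ (some 0) = some 0 := hσ 1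
  have hσ2 : σ j = j' := hσ 2
  obtain ⟨c, hc, hcn, hc0, hcj⟩ : ∃ c ∈ supports (golayCode : Set (GolayPt → ZMod 2)),
      none ∉ c ∧ some 0 ∉ c ∧ (j' ∈ c ↔ s' = -s) := by
    by_cases hss : s' = -s
    · obtain ⟨C, hC, h1, h2, h3⟩ := exists_separating3 j' hj' hj0'
      exact ⟨C, hC, h2, h3, by simp [h1, hss]⟩
    · exact ⟨∅, Cfsg.Spor.empty_mem_supports_golayCode, by simp, by simp, by simp [hss]⟩
  have hs's : (if j' ∈ c then -s else s) = s' := by
    by_cases hss : s' = -s
    · rw [if_pos (hcj.2 hss), hss]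
    · rw [if_neg (fun h => hss (hcj.1 h))]
      rcases hs with h | h <;> rcases hs' with h' | h' <;> omega
  refine ⟨monoCo0 σ hσM c hc, monoCo0_fix_U σ hσM c hc hσ0 hσ1 hcn hc0, ?_⟩
  apply Subtype.ext
  rw [monoCo0_apply, hw, hw', signedPerm_add, signedPerm_single, signedPerm_single, hσ0, hσ2,
    if_neg hcn, hs's]

/-- the stabiliser of `u = (4,4,0^22)` is transitive on the minimal vectors `w` with
`u · w = -16` -/
theorem urel_of_dot16 (w w' : leechLattice) (hn : sqNorm (w : GolayPt → ℤ) = 32)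
    (hn' : sqNorm (w' : GolayPt → ℤ) = 32) (hd : dotInt vecU (w : GolayPt → ℤ) = -16)
    (hd' : dotInt vecU (w' : GolayPt → ℤ) = -16) : URel w w' := by
  -- normal form of one vector
  have hnf : ∀ w : leechLattice, sqNorm (w : GolayPt → ℤ) = 32 →
      dotInt vecU (w : GolayPt → ℤ) = -16 →
      ∃ w1 : leechLattice, URel w w1 ∧ ∃ j : GolayPt, j ≠ none ∧ j ≠ some 0 ∧ ∃ s : ℤ,
        (s = 4 ∨ s = -4) ∧ (w1 : GolayPt → ℤ) = Pi.single none (-4) + Pi.single j s := by
    intro w hn hd
    obtain ⟨y, hy, hyn, hyu, hyw⟩ := exists_orth16 w.2 hn hd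
    obtain ⟨g, hgu, hgy⟩ := exists_move_yU ⟨y, hy⟩ hyn hyu
    refine ⟨g • w, ⟨g, hgu, rfl⟩, ?_⟩
    apply rigid16 (g • w).2 (by rw [co0_sqNorm, hn])
    · have := co0_dotInt g leechU w
      rw [hgu] at this
      rw [show ((leechU : leechLattice) : GolayPt → ℤ) = vecU from rfl] at this
      rw [this, hd]
    · have := co0_dotInt g ⟨y, hy⟩ w
      rw [hgy] at this
      rw [this]
      exact hyw
  obtain ⟨w1, hr1, j, hj, hj0, s, hs, hw1⟩ := hnf w hn hd
  obtain ⟨w2, hr2, j', hj', hj0', s', hs', hw2⟩ := hnf w' hn' hd'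
  exact hr1.trans ((urel_rigid16 hj hj0 hj' hj0' hs hs' w1 w2 hw1 hw2).trans hr2.symm)

/-- transport of a transitivity statement for the stabiliser of `u` to an arbitrary minimal
vector -/
theorem stab_trans_of_urel (d : ℤ)
    (H : ∀ w w' : leechLattice, sqNorm (w : GolayPt → ℤ) = 32 → sqNorm (w' : GolayPt → ℤ) = 32 →
      dotInt vecU (w : GolayPt → ℤ) = d → dotInt vecU (w' : GolayPt → ℤ) = d → URel w w')
    (v w w' : leechLattice) (hv : sqNorm (v : GolayPt → ℤ) = 32)
    (hw : sqNorm (w : GolayPt → ℤ) = 32) (hw' : sqNorm (w' : GolayPt → ℤ) = 32)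
    (hd : dotInt (v : GolayPt → ℤ) (w : GolayPt → ℤ) = d)
    (hd' : dotInt (v : GolayPt → ℤ) (w' : GolayPt → ℤ) = d) :
    ∃ g : Co0, g • v = v ∧ g • w = w' := by
  obtain ⟨g0, hg0⟩ := Cfsg.Agent.S0400.result v leechU hv sqNorm_vecU
  have e1 : dotInt vecU ((g0 • w : leechLattice) : GolayPt → ℤ) = d := by
    have := co0_dotInt g0 v w
    rw [hg0] at this
    rw [← hd, ← this]; rfl
  have e2 : dotInt vecU ((g0 • w' : leechLattice) : GolayPt → ℤ) = d := by
    have := co0_dotInt g0 v w'
    rw [hg0] at this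
    rw [← hd', ← this]; rfl
  obtain ⟨h, hu, hww⟩ := H (g0 • w) (g0 • w') (by rw [co0_sqNorm, hw]) (by rw [co0_sqNorm, hw'])
    e1 e2
  refine ⟨g0⁻¹ * h * g0, ?_, ?_⟩
  · rw [mul_smul, mul_smul, hg0, hu, ← hg0, inv_smul_smul]
  · rw [mul_smul, mul_smul, hww, inv_smul_smul]

/-! ### inner product `-8` -/

theorem exists_third_point : ∀ j : GolayPt, ∃ k : GolayPt, k ≠ none ∧ k ≠ some 0 ∧ k ≠ j := by
  decide

theorem val_of_sq_one' {a : ℤ} (h : a ^ 2 = 1) : a = 1 ∨ a = -1 := by
  have h' : (a - 1) * (a + 1) = 0 := by ring_nf; omega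
  rcases mul_eq_zero.1 h' with h' | h'
  · left; omega
  · right; omega

theorem val_of_sq_nine' {a : ℤ} (h : a ^ 2 = 9) : a = 3 ∨ a = -3 := by
  have h' : (a - 3) * (a + 3) = 0 := by ring_nf; omega
  rcases mul_eq_zero.1 h' with h' | h'
  · left; omega
  · right; omega

/-- for every minimal `w` with `u · w = -8` there is a minimal `y ⊥ u` with `y · w = -16` -/
theorem exists_orth8 {w : GolayPt → ℤ} (hw : w ∈ leechLattice) (hn : sqNorm w = 32)
    (hd : dotInt vecU w = -8) :
    ∃ y ∈ leechLattice, sqNorm y = 32 ∧ dotInt vecU y = 0 ∧ dotInt y w = -16 := by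
  classical
  rw [dotInt_vecU] at hd
  rcases min_shape hw hn with ⟨j, k, hjk, hj, hk, hother⟩ | ⟨hvals, hoct⟩ | ⟨hodd, j, hj9, hj1⟩
  · -- shape (±4, ±4, 0^22): impossible
    exfalso
    have hval : ∀ i, w i = 0 ∨ w i = 4 ∨ w i = -4 := by
      intro i
      by_cases hij : i = j
      · rw [hij]; exact Or.inr hj
      · by_cases hik : i = k
        · rw [hik]; exact Or.inr hk
        · exact Or.inl (hother i hij hik)
    rcases hval none with h | h | h <;> rcases hval (some 0) with h' | h' | h' <;> omega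
  · -- shape (±2^8, 0^16)
    obtain ⟨S, hSdef⟩ : ∃ S : Finset GolayPt, S = Finset.univ.filter fun i => w i % 4 = 2 :=
      ⟨_, rfl⟩
    rw [← hSdef] at hoct
    have hmemS : ∀ i, i ∈ S ↔ w i % 4 = 2 := by
      intro i; rw [hSdef, Finset.mem_filter]; simp
    have hcard : 1 < ((S.erase none).erase (some 0)).card := by
      have h1 := Finset.pred_card_le_card_erase (s := S) (a := none)
      have h2 := Finset.pred_card_le_card_erase (s := S.erase none) (a := some 0)
      rw [hoct.2] at h1
      omega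
    obtain ⟨p, hp, q, hq, hpq⟩ := Finset.one_lt_card.1 hcard
    have hp' : p ≠ some 0 ∧ p ≠ none ∧ w p % 4 = 2 := by
      rw [Finset.mem_erase, Finset.mem_erase, hmemS] at hp
      exact ⟨hp.1, hp.2.1, hp.2.2⟩
    have hq' : q ≠ some 0 ∧ q ≠ none ∧ w q % 4 = 2 := by
      rw [Finset.mem_erase, Finset.mem_erase, hmemS] at hq
      exact ⟨hq.1, hq.2.1, hq.2.2⟩
    have hwp : w p = 2 ∨ w p = -2 := by
      rcases hvals p with h | h | h
      · rw [h] at hp'; omega
      · exact Or.inl h
      · exact Or.inr h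
    have hwq : w q = 2 ∨ w q = -2 := by
      rcases hvals q with h | h | h
      · rw [h] at hq'; omega
      · exact Or.inl h
      · exact Or.inr h
    have hsp : -2 * w p = 4 ∨ -2 * w p = -4 := by rcases hwp with h | h <;> rw [h] <;> norm_num
    have hsq : -2 * w q = 4 ∨ -2 * w q = -4 := by rcases hwq with h | h <;> rw [h] <;> norm_num
    refine ⟨Pi.single p (-2 * w p) + Pi.single q (-2 * w q), pm4_pair_mem _ _ hsp hsq,
      sqNorm_pm4_pair hpq hsp hsq, ?_, ?_⟩
    · rw [dotInt_vecU]
      simp only [Pi.add_apply]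
      rw [Pi.single_eq_of_ne (Ne.symm hp'.2.1), Pi.single_eq_of_ne (Ne.symm hq'.2.1),
        Pi.single_eq_of_ne (Ne.symm hp'.1), Pi.single_eq_of_ne (Ne.symm hq'.1)]
      norm_num
    · rw [dotInt_pair_left]
      rcases hwp with h | h <;> rcases hwq with h' | h' <;> rw [h, h'] <;> norm_num
  · -- odd shape
    have hsq : ∀ i, w i ^ 2 = 1 ∨ w i ^ 2 = 9 := by
      intro i
      by_cases hij : i = j
      · rw [hij]; exact Or.inr hj9
      · exact Or.inl (hj1 i hij)
    have hv : ∀ i, w i = 1 ∨ w i = -1 ∨ w i = 3 ∨ w i = -3 := by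
      intro i
      rcases hsq i with h | h
      · rcases val_of_sq_one' h with h | h
        · exact Or.inl h
        · exact Or.inr (Or.inl h)
      · rcases val_of_sq_nine' h with h | h
        · exact Or.inr (Or.inr (Or.inl h))
        · exact Or.inr (Or.inr (Or.inr h))
    have hcases : (w none = -3 ∧ w (some 0) = 1) ∨ (w none = 1 ∧ w (some 0) = -3) ∨
        (w none = -1 ∧ w (some 0) = -1) := by
      rcases hv none with h | h | h | h <;> rcases hv (some 0) with h' | h' | h' | h' <;> omega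
    rcases hcases with ⟨h1, h2⟩ | ⟨h1, h2⟩ | ⟨h1, h2⟩
    · refine ⟨_, yU.2, sqNorm_yU, dotInt_vecU_yU, ?_⟩
      rw [dotInt_yU, h1, h2]; norm_num
    · refine ⟨Pi.single none (-4) + Pi.single (some 0) 4,
        pm4_pair_mem _ _ (Or.inr rfl) (Or.inl rfl),
        sqNorm_pm4_pair (by decide) (Or.inr rfl) (Or.inl rfl), ?_, ?_⟩
      · rw [dotInt_vecU]
        simp
      · rw [dotInt_pair_left, h1, h2]; norm_num
    · -- the coordinate `±3` is elsewhere
      have hjn : j ≠ none := by
        rintro rfl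
        rw [h1] at hj9; norm_num at hj9
      have hj0 : j ≠ some 0 := by
        rintro rfl
        rw [h2] at hj9; norm_num at hj9
      obtain ⟨k, hkn, hk0, hkj⟩ := exists_third_point j
      have hwj := val_of_sq_nine' hj9
      have hwk := val_of_sq_one' (hj1 k hkj)
      obtain ⟨sj, hsj, hsjw⟩ : ∃ sj : ℤ, (sj = 4 ∨ sj = -4) ∧ sj * w j = -12 := by
        rcases hwj with h | h
        · exact ⟨-4, Or.inr rfl, by rw [h]; norm_num⟩
        · exact ⟨4, Or.inl rfl, by rw [h]; norm_num⟩
      obtain ⟨sk, hsk, hskw⟩ : ∃ sk : ℤ, (sk = 4 ∨ sk = -4) ∧ sk * w k = -4 := by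
        rcases hwk with h | h
        · exact ⟨-4, Or.inr rfl, by rw [h]; norm_num⟩
        · exact ⟨4, Or.inl rfl, by rw [h]; norm_num⟩
      refine ⟨Pi.single j sj + Pi.single k sk, pm4_pair_mem _ _ hsj hsk,
        sqNorm_pm4_pair (Ne.symm hkj) hsj hsk, ?_, ?_⟩
      · rw [dotInt_vecU]
        simp only [Pi.add_apply]
        rw [Pi.single_eq_of_ne (Ne.symm hjn), Pi.single_eq_of_ne (Ne.symm hkn),
          Pi.single_eq_of_ne (Ne.symm hj0), Pi.single_eq_of_ne (Ne.symm hk0)]
        norm_num
      · rw [dotInt_pair_left, hsjw, hskw]; norm_num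

/-- a minimal vector with `w_∞ = -3` and `w_0 = 1` is equivalent to `(-3, 1^23)` under the
stabiliser of `u` -/
theorem urel_vOdd_of_rigid8 (w : leechLattice) (hn : sqNorm (w : GolayPt → ℤ) = 32)
    (h1 : (w : GolayPt → ℤ) none = -3) (h2 : (w : GolayPt → ℤ) (some 0) = 1) :
    URel w Cfsg.Agent.S0400.vOddL := by
  classical
  obtain ⟨x, hx⟩ := w
  simp only at hn h1 h2
  have hodd : ∀ i, x i % 2 = 1 := by
    obtain ⟨m, hm, -, -⟩ := (mem_leechLattice_iff _).1 hx
    intro j
    have a := hm none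
    have b := hm j
    simp only [Int.ModEq] at a b
    rw [h1] at a
    omega
  obtain ⟨j, hj9, hj1⟩ := Cfsg.Agent.S0400.odd_shape hodd hn
  have hjn : j = none := by
    by_contra hne
    have := hj1 none (Ne.symm hne)
    rw [h1] at this; norm_num at this
  subst hjn
  obtain ⟨m, -, -, h3⟩ := (mem_leechLattice_iff _).1 hx
  obtain ⟨C, hCdef⟩ : ∃ C : Finset GolayPt, C = Finset.univ.filter fun i => x i ≡ 3 [ZMOD 4] :=
    ⟨_, rfl⟩
  have hCs : C ∈ supports (golayCode : Set (GolayPt → ZMod 2)) := by rw [hCdef]; exact h3 3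
  have hmemC : ∀ j, j ∈ C ↔ x j % 4 = 3 := by
    intro j
    rw [hCdef, Finset.mem_filter]
    simp [Int.ModEq]
  have hCn : none ∉ C := by rw [hmemC, h1]; decide
  have hC0 : some 0 ∉ C := by rw [hmemC, h2]; decide
  refine ⟨⟨signPerm C hCs, signPerm_mem C hCs⟩, ?_, ?_⟩
  · apply Subtype.ext
    show signFun C vecU = vecU
    funext i
    unfold signFun
    by_cases hi : i ∈ C
    · rw [if_pos hi]
      have a : i ≠ none := fun h => hCn (h ▸ hi)
      have b : i ≠ some 0 := fun h => hC0 (h ▸ hi)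
      simp [vecU, a, b]
    · rw [if_neg hi]
  · apply Subtype.ext
    show signFun C x = vOdd
    funext i
    unfold signFun vOdd
    by_cases hin : i = none
    · subst hin
      rw [if_neg hCn, if_pos rfl, h1]
    · rw [if_neg hin]
      have hv := val_of_sq_one' (hj1 i hin)
      by_cases hi : i ∈ C
      · rw [if_pos hi]
        have := (hmemC i).1 hi
        rcases hv with h | h
        · rw [h] at this; omega
        · rw [h]; norm_num
      · rw [if_neg hi]
        have : ¬ x i % 4 = 3 := fun h => hi ((hmemC i).2 h)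
        rcases hv with h | h
        · exact h
        · rw [h] at this; omega

/-- the stabiliser of `u = (4,4,0^22)` is transitive on the minimal vectors `w` with
`u · w = -8` -/
theorem urel_of_dot8 (w w' : leechLattice) (hn : sqNorm (w : GolayPt → ℤ) = 32)
    (hn' : sqNorm (w' : GolayPt → ℤ) = 32) (hd : dotInt vecU (w : GolayPt → ℤ) = -8)
    (hd' : dotInt vecU (w' : GolayPt → ℤ) = -8) : URel w w' := by
  have hnf : ∀ w : leechLattice, sqNorm (w : GolayPt → ℤ) = 32 →
      dotInt vecU (w : GolayPt → ℤ) = -8 → URel w Cfsg.Agent.S0400.vOddL := by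
    intro w hn hd
    obtain ⟨y, hy, hyn, hyu, hyw⟩ := exists_orth8 w.2 hn hd
    obtain ⟨g, hgu, hgy⟩ := exists_move_yU ⟨y, hy⟩ hyn hyu
    have e1 : dotInt vecU ((g • w : leechLattice) : GolayPt → ℤ) = -8 := by
      have := co0_dotInt g leechU w
      rw [hgu] at this
      rw [show ((leechU : leechLattice) : GolayPt → ℤ) = vecU from rfl] at this
      rw [this, hd]
    have e2 : dotInt (yU : GolayPt → ℤ) ((g • w : leechLattice) : GolayPt → ℤ) = -16 := by
      have := co0_dotInt g ⟨y, hy⟩ w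
      rw [hgy] at this
      rw [this]
      exact hyw
    rw [dotInt_vecU] at e1
    rw [dotInt_yU] at e2
    have r : URel w (g • w) := ⟨g, hgu, rfl⟩
    exact r.trans (urel_vOdd_of_rigid8 (g • w) (by rw [co0_sqNorm, hn]) (by omega) (by omega))
  exact (hnf w hn hd).trans (hnf w' hn' hd').symm

end Cfsg.Agent.Lib.Helper8
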