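import Mathlib
import Cfsg.Agent.Lib.Helper8.Co2Orbits
import Cfsg.Agent.Lib.Helper8.LeechMod2
import Cfsg.Agent.S0394
import Cfsg.Agent.S0395
import Cfsg.Agent.S0396
import Cfsg.Agent.S0401

/-!
# Census of minimal vectors by inner product with a fixed minimal vector

`normF n`: the finset of lattice vectors of squared norm `n ≤ 64`.  Second moment identity
`∑_{w minimal} (v · w)^2 = 262080 |v|^2`, the double count of orthogonal pairs through vectors of
squared norm 64, and the resulting census `4600, 47104, 93150`.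
-/

set_option autoImplicit false

namespace Cfsg.Agent.Lib.Helper8
open Cfsg Cfsg.Agent.Lib.Helper7

/-- the lattice vectors of squared norm `n` (for `n ≤ 64`) -/
noncomputable def normF (n : ℤ) : Finset (GolayPt → ℤ) := by
  classical exact shortF.filter fun y => sqNorm y = n

theorem mem_normF {n : ℤ} (hn : n ≤ 64) {x : GolayPt → ℤ} :
    x ∈ normF n ↔ x ∈ leechLattice ∧ sqNorm x = n := by
  classical
  unfold normF
  rw [Finset.mem_filter, mem_shortF]
  constructor
  · rintro ⟨⟨h1, _⟩, h2⟩; exact ⟨h1, h2⟩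
  · rintro ⟨h1, h2⟩; exact ⟨⟨h1, by omega⟩, h2⟩

theorem card_normF {n : ℤ} (hn : n ≤ 64) :
    (normF n).card = {x : GolayPt → ℤ | x ∈ leechLattice ∧ sqNorm x = n}.ncard := by
  classical
  unfold normF
  exact card_shortF_filter n hn

theorem card_normF_32 : (normF 32).card = 196560 := by
  rw [card_normF (by norm_num)]; exact Cfsg.Agent.S0394.result

theorem card_normF_48 : (normF 48).card = 16773120 := by
  rw [card_normF (by norm_num)]; exact Cfsg.Agent.S0395.result

theorem card_normF_64 : (normF 64).card = 398034000 := by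
  rw [card_normF (by norm_num)]; exact Cfsg.Agent.S0396.result

theorem signFun_mem_normF {n : ℤ} (hn : n ≤ 64) (C : Finset GolayPt)
    (hC : C ∈ supports (golayCode : Set (GolayPt → ZMod 2))) {w : GolayPt → ℤ}
    (hw : w ∈ normF n) : signFun C w ∈ normF n := by
  rw [mem_normF hn] at hw ⊢
  exact ⟨Cfsg.Agent.S0433.result C hC w hw.1, by rw [sqNorm_signFun, hw.2]⟩

theorem coordFun_mem_normF {n : ℤ} (hn : n ≤ 64) (σ : Equiv.Perm GolayPt) (hσ : σ ∈ M24)
    {w : GolayPt → ℤ} (hw : w ∈ normF n) : coordFun σ w ∈ normF n := by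
  rw [mem_normF hn] at hw ⊢
  exact ⟨Cfsg.Agent.S0432.result σ hσ w hw.1, by rw [sqNorm_coordFun, hw.2]⟩

/-- mixed second moments of the minimal vectors vanish -/
theorem sum_coord_mul {i j : GolayPt} (hij : i ≠ j) : ∑ w ∈ normF 32, w i * w j = 0 := by
  obtain ⟨C, hC, hi, hj⟩ := exists_separating i j hij
  have h : ∑ w ∈ normF 32, w i * w j = ∑ w ∈ normF 32, -(w i * w j) := by
    refine Finset.sum_nbij' (signFun C) (signFun C)
      (fun w hw => signFun_mem_normF (by norm_num) C hC hw)
      (fun w hw => signFun_mem_normF (by norm_num) C hC hw)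
      (fun w _ => signFun_signFun C w) (fun w _ => signFun_signFun C w) ?_
    intro w _
    simp only [signFun, if_pos hi, if_neg hj]
    ring
  rw [Finset.sum_neg_distrib] at h
  omega

theorem sum_coord_sq_eq (i j : GolayPt) :
    ∑ w ∈ normF 32, w i ^ 2 = ∑ w ∈ normF 32, w j ^ 2 := by
  obtain ⟨σ, hσM, hσ⟩ := exists_M24_map_emb (k := 1) (by norm_num)
    ⟨![i], fun a b _ => Subsingleton.elim a b⟩ ⟨![j], fun a b _ => Subsingleton.elim a b⟩
  have hσ0 : σ i = j := hσ 0
  refine Finset.sum_nbij' (coordFun σ⁻¹) (coordFun σ)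
    (fun w hw => coordFun_mem_normF (by norm_num) σ⁻¹ (M24.inv_mem hσM) hw)
    (fun w hw => coordFun_mem_normF (by norm_num) σ hσM hw) ?_ ?_ ?_
  · intro w _
    funext k
    simp [coordFun]
  · intro w _
    funext k
    simp [coordFun]
  · intro w _
    simp only [coordFun]
    rw [← hσ0]
    simp

/-- diagonal second moments of the minimal vectors -/
theorem sum_coord_sq (i : GolayPt) : ∑ w ∈ normF 32, w i ^ 2 = 262080 := by
  have h1 : ∑ k : GolayPt, ∑ w ∈ normF 32, w k ^ 2 = ∑ w ∈ normF 32, sqNorm w := by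
    rw [Finset.sum_comm]
    rfl
  have h2 : ∑ w ∈ normF 32, sqNorm w = ∑ _w ∈ normF 32, (32 : ℤ) :=
    Finset.sum_congr rfl fun w hw => ((mem_normF (by norm_num)).1 hw).2
  rw [h2, Finset.sum_const, card_normF_32] at h1
  have h3 : ∑ k : GolayPt, ∑ w ∈ normF 32, w k ^ 2 = ∑ _k : GolayPt, ∑ w ∈ normF 32, w i ^ 2 :=
    Finset.sum_congr rfl fun k _ => sum_coord_sq_eq k i
  rw [h3, Finset.sum_const, card_univ_golayPt] at h1
  simp only [nsmul_eq_mul] at h1
  push_cast at h1
  omega

/-- the second moment identity for the minimal vectors -/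
theorem second_moment (v : GolayPt → ℤ) :
    ∑ w ∈ normF 32, dotInt v w ^ 2 = 262080 * sqNorm v := by
  classical
  have h1 : ∀ w : GolayPt → ℤ, dotInt v w ^ 2 = ∑ i, ∑ j, v i * v j * (w i * w j) := by
    intro w
    unfold dotInt
    rw [sq, Finset.sum_mul_sum]
    refine Finset.sum_congr rfl fun i _ => Finset.sum_congr rfl fun j _ => by ring
  rw [Finset.sum_congr rfl fun w _ => h1 w, Finset.sum_comm]
  have h2 : ∀ i, ∑ w ∈ normF 32, ∑ j, v i * v j * (w i * w j) = v i ^ 2 * 262080 := by
    intro i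
    rw [Finset.sum_comm]
    rw [Finset.sum_eq_single i]
    · rw [← Finset.mul_sum]
      have : ∑ w ∈ normF 32, w i * w i = ∑ w ∈ normF 32, w i ^ 2 :=
        Finset.sum_congr rfl fun w _ => by ring
      rw [this, sum_coord_sq]; ring
    · intro j _ hji
      rw [← Finset.mul_sum, sum_coord_mul (Ne.symm hji), mul_zero]
    · intro h; exact absurd (Finset.mem_univ i) h
  rw [Finset.sum_congr rfl fun i _ => h2 i, ← Finset.sum_mul]
  unfold sqNorm
  ring

theorem dot_dvd8 {y z : GolayPt → ℤ} (hy : y ∈ leechLattice) (hz : z ∈ leechLattice) :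
    (8 : ℤ) ∣ dotInt y z := by
  have h1 := sqNorm_dvd_of_mem_leechLattice (leechLattice.add_mem hy hz)
  have h2 := sqNorm_dvd_of_mem_leechLattice hy
  have h3 := sqNorm_dvd_of_mem_leechLattice hz
  rw [sqNorm_add'] at h1
  omega

/-- possible inner products of two minimal vectors -/
theorem dot_values {v w : GolayPt → ℤ} (hv : v ∈ leechLattice) (hvn : sqNorm v = 32)
    (hw : w ∈ leechLattice) (hwn : sqNorm w = 32) :
    (dotInt v w = -32 ∧ w = -v) ∨ dotInt v w = -16 ∨ dotInt v w = -8 ∨ dotInt v w = 0 ∨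
      dotInt v w = 8 ∨ dotInt v w = 16 ∨ (dotInt v w = 32 ∧ w = v) := by
  obtain ⟨k, hk⟩ := dot_dvd8 hv hw
  have h1 := sqNorm_sub' v w
  have h2 := sqNorm_add' v w
  rw [hvn, hwn] at h1 h2
  by_cases e1 : v - w = 0
  · have : w = v := (sub_eq_zero.1 e1).symm
    right; right; right; right; right; right
    refine ⟨?_, this⟩
    rw [e1] at h1
    have : sqNorm (0 : GolayPt → ℤ) = 0 := (sqNorm_eq_zero_iff _).2 rfl
    omega
  · by_cases e2 : v + w = 0
    · have : w = -v := by
        have := eq_neg_of_add_eq_zero_left e2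
        rw [this, neg_neg]
      left
      refine ⟨?_, this⟩
      rw [e2] at h2
      have : sqNorm (0 : GolayPt → ℤ) = 0 := (sqNorm_eq_zero_iff _).2 rfl
      omega
    · have g1 := sqNorm_ge_of_mem_leechLattice (leechLattice.sub_mem hv hw) e1
      have g2 := sqNorm_ge_of_mem_leechLattice (leechLattice.add_mem hv hw) e2
      have : -2 ≤ k ∧ k ≤ 2 := by constructor <;> omega
      obtain ⟨a, b⟩ := this
      interval_cases k <;> omega

/-- the minimal vectors with a given inner product with `v` -/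
noncomputable def XF (v : GolayPt → ℤ) (d : ℤ) : Finset (GolayPt → ℤ) :=
  (normF 32).filter fun w => dotInt v w = d

theorem mem_XF {v w : GolayPt → ℤ} {d : ℤ} :
    w ∈ XF v d ↔ (w ∈ leechLattice ∧ sqNorm w = 32) ∧ dotInt v w = d := by
  unfold XF
  rw [Finset.mem_filter, mem_normF (by norm_num)]

theorem ncard_eq_card_XF (v : GolayPt → ℤ) (d : ℤ) :
    {w : GolayPt → ℤ | w ∈ leechLattice ∧ sqNorm w = 32 ∧ dotInt v w = d}.ncard = (XF v d).card := by
  rw [← Set.ncard_coe_finset]
  congr 1
  ext w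
  rw [Finset.mem_coe, mem_XF]
  constructor
  · rintro ⟨a, b, c⟩; exact ⟨⟨a, b⟩, c⟩
  · rintro ⟨⟨a, b⟩, c⟩; exact ⟨a, b, c⟩

theorem dotInt_neg_right (v w : GolayPt → ℤ) : dotInt v (-w) = - dotInt v w := by
  unfold dotInt
  rw [← Finset.sum_neg_distrib]
  exact Finset.sum_congr rfl fun i _ => by simp only [Pi.neg_apply]; ring

theorem card_XF_neg (v : GolayPt → ℤ) (d : ℤ) : (XF v (-d)).card = (XF v d).card := by
  refine Finset.card_nbij' (fun w => -w) (fun w => -w) ?_ ?_ (fun w _ => neg_neg w)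
    (fun w _ => neg_neg w)
  · intro w hw
    rw [Finset.mem_coe, mem_XF] at hw ⊢
    exact ⟨⟨leechLattice.neg_mem hw.1.1, by rw [sqNorm_neg', hw.1.2]⟩,
      by rw [dotInt_neg_right, hw.2, neg_neg]⟩
  · intro w hw
    rw [Finset.mem_coe, mem_XF] at hw ⊢
    exact ⟨⟨leechLattice.neg_mem hw.1.1, by rw [sqNorm_neg', hw.1.2]⟩,
      by rw [dotInt_neg_right, hw.2]⟩

theorem XF_32 {v : GolayPt → ℤ} (hv : v ∈ leechLattice) (hvn : sqNorm v = 32) :
    XF v 32 = {v} := by
  ext w
  rw [mem_XF, Finset.mem_singleton]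
  constructor
  · rintro ⟨⟨hw, hwn⟩, hd⟩
    rcases dot_values hv hvn hw hwn with h | h | h | h | h | h | h
    · omega
    · omega
    · omega
    · omega
    · omega
    · omega
    · exact h.2
  · rintro rfl
    exact ⟨⟨hv, hvn⟩, by rw [← sqNorm_eq_dotInt, hvn]⟩

theorem card_XF_32 {v : GolayPt → ℤ} (hv : v ∈ leechLattice) (hvn : sqNorm v = 32) :
    (XF v 32).card = 1 := by
  rw [XF_32 hv hvn, Finset.card_singleton]

/-- the values of the inner product -/
def dotVals : Finset ℤ := {-32, -16, -8, 0, 8, 16, 32}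

theorem dot_mem_dotVals {v w : GolayPt → ℤ} (hv : v ∈ leechLattice) (hvn : sqNorm v = 32)
    (hw : w ∈ normF 32) : dotInt v w ∈ dotVals := by
  rw [mem_normF (by norm_num)] at hw
  unfold dotVals
  simp only [Finset.mem_insert, Finset.mem_singleton]
  rcases dot_values hv hvn hw.1 hw.2 with h | h | h | h | h | h | h
  · left; exact h.1
  · right; left; exact h
  · right; right; left; exact h
  · right; right; right; left; exact h
  · right; right; right; right; left; exact h
  · right; right; right; right; right; left; exact h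
  · right; right; right; right; right; right; exact h.1

theorem sum_dotVals (f : ℤ → ℤ) :
    ∑ d ∈ dotVals, f d = f (-32) + f (-16) + f (-8) + f 0 + f 8 + f 16 + f 32 := by
  unfold dotVals
  rw [Finset.sum_insert (by decide), Finset.sum_insert (by decide), Finset.sum_insert (by decide),
    Finset.sum_insert (by decide), Finset.sum_insert (by decide), Finset.sum_insert (by decide),
    Finset.sum_singleton]
  ring

/-- first relation: the total number of minimal vectors -/
theorem census_total {v : GolayPt → ℤ} (hv : v ∈ leechLattice) (hvn : sqNorm v = 32) :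
    ((XF v (-32)).card + (XF v (-16)).card + (XF v (-8)).card + (XF v 0).card + (XF v 8).card
      + (XF v 16).card + (XF v 32).card : ℤ) = 196560 := by
  have h := Finset.card_eq_sum_card_fiberwise (s := normF 32) (t := dotVals) (f := dotInt v)
    (fun w hw => dot_mem_dotVals hv hvn hw)
  rw [card_normF_32] at h
  have h' : (196560 : ℤ) = ∑ d ∈ dotVals, ((XF v d).card : ℤ) := by
    have := congrArg (fun n : ℕ => (n : ℤ)) h
    simp only [Nat.cast_sum] at this
    exact_mod_cast this
  rw [sum_dotVals] at h'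
  linarith

/-- second relation: the second moment -/
theorem census_moment {v : GolayPt → ℤ} (hv : v ∈ leechLattice) (hvn : sqNorm v = 32) :
    (1024 * (XF v (-32)).card + 256 * (XF v (-16)).card + 64 * (XF v (-8)).card
      + 64 * (XF v 8).card + 256 * (XF v 16).card + 1024 * (XF v 32).card : ℤ) = 8386560 := by
  have h := Finset.sum_fiberwise_of_maps_to (s := normF 32) (t := dotVals) (g := dotInt v)
    (fun w hw => dot_mem_dotVals hv hvn hw) (fun w => dotInt v w ^ 2)
  rw [second_moment, hvn] at h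
  have h2 : ∀ d ∈ dotVals, ∑ w ∈ normF 32 with dotInt v w = d, dotInt v w ^ 2
      = d ^ 2 * ((XF v d).card : ℤ) := by
    intro d _
    rw [Finset.sum_congr rfl (g := fun _ => d ^ 2)]
    · rw [Finset.sum_const]
      unfold XF
      simp only [nsmul_eq_mul]
      ring
    · intro w hw
      rw [(Finset.mem_filter.1 hw).2]
  rw [Finset.sum_congr rfl h2, sum_dotVals] at h
  linarith

/-! ### the number of minimal vectors orthogonal to a minimal vector -/

/-- transport of `XF` by an automorphism -/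
theorem card_XF_smul (g : Co0) (v : leechLattice) (d : ℤ) :
    (XF ((g • v : leechLattice) : GolayPt → ℤ) d).card = (XF (v : GolayPt → ℤ) d).card := by
  symm
  refine Finset.card_bij (fun w hw => ((g • (⟨w, (mem_XF.1 hw).1.1⟩ : leechLattice) : leechLattice) :
    GolayPt → ℤ)) ?_ ?_ ?_
  · intro w hw
    have h := mem_XF.1 hw
    rw [mem_XF]
    refine ⟨⟨(g • (⟨w, h.1.1⟩ : leechLattice)).2, by rw [co0_sqNorm]; exact h.1.2⟩, ?_⟩
    rw [co0_dotInt]
    exact h.2
  · intro w1 hw1 w2 hw2 h12
    have := Subtype.ext h12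
    have := (MulAction.injective g) this
    exact congrArg Subtype.val this
  · intro w hw
    have h := mem_XF.1 hw
    refine ⟨((g⁻¹ • (⟨w, h.1.1⟩ : leechLattice) : leechLattice) : GolayPt → ℤ), ?_, ?_⟩
    · rw [mem_XF]
      refine ⟨⟨(g⁻¹ • (⟨w, h.1.1⟩ : leechLattice)).2, by rw [co0_sqNorm]; exact h.1.2⟩, ?_⟩
      have := co0_dotInt g v (g⁻¹ • (⟨w, h.1.1⟩ : leechLattice))
      rw [smul_inv_smul] at this
      rw [← this]
      exact h.2
    · show ((g • (⟨_, _⟩ : leechLattice) : leechLattice) : GolayPt → ℤ) = w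
      have : (⟨((g⁻¹ • (⟨w, h.1.1⟩ : leechLattice) : leechLattice) : GolayPt → ℤ),
          (g⁻¹ • (⟨w, h.1.1⟩ : leechLattice)).2⟩ : leechLattice)
          = g⁻¹ • (⟨w, h.1.1⟩ : leechLattice) := rfl
      rw [this, smul_inv_smul]

/-- `XF v d` has the same size for all minimal `v` -/
theorem card_XF_const {v v' : GolayPt → ℤ} (hv : v ∈ leechLattice) (hvn : sqNorm v = 32)
    (hv' : v' ∈ leechLattice) (hvn' : sqNorm v' = 32) (d : ℤ) :
    (XF v d).card = (XF v' d).card := by
  obtain ⟨g, hg⟩ := Cfsg.Agent.S0400.result ⟨v', hv'⟩ ⟨v, hv⟩ hvn' hvn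
  have := card_XF_smul g ⟨v', hv'⟩ d
  rw [hg] at this
  exact this

/-- ordered pairs of orthogonal minimal vectors -/
noncomputable def orthPairs : Finset ((GolayPt → ℤ) × (GolayPt → ℤ)) :=
  ((normF 32) ×ˢ (normF 32)).filter fun p => dotInt p.1 p.2 = 0

theorem mem_orthPairs {p : (GolayPt → ℤ) × (GolayPt → ℤ)} :
    p ∈ orthPairs ↔ (p.1 ∈ leechLattice ∧ sqNorm p.1 = 32) ∧
      (p.2 ∈ leechLattice ∧ sqNorm p.2 = 32) ∧ dotInt p.1 p.2 = 0 := by
  unfold orthPairs
  rw [Finset.mem_filter, Finset.mem_product, mem_normF (by norm_num), mem_normF (by norm_num)]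
  tauto

theorem card_orthPairs_eq_sum : orthPairs.card = ∑ a ∈ normF 32, (XF a 0).card := by
  unfold orthPairs XF
  rw [Finset.card_filter, Finset.sum_product]
  refine Finset.sum_congr rfl fun a _ => ?_
  rw [Finset.card_filter]

theorem card_orthPairs_first {v : GolayPt → ℤ} (hv : v ∈ leechLattice) (hvn : sqNorm v = 32) :
    orthPairs.card = 196560 * (XF v 0).card := by
  rw [card_orthPairs_eq_sum, Finset.sum_congr rfl (g := fun _ => (XF v 0).card)]
  · rw [Finset.sum_const, card_normF_32, smul_eq_mul]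
  · intro a ha
    rw [mem_normF (by norm_num)] at ha
    exact card_XF_const ha.1 ha.2 hv hvn 0

/-- the orthogonal pairs with a given sum -/
noncomputable def orthFib (t : GolayPt → ℤ) : Finset ((GolayPt → ℤ) × (GolayPt → ℤ)) :=
  orthPairs.filter fun p => p.1 + p.2 = t

theorem mem_orthFib {t : GolayPt → ℤ} {p : (GolayPt → ℤ) × (GolayPt → ℤ)} :
    p ∈ orthFib t ↔ p ∈ orthPairs ∧ p.1 + p.2 = t := by
  unfold orthFib
  rw [Finset.mem_filter]

theorem card_orthPairs_eq_sum_fib : orthPairs.card = ∑ t ∈ normF 64, (orthFib t).card := by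
  unfold orthFib
  refine Finset.card_eq_sum_card_fiberwise fun p hp => ?_
  rw [Finset.mem_coe, mem_orthPairs] at hp
  rw [Finset.mem_coe, mem_normF (by norm_num)]
  refine ⟨leechLattice.add_mem hp.1.1 hp.2.1.1, ?_⟩
  rw [sqNorm_add', hp.1.2, hp.2.1.2, hp.2.2]
  norm_num

/-- transport of the fibres by an automorphism -/
theorem card_orthFib_smul (g : Co0) (t : leechLattice) :
    (orthFib ((g • t : leechLattice) : GolayPt → ℤ)).card = (orthFib (t : GolayPt → ℤ)).card := by
  symm
  refine Finset.card_bij (fun p hp =>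
    (((g • (⟨p.1, ((mem_orthPairs.1 (mem_orthFib.1 hp).1).1).1⟩ : leechLattice) : leechLattice) :
      GolayPt → ℤ),
     ((g • (⟨p.2, ((mem_orthPairs.1 (mem_orthFib.1 hp).1).2.1).1⟩ : leechLattice) : leechLattice) :
      GolayPt → ℤ))) ?_ ?_ ?_
  · intro p hp
    have h := mem_orthPairs.1 (mem_orthFib.1 hp).1
    have hs := (mem_orthFib.1 hp).2
    rw [mem_orthFib, mem_orthPairs]
    refine ⟨⟨⟨Subtype.property _, by rw [co0_sqNorm]; exact h.1.2⟩,
      ⟨Subtype.property _, by rw [co0_sqNorm]; exact h.2.1.2⟩, by rw [co0_dotInt]; exact h.2.2⟩, ?_⟩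
    show ((g • (⟨p.1, h.1.1⟩ : leechLattice) : leechLattice) : GolayPt → ℤ)
      + ((g • (⟨p.2, h.2.1.1⟩ : leechLattice) : leechLattice) : GolayPt → ℤ) = _
    rw [← AddSubgroup.coe_add, ← co0_smul_add]
    congr 2
    exact Subtype.ext hs
  · intro p hp q hq hpq
    have h1 := congrArg Prod.fst hpq
    have h2 := congrArg Prod.snd hpq
    simp only at h1 h2
    have e1 := congrArg Subtype.val ((MulAction.injective g) (Subtype.ext h1))
    have e2 := congrArg Subtype.val ((MulAction.injective g) (Subtype.ext h2))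
    exact Prod.ext e1 e2
  · intro q hq
    have h := mem_orthPairs.1 (mem_orthFib.1 hq).1
    have hs := (mem_orthFib.1 hq).2
    have hmem : (((g⁻¹ • (⟨q.1, h.1.1⟩ : leechLattice) : leechLattice) : GolayPt → ℤ),
        ((g⁻¹ • (⟨q.2, h.2.1.1⟩ : leechLattice) : leechLattice) : GolayPt → ℤ))
        ∈ orthFib (t : GolayPt → ℤ) := by
      rw [mem_orthFib, mem_orthPairs]
      refine ⟨⟨⟨Subtype.property _, by rw [co0_sqNorm]; exact h.1.2⟩,
        ⟨Subtype.property _, by rw [co0_sqNorm]; exact h.2.1.2⟩,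
        by rw [co0_dotInt]; exact h.2.2⟩, ?_⟩
      show ((g⁻¹ • (⟨q.1, h.1.1⟩ : leechLattice) : leechLattice) : GolayPt → ℤ)
        + ((g⁻¹ • (⟨q.2, h.2.1.1⟩ : leechLattice) : leechLattice) : GolayPt → ℤ) = _
      rw [← AddSubgroup.coe_add, ← co0_smul_add]
      have : (⟨q.1, h.1.1⟩ : leechLattice) + ⟨q.2, h.2.1.1⟩ = g • t := Subtype.ext hs
      rw [this, inv_smul_smul]
    refine ⟨_, hmem, ?_⟩
    apply Prod.ext
    · show ((g • (⟨((g⁻¹ • (⟨q.1, h.1.1⟩ : leechLattice) : leechLattice) : GolayPt → ℤ), _⟩ :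
        leechLattice) : leechLattice) : GolayPt → ℤ) = q.1
      have : (⟨((g⁻¹ • (⟨q.1, h.1.1⟩ : leechLattice) : leechLattice) : GolayPt → ℤ),
          (g⁻¹ • (⟨q.1, h.1.1⟩ : leechLattice)).2⟩ : leechLattice)
          = g⁻¹ • (⟨q.1, h.1.1⟩ : leechLattice) := rfl
      rw [this, smul_inv_smul]
    · show ((g • (⟨((g⁻¹ • (⟨q.2, h.2.1.1⟩ : leechLattice) : leechLattice) : GolayPt → ℤ), _⟩ :
        leechLattice) : leechLattice) : GolayPt → ℤ) = q.2
      have : (⟨((g⁻¹ • (⟨q.2, h.2.1.1⟩ : leechLattice) : leechLattice) : GolayPt → ℤ),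
          (g⁻¹ • (⟨q.2, h.2.1.1⟩ : leechLattice)).2⟩ : leechLattice)
          = g⁻¹ • (⟨q.2, h.2.1.1⟩ : leechLattice) := rfl
      rw [this, smul_inv_smul]

/-- the decompositions of `8 e_∞` -/
def halfPair (q : GolayPt × Bool) : (GolayPt → ℤ) × (GolayPt → ℤ) :=
  (Pi.single none 4 + Pi.single q.1 (if q.2 then 4 else -4),
   Pi.single none 4 + Pi.single q.1 (-(if q.2 then 4 else -4)))

theorem halfPair_injOn : Set.InjOn halfPair
    (↑(((Finset.univ : Finset GolayPt).erase none) ×ˢ (Finset.univ : Finset Bool)) :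
      Set (GolayPt × Bool)) := by
  rintro ⟨j, b⟩ hj ⟨j', b'⟩ hj' h
  rw [Finset.mem_coe, Finset.mem_product, Finset.mem_erase] at hj hj'
  have h1 := congrFun (congrArg Prod.fst h) j
  simp only [halfPair, Pi.add_apply, Pi.single_eq_same, Pi.single_eq_of_ne hj.1.1] at h1
  have hjj : j = j' := by
    by_contra hne
    rw [Pi.single_eq_of_ne hne] at h1
    cases b <;> simp at h1
  subst hjj
  rw [Pi.single_eq_same] at h1
  have : b = b' := by
    cases b <;> cases b' <;> simp at h1 ⊢
  rw [this]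

theorem orthFib_e8 : orthFib (e8 none) =
    ((((Finset.univ : Finset GolayPt).erase none) ×ˢ (Finset.univ : Finset Bool))).image halfPair := by
  classical
  ext p
  rw [mem_orthFib, mem_orthPairs, Finset.mem_image]
  constructor
  · rintro ⟨⟨⟨h1, h1n⟩, ⟨_, h2n⟩, _⟩, hs⟩
    obtain ⟨j, hj, s, hs', e1, e2⟩ := halves_of_e8 h1 h1n h2n hs
    rcases hs' with rfl | rfl
    · refine ⟨(j, true), ?_, ?_⟩
      · rw [Finset.mem_product, Finset.mem_erase]
        exact ⟨⟨hj, Finset.mem_univ _⟩, Finset.mem_univ _⟩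
      · apply Prod.ext
        · simp only [halfPair, if_true]; exact e1.symm
        · simp only [halfPair, if_true]; exact e2.symm
    · refine ⟨(j, false), ?_, ?_⟩
      · rw [Finset.mem_product, Finset.mem_erase]
        exact ⟨⟨hj, Finset.mem_univ _⟩, Finset.mem_univ _⟩
      · apply Prod.ext
        · simp only [halfPair]; exact e1.symm
        · simp only [halfPair]; exact e2.symm
  · rintro ⟨⟨j, b⟩, hjb, rfl⟩
    rw [Finset.mem_product, Finset.mem_erase] at hjb
    have hj : j ≠ none := hjb.1.1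
    have hs : (if b then (4 : ℤ) else -4) = 4 ∨ (if b then (4 : ℤ) else -4) = -4 := by
      cases b <;> simp
    have hs' : -(if b then (4 : ℤ) else -4) = 4 ∨ -(if b then (4 : ℤ) else -4) = -4 := by
      cases b <;> simp
    refine ⟨⟨⟨pm4_pair_mem _ _ (Or.inl rfl) hs, sqNorm_pm4_pair (Ne.symm hj) (Or.inl rfl) hs⟩,
      ⟨pm4_pair_mem _ _ (Or.inl rfl) hs', sqNorm_pm4_pair (Ne.symm hj) (Or.inl rfl) hs'⟩, ?_⟩, ?_⟩
    · simp only [halfPair]
      rw [dotInt_pair_left]
      simp only [Pi.add_apply, Pi.single_eq_same, Pi.single_eq_of_ne hj,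
        Pi.single_eq_of_ne (Ne.symm hj)]
      cases b <;> norm_num
    · simp only [halfPair]
      rw [e8_eq_single]
      funext k
      simp only [Pi.add_apply, Pi.single_apply]
      split_ifs <;> ring

theorem card_orthFib_e8 : (orthFib (e8 none)).card = 46 := by
  classical
  rw [orthFib_e8, Finset.card_image_of_injOn halfPair_injOn, Finset.card_product,
    Finset.card_erase_of_mem (Finset.mem_univ _), card_univ_golayPt]
  rfl

theorem card_orthFib {t : GolayPt → ℤ} (ht : t ∈ normF 64) : (orthFib t).card = 46 := by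
  rw [mem_normF (by norm_num)] at ht
  obtain ⟨g, hg⟩ := (Cfsg.Agent.S5593.rel_a0 ⟨t, ht.1⟩ ht.2).trans
    (Cfsg.Agent.S5593.rel_a0 (b8 none) (sqNorm_e8 none)).symm
  have := card_orthFib_smul g ⟨t, ht.1⟩
  rw [hg] at this
  rw [← this]
  exact card_orthFib_e8

/-- the number of minimal vectors orthogonal to a minimal vector -/
theorem card_XF_zero {v : GolayPt → ℤ} (hv : v ∈ leechLattice) (hvn : sqNorm v = 32) :
    (XF v 0).card = 93150 := by
  have h1 := card_orthPairs_first hv hvn
  have h2 := card_orthPairs_eq_sum_fib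
  rw [Finset.sum_congr rfl fun t ht => card_orthFib ht, Finset.sum_const, card_normF_64,
    smul_eq_mul] at h2
  rw [h2] at h1
  omega

/-- **Census of the minimal vectors by inner product with a minimal vector.** -/
theorem census {v : GolayPt → ℤ} (hv : v ∈ leechLattice) (hvn : sqNorm v = 32) :
    (XF v (-16)).card = 4600 ∧ (XF v (-8)).card = 47104 ∧ (XF v 0).card = 93150 := by
  have h0 := card_XF_zero hv hvn
  have h1 := census_total hv hvn
  have h2 := census_moment hv hvn
  have e32 := card_XF_32 hv hvn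
  have e32' := card_XF_neg v 32
  have e16 := card_XF_neg v 16
  have e8 := card_XF_neg v 8
  rw [e32] at e32'
  rw [e32, e32', ← e16, ← e8, h0] at h1
  rw [e32, e32', ← e16, ← e8] at h2
  push_cast at h1 h2
  refine ⟨?_, ?_, h0⟩ <;> omega

end Cfsg.Agent.Lib.Helper8
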