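import Mathlib
import Cfsg.Agent.Lib.Helper8.Census

/-!
# Decompositions of a vector into two minimal vectors with prescribed inner product

`pairsF d`: ordered pairs of minimal vectors with inner product `d`; `fibF d t`: those with sum `t`.
Double counting gives the number of decompositions of a vector of squared norm 48 into two minimal
vectors: `552`.
-/

set_option autoImplicit false

namespace Cfsg.Agent.Lib.Helper8
open Cfsg Cfsg.Agent.Lib.Helper7

/-- ordered pairs of minimal vectors with inner product `d` -/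
noncomputable def pairsF (d : ℤ) : Finset ((GolayPt → ℤ) × (GolayPt → ℤ)) :=
  ((normF 32) ×ˢ (normF 32)).filter fun p => dotInt p.1 p.2 = d

theorem mem_pairsF {d : ℤ} {p : (GolayPt → ℤ) × (GolayPt → ℤ)} :
    p ∈ pairsF d ↔ (p.1 ∈ leechLattice ∧ sqNorm p.1 = 32) ∧
      (p.2 ∈ leechLattice ∧ sqNorm p.2 = 32) ∧ dotInt p.1 p.2 = d := by
  unfold pairsF
  rw [Finset.mem_filter, Finset.mem_product, mem_normF (by norm_num), mem_normF (by norm_num)]
  tauto

theorem card_pairsF_eq_sum (d : ℤ) : (pairsF d).card = ∑ a ∈ normF 32, (XF a d).card := by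
  unfold pairsF XF
  rw [Finset.card_filter, Finset.sum_product]
  refine Finset.sum_congr rfl fun a _ => ?_
  rw [Finset.card_filter]

theorem card_pairsF_first (d : ℤ) {v : GolayPt → ℤ} (hv : v ∈ leechLattice)
    (hvn : sqNorm v = 32) : (pairsF d).card = 196560 * (XF v d).card := by
  rw [card_pairsF_eq_sum, Finset.sum_congr rfl (g := fun _ => (XF v d).card)]
  · rw [Finset.sum_const, card_normF_32, smul_eq_mul]
  · intro a ha
    rw [mem_normF (by norm_num)] at ha
    exact card_XF_const ha.1 ha.2 hv hvn d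

/-- the pairs with a given sum -/
noncomputable def fibF (d : ℤ) (t : GolayPt → ℤ) : Finset ((GolayPt → ℤ) × (GolayPt → ℤ)) :=
  (pairsF d).filter fun p => p.1 + p.2 = t

theorem mem_fibF {d : ℤ} {t : GolayPt → ℤ} {p : (GolayPt → ℤ) × (GolayPt → ℤ)} :
    p ∈ fibF d t ↔ p ∈ pairsF d ∧ p.1 + p.2 = t := by
  unfold fibF
  rw [Finset.mem_filter]

theorem card_pairsF_eq_sum_fib (d : ℤ) (hd : 64 + 2 * d ≤ 64) :
    (pairsF d).card = ∑ t ∈ normF (64 + 2 * d), (fibF d t).card := by
  unfold fibF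
  refine Finset.card_eq_sum_card_fiberwise fun p hp => ?_
  rw [Finset.mem_coe, mem_pairsF] at hp
  rw [Finset.mem_coe, mem_normF hd]
  refine ⟨leechLattice.add_mem hp.1.1 hp.2.1.1, ?_⟩
  rw [sqNorm_add', hp.1.2, hp.2.1.2, hp.2.2]
  ring

/-- transport of the fibres by an automorphism -/
theorem card_fibF_smul (d : ℤ) (g : Co0) (t : leechLattice) :
    (fibF d ((g • t : leechLattice) : GolayPt → ℤ)).card = (fibF d (t : GolayPt → ℤ)).card := by
  symm
  refine Finset.card_bij (fun p hp =>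
    (((g • (⟨p.1, ((mem_pairsF.1 (mem_fibF.1 hp).1).1).1⟩ : leechLattice) : leechLattice) :
      GolayPt → ℤ),
     ((g • (⟨p.2, ((mem_pairsF.1 (mem_fibF.1 hp).1).2.1).1⟩ : leechLattice) : leechLattice) :
      GolayPt → ℤ))) ?_ ?_ ?_
  · intro p hp
    have h := mem_pairsF.1 (mem_fibF.1 hp).1
    have hs := (mem_fibF.1 hp).2
    rw [mem_fibF, mem_pairsF]
    refine ⟨⟨⟨Subtype.property _, by rw [co0_sqNorm]; exact h.1.2⟩,
      ⟨Subtype.property _, by rw [co0_sqNorm]; exact h.2.1.2⟩, by rw [co0_dotInt]; exact h.2.2⟩, ?_⟩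
    show ((g • (⟨p.1, h.1.1⟩ : leechLattice) : leechLattice) : GolayPt → ℤ)
      + ((g • (⟨p.2, h.2.1.1⟩ : leechLattice) : leechLattice) : GolayPt → ℤ) = _
    rw [← AddSubgroup.coe_add, ← co0_smul_add]
    congr 2
    exact Subtype.ext hs
  · intro p hp q hq hpq
    have h1 := congrArg Prod.fst hpq
    have h2 := congrArg Prod.snd hpq
    simp only at h1 h2
    have e1 := congrArg Subtype.val ((MulAction.injective g) (Subtype.ext h1))
    have e2 := congrArg Subtype.val ((MulAction.injective g) (Subtype.ext h2))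
    exact Prod.ext e1 e2
  · intro q hq
    have h := mem_pairsF.1 (mem_fibF.1 hq).1
    have hs := (mem_fibF.1 hq).2
    have hmem : (((g⁻¹ • (⟨q.1, h.1.1⟩ : leechLattice) : leechLattice) : GolayPt → ℤ),
        ((g⁻¹ • (⟨q.2, h.2.1.1⟩ : leechLattice) : leechLattice) : GolayPt → ℤ))
        ∈ fibF d (t : GolayPt → ℤ) := by
      rw [mem_fibF, mem_pairsF]
      refine ⟨⟨⟨Subtype.property _, by rw [co0_sqNorm]; exact h.1.2⟩,
        ⟨Subtype.property _, by rw [co0_sqNorm]; exact h.2.1.2⟩,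
        by rw [co0_dotInt]; exact h.2.2⟩, ?_⟩
      show ((g⁻¹ • (⟨q.1, h.1.1⟩ : leechLattice) : leechLattice) : GolayPt → ℤ)
        + ((g⁻¹ • (⟨q.2, h.2.1.1⟩ : leechLattice) : leechLattice) : GolayPt → ℤ) = _
      rw [← AddSubgroup.coe_add, ← co0_smul_add]
      have : (⟨q.1, h.1.1⟩ : leechLattice) + ⟨q.2, h.2.1.1⟩ = g • t := Subtype.ext hs
      rw [this, inv_smul_smul]
    refine ⟨_, hmem, ?_⟩
    apply Prod.ext
    · show ((g • (⟨((g⁻¹ • (⟨q.1, h.1.1⟩ : leechLattice) : leechLattice) : GolayPt → ℤ), _⟩ :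
        leechLattice) : leechLattice) : GolayPt → ℤ) = q.1
      have : (⟨((g⁻¹ • (⟨q.1, h.1.1⟩ : leechLattice) : leechLattice) : GolayPt → ℤ),
          (g⁻¹ • (⟨q.1, h.1.1⟩ : leechLattice)).2⟩ : leechLattice)
          = g⁻¹ • (⟨q.1, h.1.1⟩ : leechLattice) := rfl
      rw [this, smul_inv_smul]
    · show ((g • (⟨((g⁻¹ • (⟨q.2, h.2.1.1⟩ : leechLattice) : leechLattice) : GolayPt → ℤ), _⟩ :
        leechLattice) : leechLattice) : GolayPt → ℤ) = q.2
      have : (⟨((g⁻¹ • (⟨q.2, h.2.1.1⟩ : leechLattice) : leechLattice) : GolayPt → ℤ),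
          (g⁻¹ • (⟨q.2, h.2.1.1⟩ : leechLattice)).2⟩ : leechLattice)
          = g⁻¹ • (⟨q.2, h.2.1.1⟩ : leechLattice) := rfl
      rw [this, smul_inv_smul]

/-- a vector of squared norm 48 is the sum of two minimal vectors in exactly 552 ordered ways -/
theorem card_fibF_48 {u : GolayPt → ℤ} (hu : u ∈ leechLattice) (hun : sqNorm u = 48) :
    (fibF (-8) u).card = 552 := by
  have h1 := card_pairsF_first (-8) vOdd_mem Cfsg.Agent.S1567.sqNorm_vOdd
  rw [(census vOdd_mem Cfsg.Agent.S1567.sqNorm_vOdd).2.1] at h1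
  have h2 := card_pairsF_eq_sum_fib (-8) (by norm_num)
  have hconst : ∀ t ∈ normF (64 + 2 * (-8)), (fibF (-8) t).card = (fibF (-8) u).card := by
    intro t ht
    rw [mem_normF (by norm_num)] at ht
    obtain ⟨g, hg⟩ := Cfsg.Agent.S0401.result ⟨u, hu⟩ ⟨t, ht.1⟩ hun (by rw [ht.2]; norm_num)
    have := card_fibF_smul (-8) g ⟨u, hu⟩
    rw [hg] at this
    exact this
  rw [Finset.sum_congr rfl hconst, Finset.sum_const, smul_eq_mul] at h2
  have h48 : (normF (64 + 2 * (-8))).card = 16773120 := by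
    have : (64 + 2 * (-8) : ℤ) = 48 := by norm_num
    rw [this, card_normF_48]
  rw [h48, h1] at h2
  omega

end Cfsg.Agent.Lib.Helper8
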