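import Mathlib
import Cfsg.Agent.Lib.Helper8.Census2

/-!
# The fourth moment identity for the minimal vectors of the Leech lattice

`∑_{w minimal} (u · w)^4 = 967680 |u|^4` for every integer vector `u`, proved from the sign
changes on code words, the coordinate permutations in `M24` and the census of minimal vectors
relative to `(4,4,0^22)`.
-/

set_option autoImplicit false

namespace Cfsg.Agent.Lib.Helper8
open Cfsg Cfsg.Agent.Lib.Helper7 Cfsg.Spor
open scoped Pointwise

/-- fourth mixed moments of the minimal vectors -/
noncomputable def T4 (i j k l : GolayPt) : ℤ := ∑ w ∈ normF 32, w i * w j * w k * w l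

/-- the sign of a coordinate under the sign change on `C` -/
def par (C : Finset GolayPt) (i : GolayPt) : ℤ := if i ∈ C then -1 else 1

theorem signFun_eq_par (C : Finset GolayPt) (w : GolayPt → ℤ) (i : GolayPt) :
    signFun C w i = par C i * w i := by
  unfold signFun par
  split_ifs <;> ring

theorem par_mem {C : Finset GolayPt} {i : GolayPt} (h : i ∈ C) : par C i = -1 := if_pos h

theorem par_not_mem {C : Finset GolayPt} {i : GolayPt} (h : i ∉ C) : par C i = 1 := if_neg h

theorem par_mul_self (C : Finset GolayPt) (i : GolayPt) : par C i * par C i = 1 := by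
  unfold par; split_ifs <;> norm_num

theorem T4_eq_zero_of_par (C : Finset GolayPt)
    (hC : C ∈ supports (golayCode : Set (GolayPt → ZMod 2))) (i j k l : GolayPt)
    (h : par C i * par C j * par C k * par C l = -1) : T4 i j k l = 0 := by
  have h' : T4 i j k l = ∑ w ∈ normF 32, -(w i * w j * w k * w l) := by
    unfold T4
    refine Finset.sum_nbij' (signFun C) (signFun C)
      (fun w hw => signFun_mem_normF (by norm_num) C hC hw)
      (fun w hw => signFun_mem_normF (by norm_num) C hC hw)
      (fun w _ => signFun_signFun C w) (fun w _ => signFun_signFun C w) ?_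
    intro w _
    rw [signFun_eq_par, signFun_eq_par, signFun_eq_par, signFun_eq_par]
    have : par C i * w i * (par C j * w j) * (par C k * w k) * (par C l * w l)
        = (par C i * par C j * par C k * par C l) * (w i * w j * w k * w l) := by ring
    rw [this, h]; ring
  rw [Finset.sum_neg_distrib] at h'
  unfold T4 at h' ⊢
  omega

/-- vanishing from a separating code word for two points -/
theorem T4_eq_zero_of_sep {p q : GolayPt} (hpq : p ≠ q) (i j k l : GolayPt)
    (h : ∀ C : Finset GolayPt, p ∈ C → q ∉ C → par C i * par C j * par C k * par C l = -1) :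
    T4 i j k l = 0 := by
  obtain ⟨C, hC, hp, hq⟩ := exists_separating p q hpq
  exact T4_eq_zero_of_par C hC i j k l (h C hp hq)

/-- invariance under coordinate permutations in `M24` -/
theorem T4_coord (σ : Equiv.Perm GolayPt) (hσ : σ ∈ M24) (i j k l : GolayPt) :
    T4 (σ i) (σ j) (σ k) (σ l) = T4 i j k l := by
  unfold T4
  refine Finset.sum_nbij' (coordFun σ) (coordFun σ⁻¹)
    (fun w hw => coordFun_mem_normF (by norm_num) σ hσ hw)
    (fun w hw => coordFun_mem_normF (by norm_num) σ⁻¹ (M24.inv_mem hσ) hw) ?_ ?_ ?_
  · intro w _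
    funext k
    simp [coordFun]
  · intro w _
    funext k
    simp [coordFun]
  · intro w _
    simp only [coordFun]

/-- a code word containing exactly one of four distinct points -/
theorem exists_separating4 (i j k l : GolayPt) (hij : i ≠ j) (hik : i ≠ k) (hil : i ≠ l)
    (hjk : j ≠ k) (hjl : j ≠ l) (hkl : k ≠ l) :
    ∃ C ∈ supports (golayCode : Set (GolayPt → ZMod 2)), i ∈ C ∧ j ∉ C ∧ k ∉ C ∧ l ∉ C := by
  have hC0 : support₂ (qrWord 0) ∈ supports (golayCode : Set (GolayPt → ZMod 2)) :=
    ⟨qrWord 0, Submodule.subset_span (Or.inl ⟨0, rfl⟩), rfl⟩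
  have h1 : (some 0 : GolayPt) ∈ support₂ (qrWord 0) := by
    simp only [support₂, Finset.mem_filter, Finset.mem_univ, true_and]
    decide
  have h2 : (none : GolayPt) ∉ support₂ (qrWord 0) := by
    simp only [support₂, Finset.mem_filter, Finset.mem_univ, true_and]
    decide
  have h3 : (some 5 : GolayPt) ∉ support₂ (qrWord 0) := by
    simp only [support₂, Finset.mem_filter, Finset.mem_univ, true_and]
    decide
  have h4 : (some 7 : GolayPt) ∉ support₂ (qrWord 0) := by
    simp only [support₂, Finset.mem_filter, Finset.mem_univ, true_and]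
    decide
  let x : Fin 4 ↪ GolayPt := ⟨![some 0, none, some 5, some 7], by decide⟩
  let y : Fin 4 ↪ GolayPt := ⟨![i, j, k, l], by
    intro a b hab
    fin_cases a <;> fin_cases b <;>
      simp_all [hij.symm, hik.symm, hil.symm, hjk.symm, hjl.symm, hkl.symm]⟩
  obtain ⟨g, hg, hgxy⟩ := exists_M24_map_emb (k := 4) (by decide) x y
  have hg0 : g (some 0) = i := hgxy 0
  have hg1 : g none = j := hgxy 1
  have hg2 : g (some 5) = k := hgxy 2
  have hg3 : g (some 7) = l := hgxy 3
  refine ⟨g • support₂ (qrWord 0), smul_mem_supports_of_mem_M24 hg hC0, ?_, ?_, ?_, ?_⟩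
  · rw [← hg0, apply_mem_perm_smul_finset]; exact h1
  · rw [← hg1, apply_mem_perm_smul_finset]; exact h2
  · rw [← hg2, apply_mem_perm_smul_finset]; exact h3
  · rw [← hg3, apply_mem_perm_smul_finset]; exact h4

/-! ### symmetries of `T4` -/

theorem T4_comm23 (i j k l : GolayPt) : T4 i j k l = T4 i k j l := by
  unfold T4
  exact Finset.sum_congr rfl fun w _ => by ring

theorem T4_comm24 (i j k l : GolayPt) : T4 i j k l = T4 i l k j := by
  unfold T4
  exact Finset.sum_congr rfl fun w _ => by ring

theorem T4_comm34 (i j k l : GolayPt) : T4 i j k l = T4 i j l k := by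
  unfold T4
  exact Finset.sum_congr rfl fun w _ => by ring

theorem T4_comm12 (i j k l : GolayPt) : T4 i j k l = T4 j i k l := by
  unfold T4
  exact Finset.sum_congr rfl fun w _ => by ring

/-- the value on two distinct pairs -/
noncomputable def a4 : ℤ := T4 none none (some 0) (some 0)

/-- the value on the diagonal -/
noncomputable def b4 : ℤ := T4 none none none none

theorem T4_pair_eq {i j : GolayPt} (hij : i ≠ j) : T4 i i j j = a4 := by
  let x : Fin 2 ↪ GolayPt := ⟨![none, some 0], by decide⟩
  let y : Fin 2 ↪ GolayPt := ⟨![i, j], by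
    intro a b hab
    fin_cases a <;> fin_cases b <;> simp_all [hij.symm]⟩
  obtain ⟨g, hg, hgxy⟩ := exists_M24_map_emb (k := 2) (by decide) x y
  have hg0 : g none = i := hgxy 0
  have hg1 : g (some 0) = j := hgxy 1
  rw [← hg0, ← hg1, T4_coord g hg]
  rfl

theorem T4_diag_eq (i : GolayPt) : T4 i i i i = b4 := by
  let x : Fin 1 ↪ GolayPt := ⟨![none], fun a b _ => Subsingleton.elim a b⟩
  let y : Fin 1 ↪ GolayPt := ⟨![i], fun a b _ => Subsingleton.elim a b⟩
  obtain ⟨g, hg, hgxy⟩ := exists_M24_map_emb (k := 1) (by decide) x y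
  have hg0 : g none = i := hgxy 0
  rw [← hg0, T4_coord g hg]
  rfl

/-- first relation: the sum of the fourth powers of the norms -/
theorem rel_norm4 : 24 * (b4 + 23 * a4) = 201277440 := by
  classical
  have h1 : ∑ w ∈ normF 32, sqNorm w ^ 2 = ∑ _w ∈ normF 32, (1024 : ℤ) :=
    Finset.sum_congr rfl fun w hw => by rw [((mem_normF (by norm_num)).1 hw).2]; norm_num
  rw [Finset.sum_const, card_normF_32] at h1
  have h2 : ∀ w : GolayPt → ℤ, sqNorm w ^ 2 = ∑ i, ∑ k, w i * w i * w k * w k := by
    intro w
    unfold sqNorm
    rw [sq, Finset.sum_mul_sum]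
    exact Finset.sum_congr rfl fun i _ => Finset.sum_congr rfl fun k _ => by ring
  rw [Finset.sum_congr rfl fun w _ => h2 w, Finset.sum_comm] at h1
  have h3 : ∀ i : GolayPt, ∑ w ∈ normF 32, ∑ k, w i * w i * w k * w k = b4 + 23 * a4 := by
    intro i
    rw [Finset.sum_comm]
    show ∑ k, T4 i i k k = _
    rw [← Finset.add_sum_erase Finset.univ _ (Finset.mem_univ i), T4_diag_eq,
      Finset.sum_congr rfl (g := fun _ => a4)]
    · rw [Finset.sum_const, Finset.card_erase_of_mem (Finset.mem_univ _), card_univ_golayPt]
      simp only [nsmul_eq_mul]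
      norm_num
    · intro k hk
      exact T4_pair_eq (Finset.mem_erase.1 hk).1.symm
  rw [Finset.sum_congr rfl fun i _ => h3 i, Finset.sum_const, card_univ_golayPt] at h1
  simp only [nsmul_eq_mul] at h1
  push_cast at h1
  linarith

/-- sums of a function of the inner product, fibred over the values of the inner product -/
theorem sum_fiberwise_dot (v : GolayPt → ℤ) (t : Finset ℤ)
    (ht : ∀ w ∈ normF 32, dotInt v w ∈ t) (f : ℤ → ℤ) :
    ∑ w ∈ normF 32, f (dotInt v w) = ∑ d ∈ t, f d * ((XF v d).card : ℤ) := by
  classical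
  have h := Finset.sum_fiberwise_of_maps_to (s := normF 32) (t := t) (g := dotInt v) ht
    (fun w => f (dotInt v w))
  rw [← h]
  refine Finset.sum_congr rfl fun d _ => ?_
  rw [Finset.sum_congr rfl (g := fun _ => f d)]
  · rw [Finset.sum_const]
    unfold XF
    simp only [nsmul_eq_mul]
    ring
  · intro w hw
    rw [(Finset.mem_filter.1 hw).2]

/-- second relation: the fourth moment relative to `(4,4,0^22)` -/
theorem rel_vecU : 256 * (2 * b4 + 6 * a4) = 990904320 := by
  classical
  have hc := census leechU.2 sqNorm_vecU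
  have h32 := card_XF_32 leechU.2 sqNorm_vecU
  have e32 := card_XF_neg vecU 32
  have e16 := card_XF_neg vecU 16
  have e8 := card_XF_neg vecU 8
  have h := sum_fiberwise_dot vecU dotVals
    (fun w hw => dot_mem_dotVals leechU.2 sqNorm_vecU hw) (fun d => d ^ 4)
  rw [sum_dotVals] at h
  change (XF vecU 32).card = 1 at h32
  change (XF vecU (-16)).card = 4600 ∧ (XF vecU (-8)).card = 47104 ∧ (XF vecU 0).card = 93150 at hc
  rw [h32] at e32
  rw [hc.1] at e16
  rw [hc.2.1] at e8
  rw [h32, e32, ← e16, ← e8, hc.1, hc.2.1] at h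
  have h2 : ∀ w : GolayPt → ℤ, dotInt vecU w ^ 4 = 256 * (w none * w none * w none * w none
      + 4 * (w none * w none * w none * w (some 0)) + 6 * (w none * w none * w (some 0) * w (some 0))
      + 4 * (w none * w (some 0) * w (some 0) * w (some 0))
      + w (some 0) * w (some 0) * w (some 0) * w (some 0)) := by
    intro w
    rw [dotInt_vecU]; ring
  rw [Finset.sum_congr rfl fun w _ => h2 w, ← Finset.mul_sum, Finset.sum_add_distrib,
    Finset.sum_add_distrib, Finset.sum_add_distrib, Finset.sum_add_distrib, ← Finset.mul_sum,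
    ← Finset.mul_sum, ← Finset.mul_sum] at h
  have z1 : T4 none none none (some 0) = 0 := by
    refine T4_eq_zero_of_sep (p := none) (q := some 0) (by decide) _ _ _ _ fun C hp hq => ?_
    rw [par_mem hp, par_not_mem hq]; norm_num
  have z2 : T4 none (some 0) (some 0) (some 0) = 0 := by
    refine T4_eq_zero_of_sep (p := none) (q := some 0) (by decide) _ _ _ _ fun C hp hq => ?_
    rw [par_mem hp, par_not_mem hq]; norm_num
  have d1 : T4 none none none none = b4 := rfl
  have d2 : T4 (some 0) (some 0) (some 0) (some 0) = b4 := T4_diag_eq _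
  have d3 : T4 none none (some 0) (some 0) = a4 := rfl
  unfold T4 at z1 z2 d1 d2 d3
  rw [z1, z2, d1, d2, d3] at h
  push_cast at h
  linarith

theorem a4_eq : a4 = 322560 := by
  have h1 := rel_norm4
  have h2 := rel_vecU
  omega

theorem b4_eq : b4 = 967680 := by
  have h1 := rel_norm4
  have h2 := rel_vecU
  omega

/-! ### the general formula -/

/-- Kronecker delta -/
def dl (i j : GolayPt) : ℤ := if i = j then 1 else 0

theorem dl_self (i : GolayPt) : dl i i = 1 := if_pos rfl

theorem dl_ne {i j : GolayPt} (h : i ≠ j) : dl i j = 0 := if_neg h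

theorem dl_ne' {i j : GolayPt} (h : i ≠ j) : dl j i = 0 := if_neg h.symm

theorem T4_formula (i j k l : GolayPt) :
    T4 i j k l = 322560 * (dl i j * dl k l + dl i k * dl j l + dl i l * dl j k) := by
  by_cases hij : i = j
  · subst hij
    by_cases hkl : k = l
    · subst hkl
      by_cases hik : i = k
      · subst hik
        rw [T4_diag_eq, b4_eq, dl_self]; norm_num
      · rw [T4_pair_eq hik, a4_eq, dl_self, dl_self, dl_ne hik]; norm_num
    · have h0 : T4 i i k l = 0 := T4_eq_zero_of_sep hkl _ _ _ _ fun C hp hq => by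
        rw [par_mul_self, par_mem hp, par_not_mem hq]; norm_num
      rw [h0, dl_ne hkl]
      by_cases hik : i = k
      · subst hik; rw [dl_ne hkl]; ring
      · rw [dl_ne hik]; ring
  · by_cases hkl : k = l
    · subst hkl
      have h0 : T4 i j k k = 0 := T4_eq_zero_of_sep hij _ _ _ _ fun C hp hq => by
        rw [mul_assoc, par_mul_self, par_mem hp, par_not_mem hq]; norm_num
      rw [h0, dl_ne hij]
      by_cases hik : i = k
      · subst hik; rw [dl_ne' hij]; ring
      · rw [dl_ne hik]; ring
    · by_cases hik : i = k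
      · subst hik
        by_cases hjl : j = l
        · subst hjl
          rw [T4_comm23, T4_pair_eq hij, a4_eq, dl_ne hij, dl_self, dl_self, dl_ne' hij]; norm_num
        · have h0 : T4 i j i l = 0 := T4_eq_zero_of_sep hjl _ _ _ _ fun C hp hq => by
            have : par C i * par C j * par C i * par C l
                = (par C i * par C i) * (par C j * par C l) := by ring
            rw [this, par_mul_self, par_mem hp, par_not_mem hq]; norm_num
          rw [h0, dl_ne hij, dl_ne hjl, dl_ne hkl]; ring
      · by_cases hil : i = l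
        · subst hil
          by_cases hjk : j = k
          · subst hjk
            rw [T4_comm24, T4_pair_eq hij, a4_eq, dl_ne hij, dl_self, dl_self,
              dl_ne' hij]
            norm_num
          · have h0 : T4 i j k i = 0 := T4_eq_zero_of_sep hjk _ _ _ _ fun C hp hq => by
              have : par C i * par C j * par C k * par C i
                  = (par C i * par C i) * (par C j * par C k) := by ring
              rw [this, par_mul_self, par_mem hp, par_not_mem hq]; norm_num
            rw [h0, dl_ne hij, dl_ne hik, dl_ne hjk]; ring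
        · by_cases hjk : j = k
          · subst hjk
            have h0 : T4 i j j l = 0 := T4_eq_zero_of_sep hil _ _ _ _ fun C hp hq => by
              have : par C i * par C j * par C j * par C l
                  = (par C j * par C j) * (par C i * par C l) := by ring
              rw [this, par_mul_self, par_mem hp, par_not_mem hq]; norm_num
            rw [h0, dl_ne hij, dl_ne hil]; ring
          · by_cases hjl : j = l
            · subst hjl
              have h0 : T4 i j k j = 0 := T4_eq_zero_of_sep hik _ _ _ _ fun C hp hq => by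
                have : par C i * par C j * par C k * par C j
                    = (par C j * par C j) * (par C i * par C k) := by ring
                rw [this, par_mul_self, par_mem hp, par_not_mem hq]; norm_num
              rw [h0, dl_ne hij, dl_ne hik]; ring
            · obtain ⟨C, hC, hi, hj, hk, hl⟩ := exists_separating4 i j k l hij hik hil hjk hjl hkl
              have h0 : T4 i j k l = 0 := T4_eq_zero_of_par C hC _ _ _ _ (by
                rw [par_mem hi, par_not_mem hj, par_not_mem hk, par_not_mem hl]; norm_num)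
              rw [h0, dl_ne hij, dl_ne hik, dl_ne hil]; ring

theorem sum_dl_left (f : GolayPt → ℤ) (i : GolayPt) : ∑ k, dl i k * f k = f i := by
  unfold dl
  simp

theorem sum_dl_right (f : GolayPt → ℤ) (i : GolayPt) : ∑ k, dl k i * f k = f i := by
  unfold dl
  simp

/-- **The fourth moment identity for the minimal vectors.** -/
theorem fourth_moment (u : GolayPt → ℤ) :
    ∑ w ∈ normF 32, dotInt u w ^ 4 = 967680 * sqNorm u ^ 2 := by
  classical
  have h1 : ∀ w : GolayPt → ℤ, dotInt u w ^ 4
      = ∑ i, ∑ j, ∑ k, ∑ l, (u i * u j * u k * u l) * (w i * w j * w k * w l) := by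
    intro w
    have e2 : dotInt u w ^ 2 = ∑ i, ∑ j, (u i * w i) * (u j * w j) := by
      unfold dotInt
      rw [sq, Finset.sum_mul_sum]
    have e4 : dotInt u w ^ 4 = dotInt u w ^ 2 * dotInt u w ^ 2 := by ring
    rw [e4, e2, Finset.sum_mul]
    refine Finset.sum_congr rfl fun i _ => ?_
    rw [Finset.sum_mul]
    refine Finset.sum_congr rfl fun j _ => ?_
    rw [Finset.mul_sum]
    refine Finset.sum_congr rfl fun k _ => ?_
    rw [Finset.mul_sum]
    refine Finset.sum_congr rfl fun l _ => ?_
    ring
  have h2 : ∑ w ∈ normF 32, dotInt u w ^ 4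
      = ∑ i, ∑ j, ∑ k, ∑ l, (u i * u j * u k * u l) * T4 i j k l := by
    rw [Finset.sum_congr rfl fun w _ => h1 w, Finset.sum_comm]
    refine Finset.sum_congr rfl fun i _ => ?_
    rw [Finset.sum_comm]
    refine Finset.sum_congr rfl fun j _ => ?_
    rw [Finset.sum_comm]
    refine Finset.sum_congr rfl fun k _ => ?_
    rw [Finset.sum_comm]
    refine Finset.sum_congr rfl fun l _ => ?_
    unfold T4
    rw [Finset.mul_sum]
  rw [h2]
  -- the inner double sum
  have h3 : ∀ i j : GolayPt, ∑ k, ∑ l, (u i * u j * u k * u l) * T4 i j k l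
      = 322560 * (u i * u j) * (dl i j * sqNorm u + 2 * (u i * u j)) := by
    intro i j
    have e : ∀ k l : GolayPt, (u i * u j * u k * u l) * T4 i j k l
        = 322560 * (u i * u j) * (dl i j * (u k * (dl k l * u l))
          + (dl i k * u k) * (dl j l * u l) + (dl j k * u k) * (dl i l * u l)) := by
      intro k l
      rw [T4_formula]; ring
    have e' : ∀ k : GolayPt, ∑ l, (u i * u j * u k * u l) * T4 i j k l
        = 322560 * (u i * u j) * (dl i j * (u k * u k)
          + (dl i k * u k) * u j + (dl j k * u k) * u i) := by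
      intro k
      rw [Finset.sum_congr rfl fun l _ => e k l, ← Finset.mul_sum, Finset.sum_add_distrib,
        Finset.sum_add_distrib, ← Finset.mul_sum, ← Finset.mul_sum, ← Finset.mul_sum,
        ← Finset.mul_sum, sum_dl_left, sum_dl_left, sum_dl_left]
    rw [Finset.sum_congr rfl fun k _ => e' k, ← Finset.mul_sum, Finset.sum_add_distrib,
      Finset.sum_add_distrib, ← Finset.mul_sum, ← Finset.sum_mul, ← Finset.sum_mul,
      sum_dl_left, sum_dl_left]
    unfold sqNorm
    have : ∑ k, u k * u k = ∑ k, u k ^ 2 := Finset.sum_congr rfl fun k _ => by ring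
    rw [this]; ring
  rw [Finset.sum_congr rfl fun i _ => Finset.sum_congr rfl fun j _ => h3 i j]
  have h4 : ∀ i : GolayPt, ∑ j, 322560 * (u i * u j) * (dl i j * sqNorm u + 2 * (u i * u j))
      = 322560 * (u i ^ 2 * sqNorm u + 2 * u i ^ 2 * sqNorm u) := by
    intro i
    have e : ∀ j : GolayPt, 322560 * (u i * u j) * (dl i j * sqNorm u + 2 * (u i * u j))
        = 322560 * (u i * sqNorm u) * (dl i j * u j) + 322560 * (2 * u i ^ 2) * (u j ^ 2) := by
      intro j; ring
    rw [Finset.sum_congr rfl fun j _ => e j, Finset.sum_add_distrib, ← Finset.mul_sum,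
      ← Finset.mul_sum, sum_dl_left]
    unfold sqNorm
    ring
  rw [Finset.sum_congr rfl fun i _ => h4 i, ← Finset.mul_sum]
  have h5 : ∀ i : GolayPt, u i ^ 2 * sqNorm u + 2 * u i ^ 2 * sqNorm u = 3 * sqNorm u * u i ^ 2 := by
    intro i; ring
  rw [Finset.sum_congr rfl fun i _ => h5 i, ← Finset.mul_sum]
  unfold sqNorm
  ring

end Cfsg.Agent.Lib.Helper8
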