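import Mathlib
import Cfsg.Agent.Lib.Helper8.Moment4

/-!
# Census of the minimal vectors by inner product with a vector of squared norm 48

`552, 11178, 48600, 75900` minimal vectors with inner product `±24, ±16, ±8, 0`.
-/

set_option autoImplicit false

namespace Cfsg.Agent.Lib.Helper8
open Cfsg Cfsg.Agent.Lib.Helper7 Cfsg.Spor

/-- the possible inner products -/
def dotVals3 : Finset ℤ := {-24, -16, -8, 0, 8, 16, 24}

theorem dot_mem_dotVals3 {u w : GolayPt → ℤ} (hu : u ∈ leechLattice) (hun : sqNorm u = 48)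
    (hw : w ∈ normF 32) : dotInt u w ∈ dotVals3 := by
  rw [mem_normF (by norm_num)] at hw
  obtain ⟨hw, hwn⟩ := hw
  obtain ⟨k, hk⟩ := dot_dvd8 hu hw
  have h1 := sqNorm_sub' u w
  have h2 := sqNorm_add' u w
  rw [hun, hwn] at h1 h2
  have e1 : u - w ≠ 0 := by
    intro h
    rw [h] at h1
    have : sqNorm (0 : GolayPt → ℤ) = 0 := (sqNorm_eq_zero_iff _).2 rfl
    have huw : u = w := sub_eq_zero.1 h
    rw [huw, hwn] at hun
    norm_num at hun
  have e2 : u + w ≠ 0 := by
    intro h
    have huw : u = -w := eq_neg_of_add_eq_zero_left h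
    rw [huw, sqNorm_neg', hwn] at hun
    norm_num at hun
  have g1 := sqNorm_ge_of_mem_leechLattice (leechLattice.sub_mem hu hw) e1
  have g2 := sqNorm_ge_of_mem_leechLattice (leechLattice.add_mem hu hw) e2
  have : -3 ≤ k ∧ k ≤ 3 := by constructor <;> omega
  obtain ⟨a, b⟩ := this
  unfold dotVals3
  simp only [Finset.mem_insert, Finset.mem_singleton]
  interval_cases k <;> omega

theorem sum_dotVals3 (f : ℤ → ℤ) :
    ∑ d ∈ dotVals3, f d = f (-24) + f (-16) + f (-8) + f 0 + f 8 + f 16 + f 24 := by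
  unfold dotVals3
  rw [Finset.sum_insert (by decide), Finset.sum_insert (by decide), Finset.sum_insert (by decide),
    Finset.sum_insert (by decide), Finset.sum_insert (by decide), Finset.sum_insert (by decide),
    Finset.sum_singleton]
  ring

theorem dotInt_sub_right (v a b : GolayPt → ℤ) : dotInt v (a - b) = dotInt v a - dotInt v b := by
  unfold dotInt
  rw [← Finset.sum_sub_distrib]
  exact Finset.sum_congr rfl fun i _ => by simp only [Pi.sub_apply]; ring

theorem dotInt_add_right (v a b : GolayPt → ℤ) : dotInt v (a + b) = dotInt v a + dotInt v b := by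
  unfold dotInt
  rw [← Finset.sum_add_distrib]
  exact Finset.sum_congr rfl fun i _ => by simp only [Pi.add_apply]; ring

/-- the minimal vectors with inner product 24 correspond to the decompositions -/
theorem card_XF_24 {u : GolayPt → ℤ} (hu : u ∈ leechLattice) (hun : sqNorm u = 48) :
    (XF u 24).card = 552 := by
  rw [← card_fibF_48 hu hun]
  refine Finset.card_nbij' (fun w => (w, u - w)) Prod.fst ?_ ?_ (fun w _ => rfl) ?_
  · intro w hw
    rw [Finset.mem_coe, mem_XF] at hw
    rw [Finset.mem_coe, mem_fibF, mem_pairsF]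
    refine ⟨⟨hw.1, ⟨leechLattice.sub_mem hu hw.1.1, ?_⟩, ?_⟩, ?_⟩
    · show sqNorm (u - w) = 32
      rw [sqNorm_sub', hun, hw.1.2, hw.2]; norm_num
    · show dotInt w (u - w) = -8
      rw [dotInt_sub_right, dotInt_comm, hw.2, ← sqNorm_eq_dotInt, hw.1.2]; norm_num
    · show w + (u - w) = u
      abel
  · intro p hp
    rw [Finset.mem_coe, mem_fibF, mem_pairsF] at hp
    rw [Finset.mem_coe, mem_XF]
    refine ⟨hp.1.1, ?_⟩
    rw [← hp.2, dotInt_comm, dotInt_add_right, ← sqNorm_eq_dotInt, hp.1.1.2, hp.1.2.2]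
    norm_num
  · intro p hp
    rw [Finset.mem_coe, mem_fibF] at hp
    apply Prod.ext
    · rfl
    · show u - p.1 = p.2
      rw [← hp.2]; abel

/-- **Census of the minimal vectors by inner product with a vector of squared norm 48.** -/
theorem census3 {u : GolayPt → ℤ} (hu : u ∈ leechLattice) (hun : sqNorm u = 48) :
    (XF u (-16)).card = 11178 ∧ (XF u (-8)).card = 48600 ∧ (XF u 0).card = 75900 := by
  classical
  have h24 := card_XF_24 hu hun
  have e24 := card_XF_neg u 24
  have e16 := card_XF_neg u 16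
  have e8 := card_XF_neg u 8
  have hmaps : ∀ w ∈ normF 32, dotInt u w ∈ dotVals3 := fun w hw => dot_mem_dotVals3 hu hun hw
  have t0 := sum_fiberwise_dot u dotVals3 hmaps (fun _ => 1)
  have t2 := sum_fiberwise_dot u dotVals3 hmaps (fun d => d ^ 2)
  have t4 := sum_fiberwise_dot u dotVals3 hmaps (fun d => d ^ 4)
  rw [sum_dotVals3] at t0 t2 t4
  rw [second_moment, hun] at t2
  rw [fourth_moment, hun] at t4
  rw [Finset.sum_const, card_normF_32] at t0
  rw [h24] at e24
  rw [h24, e24, ← e16, ← e8] at t0 t2 t4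
  simp only [nsmul_eq_mul] at t0
  push_cast at t0 t2 t4
  refine ⟨?_, ?_, ?_⟩ <;> omega

/-- sets of lattice elements versus sets of vectors -/
theorem ncard_subtype_leech (P : (GolayPt → ℤ) → Prop) :
    {x : leechLattice | P (x : GolayPt → ℤ)}.ncard
      = {w : GolayPt → ℤ | w ∈ leechLattice ∧ P w}.ncard := by
  have h : {w : GolayPt → ℤ | w ∈ leechLattice ∧ P w}
      = Subtype.val '' {x : leechLattice | P (x : GolayPt → ℤ)} := by
    ext w
    constructor
    · rintro ⟨hw, hp⟩
      exact ⟨⟨w, hw⟩, hp, rfl⟩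
    · rintro ⟨x, hx, rfl⟩
      exact ⟨x.2, hx⟩
  rw [h, Set.ncard_image_of_injective _ Subtype.val_injective]

/-- the census in the form used in the statements about lattice elements -/
theorem ncard_XF_subtype (u : GolayPt → ℤ) (d : ℤ) :
    {x : leechLattice | sqNorm (x : GolayPt → ℤ) = 32 ∧ dotInt u (x : GolayPt → ℤ) = d}.ncard
      = (XF u d).card := by
  rw [ncard_subtype_leech (fun w => sqNorm w = 32 ∧ dotInt u w = d)]
  exact ncard_eq_card_XF u d

end Cfsg.Agent.Lib.Helper8
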