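import Mathlib
import Cfsg.Agent.Lib.Helper8.Co2Orbits
import Cfsg.Agent.S0401

/-!
# Pairs (vector of squared norm 48, minimal vector) with inner product `-16`

For `u = (5, 1^23)` and a minimal vector `x` with `u · x = -16` there is a decomposition
`u = a + b` into minimal vectors with `{a · x, b · x} = {-16, 0}` (`exists_adapted`).  Triples
`(a, b, x)` with Gram data `a·b = -8, a·x = -16, b·x = 0` form one orbit of `Co0`
(`triple_trans`), hence so do the pairs `(u, x)` (`pair3_trans`).
-/

set_option autoImplicit false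

namespace Cfsg.Agent.Lib.Helper8
open Cfsg Cfsg.Agent.Lib.Helper7 Cfsg.Spor Cfsg.Agent.S0401

theorem dotInt_u5 (x : GolayPt → ℤ) : dotInt u5 x = 4 * x none + ∑ i, x i := by
  unfold dotInt u5
  have h : ∀ i : GolayPt, (if i = none then (5 : ℤ) else 1) * x i
      = x i + (if i = none then 4 * x none else 0) := by
    intro i
    by_cases hi : i = none
    · subst hi; simp; ring
    · simp [hi]
  rw [Finset.sum_congr rfl fun i _ => h i, Finset.sum_add_distrib, Finset.sum_ite_eq']
  simp; ring

theorem sqNorm_u5 : sqNorm u5 = 48 := by decide +kernel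

theorem sum_eq_add_erase (x : GolayPt → ℤ) :
    ∑ i, x i = x none + ∑ i ∈ (Finset.univ : Finset GolayPt).erase none, x i :=
  (Finset.add_sum_erase Finset.univ x (Finset.mem_univ none)).symm

theorem sum_sq_erase (x : GolayPt → ℤ) :
    ∑ i ∈ (Finset.univ : Finset GolayPt).erase none, x i ^ 2 = sqNorm x - x none ^ 2 := by
  have := Finset.add_sum_erase Finset.univ (fun i => x i ^ 2) (Finset.mem_univ (none : GolayPt))
  unfold sqNorm
  linarith

theorem card_erase_none : ((Finset.univ : Finset GolayPt).erase none).card = 23 := by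
  rw [Finset.card_erase_of_mem (Finset.mem_univ _), card_univ_golayPt]

/-- for a minimal `x` with `(5,1^23) · x = -16` some coordinate `k ≠ ∞` has
`x_∞ + x_k ∈ {-4, 0}` -/
theorem exists_adapted_coord {x : GolayPt → ℤ} (hx : x ∈ leechLattice) (hn : sqNorm x = 32)
    (hd : dotInt u5 x = -16) :
    ∃ k : GolayPt, k ≠ none ∧ (x none + x k = -4 ∨ x none + x k = 0) := by
  classical
  rw [dotInt_u5, sum_eq_add_erase] at hd
  have hsq := sum_sq_erase x
  rw [hn] at hsq
  rcases min_shape hx hn with ⟨j, k, hjk, hj, hk, hother⟩ | ⟨hvals, hoct⟩ | ⟨hodd, j, hj9, hj1⟩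
  · -- shape (±4, ±4, 0^22)
    have hval : ∀ i, x i = 0 ∨ x i = 4 ∨ x i = -4 := by
      intro i
      by_cases hij : i = j
      · rw [hij]; exact Or.inr hj
      · by_cases hik : i = k
        · rw [hik]; exact Or.inr hk
        · exact Or.inl (hother i hij hik)
    -- lower bound for the sum
    have hlow : ∀ i, 0 ≤ 4 * x i + x i ^ 2 := by
      intro i; rcases hval i with h | h | h <;> rw [h] <;> norm_num
    have hs : 0 ≤ ∑ i ∈ (Finset.univ : Finset GolayPt).erase none, (4 * x i + x i ^ 2) :=
      Finset.sum_nonneg fun i _ => hlow i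
    rw [Finset.sum_add_distrib, ← Finset.mul_sum, hsq] at hs
    have hinf : x none = -4 := by
      rcases hval none with h | h | h <;> rw [h] at hs hd <;> omega
    -- a zero coordinate
    obtain ⟨m, hm1, hm2, hm3⟩ : ∃ m : GolayPt, m ≠ none ∧ m ≠ j ∧ m ≠ k := by
      have : ∀ j k : GolayPt, ∃ m : GolayPt, m ≠ none ∧ m ≠ j ∧ m ≠ k := by decide
      exact this j k
    exact ⟨m, hm1, Or.inl (by rw [hinf, hother m hm2 hm3]; norm_num)⟩
  · -- shape (±2^8, 0^16)
    obtain ⟨S, hSdef⟩ : ∃ S : Finset GolayPt, S = Finset.univ.filter fun i => x i % 4 = 2 :=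
      ⟨_, rfl⟩
    rw [← hSdef] at hoct
    have hmemS : ∀ i, i ∈ S ↔ x i % 4 = 2 := by
      intro i; rw [hSdef, Finset.mem_filter]; simp
    have hlow : ∀ i, 0 ≤ 2 * x i + x i ^ 2 := by
      intro i; rcases hvals i with h | h | h <;> rw [h] <;> norm_num
    have hs : 0 ≤ ∑ i ∈ (Finset.univ : Finset GolayPt).erase none, (2 * x i + x i ^ 2) :=
      Finset.sum_nonneg fun i _ => hlow i
    rw [Finset.sum_add_distrib, ← Finset.mul_sum, hsq] at hs
    rcases hvals none with h0 | h0 | h0
    · -- `x_∞ = 0`: take a zero coordinate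
      have hlt : S.card < ((Finset.univ : Finset GolayPt).erase none).card := by
        rw [hoct.2, card_erase_none]; norm_num
      obtain ⟨m, hm, hmS⟩ := Finset.exists_mem_notMem_of_card_lt_card hlt
      have hm0 : x m = 0 := by
        rcases hvals m with h | h | h
        · exact h
        · exact absurd ((hmemS m).2 (by rw [h]; decide)) hmS
        · exact absurd ((hmemS m).2 (by rw [h]; decide)) hmS
      exact ⟨m, (Finset.mem_erase.1 hm).1, Or.inr (by rw [h0, hm0]; norm_num)⟩
    · -- `x_∞ = 2` is impossible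
      rw [h0] at hs hd; omega
    · -- `x_∞ = -2`: any other nonzero coordinate
      have hcard : 0 < (S.erase none).card := by
        have := Finset.pred_card_le_card_erase (s := S) (a := none)
        rw [hoct.2] at this
        omega
      obtain ⟨m, hm⟩ := Finset.card_pos.1 hcard
      rw [Finset.mem_erase, hmemS] at hm
      rcases hvals m with h | h | h
      · rw [h] at hm; omega
      · exact ⟨m, hm.1, Or.inr (by rw [h0, h]; norm_num)⟩
      · exact ⟨m, hm.1, Or.inl (by rw [h0, h]; norm_num)⟩
  · -- odd shape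
    have hv : ∀ i, x i = 1 ∨ x i = -1 ∨ x i = 3 ∨ x i = -3 := by
      intro i
      by_cases hij : i = j
      · rw [hij]
        rcases val_of_sq_nine' hj9 with h | h
        · exact Or.inr (Or.inr (Or.inl h))
        · exact Or.inr (Or.inr (Or.inr h))
      · rcases val_of_sq_one' (hj1 i hij) with h | h
        · exact Or.inl h
        · exact Or.inr (Or.inl h)
    by_contra hcon
    push Not at hcon
    rcases hv none with h0 | h0 | h0 | h0
    · -- `x_∞ = 1`: no coordinate `-1`
      have hlow : ∀ i ∈ (Finset.univ : Finset GolayPt).erase none, 0 ≤ 2 * x i - (3 - x i ^ 2) := by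
        intro i hi
        have hi' := (Finset.mem_erase.1 hi).1
        have := hcon i hi'
        rcases hv i with h | h | h | h <;> rw [h] at this ⊢ <;> omega
      have hs := Finset.sum_nonneg hlow
      rw [Finset.sum_sub_distrib, Finset.sum_sub_distrib, ← Finset.mul_sum, hsq, Finset.sum_const,
        card_erase_none] at hs
      rw [h0] at hs hd
      simp only [nsmul_eq_mul] at hs
      omega
    · -- `x_∞ = -1`: no coordinate `1` or `-3`
      have hup : ∀ i ∈ (Finset.univ : Finset GolayPt).erase none, 0 ≤ (x i ^ 2 - 3) - 2 * x i := by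
        intro i hi
        have hi' := (Finset.mem_erase.1 hi).1
        have := hcon i hi'
        rcases hv i with h | h | h | h <;> rw [h] at this ⊢ <;> omega
      have hs := Finset.sum_nonneg hup
      rw [Finset.sum_sub_distrib, Finset.sum_sub_distrib, ← Finset.mul_sum, hsq, Finset.sum_const,
        card_erase_none] at hs
      rw [h0] at hs hd
      simp only [nsmul_eq_mul] at hs
      omega
    · -- `x_∞ = 3`
      have hlow : ∀ i ∈ (Finset.univ : Finset GolayPt).erase none, 0 ≤ 4 * x i + (x i ^ 2 + 3) := by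
        intro i _
        rcases hv i with h | h | h | h <;> rw [h] <;> norm_num
      have hs := Finset.sum_nonneg hlow
      rw [Finset.sum_add_distrib, Finset.sum_add_distrib, ← Finset.mul_sum, hsq, Finset.sum_const,
        card_erase_none] at hs
      rw [h0] at hs hd
      simp only [nsmul_eq_mul] at hs
      omega
    · -- `x_∞ = -3`: all other coordinates are `±1`, none is `-1`
      have hjn : j = none := by
        by_contra hne
        have := hj1 none (Ne.symm hne)
        rw [h0] at this; norm_num at this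
      have hall : ∀ i ∈ (Finset.univ : Finset GolayPt).erase none, x i = 1 := by
        intro i hi
        have hi' := (Finset.mem_erase.1 hi).1
        have := hcon i hi'
        rcases val_of_sq_one' (hj1 i (by rw [hjn]; exact hi')) with h | h
        · exact h
        · rw [h0, h] at this; omega
      rw [Finset.sum_congr rfl hall, Finset.sum_const, card_erase_none, h0] at hd
      simp only [nsmul_eq_mul] at hd
      omega

/-- a minimal vector with `w_∞ = -3` and `w_0 = 1` can be moved to `(-3, 1^23)` by a sign change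
fixing both `(4,4,0^22)` and `(4,-4,0^22)` -/
theorem exists_fix_frame_of_rigid8 (w : leechLattice) (hn : sqNorm (w : GolayPt → ℤ) = 32)
    (h1 : (w : GolayPt → ℤ) none = -3) (h2 : (w : GolayPt → ℤ) (some 0) = 1) :
    ∃ g : Co0, g • leechU = leechU ∧ g • yU = yU ∧ g • w = Cfsg.Agent.S0400.vOddL := by
  classical
  obtain ⟨x, hx⟩ := w
  simp only at hn h1 h2
  have hodd : ∀ i, x i % 2 = 1 := by
    obtain ⟨m, hm, -, -⟩ := (mem_leechLattice_iff _).1 hx
    intro j
    have a := hm none
    have b := hm j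
    simp only [Int.ModEq] at a b
    rw [h1] at a
    omega
  obtain ⟨j, hj9, hj1⟩ := Cfsg.Agent.S0400.odd_shape hodd hn
  have hjn : j = none := by
    by_contra hne
    have := hj1 none (Ne.symm hne)
    rw [h1] at this; norm_num at this
  subst hjn
  obtain ⟨m, -, -, h3⟩ := (mem_leechLattice_iff _).1 hx
  obtain ⟨C, hCdef⟩ : ∃ C : Finset GolayPt, C = Finset.univ.filter fun i => x i ≡ 3 [ZMOD 4] :=
    ⟨_, rfl⟩
  have hCs : C ∈ supports (golayCode : Set (GolayPt → ZMod 2)) := by rw [hCdef]; exact h3 3
  have hmemC : ∀ j, j ∈ C ↔ x j % 4 = 3 := by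
    intro j
    rw [hCdef, Finset.mem_filter]
    simp [Int.ModEq]
  have hCn : none ∉ C := by rw [hmemC, h1]; decide
  have hC0 : some 0 ∉ C := by rw [hmemC, h2]; decide
  have hfix : ∀ s : ℤ, signFun C (Pi.single none 4 + Pi.single (some 0) s : GolayPt → ℤ)
      = Pi.single none 4 + Pi.single (some 0) s := by
    intro s
    funext i
    unfold signFun
    by_cases hi : i ∈ C
    · rw [if_pos hi]
      have a : i ≠ none := fun h => hCn (h ▸ hi)
      have b : i ≠ some 0 := fun h => hC0 (h ▸ hi)
      simp [a, b]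
    · rw [if_neg hi]
  refine ⟨⟨signPerm C hCs, signPerm_mem C hCs⟩, ?_, ?_, ?_⟩
  · apply Subtype.ext
    show signFun C vecU = vecU
    rw [vecU_eq]
    exact hfix 4
  · apply Subtype.ext
    exact hfix (-4)
  · apply Subtype.ext
    show signFun C x = vOdd
    funext i
    unfold signFun vOdd
    by_cases hin : i = none
    · subst hin
      rw [if_neg hCn, if_pos rfl, h1]
    · rw [if_neg hin]
      have hv := val_of_sq_one' (hj1 i hin)
      by_cases hi : i ∈ C
      · rw [if_pos hi]
        have := (hmemC i).1 hi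
        rcases hv with h | h
        · rw [h] at this; omega
        · rw [h]; norm_num
      · rw [if_neg hi]
        have : ¬ x i % 4 = 3 := fun h => hi ((hmemC i).2 h)
        rcases hv with h | h
        · exact h
        · rw [h] at this; omega

/-- **Normal form of a triple of minimal vectors with Gram data `a·b = -8, a·x = -16, b·x = 0`.** -/
theorem triple_normal (a b x : leechLattice) (ha : sqNorm (a : GolayPt → ℤ) = 32)
    (hb : sqNorm (b : GolayPt → ℤ) = 32) (hx : sqNorm (x : GolayPt → ℤ) = 32)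
    (hab : dotInt (a : GolayPt → ℤ) (b : GolayPt → ℤ) = -8)
    (hax : dotInt (a : GolayPt → ℤ) (x : GolayPt → ℤ) = -16)
    (hbx : dotInt (b : GolayPt → ℤ) (x : GolayPt → ℤ) = 0) :
    ∃ g : Co0, g • a = Cfsg.Agent.S0400.vOddL ∧ g • b = leechU ∧ g • x = yU := by
  obtain ⟨g, hgb, hgx⟩ := orth_pair_trans b x leechU yU hb hx sqNorm_vecU sqNorm_yU hbx
    dotInt_vecU_yU
  have e1 : dotInt vecU ((g • a : leechLattice) : GolayPt → ℤ) = -8 := by
    have := co0_dotInt g b a
    rw [hgb] at this
    rw [show ((leechU : leechLattice) : GolayPt → ℤ) = vecU from rfl] at this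
    rw [this, dotInt_comm, hab]
  have e2 : dotInt (yU : GolayPt → ℤ) ((g • a : leechLattice) : GolayPt → ℤ) = -16 := by
    have := co0_dotInt g x a
    rw [hgx] at this
    rw [this, dotInt_comm, hax]
  rw [dotInt_vecU] at e1
  rw [dotInt_yU] at e2
  obtain ⟨h, h1, h2, h3⟩ := exists_fix_frame_of_rigid8 (g • a) (by rw [co0_sqNorm, ha])
    (by omega) (by omega)
  exact ⟨h * g, by rw [mul_smul, h3], by rw [mul_smul, hgb, h1], by rw [mul_smul, hgx, h2]⟩

/-- the standard vector of squared norm 48 adapted to the frame: `(1, 5, 1^22)` -/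
def u3std : leechLattice := Cfsg.Agent.S0400.vOddL + leechU

/-- **Normal form of a pair (vector of squared norm 48, minimal vector) with inner product
`-16`.** -/
theorem pair3_normal (u x : leechLattice) (hu : sqNorm (u : GolayPt → ℤ) = 48)
    (hx : sqNorm (x : GolayPt → ℤ) = 32)
    (hux : dotInt (u : GolayPt → ℤ) (x : GolayPt → ℤ) = -16) :
    ∃ g : Co0, g • u = u3std ∧ g • x = yU := by
  classical
  obtain ⟨g0, hg0⟩ := Cfsg.Agent.S0401.result u u5L hu sqNorm_u5
  have hx' : sqNorm ((g0 • x : leechLattice) : GolayPt → ℤ) = 32 := by rw [co0_sqNorm, hx]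
  have hd' : dotInt u5 ((g0 • x : leechLattice) : GolayPt → ℤ) = -16 := by
    have := co0_dotInt g0 u x
    rw [hg0] at this
    rw [← hux, ← this]; rfl
  obtain ⟨k, hk, hsum⟩ := exists_adapted_coord (g0 • x).2 hx' hd'
  -- the decomposition `u5 = a + b`
  have hamem : (Pi.single none 4 + Pi.single k 4 : GolayPt → ℤ) ∈ leechLattice :=
    pm4_pair_mem _ _ (Or.inl rfl) (Or.inl rfl)
  obtain ⟨a, haval⟩ : ∃ a : leechLattice,
      (a : GolayPt → ℤ) = Pi.single none 4 + Pi.single k 4 := ⟨⟨_, hamem⟩, rfl⟩
  obtain ⟨b, hbdef⟩ : ∃ b : leechLattice, b = u5L - a := ⟨_, rfl⟩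
  have hbval : (b : GolayPt → ℤ) = u5 - (a : GolayPt → ℤ) := by rw [hbdef]; rfl
  have hsum5 : a + b = u5L := by rw [hbdef]; abel
  have han : sqNorm (a : GolayPt → ℤ) = 32 := by
    rw [haval]; exact sqNorm_pm4_pair (Ne.symm hk) (Or.inl rfl) (Or.inl rfl)
  have hau : dotInt (a : GolayPt → ℤ) u5 = 24 := by
    rw [haval, dotInt_pair_left]
    simp [u5, hk]
  have hab : dotInt (a : GolayPt → ℤ) (b : GolayPt → ℤ) = -8 := by
    have h1 : dotInt (a : GolayPt → ℤ) (b : GolayPt → ℤ)
        = dotInt (a : GolayPt → ℤ) u5 - sqNorm (a : GolayPt → ℤ) := by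
      rw [hbval]
      unfold dotInt sqNorm
      rw [← Finset.sum_sub_distrib]
      refine Finset.sum_congr rfl fun i _ => ?_
      simp only [Pi.sub_apply]; ring
    rw [h1, hau, han]; norm_num
  have hbn : sqNorm (b : GolayPt → ℤ) = 32 := by
    rw [hbval, sqNorm_sub', sqNorm_u5, han, dotInt_comm, hau]; norm_num
  have hax : dotInt (a : GolayPt → ℤ) ((g0 • x : leechLattice) : GolayPt → ℤ)
      = 4 * (((g0 • x : leechLattice) : GolayPt → ℤ) none
        + ((g0 • x : leechLattice) : GolayPt → ℤ) k) := by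
    rw [haval, dotInt_pair_left]; ring
  have hbx : dotInt (b : GolayPt → ℤ) ((g0 • x : leechLattice) : GolayPt → ℤ)
      = -16 - dotInt (a : GolayPt → ℤ) ((g0 • x : leechLattice) : GolayPt → ℤ) := by
    rw [← hd', hbval]
    unfold dotInt
    rw [← Finset.sum_sub_distrib]
    refine Finset.sum_congr rfl fun i _ => ?_
    simp only [Pi.sub_apply]; ring
  have key : ∃ p q : leechLattice, p + q = u5L ∧ ∃ h : Co0,
      h • p = Cfsg.Agent.S0400.vOddL ∧ h • q = leechU ∧ h • (g0 • x) = yU := by
    rcases hsum with hs | hs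
    · -- `a · x = -16`, `b · x = 0`
      refine ⟨a, b, hsum5, triple_normal a b (g0 • x) han hbn hx' hab ?_ ?_⟩
      · rw [hax, hs]; norm_num
      · rw [hbx, hax, hs]; norm_num
    · -- `a · x = 0`, `b · x = -16`
      refine ⟨b, a, by rw [add_comm]; exact hsum5,
        triple_normal b a (g0 • x) hbn han hx' (by rw [dotInt_comm]; exact hab) ?_ ?_⟩
      · rw [hbx, hax, hs]; norm_num
      · rw [hax, hs]; norm_num
  obtain ⟨p, q, hpq, h, hp, hq, hxx⟩ := key
  refine ⟨h * g0, ?_, by rw [mul_smul, hxx]⟩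
  rw [mul_smul, hg0, ← hpq, co0_smul_add, hp, hq]
  rfl

/-- **`Co0` is transitive on pairs (vector of squared norm 48, minimal vector) with inner product
`-16`.** -/
theorem pair3_trans (u x u' x' : leechLattice) (hu : sqNorm (u : GolayPt → ℤ) = 48)
    (hx : sqNorm (x : GolayPt → ℤ) = 32)
    (hux : dotInt (u : GolayPt → ℤ) (x : GolayPt → ℤ) = -16)
    (hu' : sqNorm (u' : GolayPt → ℤ) = 48) (hx' : sqNorm (x' : GolayPt → ℤ) = 32)
    (hux' : dotInt (u' : GolayPt → ℤ) (x' : GolayPt → ℤ) = -16) :
    ∃ g : Co0, g • u = u' ∧ g • x = x' := by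
  obtain ⟨g, h1, h2⟩ := pair3_normal u x hu hx hux
  obtain ⟨g', h1', h2'⟩ := pair3_normal u' x' hu' hx' hux'
  refine ⟨g'⁻¹ * g, ?_, ?_⟩
  · rw [mul_smul, h1, ← h1', inv_smul_smul]
  · rw [mul_smul, h2, ← h2', inv_smul_smul]

end Cfsg.Agent.Lib.Helper8
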