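import Mathlib
import Cfsg.Agent.Lib.Helper8.Co3Orbits
import Cfsg.Agent.Lib.Helper8.Census3

/-!
# The Higman–Sims configuration in the Leech lattice

Standard position: `v = (1, 5, 1^22)`, `v + w = -(4, -4, 0^22)`.  The minimal vectors `x` with
`v · x = 24`, `w · x = -24` are `(4, 4, 0^22)`, the 22 vectors `(1, 1, -3_j, 1^21)` and the 77 vectors
`2 · 1_O` for the octads `O` through the first two points.
-/

set_option autoImplicit false

namespace Cfsg.Agent.Lib.Helper8
open Cfsg Cfsg.Agent.Lib.Helper7 Cfsg.Spor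

/-- `(1, 5, 1^22)` -/
def u3 : GolayPt → ℤ := fun i => if i = some 0 then 5 else 1

theorem u3std_coe : ((u3std : leechLattice) : GolayPt → ℤ) = u3 := by
  funext i
  show vOdd i + vecU i = u3 i
  unfold vOdd vecU u3
  by_cases h1 : i = none
  · subst h1; simp
  · by_cases h2 : i = some 0
    · subst h2; simp
    · simp [h1, h2]

theorem dotInt_u3 (x : GolayPt → ℤ) : dotInt u3 x = 4 * x (some 0) + ∑ i, x i := by
  unfold dotInt u3
  have h : ∀ i : GolayPt, (if i = some 0 then (5 : ℤ) else 1) * x i
      = x i + (if i = some 0 then 4 * x (some 0) else 0) := by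
    intro i
    by_cases hi : i = some 0
    · subst hi; simp; ring
    · simp [hi]
  rw [Finset.sum_congr rfl fun i _ => h i, Finset.sum_add_distrib, Finset.sum_ite_eq']
  simp; ring

theorem sqNorm_u3 : sqNorm u3 = 48 := by decide +kernel

/-- `(1, ..., 1, -3, 1, ..., 1)` with `-3` at `j` -/
def oddv (j : GolayPt) : GolayPt → ℤ := fun i => if i = j then -3 else 1

/-- `2` on the set `O` -/
def twoOn (O : Finset GolayPt) : GolayPt → ℤ := fun i => if i ∈ O then 2 else 0

theorem oddv_mem (j : GolayPt) : oddv j ∈ leechLattice := by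
  let x : Fin 1 ↪ GolayPt := ⟨![j], fun a b _ => Subsingleton.elim a b⟩
  let y : Fin 1 ↪ GolayPt := ⟨![none], fun a b _ => Subsingleton.elim a b⟩
  obtain ⟨g, hg, hgxy⟩ := exists_M24_map_emb (k := 1) (by decide) x y
  have hg0 : g j = none := hgxy 0
  have h := Cfsg.Agent.S0432.result g hg vOdd vOdd_mem
  have e : coordFun g vOdd = oddv j := by
    funext i
    unfold coordFun vOdd oddv
    by_cases hi : i = j
    · subst hi; rw [if_pos hg0, if_pos rfl]
    · rw [if_neg hi, if_neg]
      intro h'
      exact hi (g.injective (h'.trans hg0.symm))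
  rw [← e]
  exact h

theorem sqNorm_oddv : ∀ j : GolayPt, sqNorm (oddv j) = 32 := by decide +kernel

theorem sum_oddv : ∀ j : GolayPt, ∑ i, oddv j i = 20 := by decide +kernel

theorem twoOn_mem {O : Finset GolayPt} (hO : O ∈ octads) : twoOn O ∈ leechLattice := by
  classical
  rw [mem_leechLattice_iff]
  obtain ⟨⟨w, hw, hws⟩, h8⟩ := hO
  have hwi : ∀ i, w i = 1 ↔ i ∈ O := by
    intro i
    rw [← hws]
    simp only [support₂, Finset.mem_filter, Finset.mem_univ, true_and]
    exact (zmod2_ne_zero_iff _).symm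
  have hsum : ∑ i, twoOn O i = 16 := by
    unfold twoOn
    rw [Finset.sum_ite_mem, Finset.univ_inter, Finset.sum_const, h8]
    norm_num
  refine ⟨0, fun i => ?_, ?_, fun k => ?_⟩
  · unfold twoOn
    split_ifs <;> decide
  · rw [hsum]; decide
  · by_cases hk2 : k % 4 = 2
    · refine mem_supports_of_word w hw (fun i => ?_)
      rw [hwi]
      unfold twoOn
      by_cases hi : i ∈ O
      · rw [if_pos hi]
        simp only [Int.ModEq, hi, true_iff]; omega
      · rw [if_neg hi]
        simp only [Int.ModEq, hi, false_iff]; omega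
    · by_cases hk0 : k % 4 = 0
      · refine mem_supports_of_word (w + 1) (golayCode.add_mem hw golay_one_mem) (fun i => ?_)
        unfold twoOn
        by_cases hi : i ∈ O
        · have : w i = 1 := (hwi i).2 hi
          simp only [Pi.add_apply, Pi.one_apply, this, zmod2_one_add_one, if_pos hi, Int.ModEq]
          constructor
          · intro h; exact absurd h (by decide)
          · intro h; omega
        · have : w i = 0 := by
            rcases Cfsg.Agent.Lib.Helper7.zmod2_cases (w i) with h | h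
            · exact h
            · exact absurd ((hwi i).1 h) hi
          simp only [Pi.add_apply, Pi.one_apply, this, zero_add, if_neg hi, Int.ModEq, true_iff]
          omega
      · refine mem_supports_of_word 0 golayCode.zero_mem (fun i => ?_)
        unfold twoOn
        simp only [Pi.zero_apply, Int.ModEq]
        constructor
        · intro h; exact absurd h (by decide)
        · intro h
          split_ifs at h <;> omega

theorem sqNorm_twoOn {O : Finset GolayPt} (h8 : O.card = 8) : sqNorm (twoOn O) = 32 := by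
  classical
  unfold sqNorm twoOn
  have : ∀ i : GolayPt, (if i ∈ O then (2 : ℤ) else 0) ^ 2 = if i ∈ O then 4 else 0 := by
    intro i; split_ifs <;> norm_num
  rw [Finset.sum_congr rfl fun i _ => this i, Finset.sum_ite_mem, Finset.univ_inter,
    Finset.sum_const, h8]
  norm_num

theorem sum_twoOn {O : Finset GolayPt} (h8 : O.card = 8) : ∑ i, twoOn O i = 16 := by
  classical
  unfold twoOn
  rw [Finset.sum_ite_mem, Finset.univ_inter, Finset.sum_const, h8]
  norm_num

/-- the defining conditions of the standard configuration, on vectors -/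
def HSstd (x : GolayPt → ℤ) : Prop :=
  x ∈ leechLattice ∧ sqNorm x = 32 ∧ dotInt u3 x = 24 ∧ dotInt (yU : GolayPt → ℤ) x = 0

theorem hsstd_vecU : HSstd vecU := by
  refine ⟨leechU.2, sqNorm_vecU, ?_, ?_⟩
  · rw [dotInt_u3]; decide +kernel
  · rw [dotInt_yU]; decide

theorem hsstd_oddv {j : GolayPt} (hj : j ≠ none) (hj0 : j ≠ some 0) : HSstd (oddv j) := by
  refine ⟨oddv_mem j, sqNorm_oddv j, ?_, ?_⟩
  · rw [dotInt_u3, sum_oddv]
    unfold oddv
    rw [if_neg (Ne.symm hj0)]; norm_num
  · rw [dotInt_yU]
    unfold oddv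
    rw [if_neg (Ne.symm hj), if_neg (Ne.symm hj0)]; norm_num

theorem hsstd_twoOn {O : Finset GolayPt} (hO : O ∈ octads) (h1 : none ∈ O) (h2 : some 0 ∈ O) :
    HSstd (twoOn O) := by
  refine ⟨twoOn_mem hO, sqNorm_twoOn hO.2, ?_, ?_⟩
  · rw [dotInt_u3, sum_twoOn hO.2]
    unfold twoOn
    rw [if_pos h2]; norm_num
  · rw [dotInt_yU]
    unfold twoOn
    rw [if_pos h1, if_pos h2]; norm_num

/-- **Classification of the standard Higman–Sims configuration.** -/
theorem hs_classify {x : GolayPt → ℤ} (h : HSstd x) :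
    x = vecU ∨ (∃ j, j ≠ none ∧ j ≠ some 0 ∧ x = oddv j) ∨
      (∃ O ∈ octads, none ∈ O ∧ some 0 ∈ O ∧ x = twoOn O) := by
  classical
  obtain ⟨hx, hn, h1, h2⟩ := h
  rw [dotInt_u3] at h1
  rw [dotInt_yU] at h2
  have ht : x none = x (some 0) := by omega
  have hnsum : ∑ i, x i ^ 2 = 32 := hn
  rcases min_shape hx hn with ⟨j, k, hjk, hj, hk, hother⟩ | ⟨hvals, hoct⟩ | ⟨hodd, j, hj9, hj1⟩
  · -- shape (±4, ±4, 0^22)
    left
    have hval : ∀ i, x i = 0 ∨ x i = 4 ∨ x i = -4 := by
      intro i
      by_cases hij : i = j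
      · rw [hij]; exact Or.inr hj
      · by_cases hik : i = k
        · rw [hik]; exact Or.inr hk
        · exact Or.inl (hother i hij hik)
    have hb : ∀ i ∈ (Finset.univ : Finset GolayPt), 4 * x i ≤ x i ^ 2 := by
      intro i _; rcases hval i with h | h | h <;> rw [h] <;> norm_num
    have hs := Finset.sum_le_sum hb
    rw [← Finset.mul_sum, hnsum] at hs
    have h0 : x (some 0) = 4 := by
      rcases hval (some 0) with h | h | h <;> rw [h] at h1 <;> omega
    have hinf : x none = 4 := by rw [ht, h0]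
    have hjk' : (j = none ∧ k = some 0) ∨ (j = some 0 ∧ k = none) := by
      have a1 : none = j ∨ none = k := by
        by_contra hcon
        push Not at hcon
        have := hother none hcon.1 hcon.2
        omega
      have a2 : some 0 = j ∨ some 0 = k := by
        by_contra hcon
        push Not at hcon
        have := hother (some 0) hcon.1 hcon.2
        omega
      rcases a1 with a1 | a1 <;> rcases a2 with a2 | a2
      · rw [← a1] at a2; exact absurd a2 (by decide)
      · left; exact ⟨a1.symm, a2.symm⟩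
      · right; exact ⟨a2.symm, a1.symm⟩
      · rw [← a1] at a2; exact absurd a2 (by decide)
    funext i
    unfold vecU
    by_cases hi1 : i = none
    · subst hi1; simp [hinf]
    · by_cases hi2 : i = some 0
      · subst hi2; simp [h0]
      · simp only [hi1, hi2, or_self, if_false]
        rcases hjk' with ⟨a, b⟩ | ⟨a, b⟩
        · exact hother i (by rw [a]; exact hi1) (by rw [b]; exact hi2)
        · exact hother i (by rw [a]; exact hi2) (by rw [b]; exact hi1)
  · -- shape (±2^8, 0^16)
    right; right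
    obtain ⟨S, hSdef⟩ : ∃ S : Finset GolayPt, S = Finset.univ.filter fun i => x i % 4 = 2 :=
      ⟨_, rfl⟩
    rw [← hSdef] at hoct
    have hmemS : ∀ i, i ∈ S ↔ x i % 4 = 2 := by
      intro i; rw [hSdef, Finset.mem_filter]; simp
    have hb : ∀ i ∈ (Finset.univ : Finset GolayPt), 0 ≤ x i ^ 2 - 2 * x i := by
      intro i _; rcases hvals i with h | h | h <;> rw [h] <;> norm_num
    have hs := Finset.sum_nonneg hb
    rw [Finset.sum_sub_distrib, ← Finset.mul_sum, hnsum] at hs
    have h0 : x (some 0) = 2 := by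
      rcases hvals (some 0) with h | h | h <;> rw [h] at h1 <;> omega
    have hinf : x none = 2 := by rw [ht, h0]
    have hsum : ∑ i, x i = 16 := by rw [h0] at h1; omega
    have hz : ∑ i, (x i ^ 2 - 2 * x i) = 0 := by
      rw [Finset.sum_sub_distrib, ← Finset.mul_sum, hnsum, hsum]; norm_num
    have hall := (Finset.sum_eq_zero_iff_of_nonneg hb).1 hz
    have hv2 : ∀ i, x i = 0 ∨ x i = 2 := by
      intro i
      have := hall i (Finset.mem_univ i)
      rcases hvals i with h | h | h
      · exact Or.inl h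
      · exact Or.inr h
      · rw [h] at this; norm_num at this
    refine ⟨S, hoct, (hmemS none).2 (by rw [hinf]; decide), (hmemS (some 0)).2 (by rw [h0]; decide),
      ?_⟩
    funext i
    unfold twoOn
    by_cases hi : i ∈ S
    · rw [if_pos hi]
      have := (hmemS i).1 hi
      rcases hv2 i with h | h
      · rw [h] at this; omega
      · exact h
    · rw [if_neg hi]
      have : ¬ x i % 4 = 2 := fun h => hi ((hmemS i).2 h)
      rcases hv2 i with h | h
      · exact h
      · rw [h] at this; omega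
  · -- odd shape
    right; left
    have hv : ∀ i, i ≠ j → (x i = 1 ∨ x i = -1) := fun i hi => val_of_sq_one' (hj1 i hi)
    have hvj : x j = 3 ∨ x j = -3 := val_of_sq_nine' hj9
    have hjn : j ≠ none := by
      intro hjn
      subst hjn
      rcases hv (some 0) (by decide) with h | h <;> rcases hvj with h' | h' <;> omega
    have hj0 : j ≠ some 0 := by
      intro hj0
      subst hj0
      rcases hv none (by decide) with h | h <;> rcases hvj with h' | h' <;> omega
    have hb : ∀ i ∈ (Finset.univ : Finset GolayPt), 4 * x i ≤ x i ^ 2 + 3 := by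
      intro i _
      by_cases hi : i = j
      · rw [hi]; rcases hvj with h | h <;> rw [h] <;> norm_num
      · rcases hv i hi with h | h <;> rw [h] <;> norm_num
    have hs := Finset.sum_le_sum hb
    rw [← Finset.mul_sum, Finset.sum_add_distrib, hnsum, Finset.sum_const, card_univ_golayPt] at hs
    simp only [nsmul_eq_mul] at hs
    push_cast at hs
    have h0 : x (some 0) = 1 := by
      rcases hv (some 0) (Ne.symm hj0) with h | h
      · exact h
      · rw [h] at h1; omega
    have hsum : ∑ i, x i = 20 := by rw [h0] at h1; omega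
    refine ⟨j, hjn, hj0, ?_⟩
    rcases hvj with hj3 | hj3
    · -- `x j = 3` is impossible
      exfalso
      obtain ⟨m, -, -, h3⟩ := (mem_leechLattice_iff _).1 hx
      obtain ⟨C, hCdef⟩ : ∃ C : Finset GolayPt, C = Finset.univ.filter fun i => x i ≡ 3 [ZMOD 4] :=
        ⟨_, rfl⟩
      have hCs : C ∈ supports (golayCode : Set (GolayPt → ZMod 2)) := by rw [hCdef]; exact h3 3
      have hterm : ∀ i : GolayPt, (if x i ≡ 3 [ZMOD 4] then (2 : ℤ) else 0)
          = 1 - x i + (if i = j then 4 else 0) := by
        intro i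
        by_cases hi : i = j
        · rw [hi, hj3, if_pos rfl, if_pos (by decide)]; norm_num
        · rw [if_neg hi]
          rcases hv i hi with h | h
          · rw [h, if_neg (by decide)]; norm_num
          · rw [h, if_pos (by decide)]; norm_num
      have hcard : (2 : ℤ) * C.card = 8 := by
        have e : (C.card : ℤ) = ∑ i, (if x i ≡ 3 [ZMOD 4] then (1 : ℤ) else 0) := by
          rw [hCdef, Finset.card_filter]
          push_cast
          rfl
        have e2 : (2 : ℤ) * C.card = ∑ i, (if x i ≡ 3 [ZMOD 4] then (2 : ℤ) else 0) := by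
          rw [e, Finset.mul_sum]
          exact Finset.sum_congr rfl fun i _ => by split_ifs <;> norm_num
        rw [e2, Finset.sum_congr rfl fun i _ => hterm i, Finset.sum_add_distrib,
          Finset.sum_sub_distrib, hsum, Finset.sum_ite_eq', Finset.sum_const, card_univ_golayPt]
        simp
      obtain ⟨w, hw, hws⟩ := hCs
      have := Helper26.card_support₂_cases hw
      rw [hws] at this
      omega
    · -- `x j = -3`: all other coordinates are `1`
      have hb2 : ∀ i ∈ (Finset.univ : Finset GolayPt).erase j, 0 ≤ 1 - x i := by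
        intro i hi
        rcases hv i (Finset.mem_erase.1 hi).1 with h | h <;> rw [h] <;> norm_num
      have hz : ∑ i ∈ (Finset.univ : Finset GolayPt).erase j, (1 - x i) = 0 := by
        have e1 := Finset.add_sum_erase Finset.univ x (Finset.mem_univ j)
        rw [hsum, hj3] at e1
        rw [Finset.sum_sub_distrib, Finset.sum_const, Finset.card_erase_of_mem (Finset.mem_univ j),
          card_univ_golayPt]
        simp only [nsmul_eq_mul]
        push_cast
        linarith
      have hall := (Finset.sum_eq_zero_iff_of_nonneg hb2).1 hz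
      funext i
      unfold oddv
      by_cases hi : i = j
      · rw [if_pos hi, hi, hj3]
      · rw [if_neg hi]
        have := hall i (Finset.mem_erase.2 ⟨hi, Finset.mem_univ i⟩)
        omega

/-! ### counting -/

/-- the octads through the first two points -/
def hexF : Finset (Finset GolayPt) :=
  (Helper26.codeMasks.filter fun m => (Helper26.popT m == 8 && m.testBit 23 && m.testBit 0) = true).image Helper26.setOf

theorem card_hexF : hexF.card = 77 := by
  unfold hexF
  rw [Finset.card_image_of_injOn, ← Helper26.countCode_eq_card]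
  · decide +kernel
  · intro m hm n hn h
    rw [Finset.mem_coe, Finset.mem_filter, Helper26.mem_codeMasks] at hm hn
    exact Helper26.setOf_injOn (Helper26.isCode_lt hm.1) (Helper26.isCode_lt hn.1) h

theorem idx_none : Helper26.idx none = 23 := rfl

theorem idx_zero : Helper26.idx (some 0) = 0 := rfl

theorem mem_hexF {O : Finset GolayPt} : O ∈ hexF ↔ O ∈ octads ∧ none ∈ O ∧ some 0 ∈ O := by
  unfold hexF
  rw [Finset.mem_image]
  constructor
  · rintro ⟨m, hm, rfl⟩
    rw [Finset.mem_filter, Helper26.mem_codeMasks] at hm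
    obtain ⟨hc, hp⟩ := hm
    simp only [Bool.and_eq_true, beq_iff_eq] at hp
    have hlt := Helper26.isCode_lt hc
    refine ⟨(Helper26.setOf_mem_octads_iff hlt).2 ⟨hc, by rw [Helper26.popc_eq_popT hlt]; exact hp.1.1⟩, ?_, ?_⟩
    · rw [Helper26.mem_setOf, idx_none]; exact hp.1.2
    · rw [Helper26.mem_setOf, idx_zero]; exact hp.2
  · rintro ⟨hO, h1, h2⟩
    rw [Helper26.mem_octads_iff] at hO
    have hlt := Helper26.isCode_lt hO.1
    refine ⟨Helper26.maskOfSet O, ?_, Helper26.setOf_maskOfSet O⟩
    rw [Finset.mem_filter, Helper26.mem_codeMasks]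
    refine ⟨hO.1, ?_⟩
    simp only [Bool.and_eq_true, beq_iff_eq]
    refine ⟨⟨by rw [← Helper26.popc_eq_popT hlt]; exact hO.2, ?_⟩, ?_⟩
    · have := Helper26.testBit_maskOfSet_idx O none
      rw [idx_none] at this
      rw [this]; simpa using h1
    · have := Helper26.testBit_maskOfSet_idx O (some 0)
      rw [idx_zero] at this
      rw [this]; simpa using h2

/-- the points other than the first two -/
def ptsF : Finset GolayPt := (Finset.univ.erase none).erase (some 0)

theorem mem_ptsF {j : GolayPt} : j ∈ ptsF ↔ j ≠ none ∧ j ≠ some 0 := by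
  unfold ptsF
  simp only [Finset.mem_erase, Finset.mem_univ, and_true]
  tauto

theorem card_ptsF : ptsF.card = 22 := by decide

theorem oddv_injective : Function.Injective oddv := by
  intro j j' h
  have := congrFun h j
  unfold oddv at this
  rw [if_pos rfl] at this
  by_contra hne
  rw [if_neg hne] at this
  norm_num at this

theorem twoOn_injective : Function.Injective twoOn := by
  intro O O' h
  ext i
  have := congrFun h i
  unfold twoOn at this
  by_cases hi : i ∈ O <;> by_cases hi' : i ∈ O'
  · exact ⟨fun _ => hi', fun _ => hi⟩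
  · rw [if_pos hi, if_neg hi'] at this; norm_num at this
  · rw [if_neg hi, if_pos hi'] at this; norm_num at this
  · exact ⟨fun h => absurd h hi, fun h => absurd h hi'⟩

/-- the standard configuration as a finite set -/
def hsF : Finset (GolayPt → ℤ) := ({vecU} ∪ ptsF.image oddv) ∪ hexF.image twoOn

theorem mem_hsF {x : GolayPt → ℤ} : x ∈ hsF ↔ HSstd x := by
  unfold hsF
  rw [Finset.mem_union, Finset.mem_union, Finset.mem_singleton, Finset.mem_image, Finset.mem_image]
  constructor
  · rintro ((rfl | ⟨j, hj, rfl⟩) | ⟨O, hO, rfl⟩)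
    · exact hsstd_vecU
    · rw [mem_ptsF] at hj
      exact hsstd_oddv hj.1 hj.2
    · rw [mem_hexF] at hO
      exact hsstd_twoOn hO.1 hO.2.1 hO.2.2
  · intro h
    rcases hs_classify h with rfl | ⟨j, hj, hj0, rfl⟩ | ⟨O, hO, h1, h2, rfl⟩
    · exact Or.inl (Or.inl rfl)
    · exact Or.inl (Or.inr ⟨j, mem_ptsF.2 ⟨hj, hj0⟩, rfl⟩)
    · exact Or.inr ⟨O, mem_hexF.2 ⟨hO, h1, h2⟩, rfl⟩

theorem card_hsF : hsF.card = 100 := by
  unfold hsF
  have d1 : Disjoint ({vecU} : Finset (GolayPt → ℤ)) (ptsF.image oddv) := by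
    rw [Finset.disjoint_left]
    intro x hx hx'
    rw [Finset.mem_singleton] at hx
    obtain ⟨j, hj, rfl⟩ := Finset.mem_image.1 hx'
    have := congrFun hx none
    unfold oddv vecU at this
    rw [if_neg (Ne.symm (mem_ptsF.1 hj).1)] at this
    simp at this
  have d2 : Disjoint (({vecU} : Finset (GolayPt → ℤ)) ∪ ptsF.image oddv) (hexF.image twoOn) := by
    rw [Finset.disjoint_left]
    intro x hx hx'
    obtain ⟨O, hO, rfl⟩ := Finset.mem_image.1 hx'
    have hn : twoOn O none = 2 := by
      unfold twoOn; rw [if_pos (mem_hexF.1 hO).2.1]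
    rw [Finset.mem_union, Finset.mem_singleton] at hx
    rcases hx with hx | hx
    · have := congrFun hx none
      rw [hn] at this
      unfold vecU at this
      simp at this
    · obtain ⟨j, hj, hjx⟩ := Finset.mem_image.1 hx
      have := congrFun hjx none
      rw [hn] at this
      unfold oddv at this
      rw [if_neg (Ne.symm (mem_ptsF.1 hj).1)] at this
      norm_num at this
  rw [Finset.card_union_of_disjoint d2, Finset.card_union_of_disjoint d1, Finset.card_singleton,
    Finset.card_image_of_injective _ oddv_injective, Finset.card_image_of_injective _ twoOn_injective,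
    card_ptsF, card_hexF]

/-! ### general position -/

theorem co0_smul_zero (g : Co0) : g • (0 : leechLattice) = 0 := by
  have := co0_smul_add g 0 0
  rw [add_zero] at this
  exact left_eq_add.1 this

theorem co0_smul_neg (g : Co0) (z : leechLattice) : g • (-z) = -(g • z) := by
  have := co0_smul_add g z (-z)
  rw [add_neg_cancel, co0_smul_zero] at this
  exact (neg_eq_of_add_eq_zero_right this.symm).symm

theorem co0_smul_sub (g : Co0) (y z : leechLattice) : g • (y - z) = g • y - g • z := by
  rw [sub_eq_add_neg, co0_smul_add, co0_smul_neg, ← sub_eq_add_neg]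

theorem dotInt_neg_left (v w : GolayPt → ℤ) : dotInt (-v) w = - dotInt v w := by
  rw [dotInt_comm, dotInt_neg_right, dotInt_comm]

theorem dotInt_sub_left (a b w : GolayPt → ℤ) : dotInt (a - b) w = dotInt a w - dotInt b w := by
  rw [dotInt_comm, dotInt_sub_right, dotInt_comm, dotInt_comm w b]

/-- the partner of `(1, 5, 1^22)` in standard position -/
def w3std : leechLattice := -yU - u3std

theorem dotInt_w3std (x : GolayPt → ℤ) :
    dotInt (w3std : GolayPt → ℤ) x = - dotInt (yU : GolayPt → ℤ) x - dotInt u3 x := by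
  show dotInt (-(yU : GolayPt → ℤ) - (u3std : GolayPt → ℤ)) x = _
  rw [dotInt_sub_left, dotInt_neg_left, u3std_coe]

/-- the Higman–Sims conditions for the standard pair -/
theorem hs_std_iff (x : leechLattice) :
    (sqNorm (x : GolayPt → ℤ) = 32 ∧ dotInt (u3std : GolayPt → ℤ) (x : GolayPt → ℤ) = 24 ∧
      dotInt (w3std : GolayPt → ℤ) (x : GolayPt → ℤ) = -24) ↔ HSstd (x : GolayPt → ℤ) := by
  rw [dotInt_w3std, u3std_coe]
  unfold HSstd
  constructor
  · rintro ⟨h1, h2, h3⟩
    exact ⟨x.2, h1, h2, by omega⟩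
  · rintro ⟨-, h1, h2, h3⟩
    exact ⟨h1, h2, by omega⟩

/-- the minimal vector `-(v + w)` attached to a Higman–Sims pair -/
theorem hs_x0 (v w : leechLattice) (hv : sqNorm (v : GolayPt → ℤ) = 48)
    (hw : sqNorm (w : GolayPt → ℤ) = 48)
    (hvw : dotInt (v : GolayPt → ℤ) (w : GolayPt → ℤ) = -32) :
    sqNorm ((-(v + w) : leechLattice) : GolayPt → ℤ) = 32 ∧
      dotInt (v : GolayPt → ℤ) ((-(v + w) : leechLattice) : GolayPt → ℤ) = -16 := by
  constructor
  · show sqNorm (-((v : GolayPt → ℤ) + (w : GolayPt → ℤ))) = 32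
    rw [sqNorm_neg', sqNorm_add', hv, hw, hvw]; norm_num
  · show dotInt (v : GolayPt → ℤ) (-((v : GolayPt → ℤ) + (w : GolayPt → ℤ))) = -16
    rw [dotInt_neg_right, dotInt_add_right, ← sqNorm_eq_dotInt, hv, hvw]; norm_num

/-- every Higman–Sims pair can be moved to the standard one -/
theorem hs_normal (v w : leechLattice) (hv : sqNorm (v : GolayPt → ℤ) = 48)
    (hw : sqNorm (w : GolayPt → ℤ) = 48)
    (hvw : dotInt (v : GolayPt → ℤ) (w : GolayPt → ℤ) = -32) :
    ∃ g : Co0, g • v = u3std ∧ g • w = w3std := by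
  obtain ⟨h1, h2⟩ := hs_x0 v w hv hw hvw
  obtain ⟨g, hg1, hg2⟩ := pair3_normal v (-(v + w)) hv h1 h2
  refine ⟨g, hg1, ?_⟩
  have e : w = -(-(v + w)) - v := by abel
  rw [e, co0_smul_sub, co0_smul_neg, hg1, hg2]
  rfl

/-- transport of the Higman–Sims set by an automorphism -/
theorem hs_set_smul (g : Co0) (v w : leechLattice) :
    {x : leechLattice | sqNorm (x : GolayPt → ℤ) = 32 ∧
        dotInt ((g • v : leechLattice) : GolayPt → ℤ) (x : GolayPt → ℤ) = 24 ∧
        dotInt ((g • w : leechLattice) : GolayPt → ℤ) (x : GolayPt → ℤ) = -24}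
      = (fun x => g • x) '' {x : leechLattice | sqNorm (x : GolayPt → ℤ) = 32 ∧
        dotInt (v : GolayPt → ℤ) (x : GolayPt → ℤ) = 24 ∧
        dotInt (w : GolayPt → ℤ) (x : GolayPt → ℤ) = -24} := by
  ext y
  constructor
  · rintro ⟨h1, h2, h3⟩
    refine ⟨g⁻¹ • y, ⟨by rw [co0_sqNorm]; exact h1, ?_, ?_⟩, smul_inv_smul g y⟩
    · have := co0_dotInt g v (g⁻¹ • y)
      rw [smul_inv_smul] at this
      rw [← this]; exact h2
    · have := co0_dotInt g w (g⁻¹ • y)
      rw [smul_inv_smul] at this
      rw [← this]; exact h3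
  · rintro ⟨x, ⟨h1, h2, h3⟩, rfl⟩
    exact ⟨by rw [co0_sqNorm]; exact h1, by rw [co0_dotInt]; exact h2,
      by rw [co0_dotInt]; exact h3⟩

/-- **The Higman–Sims set has 100 elements.** -/
theorem hs_ncard (v w : leechLattice) (hv : sqNorm (v : GolayPt → ℤ) = 48)
    (hw : sqNorm (w : GolayPt → ℤ) = 48)
    (hvw : dotInt (v : GolayPt → ℤ) (w : GolayPt → ℤ) = -32) :
    {x : leechLattice | sqNorm (x : GolayPt → ℤ) = 32 ∧
        dotInt (v : GolayPt → ℤ) (x : GolayPt → ℤ) = 24 ∧
        dotInt (w : GolayPt → ℤ) (x : GolayPt → ℤ) = -24}.ncard = 100 := by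
  obtain ⟨g, hg1, hg2⟩ := hs_normal v w hv hw hvw
  have h := hs_set_smul g v w
  rw [hg1, hg2] at h
  rw [← Set.ncard_image_of_injective _ (MulAction.injective g), ← h]
  have e : {x : leechLattice | sqNorm (x : GolayPt → ℤ) = 32 ∧
        dotInt (u3std : GolayPt → ℤ) (x : GolayPt → ℤ) = 24 ∧
        dotInt (w3std : GolayPt → ℤ) (x : GolayPt → ℤ) = -24}
      = {x : leechLattice | HSstd (x : GolayPt → ℤ)} := by
    ext x
    exact hs_std_iff x
  rw [e, ncard_subtype_leech HSstd]
  have e2 : {w : GolayPt → ℤ | w ∈ leechLattice ∧ HSstd w} = ↑hsF := by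
    ext x
    rw [Finset.mem_coe, mem_hsF]
    exact ⟨fun h => h.2, fun h => ⟨h.1, h⟩⟩
  rw [e2, Set.ncard_coe_finset, card_hsF]

/-- **The joint stabiliser of a Higman–Sims pair is transitive on the Higman–Sims set.** -/
theorem hs_trans (v w x x' : leechLattice) (hv : sqNorm (v : GolayPt → ℤ) = 48)
    (hw : sqNorm (w : GolayPt → ℤ) = 48)
    (hvw : dotInt (v : GolayPt → ℤ) (w : GolayPt → ℤ) = -32)
    (hx : sqNorm (x : GolayPt → ℤ) = 32)
    (hvx : dotInt (v : GolayPt → ℤ) (x : GolayPt → ℤ) = 24)
    (hwx : dotInt (w : GolayPt → ℤ) (x : GolayPt → ℤ) = -24)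
    (hx' : sqNorm (x' : GolayPt → ℤ) = 32)
    (hvx' : dotInt (v : GolayPt → ℤ) (x' : GolayPt → ℤ) = 24)
    (hwx' : dotInt (w : GolayPt → ℤ) (x' : GolayPt → ℤ) = -24) :
    ∃ g : Co0, g • v = v ∧ g • w = w ∧ g • x = x' := by
  obtain ⟨h1, h2⟩ := hs_x0 v w hv hw hvw
  -- normal form of one point
  have hnf : ∀ y : leechLattice, sqNorm (y : GolayPt → ℤ) = 32 →
      dotInt (v : GolayPt → ℤ) (y : GolayPt → ℤ) = 24 →
      dotInt (w : GolayPt → ℤ) (y : GolayPt → ℤ) = -24 →
      ∃ g : Co0, g • (v - y) = Cfsg.Agent.S0400.vOddL ∧ g • y = leechU ∧ g • (-(v + w)) = yU := by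
    intro y hy hvy hwy
    have e0 : dotInt (y : GolayPt → ℤ) ((-(v + w) : leechLattice) : GolayPt → ℤ) = 0 := by
      show dotInt (y : GolayPt → ℤ) (-((v : GolayPt → ℤ) + (w : GolayPt → ℤ))) = 0
      rw [dotInt_neg_right, dotInt_add_right, dotInt_comm, hvy, dotInt_comm, hwy]; norm_num
    refine triple_normal (v - y) y (-(v + w)) ?_ hy h1 ?_ ?_ e0
    · show sqNorm ((v : GolayPt → ℤ) - (y : GolayPt → ℤ)) = 32
      rw [sqNorm_sub', hv, hy, hvy]; norm_num
    · show dotInt ((v : GolayPt → ℤ) - (y : GolayPt → ℤ)) (y : GolayPt → ℤ) = -8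
      rw [dotInt_sub_left, hvy, ← sqNorm_eq_dotInt, hy]; norm_num
    · show dotInt ((v : GolayPt → ℤ) - (y : GolayPt → ℤ))
        ((-(v + w) : leechLattice) : GolayPt → ℤ) = -16
      rw [dotInt_sub_left, h2, e0]; norm_num
  obtain ⟨g, ha, hb, hc⟩ := hnf x hx hvx hwx
  obtain ⟨g', ha', hb', hc'⟩ := hnf x' hx' hvx' hwx'
  have k1 : (g'⁻¹ * g) • x = x' := by rw [mul_smul, hb, ← hb', inv_smul_smul]
  have k2 : (g'⁻¹ * g) • (v - x) = v - x' := by rw [mul_smul, ha, ← ha', inv_smul_smul]
  have k3 : (g'⁻¹ * g) • (-(v + w)) = -(v + w) := by rw [mul_smul, hc, ← hc', inv_smul_smul]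
  have k4 : (g'⁻¹ * g) • v = v := by
    have e : v = (v - x) + x := by abel
    rw [e, co0_smul_add, k1, k2]; abel
  refine ⟨g'⁻¹ * g, k4, ?_, k1⟩
  have e : w = -(-(v + w)) - v := by abel
  rw [e, co0_smul_sub, co0_smul_neg, k3, k4]

end Cfsg.Agent.Lib.Helper8
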