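import Mathlib
import Cfsg.Agent.Lib.Helper8.HSConfig

/-!
# The Higman–Sims configuration: rank 3

In standard position the stabiliser of `(4,4,0^22)` in the Higman–Sims set contains the coordinate
permutations from `M24` fixing the first two points; these are transitive on the 22 vectors
`(1,1,-3_j,1^21)` and on the 77 vectors `2 · 1_O`.
-/

set_option autoImplicit false

namespace Cfsg.Agent.Lib.Helper8
open Cfsg Cfsg.Agent.Lib.Helper7 Cfsg.Spor
open scoped Pointwise

theorem signedPerm_empty (σ : Equiv.Perm GolayPt) (x : GolayPt → ℤ) :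
    signedPerm σ ∅ x = fun i => x (σ.symm i) := by
  funext i
  simp [signedPerm]

/-- the coordinate permutation by an element of `M24`, as an element of `Co0` -/
noncomputable def permCo0 (σ : Equiv.Perm GolayPt) (hσ : σ ∈ M24) : Co0 :=
  monoCo0 σ hσ ∅ Cfsg.Spor.empty_mem_supports_golayCode

theorem permCo0_apply (σ : Equiv.Perm GolayPt) (hσ : σ ∈ M24) (v : leechLattice) :
    ((permCo0 σ hσ • v : leechLattice) : GolayPt → ℤ) = fun i => (v : GolayPt → ℤ) (σ.symm i) := by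
  unfold permCo0
  rw [monoCo0_apply, signedPerm_empty]

theorem permCo0_fix_std (σ : Equiv.Perm GolayPt) (hσ : σ ∈ M24) (h0 : σ none = none)
    (h1 : σ (some 0) = some 0) :
    permCo0 σ hσ • u3std = u3std ∧ permCo0 σ hσ • w3std = w3std ∧
      permCo0 σ hσ • leechU = leechU := by
  have hs0 : ∀ i, σ.symm i = none ↔ i = none := by
    intro i; rw [Equiv.symm_apply_eq, h0]
  have hs1 : ∀ i, σ.symm i = some 0 ↔ i = some 0 := by
    intro i; rw [Equiv.symm_apply_eq, h1]
  have e1 : permCo0 σ hσ • u3std = u3std := by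
    apply Subtype.ext
    rw [permCo0_apply, u3std_coe]
    funext i
    unfold u3
    simp only [hs1]
  have e2 : permCo0 σ hσ • yU = yU := by
    apply Subtype.ext
    rw [permCo0_apply]
    funext i
    show (Pi.single none 4 + Pi.single (some 0) (-4) : GolayPt → ℤ) (σ.symm i)
      = (Pi.single none 4 + Pi.single (some 0) (-4) : GolayPt → ℤ) i
    simp only [Pi.add_apply, Pi.single_apply, hs0, hs1]
  have e3 : permCo0 σ hσ • leechU = leechU := by
    apply Subtype.ext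
    rw [permCo0_apply]
    funext i
    show vecU (σ.symm i) = vecU i
    unfold vecU
    simp only [hs0, hs1]
  refine ⟨e1, ?_, e3⟩
  unfold w3std
  rw [co0_smul_sub, co0_smul_neg, e1, e2]

/-- `oddv j` as a lattice element -/
def oddvL (j : GolayPt) : leechLattice := ⟨oddv j, oddv_mem j⟩

/-- `twoOn O` as a lattice element -/
def twoOnL (O : Finset GolayPt) (hO : O ∈ octads) : leechLattice := ⟨twoOn O, twoOn_mem hO⟩

theorem permCo0_oddv (σ : Equiv.Perm GolayPt) (hσ : σ ∈ M24) (j : GolayPt) :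
    permCo0 σ hσ • oddvL j = oddvL (σ j) := by
  apply Subtype.ext
  rw [permCo0_apply]
  funext i
  show oddv j (σ.symm i) = oddv (σ j) i
  unfold oddv
  simp only [Equiv.symm_apply_eq]

theorem permCo0_twoOn (σ : Equiv.Perm GolayPt) (hσ : σ ∈ M24) (O : Finset GolayPt)
    (hO : O ∈ octads) :
    permCo0 σ hσ • twoOnL O hO = twoOnL (σ • O) (smul_mem_octads hσ hO) := by
  apply Subtype.ext
  rw [permCo0_apply]
  funext i
  show twoOn O (σ.symm i) = twoOn (σ • O) i
  unfold twoOn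
  have : i ∈ σ • O ↔ σ.symm i ∈ O := by
    rw [← apply_mem_perm_smul_finset σ O (σ.symm i), Equiv.apply_symm_apply]
  simp only [this]

/-- transitivity on the 22 points -/
theorem exists_perm_pts {j j' : GolayPt} (hj : j ∈ ptsF) (hj' : j' ∈ ptsF) :
    ∃ σ ∈ M24, σ none = none ∧ σ (some 0) = some 0 ∧ σ j = j' := by
  rw [mem_ptsF] at hj hj'
  have hinj1 : Function.Injective (![none, some 0, j] : Fin 3 → GolayPt) := by
    intro a b hab
    fin_cases a <;> fin_cases b <;> simp_all [Ne.symm hj.1, Ne.symm hj.2]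
  have hinj2 : Function.Injective (![none, some 0, j'] : Fin 3 → GolayPt) := by
    intro a b hab
    fin_cases a <;> fin_cases b <;> simp_all [Ne.symm hj'.1, Ne.symm hj'.2]
  obtain ⟨σ, hσM, hσ⟩ := exists_M24_map_emb (k := 3) (by norm_num) ⟨_, hinj1⟩ ⟨_, hinj2⟩
  exact ⟨σ, hσM, hσ 0, hσ 1, hσ 2⟩

/-- three further points of an octad through the first two points -/
theorem exists_three {O : Finset GolayPt} (hO : O ∈ hexF) :
    ∃ a b c : GolayPt, a ∈ O ∧ b ∈ O ∧ c ∈ O ∧ a ≠ none ∧ a ≠ some 0 ∧ b ≠ none ∧ b ≠ some 0 ∧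
      c ≠ none ∧ c ≠ some 0 ∧ a ≠ b ∧ a ≠ c ∧ b ≠ c := by
  classical
  rw [mem_hexF] at hO
  obtain ⟨⟨-, h8⟩, h1, h2⟩ := hO
  have hcard : 3 ≤ ((O.erase none).erase (some 0)).card := by
    rw [Finset.card_erase_of_mem (Finset.mem_erase.2 ⟨by decide, h2⟩),
      Finset.card_erase_of_mem h1, h8]
    norm_num
  obtain ⟨s, hs, hs3⟩ := Finset.exists_subset_card_eq hcard
  obtain ⟨a, b, c, hab, hac, hbc, rfl⟩ := Finset.card_eq_three.1 hs3
  have ha := hs (by simp : a ∈ ({a, b, c} : Finset GolayPt))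
  have hb := hs (by simp : b ∈ ({a, b, c} : Finset GolayPt))
  have hc := hs (by simp : c ∈ ({a, b, c} : Finset GolayPt))
  simp only [Finset.mem_erase] at ha hb hc
  exact ⟨a, b, c, ha.2.2, hb.2.2, hc.2.2, ha.2.1, ha.1, hb.2.1, hb.1, hc.2.1, hc.1, hab, hac, hbc⟩

/-- transitivity on the 77 octads through the first two points -/
theorem exists_perm_hex {O O' : Finset GolayPt} (hO : O ∈ hexF) (hO' : O' ∈ hexF) :
    ∃ σ ∈ M24, σ none = none ∧ σ (some 0) = some 0 ∧ σ • O = O' := by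
  classical
  obtain ⟨a, b, c, ha, hb, hc, a1, a2, b1, b2, c1, c2, hab, hac, hbc⟩ := exists_three hO
  obtain ⟨a', b', c', ha', hb', hc', a1', a2', b1', b2', c1', c2', hab', hac', hbc'⟩ :=
    exists_three hO'
  have hinj1 : Function.Injective (![none, some 0, a, b, c] : Fin 5 → GolayPt) := by
    intro s t hst
    fin_cases s <;> fin_cases t <;>
      simp_all [Ne.symm a1, Ne.symm a2, Ne.symm b1, Ne.symm b2, Ne.symm c1, Ne.symm c2,
        Ne.symm hab, Ne.symm hac, Ne.symm hbc]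
  have hinj2 : Function.Injective (![none, some 0, a', b', c'] : Fin 5 → GolayPt) := by
    intro s t hst
    fin_cases s <;> fin_cases t <;>
      simp_all [Ne.symm a1', Ne.symm a2', Ne.symm b1', Ne.symm b2', Ne.symm c1', Ne.symm c2',
        Ne.symm hab', Ne.symm hac', Ne.symm hbc']
  obtain ⟨σ, hσM, hσ⟩ := exists_M24_map_emb (k := 5) (by norm_num) ⟨_, hinj1⟩ ⟨_, hinj2⟩
  have s0 : σ none = none := hσ 0
  have s1 : σ (some 0) = some 0 := hσ 1
  have s2 : σ a = a' := hσ 2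
  have s3 : σ b = b' := hσ 3
  have s4 : σ c = c' := hσ 4
  refine ⟨σ, hσM, s0, s1, ?_⟩
  rw [mem_hexF] at hO hO'
  apply octad_eq_of_five (smul_mem_octads hσM hO.1) hO'.1
  have hsub : ({none, some 0, a', b', c'} : Finset GolayPt) ⊆ σ • O ∩ O' := by
    intro p hp
    rw [Finset.mem_inter]
    simp only [Finset.mem_insert, Finset.mem_singleton] at hp
    rcases hp with rfl | rfl | rfl | rfl | rfl
    · exact ⟨by rw [← s0, apply_mem_perm_smul_finset]; exact hO.2.1, hO'.2.1⟩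
    · exact ⟨by rw [← s1, apply_mem_perm_smul_finset]; exact hO.2.2, hO'.2.2⟩
    · exact ⟨by rw [← s2, apply_mem_perm_smul_finset]; exact ha, ha'⟩
    · exact ⟨by rw [← s3, apply_mem_perm_smul_finset]; exact hb, hb'⟩
    · exact ⟨by rw [← s4, apply_mem_perm_smul_finset]; exact hc, hc'⟩
  have h5 : ({none, some 0, a', b', c'} : Finset GolayPt).card = 5 := by
    rw [Finset.card_insert_of_notMem, Finset.card_insert_of_notMem, Finset.card_insert_of_notMem,
      Finset.card_insert_of_notMem, Finset.card_singleton]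
    · simp only [Finset.mem_singleton]; exact hbc'
    · simp only [Finset.mem_insert, Finset.mem_singleton]; tauto
    · simp only [Finset.mem_insert, Finset.mem_singleton]
      rintro (h | h | h)
      · exact a2' h.symm
      · exact b2' h.symm
      · exact c2' h.symm
    · simp only [Finset.mem_insert, Finset.mem_singleton]
      rintro (h | h | h | h)
      · exact absurd h (by decide)
      · exact a1' h.symm
      · exact b1' h.symm
      · exact c1' h.symm
  have := Finset.card_le_card hsub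
  rw [h5] at this
  exact this

/-! ### the two suborbits in standard position -/

theorem dotInt_vecU_oddv {j : GolayPt} (hj : j ∈ ptsF) : dotInt vecU (oddv j) = 8 := by
  rw [mem_ptsF] at hj
  rw [dotInt_vecU]
  unfold oddv
  rw [if_neg (Ne.symm hj.1), if_neg (Ne.symm hj.2)]; norm_num

theorem dotInt_vecU_twoOn {O : Finset GolayPt} (hO : O ∈ hexF) : dotInt vecU (twoOn O) = 16 := by
  rw [mem_hexF] at hO
  rw [dotInt_vecU]
  unfold twoOn
  rw [if_pos hO.2.1, if_pos hO.2.2]; norm_num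

theorem dotInt_vecU_vecU : dotInt vecU vecU = 32 := by
  rw [← sqNorm_eq_dotInt, sqNorm_vecU]

theorem hs_std_eight {y : GolayPt → ℤ} :
    (HSstd y ∧ dotInt vecU y = 8) ↔ y ∈ ptsF.image oddv := by
  rw [Finset.mem_image]
  constructor
  · rintro ⟨h, h8⟩
    rcases hs_classify h with rfl | ⟨j, hj, hj0, rfl⟩ | ⟨O, hO, h1, h2, rfl⟩
    · rw [dotInt_vecU_vecU] at h8; norm_num at h8
    · exact ⟨j, mem_ptsF.2 ⟨hj, hj0⟩, rfl⟩
    · rw [dotInt_vecU_twoOn (mem_hexF.2 ⟨hO, h1, h2⟩)] at h8; norm_num at h8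
  · rintro ⟨j, hj, rfl⟩
    exact ⟨hsstd_oddv (mem_ptsF.1 hj).1 (mem_ptsF.1 hj).2, dotInt_vecU_oddv hj⟩

theorem hs_std_other {y : GolayPt → ℤ} :
    (HSstd y ∧ y ≠ vecU ∧ dotInt vecU y ≠ 8) ↔ y ∈ hexF.image twoOn := by
  rw [Finset.mem_image]
  constructor
  · rintro ⟨h, hne, h8⟩
    rcases hs_classify h with rfl | ⟨j, hj, hj0, rfl⟩ | ⟨O, hO, h1, h2, rfl⟩
    · exact absurd rfl hne
    · exact absurd (dotInt_vecU_oddv (mem_ptsF.2 ⟨hj, hj0⟩)) h8
    · exact ⟨O, mem_hexF.2 ⟨hO, h1, h2⟩, rfl⟩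
  · rintro ⟨O, hO, rfl⟩
    have hO' := mem_hexF.1 hO
    refine ⟨hsstd_twoOn hO'.1 hO'.2.1 hO'.2.2, ?_, ?_⟩
    · intro h
      have := congrFun h none
      unfold twoOn vecU at this
      rw [if_pos hO'.2.1] at this
      simp at this
    · rw [dotInt_vecU_twoOn hO]; norm_num

/-- rank 3 in standard position: transitivity on each suborbit -/
theorem hs_std_rank3 (y y' : leechLattice) (hy : HSstd (y : GolayPt → ℤ))
    (hy' : HSstd (y' : GolayPt → ℤ)) (hne : y ≠ leechU) (hne' : y' ≠ leechU)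
    (hiff : dotInt vecU (y : GolayPt → ℤ) = 8 ↔ dotInt vecU (y' : GolayPt → ℤ) = 8) :
    ∃ g : Co0, g • u3std = u3std ∧ g • w3std = w3std ∧ g • leechU = leechU ∧ g • y = y' := by
  have hneF : (y : GolayPt → ℤ) ≠ vecU := fun h => hne (Subtype.ext h)
  have hneF' : (y' : GolayPt → ℤ) ≠ vecU := fun h => hne' (Subtype.ext h)
  rcases hs_classify hy with h | ⟨j, hj, hj0, h⟩ | ⟨O, hO, h1, h2, h⟩
  · exact absurd h hneF
  · rcases hs_classify hy' with h' | ⟨j', hj', hj0', h'⟩ | ⟨O', hO', h1', h2', h'⟩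
    · exact absurd h' hneF'
    · obtain ⟨σ, hσ, s0, s1, s2⟩ := exists_perm_pts (mem_ptsF.2 ⟨hj, hj0⟩) (mem_ptsF.2 ⟨hj', hj0'⟩)
      obtain ⟨e1, e2, e3⟩ := permCo0_fix_std σ hσ s0 s1
      refine ⟨permCo0 σ hσ, e1, e2, e3, ?_⟩
      have ey : y = oddvL j := Subtype.ext h
      have ey' : y' = oddvL j' := Subtype.ext h'
      rw [ey, ey', permCo0_oddv, s2]
    · exfalso
      rw [h, h', dotInt_vecU_oddv (mem_ptsF.2 ⟨hj, hj0⟩),
        dotInt_vecU_twoOn (mem_hexF.2 ⟨hO', h1', h2'⟩)] at hiff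
      norm_num at hiff
  · rcases hs_classify hy' with h' | ⟨j', hj', hj0', h'⟩ | ⟨O', hO', h1', h2', h'⟩
    · exact absurd h' hneF'
    · exfalso
      rw [h, h', dotInt_vecU_oddv (mem_ptsF.2 ⟨hj', hj0'⟩),
        dotInt_vecU_twoOn (mem_hexF.2 ⟨hO, h1, h2⟩)] at hiff
      norm_num at hiff
    · obtain ⟨σ, hσ, s0, s1, s2⟩ := exists_perm_hex (mem_hexF.2 ⟨hO, h1, h2⟩)
        (mem_hexF.2 ⟨hO', h1', h2'⟩)
      obtain ⟨e1, e2, e3⟩ := permCo0_fix_std σ hσ s0 s1
      refine ⟨permCo0 σ hσ, e1, e2, e3, ?_⟩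
      have ey : y = twoOnL O hO := Subtype.ext h
      have ey' : y' = twoOnL O' hO' := Subtype.ext h'
      rw [ey, ey', permCo0_twoOn]
      apply Subtype.ext
      show twoOn (σ • O) = twoOn O'
      rw [s2]

/-! ### general position -/

/-- sets defined by an invariant condition are transported by automorphisms -/
theorem setOf_eq_image_smul (g : Co0) (P Q : leechLattice → Prop) (h : ∀ y, Q (g • y) ↔ P y) :
    {y | Q y} = (fun y => g • y) '' {y | P y} := by
  ext z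
  constructor
  · intro hz
    exact ⟨g⁻¹ • z, (h _).1 (by rw [smul_inv_smul]; exact hz), smul_inv_smul g z⟩
  · rintro ⟨y, hy, rfl⟩
    exact (h y).2 hy

theorem ncard_setOf_smul (g : Co0) (P Q : leechLattice → Prop) (h : ∀ y, Q (g • y) ↔ P y) :
    {y | P y}.ncard = {y | Q y}.ncard := by
  rw [setOf_eq_image_smul g P Q h, Set.ncard_image_of_injective _ (MulAction.injective g)]

/-- every Higman–Sims triple `(v, w, x)` can be moved to the standard one -/
theorem hs_triple_normal (v w x : leechLattice) (hv : sqNorm (v : GolayPt → ℤ) = 48)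
    (hw : sqNorm (w : GolayPt → ℤ) = 48)
    (hvw : dotInt (v : GolayPt → ℤ) (w : GolayPt → ℤ) = -32)
    (hx : sqNorm (x : GolayPt → ℤ) = 32)
    (hvx : dotInt (v : GolayPt → ℤ) (x : GolayPt → ℤ) = 24)
    (hwx : dotInt (w : GolayPt → ℤ) (x : GolayPt → ℤ) = -24) :
    ∃ g : Co0, g • v = u3std ∧ g • w = w3std ∧ g • x = leechU := by
  obtain ⟨g, hg1, hg2⟩ := hs_normal v w hv hw hvw
  have hstd : sqNorm ((u3std : leechLattice) : GolayPt → ℤ) = 48 := by rw [← hg1, co0_sqNorm, hv]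
  have hstdw : sqNorm ((w3std : leechLattice) : GolayPt → ℤ) = 48 := by
    rw [← hg2, co0_sqNorm, hw]
  have hstdvw : dotInt ((u3std : leechLattice) : GolayPt → ℤ)
      ((w3std : leechLattice) : GolayPt → ℤ) = -32 := by rw [← hg1, ← hg2, co0_dotInt, hvw]
  have hU := (hs_std_iff leechU).2 hsstd_vecU
  obtain ⟨h, h1, h2, h3⟩ := hs_trans u3std w3std (g • x) leechU hstd hstdw hstdvw
    (by rw [co0_sqNorm, hx]) (by rw [← hg1, co0_dotInt, hvx]) (by rw [← hg2, co0_dotInt, hwx])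
    hU.1 hU.2.1 hU.2.2
  exact ⟨h * g, by rw [mul_smul, hg1, h1], by rw [mul_smul, hg2, h2], by rw [mul_smul, h3]⟩

/-- **Rank 3 of the Higman–Sims configuration.** -/
theorem hs_rank3 (v w x : leechLattice) (hv : sqNorm (v : GolayPt → ℤ) = 48)
    (hw : sqNorm (w : GolayPt → ℤ) = 48)
    (hvw : dotInt (v : GolayPt → ℤ) (w : GolayPt → ℤ) = -32)
    (hx : sqNorm (x : GolayPt → ℤ) = 32)
    (hvx : dotInt (v : GolayPt → ℤ) (x : GolayPt → ℤ) = 24)
    (hwx : dotInt (w : GolayPt → ℤ) (x : GolayPt → ℤ) = -24) :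
    {y : leechLattice | (sqNorm (y : GolayPt → ℤ) = 32 ∧
        dotInt (v : GolayPt → ℤ) (y : GolayPt → ℤ) = 24 ∧
        dotInt (w : GolayPt → ℤ) (y : GolayPt → ℤ) = -24) ∧
        dotInt (x : GolayPt → ℤ) (y : GolayPt → ℤ) = 8}.ncard = 22 ∧
    {y : leechLattice | (sqNorm (y : GolayPt → ℤ) = 32 ∧
        dotInt (v : GolayPt → ℤ) (y : GolayPt → ℤ) = 24 ∧
        dotInt (w : GolayPt → ℤ) (y : GolayPt → ℤ) = -24) ∧ y ≠ x ∧
        dotInt (x : GolayPt → ℤ) (y : GolayPt → ℤ) ≠ 8}.ncard = 77 ∧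
    ∀ y y' : leechLattice, (sqNorm (y : GolayPt → ℤ) = 32 ∧
        dotInt (v : GolayPt → ℤ) (y : GolayPt → ℤ) = 24 ∧
        dotInt (w : GolayPt → ℤ) (y : GolayPt → ℤ) = -24) →
      (sqNorm (y' : GolayPt → ℤ) = 32 ∧
        dotInt (v : GolayPt → ℤ) (y' : GolayPt → ℤ) = 24 ∧
        dotInt (w : GolayPt → ℤ) (y' : GolayPt → ℤ) = -24) → y ≠ x → y' ≠ x →
      (dotInt (x : GolayPt → ℤ) (y : GolayPt → ℤ) = 8 ↔
        dotInt (x : GolayPt → ℤ) (y' : GolayPt → ℤ) = 8) →
      ∃ g : Co0, g • v = v ∧ g • w = w ∧ g • x = x ∧ g • y = y' := by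
  obtain ⟨g, hg1, hg2, hg3⟩ := hs_triple_normal v w x hv hw hvw hx hvx hwx
  -- membership in the standard set after transport
  have hmem : ∀ y : leechLattice, HSstd ((g • y : leechLattice) : GolayPt → ℤ) ↔
      (sqNorm (y : GolayPt → ℤ) = 32 ∧ dotInt (v : GolayPt → ℤ) (y : GolayPt → ℤ) = 24 ∧
        dotInt (w : GolayPt → ℤ) (y : GolayPt → ℤ) = -24) := by
    intro y
    rw [← hs_std_iff, ← hg1, ← hg2, co0_sqNorm, co0_dotInt, co0_dotInt]
  have hdot : ∀ y : leechLattice, dotInt vecU ((g • y : leechLattice) : GolayPt → ℤ)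
      = dotInt (x : GolayPt → ℤ) (y : GolayPt → ℤ) := by
    intro y
    have := co0_dotInt g x y
    rw [hg3] at this
    exact this
  have hneq : ∀ y : leechLattice, g • y ≠ leechU ↔ y ≠ x := by
    intro y
    rw [← hg3]
    exact (MulAction.injective g).ne_iff
  refine ⟨?_, ?_, ?_⟩
  · rw [ncard_setOf_smul g _ (fun z : leechLattice => HSstd (z : GolayPt → ℤ) ∧
      dotInt vecU (z : GolayPt → ℤ) = 8) (fun y => by rw [hmem, hdot])]
    rw [ncard_subtype_leech (fun z => HSstd z ∧ dotInt vecU z = 8)]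
    have e2 : {w : GolayPt → ℤ | w ∈ leechLattice ∧ (HSstd w ∧ dotInt vecU w = 8)}
        = ↑(ptsF.image oddv) := by
      ext z
      rw [Finset.mem_coe, ← hs_std_eight]
      exact ⟨fun h => h.2, fun h => ⟨h.1.1, h⟩⟩
    rw [e2, Set.ncard_coe_finset, Finset.card_image_of_injective _ oddv_injective, card_ptsF]
  · rw [ncard_setOf_smul g _ (fun z : leechLattice => HSstd (z : GolayPt → ℤ) ∧ z ≠ leechU ∧
      dotInt vecU (z : GolayPt → ℤ) ≠ 8) (fun y => by rw [hmem, hdot, hneq])]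
    have e1 : {z : leechLattice | HSstd (z : GolayPt → ℤ) ∧ z ≠ leechU ∧
        dotInt vecU (z : GolayPt → ℤ) ≠ 8}
        = {z : leechLattice | (fun t : GolayPt → ℤ => HSstd t ∧ t ≠ vecU ∧ dotInt vecU t ≠ 8)
          (z : GolayPt → ℤ)} := by
      ext z
      have : z ≠ leechU ↔ (z : GolayPt → ℤ) ≠ vecU :=
        ⟨fun h h' => h (Subtype.ext h'), fun h h' => h (congrArg Subtype.val h')⟩
      simp only [Set.mem_ofPred_eq, this]
    rw [e1, ncard_subtype_leech (fun t => HSstd t ∧ t ≠ vecU ∧ dotInt vecU t ≠ 8)]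
    have e2 : {w : GolayPt → ℤ | w ∈ leechLattice ∧ (HSstd w ∧ w ≠ vecU ∧ dotInt vecU w ≠ 8)}
        = ↑(hexF.image twoOn) := by
      ext z
      rw [Finset.mem_coe, ← hs_std_other]
      exact ⟨fun h => h.2, fun h => ⟨h.1.1, h⟩⟩
    rw [e2, Set.ncard_coe_finset, Finset.card_image_of_injective _ twoOn_injective, card_hexF]
  · intro y y' hy hy' hne hne' hiff
    obtain ⟨h, h1, h2, h3, h4⟩ := hs_std_rank3 (g • y) (g • y') ((hmem y).2 hy) ((hmem y').2 hy')
      ((hneq y).2 hne) ((hneq y').2 hne') (by rw [hdot, hdot]; exact hiff)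
    refine ⟨g⁻¹ * h * g, ?_, ?_, ?_, ?_⟩
    · rw [mul_smul, mul_smul, hg1, h1, ← hg1, inv_smul_smul]
    · rw [mul_smul, mul_smul, hg2, h2, ← hg2, inv_smul_smul]
    · rw [mul_smul, mul_smul, hg3, h3, ← hg3, inv_smul_smul]
    · rw [mul_smul, mul_smul, h4, inv_smul_smul]

end Cfsg.Agent.Lib.Helper8
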