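import Mathlib

/-!
# Simplicity from a rank 3 action of degree 100 with simple point stabiliser

A finite group of order 44352000 acting faithfully and transitively on a set `s` of 100 points with a
simple point stabiliser having orbits of sizes 1, 22, 77 is simple.  Blocks of imprimitivity have
size 1, 23, 78 or 100; a regular normal subgroup of order 100 would have a unique Sylow 5-subgroup,
whose orbit of size 25 would be such a block.
-/

set_option autoImplicit false

namespace Cfsg.Agent.Lib.Helper8
open scoped Pointwise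

section
variable {G Ω : Type*} [Group G] [MulAction G Ω]

/-- the orbit of `a` under a subgroup normalised by the stabiliser of `a` is invariant under that
stabiliser -/
theorem smul_mem_orbit_of_normalized (M : Subgroup G) (a : Ω)
    (hM : ∀ k : G, k • a = a → ∀ x ∈ M, k * x * k⁻¹ ∈ M) (k : G) (hk : k • a = a) (b : Ω)
    (hb : b ∈ MulAction.orbit M a) : k • b ∈ MulAction.orbit M a := by
  obtain ⟨m, rfl⟩ := hb
  refine ⟨⟨k * m * k⁻¹, hM k hk m m.2⟩, ?_⟩
  show (k * (m : G) * k⁻¹) • a = k • ((m : G) • a)
  have hk' : k⁻¹ • a = a := by rw [inv_smul_eq_iff, hk]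
  rw [mul_smul, mul_smul, hk']

/-- the possible sizes of a subset containing `a` invariant under the stabiliser of `a` -/
theorem ncard_of_stab_invariant (s : Set Ω) (a : Ω) (Δ Γ : Set Ω)
    (hunion : s = insert a (Δ ∪ Γ)) (haΔ : a ∉ Δ) (haΓ : a ∉ Γ) (hdisj : Disjoint Δ Γ)
    (hΔ : Δ.ncard = 22) (hΓ : Γ.ncard = 77)
    (hΔtr : ∀ x ∈ Δ, ∀ y ∈ Δ, ∃ g : G, g • a = a ∧ g • x = y)
    (hΓtr : ∀ x ∈ Γ, ∀ y ∈ Γ, ∃ g : G, g • a = a ∧ g • x = y)
    (B : Set Ω) (hBs : B ⊆ s) (haB : a ∈ B)
    (hBinv : ∀ k : G, k • a = a → ∀ b ∈ B, k • b ∈ B) :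
    B.ncard = 1 ∨ B.ncard = 23 ∨ B.ncard = 78 ∨ B.ncard = 100 := by
  classical
  have hΔfin : Δ.Finite := Set.finite_of_ncard_ne_zero (by rw [hΔ]; norm_num)
  have hΓfin : Γ.Finite := Set.finite_of_ncard_ne_zero (by rw [hΓ]; norm_num)
  have hΔsub : (∃ x ∈ Δ, x ∈ B) → Δ ⊆ B := by
    rintro ⟨x, hx, hxB⟩ y hy
    obtain ⟨g, hga, hgx⟩ := hΔtr x hx y hy
    rw [← hgx]
    exact hBinv g hga x hxB
  have hΓsub : (∃ x ∈ Γ, x ∈ B) → Γ ⊆ B := by
    rintro ⟨x, hx, hxB⟩ y hy
    obtain ⟨g, hga, hgx⟩ := hΓtr x hx y hy
    rw [← hgx]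
    exact hBinv g hga x hxB
  have hmem : ∀ y ∈ B, y = a ∨ y ∈ Δ ∨ y ∈ Γ := by
    intro y hy
    have := hBs hy
    rw [hunion] at this
    rcases this with h | h | h
    · exact Or.inl h
    · exact Or.inr (Or.inl h)
    · exact Or.inr (Or.inr h)
  by_cases h1 : ∃ x ∈ Δ, x ∈ B
  · by_cases h2 : ∃ x ∈ Γ, x ∈ B
    · right; right; right
      have : B = insert a (Δ ∪ Γ) := by
        ext y
        constructor
        · intro hy
          rcases hmem y hy with h | h | h
          · exact Or.inl h
          · exact Or.inr (Or.inl h)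
          · exact Or.inr (Or.inr h)
        · rintro (h | h | h)
          · rw [h]; exact haB
          · exact hΔsub h1 h
          · exact hΓsub h2 h
      rw [this, Set.ncard_insert_of_notMem (by
        rintro (h | h)
        · exact haΔ h
        · exact haΓ h) (hΔfin.union hΓfin), Set.ncard_union_eq hdisj hΔfin hΓfin, hΔ, hΓ]
    · right; left
      have : B = insert a Δ := by
        ext y
        constructor
        · intro hy
          rcases hmem y hy with h | h | h
          · exact Or.inl h
          · exact Or.inr h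
          · exact absurd ⟨y, h, hy⟩ h2
        · rintro (h | h)
          · rw [h]; exact haB
          · exact hΔsub h1 h
      rw [this, Set.ncard_insert_of_notMem haΔ hΔfin, hΔ]
  · by_cases h2 : ∃ x ∈ Γ, x ∈ B
    · right; right; left
      have : B = insert a Γ := by
        ext y
        constructor
        · intro hy
          rcases hmem y hy with h | h | h
          · exact Or.inl h
          · exact absurd ⟨y, h, hy⟩ h1
          · exact Or.inr h
        · rintro (h | h)
          · rw [h]; exact haB
          · exact hΓsub h2 h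
      rw [this, Set.ncard_insert_of_notMem haΓ hΓfin, hΓ]
    · left
      have : B = {a} := by
        ext y
        constructor
        · intro hy
          rcases hmem y hy with h | h | h
          · exact h
          · exact absurd ⟨y, h, hy⟩ h1
          · exact absurd ⟨y, h, hy⟩ h2
        · intro h
          rw [Set.mem_singleton_iff] at h
          rw [h]; exact haB
      rw [this, Set.ncard_singleton]

/-- **Simplicity from a rank 3 action of degree 100 with suborbits 1, 22, 77 and simple point
stabiliser.** -/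
theorem isSimpleGroup_of_rank3_hs [Finite G] (s : Set Ω) (hs : ∀ g : G, ∀ x ∈ s, g • x ∈ s)
    (hf : ∀ g : G, (∀ x ∈ s, g • x = x) → g = 1)
    (htr : ∀ x ∈ s, ∀ y ∈ s, ∃ g : G, g • x = y)
    (a : Ω) (hsimple : IsSimpleGroup (MulAction.stabilizer G a)) (Δ Γ : Set Ω)
    (hunion : s = insert a (Δ ∪ Γ)) (haΔ : a ∉ Δ) (haΓ : a ∉ Γ) (hdisj : Disjoint Δ Γ)
    (hΔ : Δ.ncard = 22) (hΓ : Γ.ncard = 77)
    (hΔtr : ∀ x ∈ Δ, ∀ y ∈ Δ, ∃ g : G, g • a = a ∧ g • x = y)
    (hΓtr : ∀ x ∈ Γ, ∀ y ∈ Γ, ∃ g : G, g • a = a ∧ g • x = y)
    (hcard : Nat.card G = 44352000) : IsSimpleGroup G := by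
  classical
  have ha : a ∈ s := by rw [hunion]; exact Set.mem_insert _ _
  have hΔfin : Δ.Finite := Set.finite_of_ncard_ne_zero (by rw [hΔ]; norm_num)
  have hΓfin : Γ.Finite := Set.finite_of_ncard_ne_zero (by rw [hΓ]; norm_num)
  have hsfin : s.Finite := by
    rw [hunion]; exact (hΔfin.union hΓfin).insert a
  have hscard : s.ncard = 100 := by
    rw [hunion, Set.ncard_insert_of_notMem (by
      rintro (h | h)
      · exact haΔ h
      · exact haΓ h) (hΔfin.union hΓfin), Set.ncard_union_eq hdisj hΔfin hΓfin, hΔ, hΓ]
  have : Nontrivial G := by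
    obtain ⟨x, y, hxy⟩ := hsimple.toNontrivial
    exact ⟨⟨x, y, fun h => hxy (Subtype.ext h)⟩⟩
  refine ⟨fun N hN => ?_⟩
  by_cases hN1 : N = ⊥
  · exact Or.inl hN1
  right
  have hNnorm : ∀ k : G, k • a = a → ∀ x ∈ N, k * x * k⁻¹ ∈ N :=
    fun k _ x hx => hN.conj_mem x hx k
  have hBsub : MulAction.orbit N a ⊆ s := by
    rintro _ ⟨n, rfl⟩
    exact hs n a ha
  have hBa : a ∈ MulAction.orbit N a := MulAction.mem_orbit_self a
  have hcases := ncard_of_stab_invariant s a Δ Γ hunion haΔ haΓ hdisj hΔ hΓ hΔtr hΓtr
    (MulAction.orbit N a) hBsub hBa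
    (fun k hk b hb => smul_mem_orbit_of_normalized N a hNnorm k hk b hb)
  have hidxN : (MulAction.stabilizer N a).index = (MulAction.orbit N a).ncard :=
    MulAction.index_stabilizer N a
  have hdvd : (MulAction.orbit N a).ncard ∣ Nat.card G := by
    rw [← hidxN]
    exact (Subgroup.index_dvd_card _).trans (Subgroup.card_subgroup_dvd_card N)
  rw [hcard] at hdvd
  rcases hcases with h | h | h | h
  · -- `N` fixes `a`, hence every point
    exfalso
    apply hN1
    rw [Subgroup.eq_bot_iff_forall]
    intro n hn
    apply hf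
    intro x hx
    obtain ⟨g, rfl⟩ := htr a ha x hx
    have hfix : ∀ m ∈ N, m • a = a := by
      intro m hm
      have hm' : m • a ∈ MulAction.orbit N a := ⟨⟨m, hm⟩, rfl⟩
      obtain ⟨c, hc⟩ := Set.ncard_eq_one.1 h
      rw [hc] at hm' hBa
      rw [Set.mem_singleton_iff] at hm' hBa
      rw [hm', hBa]
    have hconj : g⁻¹ * n * g ∈ N := by
      have := hN.conj_mem n hn g⁻¹
      simpa using this
    have := hfix _ hconj
    calc n • g • a = g • ((g⁻¹ * n * g) • a) := by
          rw [← mul_smul, ← mul_smul]; congr 1; group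
      _ = g • a := by rw [this]
  · exfalso; rw [h] at hdvd; norm_num at hdvd
  · exfalso; rw [h] at hdvd; norm_num at hdvd
  · -- `N` is transitive
    have hBeq : MulAction.orbit N a = s :=
      Set.eq_of_subset_of_ncard_le hBsub (by rw [h, hscard]) hsfin
    have ht : ∀ x ∈ s, ∃ n ∈ N, n • a = x := by
      intro x hx
      rw [← hBeq] at hx
      obtain ⟨n, rfl⟩ := hx
      exact ⟨n, n.2, rfl⟩
    set K := MulAction.stabilizer G a with hK
    rcases hsimple.eq_bot_or_eq_top_of_normal (N.subgroupOf K) inferInstance with hbot | htop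
    · -- a regular normal subgroup of order 100
      exfalso
      rw [Subgroup.subgroupOf_eq_bot] at hbot
      have hfree : ∀ x ∈ N, x • a = a → x = 1 := fun x hx hxa =>
        Subgroup.disjoint_def.mp hbot hx (MulAction.mem_stabilizer_iff.mpr hxa)
      have hNcard : Nat.card N = 100 := by
        have h2 : MulAction.stabilizer N a = ⊥ := by
          rw [Subgroup.eq_bot_iff_forall]
          intro n hn
          exact Subtype.ext (hfree n n.2 (MulAction.mem_stabilizer_iff.1 hn))
        have h3 := Subgroup.card_mul_index (MulAction.stabilizer N a)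
        rw [hidxN, h, h2, Subgroup.card_bot] at h3
        omega
      have : Fact (Nat.Prime 5) := ⟨by norm_num⟩
      obtain ⟨P⟩ : Nonempty (Sylow 5 N) := inferInstance
      have hPmul := Subgroup.card_mul_index (P : Subgroup N)
      rw [hNcard] at hPmul
      have hPnd : ¬ 5 ∣ (P : Subgroup N).index := Sylow.not_dvd_index P
      obtain ⟨k, hk⟩ := IsPGroup.exists_card_eq P.2
      have hPcard : Nat.card P = 25 ∧ (P : Subgroup N).index = 4 := by
        rw [hk] at hPmul
        have hk3 : k < 3 := by
          by_contra hcon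
          push Not at hcon
          have : 5 ^ 3 ≤ 5 ^ k := Nat.pow_le_pow_right (by norm_num) hcon
          have hpos : 0 < (P : Subgroup N).index := by
            rcases Nat.eq_zero_or_pos (P : Subgroup N).index with h0 | h0
            · rw [h0] at hPmul; omega
            · exact h0
          nlinarith
        interval_cases k
        · exfalso; apply hPnd; norm_num at hPmul; rw [hPmul]; norm_num
        · exfalso; apply hPnd
          have : (P : Subgroup N).index = 20 := by omega
          rw [this]; norm_num
        · constructor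
          · rw [hk]; norm_num
          · omega
      have huniq : Nat.card (Sylow 5 N) = 1 := by
        have h1 := card_sylow_modEq_one 5 N
        have h2 := Sylow.card_dvd_index P
        rw [hPcard.2] at h2
        have h3 : Nat.card (Sylow 5 N) ≤ 4 := Nat.le_of_dvd (by norm_num) h2
        unfold Nat.ModEq at h1
        interval_cases hc : Nat.card (Sylow 5 N) <;> simp_all
      have : Subsingleton (Sylow 5 N) := (Nat.card_eq_one_iff_unique.1 huniq).1
      -- the image of `P` in `G`
      obtain ⟨M, hMdef⟩ : ∃ M : Subgroup G, M = (P : Subgroup N).map N.subtype := ⟨_, rfl⟩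
      have hMN : M ≤ N := by
        rw [hMdef]
        rintro _ ⟨y, -, rfl⟩
        exact y.2
      have hMcard : Nat.card M = 25 := by
        rw [hMdef, Subgroup.card_map_of_injective N.subtype_injective]
        exact hPcard.1
      have hMnorm : ∀ k : G, k • a = a → ∀ x ∈ M, k * x * k⁻¹ ∈ M := by
        intro k _ x hx
        rw [hMdef] at hx ⊢
        obtain ⟨y, hy, rfl⟩ := hx
        have e : (MulAut.conjNormal k : MulAut N) • P = P := Subsingleton.elim _ _
        have hmem : (MulAut.conjNormal k : MulAut N) • y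
            ∈ ((MulAut.conjNormal k : MulAut N) • (P : Subgroup N)) :=
          Subgroup.smul_mem_pointwise_smul y _ _ hy
        rw [← Sylow.pointwise_smul_def, e] at hmem
        refine ⟨(MulAut.conjNormal k : MulAut N) • y, hmem, ?_⟩
        simp [MulAut.smul_def, MulAut.conjNormal_apply]
      have hMsub : MulAction.orbit M a ⊆ s := by
        rintro _ ⟨n, rfl⟩
        exact hs n a ha
      have hcases' := ncard_of_stab_invariant s a Δ Γ hunion haΔ haΓ hdisj hΔ hΓ hΔtr hΓtr
        (MulAction.orbit M a) hMsub (MulAction.mem_orbit_self a)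
        (fun k hk b hb => smul_mem_orbit_of_normalized M a hMnorm k hk b hb)
      have h25 : (MulAction.orbit M a).ncard = 25 := by
        have h1 : (MulAction.stabilizer M a).index = (MulAction.orbit M a).ncard :=
          MulAction.index_stabilizer M a
        have h2 : MulAction.stabilizer M a = ⊥ := by
          rw [Subgroup.eq_bot_iff_forall]
          intro n hn
          exact Subtype.ext (hfree n (hMN n.2) (MulAction.mem_stabilizer_iff.1 hn))
        have h3 := Subgroup.card_mul_index (MulAction.stabilizer M a)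
        rw [h1, h2, Subgroup.card_bot, hMcard] at h3
        omega
      rcases hcases' with h' | h' | h' | h' <;> omega
    · rw [Subgroup.subgroupOf_eq_top] at htop
      rw [eq_top_iff]
      intro g _
      obtain ⟨n, hn, hna⟩ := ht (g • a) (hs g a ha)
      have hmem : n⁻¹ * g ∈ K := by
        rw [hK, MulAction.mem_stabilizer_iff, mul_smul, ← hna, inv_smul_smul]
      have : g = n * (n⁻¹ * g) := by group
      rw [this]
      exact N.mul_mem hn (htop hmem)

end

end Cfsg.Agent.Lib.Helper8
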