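import Mathlib
import Cfsg.Agent.Lib.Helper8.HSRank3
import Cfsg.Agent.Lib.Helper8.Rank3Simple
import Cfsg.Agent.Lib.Helper7.SimpleMathieu2
import Cfsg.Agent.Lib.Helper7.M24Trans
import Cfsg.Agent.S0397
import Cfsg.Prelude.Def_Sporadic

/-!
# The stabiliser of a Higman–Sims pair is simple of order 44352000

The stabiliser of `(4,4,0^22)` in the stabiliser `Hstd` of the standard pair consists of coordinate
permutations from `M24` fixing the first two points; it is isomorphic to the stabiliser of two points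
in `M24`.  Order by orbit–stabiliser on the 100 points, simplicity by `isSimpleGroup_of_rank3_hs`.
-/

set_option autoImplicit false

namespace Cfsg.Agent.Lib.Helper8
open Cfsg Cfsg.Agent.Lib.Helper7 Cfsg.Spor
open scoped Pointwise

/-- the stabiliser of the standard Higman–Sims pair -/
def Hstd : Subgroup Co0 := MulAction.stabilizer Co0 u3std ⊓ MulAction.stabilizer Co0 w3std

theorem mem_Hstd (g : Co0) : g ∈ Hstd ↔ g • u3std = u3std ∧ g • w3std = w3std := by
  unfold Hstd
  rw [Subgroup.mem_inf, MulAction.mem_stabilizer_iff, MulAction.mem_stabilizer_iff]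

theorem yU_eq : yU = -w3std - u3std := by
  unfold w3std; abel

theorem v0_eq : Cfsg.Agent.S0397.v0 = leechU + yU := by
  apply Subtype.ext
  show e8 none = vecU + (Pi.single none 4 + Pi.single (some 0) (-4) : GolayPt → ℤ)
  decide +kernel

theorem u3_pos (j : GolayPt) : 0 < u3 j := by
  unfold u3; split_ifs <;> norm_num

/-- an automorphism fixing the standard pair and `(4,4,0^22)` is a coordinate permutation -/
theorem exists_perm_of_fix (g : Co0) (h1 : g • u3std = u3std) (h2 : g • w3std = w3std)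
    (h3 : g • leechU = leechU) :
    ∃ σ, ∃ hσ : σ ∈ M24, σ none = none ∧ σ (some 0) = some 0 ∧ g = permCo0 σ hσ := by
  classical
  have hy : g • yU = yU := by
    rw [yU_eq, co0_smul_sub, co0_smul_neg, h1, h2]
  have hv0 : g • Cfsg.Agent.S0397.v0 = Cfsg.Agent.S0397.v0 := by
    rw [v0_eq, co0_smul_add, h3, hy]
  have hNN : g ∈ Cfsg.Agent.S0397.NN :=
    Cfsg.Agent.S0397.stab_le (MulAction.mem_stabilizer_iff.2 hv0)
  obtain ⟨σ, hσ, c, hc, hgv⟩ :=
    exists_signedPerm_of_presCross g ((Cfsg.Agent.S0397.mem_NN g).1 hNN)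
  -- no sign changes
  have hu := hgv u3std
  rw [h1, u3std_coe] at hu
  have hcempty : c = ∅ := by
    apply Finset.eq_empty_of_forall_notMem
    intro i hi
    have := congrFun hu i
    unfold signedPerm at this
    rw [if_pos hi] at this
    have a1 := u3_pos i
    have a2 := u3_pos (σ.symm i)
    omega
  subst hcempty
  have hu' : ∀ i, u3 (σ.symm i) = u3 i := by
    intro i
    have := congrFun hu i
    rw [signedPerm_empty] at this
    exact this.symm
  have hs1 : σ.symm (some 0) = some 0 := by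
    have := hu' (some 0)
    unfold u3 at this
    rw [if_pos rfl] at this
    by_contra hne
    rw [if_neg hne] at this
    norm_num at this
  have hU := hgv leechU
  rw [h3] at hU
  have hs0 : σ.symm none = none := by
    have := congrFun hU none
    rw [signedPerm_empty] at this
    change vecU none = vecU (σ.symm none) at this
    unfold vecU at this
    rw [if_pos (Or.inl rfl)] at this
    by_cases hh : σ.symm none = none ∨ σ.symm none = some 0
    · rcases hh with hh | hh
      · exact hh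
      · exfalso
        have : σ.symm none = σ.symm (some 0) := by rw [hh, hs1]
        exact absurd (σ.symm.injective this) (by decide)
    · rw [if_neg hh] at this
      norm_num at this
  refine ⟨σ, hσ, ?_, ?_, ?_⟩
  · have := congrArg σ hs0
    rw [Equiv.apply_symm_apply] at this
    exact this.symm
  · have := congrArg σ hs1
    rw [Equiv.apply_symm_apply] at this
    exact this.symm
  · apply Subtype.ext
    apply Equiv.ext
    intro v
    apply Subtype.ext
    have e1 : ((g : Equiv.Perm leechLattice) v : GolayPt → ℤ)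
        = ((g • v : leechLattice) : GolayPt → ℤ) := rfl
    have e2 : (((permCo0 σ hσ : Co0) : Equiv.Perm leechLattice) v : GolayPt → ℤ)
        = ((permCo0 σ hσ • v : leechLattice) : GolayPt → ℤ) := rfl
    rw [e1, e2, hgv v, signedPerm_empty, permCo0_apply]

/-- two automorphisms agreeing on all lattice vectors are equal -/
theorem co0_ext {g h : Co0} (H : ∀ v : leechLattice, g • v = h • v) : g = h := by
  apply Subtype.ext
  apply Equiv.ext
  intro v
  exact H v

theorem permCo0_one : permCo0 1 (Subgroup.one_mem M24) = 1 := by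
  apply co0_ext
  intro v
  apply Subtype.ext
  rw [permCo0_apply, one_smul]
  rfl

theorem permCo0_mul (σ τ : Equiv.Perm GolayPt) (hσ : σ ∈ M24) (hτ : τ ∈ M24) :
    permCo0 (σ * τ) (Subgroup.mul_mem M24 hσ hτ) = permCo0 σ hσ * permCo0 τ hτ := by
  apply co0_ext
  intro v
  apply Subtype.ext
  rw [mul_smul, permCo0_apply, permCo0_apply, permCo0_apply]
  rfl

theorem permCo0_b8 (σ : Equiv.Perm GolayPt) (hσ : σ ∈ M24) (i : GolayPt) :
    permCo0 σ hσ • b8 i = b8 (σ i) := by
  apply Subtype.ext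
  rw [permCo0_apply]
  funext j
  show e8 i (σ.symm j) = e8 (σ i) j
  unfold e8
  simp only [Equiv.symm_apply_eq]

theorem permCo0_injective {σ τ : Equiv.Perm GolayPt} {hσ : σ ∈ M24} {hτ : τ ∈ M24}
    (h : permCo0 σ hσ = permCo0 τ hτ) : σ = τ := by
  apply Equiv.ext
  intro i
  have h1 := permCo0_b8 σ hσ i
  rw [h, permCo0_b8] at h1
  have h2 := congrFun (congrArg Subtype.val h1) (σ i)
  rw [b8_apply, b8_apply, if_pos rfl] at h2
  by_contra hne
  rw [if_neg hne] at h2
  norm_num at h2

/-! ### the point stabiliser -/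

/-- the stabiliser of the first two points in `M24` -/
abbrev M22' : Subgroup M24 :=
  MulAction.stabilizer M24 (none : GolayPt) ⊓ MulAction.stabilizer M24 (some 0 : GolayPt)

theorem mem_M22' (τ : M24) :
    τ ∈ M22' ↔ (τ : Equiv.Perm GolayPt) none = none ∧ (τ : Equiv.Perm GolayPt) (some 0) = some 0 := by
  rw [Subgroup.mem_inf, MulAction.mem_stabilizer_iff, MulAction.mem_stabilizer_iff]
  rfl

/-- the embedding of the two-point stabiliser of `M24` into `Hstd` -/
noncomputable def phiHS : M22' →* Hstd where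
  toFun τ := ⟨permCo0 τ.1.1 τ.1.2, (mem_Hstd _).2
    ⟨(permCo0_fix_std _ _ ((mem_M22' τ.1).1 τ.2).1 ((mem_M22' τ.1).1 τ.2).2).1,
      (permCo0_fix_std _ _ ((mem_M22' τ.1).1 τ.2).1 ((mem_M22' τ.1).1 τ.2).2).2.1⟩⟩
  map_one' := Subtype.ext permCo0_one
  map_mul' a b := Subtype.ext (permCo0_mul _ _ a.1.2 b.1.2)

theorem phiHS_coe (τ : M22') : ((phiHS τ : Hstd) : Co0) = permCo0 τ.1.1 τ.1.2 := rfl

theorem phiHS_injective : Function.Injective phiHS := by
  intro a b h
  have h1 : permCo0 a.1.1 a.1.2 = permCo0 b.1.1 b.1.2 := by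
    rw [← phiHS_coe, ← phiHS_coe, h]
  exact Subtype.ext (Subtype.ext (permCo0_injective h1))

theorem hstd_smul_def (g : Hstd) (x : leechLattice) : g • x = (g : Co0) • x := rfl

theorem phiHS_range : phiHS.range = MulAction.stabilizer Hstd leechU := by
  ext g
  rw [MonoidHom.mem_range, MulAction.mem_stabilizer_iff]
  constructor
  · rintro ⟨τ, rfl⟩
    rw [hstd_smul_def, phiHS_coe]
    exact (permCo0_fix_std _ _ ((mem_M22' τ.1).1 τ.2).1 ((mem_M22' τ.1).1 τ.2).2).2.2
  · intro h
    rw [hstd_smul_def] at h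
    obtain ⟨h1, h2⟩ := (mem_Hstd _).1 g.2
    obtain ⟨σ, hσ, s0, s1, hg⟩ := exists_perm_of_fix g.1 h1 h2 h
    refine ⟨⟨⟨σ, hσ⟩, (mem_M22' _).2 ⟨s0, s1⟩⟩, ?_⟩
    apply Subtype.ext
    rw [phiHS_coe, hg]

/-- the point stabiliser is the two-point stabiliser of `M24` -/
noncomputable def stabEquiv : M22' ≃* MulAction.stabilizer Hstd leechU :=
  (MonoidHom.ofInjective phiHS_injective).trans (MulEquiv.subgroupCongr phiHS_range)

theorem isSimpleGroup_stab : IsSimpleGroup (MulAction.stabilizer Hstd leechU) := by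
  have : IsSimpleGroup M22' :=
    isSimpleGroup_stabilizer_pair_M24 (p := none) (q := some 0) (by decide)
  exact MulEquiv.isSimpleGroup stabEquiv.symm

theorem card_stab : Nat.card (MulAction.stabilizer Hstd leechU) = 443520 := by
  rw [← Nat.card_congr stabEquiv.toEquiv]
  exact card_stabilizer_pair_M24 (p := none) (q := some 0) (by decide)

/-! ### the action on the 100 points -/

theorem sqNorm_u3std : sqNorm ((u3std : leechLattice) : GolayPt → ℤ) = 48 := by
  rw [u3std_coe, sqNorm_u3]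

theorem sqNorm_w3std : sqNorm ((w3std : leechLattice) : GolayPt → ℤ) = 48 := by
  show sqNorm (-(yU : GolayPt → ℤ) - (u3std : GolayPt → ℤ)) = 48
  rw [u3std_coe]
  show sqNorm (-(Pi.single none 4 + Pi.single (some 0) (-4) : GolayPt → ℤ) - u3) = 48
  decide +kernel

theorem dotInt_u3std_w3std : dotInt ((u3std : leechLattice) : GolayPt → ℤ)
    ((w3std : leechLattice) : GolayPt → ℤ) = -32 := by
  show dotInt ((u3std : leechLattice) : GolayPt → ℤ)
    (-(yU : GolayPt → ℤ) - (u3std : GolayPt → ℤ)) = -32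
  rw [u3std_coe]
  show dotInt u3 (-(Pi.single none 4 + Pi.single (some 0) (-4) : GolayPt → ℤ) - u3) = -32
  decide +kernel

/-- the 100 points -/
def S100 : Set leechLattice :=
  {y | sqNorm (y : GolayPt → ℤ) = 32 ∧
    dotInt ((u3std : leechLattice) : GolayPt → ℤ) (y : GolayPt → ℤ) = 24 ∧
    dotInt ((w3std : leechLattice) : GolayPt → ℤ) (y : GolayPt → ℤ) = -24}

theorem leechU_mem_S100 : leechU ∈ S100 := (hs_std_iff leechU).2 hsstd_vecU

theorem smul_mem_S100 (g : Hstd) {x : leechLattice} (hx : x ∈ S100) : g • x ∈ S100 := by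
  obtain ⟨h1, h2⟩ := (mem_Hstd _).1 g.2
  rw [hstd_smul_def]
  refine ⟨by rw [co0_sqNorm]; exact hx.1, ?_, ?_⟩
  · have := co0_dotInt (g : Co0) u3std x
    rw [h1] at this
    rw [this]; exact hx.2.1
  · have := co0_dotInt (g : Co0) w3std x
    rw [h2] at this
    rw [this]; exact hx.2.2

theorem hstd_faithful (g : Hstd) (h : ∀ x ∈ S100, g • x = x) : g = 1 := by
  obtain ⟨h1, h2⟩ := (mem_Hstd _).1 g.2
  have h3 := h leechU leechU_mem_S100
  rw [hstd_smul_def] at h3
  obtain ⟨σ, hσ, s0, s1, hg⟩ := exists_perm_of_fix g.1 h1 h2 h3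
  have hσ1 : σ = 1 := by
    apply Equiv.ext
    intro j
    by_cases hj : j ∈ ptsF
    · have hmem : oddvL j ∈ S100 :=
        (hs_std_iff _).2 (hsstd_oddv (mem_ptsF.1 hj).1 (mem_ptsF.1 hj).2)
      have := h (oddvL j) hmem
      rw [hstd_smul_def, hg, permCo0_oddv] at this
      have := congrArg Subtype.val this
      exact oddv_injective this
    · rw [mem_ptsF] at hj
      by_cases hjn : j = none
      · rw [hjn]; exact s0
      · have : j = some 0 := by
          by_contra hne
          exact hj ⟨hjn, hne⟩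
        rw [this]; exact s1
  apply Subtype.ext
  rw [hg]
  subst hσ1
  exact permCo0_one

theorem hstd_transitive (x y : leechLattice) (hx : x ∈ S100) (hy : y ∈ S100) :
    ∃ g : Hstd, g • x = y := by
  obtain ⟨g, h1, h2, h3⟩ := hs_trans u3std w3std x y sqNorm_u3std sqNorm_w3std dotInt_u3std_w3std
    hx.1 hx.2.1 hx.2.2 hy.1 hy.2.1 hy.2.2
  exact ⟨⟨g, (mem_Hstd g).2 ⟨h1, h2⟩⟩, h3⟩

theorem ncard_S100 : S100.ncard = 100 :=
  hs_ncard u3std w3std sqNorm_u3std sqNorm_w3std dotInt_u3std_w3std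

theorem orbit_hstd : MulAction.orbit Hstd leechU = S100 := by
  ext y
  constructor
  · rintro ⟨g, rfl⟩
    exact smul_mem_S100 g leechU_mem_S100
  · intro hy
    obtain ⟨g, hg⟩ := hstd_transitive leechU y leechU_mem_S100 hy
    exact ⟨g, hg⟩

theorem card_Hstd : Nat.card Hstd = 44352000 := by
  have h1 : (MulAction.stabilizer Hstd leechU).index = (MulAction.orbit Hstd leechU).ncard :=
    MulAction.index_stabilizer Hstd leechU
  have h2 := Subgroup.card_mul_index (MulAction.stabilizer Hstd leechU)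
  rw [h1, orbit_hstd, ncard_S100, card_stab] at h2
  omega

/-- **The stabiliser of the standard Higman–Sims pair is simple of order 44352000.** -/
theorem isHS_Hstd : IsHS Hstd := by
  have hfin : Finite Hstd := Nat.finite_of_card_ne_zero (by rw [card_Hstd]; norm_num)
  obtain ⟨hΔ, hΓ, htr3⟩ := hs_rank3 u3std w3std leechU sqNorm_u3std sqNorm_w3std dotInt_u3std_w3std
    leechU_mem_S100.1 leechU_mem_S100.2.1 leechU_mem_S100.2.2
  refine ⟨?_, card_Hstd⟩
  refine isSimpleGroup_of_rank3_hs (G := Hstd) (Ω := leechLattice) S100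
    (fun g x hx => smul_mem_S100 g hx) hstd_faithful
    (fun x hx y hy => hstd_transitive x y hx hy) leechU isSimpleGroup_stab
    {y | y ∈ S100 ∧ dotInt ((leechU : leechLattice) : GolayPt → ℤ) (y : GolayPt → ℤ) = 8}
    {y | y ∈ S100 ∧ y ≠ leechU ∧
      dotInt ((leechU : leechLattice) : GolayPt → ℤ) (y : GolayPt → ℤ) ≠ 8}
    ?_ ?_ ?_ ?_ hΔ hΓ ?_ ?_ card_Hstd
  · ext y
    constructor
    · intro hy
      by_cases h1 : y = leechU
      · exact Or.inl h1
      · by_cases h2 : dotInt ((leechU : leechLattice) : GolayPt → ℤ) (y : GolayPt → ℤ) = 8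
        · exact Or.inr (Or.inl ⟨hy, h2⟩)
        · exact Or.inr (Or.inr ⟨hy, h1, h2⟩)
    · rintro (h | h | h)
      · rw [h]; exact leechU_mem_S100
      · exact h.1
      · exact h.1
  · rintro ⟨-, h⟩
    rw [show ((leechU : leechLattice) : GolayPt → ℤ) = vecU from rfl, dotInt_vecU_vecU] at h
    norm_num at h
  · rintro ⟨-, h, -⟩
    exact h rfl
  · rw [Set.disjoint_left]
    rintro y ⟨-, h⟩ ⟨-, -, h'⟩
    exact h' h
  · rintro x ⟨hx, hx8⟩ y ⟨hy, hy8⟩
    have hne : ∀ z : leechLattice,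
        dotInt ((leechU : leechLattice) : GolayPt → ℤ) (z : GolayPt → ℤ) = 8 → z ≠ leechU := by
      intro z hz h
      rw [h, show ((leechU : leechLattice) : GolayPt → ℤ) = vecU from rfl, dotInt_vecU_vecU] at hz
      norm_num at hz
    obtain ⟨g, h1, h2, h3, h4⟩ := htr3 x y hx hy (hne x hx8) (hne y hy8)
      ⟨fun _ => hy8, fun _ => hx8⟩
    exact ⟨⟨g, (mem_Hstd g).2 ⟨h1, h2⟩⟩, h3, h4⟩
  · rintro x ⟨hx, hxne, hx8⟩ y ⟨hy, hyne, hy8⟩
    obtain ⟨g, h1, h2, h3, h4⟩ := htr3 x y hx hy hxne hyne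
      ⟨fun h => absurd h hx8, fun h => absurd h hy8⟩
    exact ⟨⟨g, (mem_Hstd g).2 ⟨h1, h2⟩⟩, h3, h4⟩

/-- **The stabiliser of any Higman–Sims pair is simple of order 44352000.** -/
theorem isHS_stabilizer (v w : leechLattice) (hv : sqNorm (v : GolayPt → ℤ) = 48)
    (hw : sqNorm (w : GolayPt → ℤ) = 48)
    (hvw : dotInt (v : GolayPt → ℤ) (w : GolayPt → ℤ) = -32) :
    IsHS ↥(MulAction.stabilizer Co0 v ⊓ MulAction.stabilizer Co0 w) := by
  obtain ⟨g, hg1, hg2⟩ := hs_normal v w hv hw hvw
  have hmem : ∀ x : Co0, x ∈ MulAction.stabilizer Co0 v ⊓ MulAction.stabilizer Co0 w ↔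
      (g⁻¹)⁻¹ * x * g⁻¹ ∈ Hstd := by
    intro x
    rw [mem_Hstd, Subgroup.mem_inf, MulAction.mem_stabilizer_iff, MulAction.mem_stabilizer_iff,
      inv_inv, mul_smul, mul_smul, mul_smul, mul_smul, ← hg1, ← hg2, inv_smul_smul, inv_smul_smul]
    constructor
    · rintro ⟨h1, h2⟩
      rw [h1, h2]
      exact ⟨rfl, rfl⟩
    · rintro ⟨h1, h2⟩
      exact ⟨MulAction.injective g h1, MulAction.injective g h2⟩
  have e := conjSubgroupEquiv g⁻¹ Hstd
    (MulAction.stabilizer Co0 v ⊓ MulAction.stabilizer Co0 w) hmem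
  obtain ⟨h1, h2⟩ := isHS_Hstd
  exact ⟨MulEquiv.isSimpleGroup e, by rw [Nat.card_congr e.toEquiv]; exact h2⟩

end Cfsg.Agent.Lib.Helper8
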