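import Mathlib
import Cfsg.Agent.Lib.Helper7.SimpleMathieu
import Cfsg.Agent.Lib.Helper26.GolayBitsCode

/-!
# The element of order 23 of `M24`: centraliser and non-inversion
-/

set_option autoImplicit false

namespace Cfsg.Agent.Lib.Helper8
open Cfsg Cfsg.Agent.Lib.Helper7
open scoped Pointwise

theorem shiftPerm_none : shiftPerm none = none := rfl

theorem shiftPerm_some (x : ZMod 23) : shiftPerm (some x) = some (x + 1) := rfl

theorem shiftPerm_inv_none : shiftPerm⁻¹ none = none := by
  rw [Equiv.Perm.inv_eq_iff_eq]; rfl

theorem shiftPerm_inv_some (x : ZMod 23) : shiftPerm⁻¹ (some x) = some (x - 1) := by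
  rw [Equiv.Perm.inv_eq_iff_eq, shiftPerm_some, sub_add_cancel]

theorem shiftPerm_mem_M24 : shiftPerm ∈ M24 :=
  genH_le_M24 (Subgroup.subset_closure (by simp))

theorem orderOf_shiftPerm : orderOf shiftPerm = 23 := by
  haveI : Fact (Nat.Prime 23) := ⟨by norm_num⟩
  exact orderOf_eq_prime a23_pow a23_ne

theorem shiftPerm_pow_none (k : ℕ) : (shiftPerm ^ k) none = none := by
  induction k with
  | zero => rfl
  | succ k ih => rw [pow_succ, Equiv.Perm.mul_apply, shiftPerm_none, ih]

theorem shiftPerm_pow_some (k : ℕ) (x : ZMod 23) :
    (shiftPerm ^ k) (some x) = some (x + k) := by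
  induction k generalizing x with
  | zero => simp
  | succ k ih =>
    rw [pow_succ, Equiv.Perm.mul_apply, shiftPerm_some, ih]
    push_cast; ring_nf

/-- a vector invariant under the shift is constant on the residues -/
theorem shift_invariant_const {R : Type*} (y : GolayPt → R) (h : ∀ p, y (shiftPerm p) = y p)
    (x : ZMod 23) : y (some x) = y (some 0) := by
  have key : ∀ n : ℕ, y (some (n : ZMod 23)) = y (some 0) := by
    intro n
    induction n with
    | zero => simp
    | succ n ih =>
      rw [← ih, ← h (some (n : ZMod 23)), shiftPerm_some]
      push_cast; rfl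
  have := key x.val
  rwa [ZMod.natCast_zmod_val] at this

theorem zmod23_add_one_ne (x : ZMod 23) : x + 1 ≠ x := by
  intro h
  have : (1 : ZMod 23) = 0 := by
    have := congrArg (fun z => z - x) h
    simpa using this
  exact absurd this (by decide)

theorem zmod23_sub_one_ne (x : ZMod 23) : x - 1 ≠ x := by
  intro h
  have : (1 : ZMod 23) = 0 := by
    have := congrArg (fun z => x - z) h
    simpa using this
  exact absurd this (by decide)

/-- the centraliser of the shift in the symmetric group is generated by the shift -/
theorem mem_zpowers_shift_of_commute (t : Equiv.Perm GolayPt)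
    (h : t * shiftPerm = shiftPerm * t) : t ∈ Subgroup.zpowers shiftPerm := by
  have happ : ∀ p, t (shiftPerm p) = shiftPerm (t p) := fun p => by
    have := congrArg (fun f : Equiv.Perm GolayPt => f p) h
    simpa [Equiv.Perm.mul_apply] using this
  have hnone : t none = none := by
    have h1 := happ none
    rw [shiftPerm_none] at h1
    cases hx : t none with
    | none => rfl
    | some x =>
      rw [hx, shiftPerm_some] at h1
      exact absurd (Option.some.inj h1).symm (zmod23_add_one_ne x)
  obtain ⟨c, hc⟩ : ∃ c, t (some 0) = some c := by
    cases hx : t (some 0) with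
    | none =>
      exfalso
      have : t (some 0) = t none := by rw [hx, hnone]
      exact absurd (t.injective this) (by decide)
    | some c => exact ⟨c, rfl⟩
  have key : ∀ n : ℕ, t (some (n : ZMod 23)) = some ((n : ZMod 23) + c) := by
    intro n
    induction n with
    | zero => simpa using hc
    | succ n ih =>
      have h1 := happ (some (n : ZMod 23))
      rw [shiftPerm_some, ih, shiftPerm_some] at h1
      rw [Nat.cast_succ, h1]
      congr 1; ring
  have hsome : ∀ x : ZMod 23, t (some x) = some (x + c) := by
    intro x
    have := key x.val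
    rwa [ZMod.natCast_zmod_val] at this
  have : t = shiftPerm ^ c.val := by
    apply Equiv.ext
    intro p
    cases p with
    | none => rw [hnone, shiftPerm_pow_none]
    | some x => rw [hsome, shiftPerm_pow_some, ZMod.natCast_zmod_val]
  rw [this]
  exact Subgroup.pow_mem _ (Subgroup.mem_zpowers _) _

/-- `x ↦ c - x` on the residues, fixing the extra point -/
def negShiftFun (c : ZMod 23) : GolayPt → GolayPt
  | none => none
  | some x => some (c - x)

theorem qr0_mem_supports :
    support₂ (qrWord 0) ∈ supports (golayCode : Set (GolayPt → ZMod 2)) :=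
  ⟨qrWord 0, Submodule.subset_span (Or.inl ⟨0, rfl⟩), rfl⟩

set_option maxRecDepth 100000 in
theorem negShift_not_code : ∀ c : ZMod 23,
    Helper26.isCode (Helper26.maskOfSet ((support₂ (qrWord 0)).image (negShiftFun c))) = false := by
  decide +kernel

/-- no element of `M24` inverts the shift -/
theorem not_invert_shift (t : Equiv.Perm GolayPt) (ht : t ∈ M24)
    (h : t * shiftPerm * t⁻¹ = shiftPerm⁻¹) : False := by
  have h' : t * shiftPerm = shiftPerm⁻¹ * t := by
    rw [← h]; group
  have happ : ∀ p, t (shiftPerm p) = shiftPerm⁻¹ (t p) := fun p => by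
    have := congrArg (fun f : Equiv.Perm GolayPt => f p) h'
    simpa [Equiv.Perm.mul_apply] using this
  have hnone : t none = none := by
    have h1 := happ none
    rw [shiftPerm_none] at h1
    cases hx : t none with
    | none => rfl
    | some x =>
      rw [hx, shiftPerm_inv_some] at h1
      exact absurd (Option.some.inj h1).symm (zmod23_sub_one_ne x)
  obtain ⟨c, hc⟩ : ∃ c, t (some 0) = some c := by
    cases hx : t (some 0) with
    | none =>
      exfalso
      have : t (some 0) = t none := by rw [hx, hnone]
      exact absurd (t.injective this) (by decide)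
    | some c => exact ⟨c, rfl⟩
  have key : ∀ n : ℕ, t (some (n : ZMod 23)) = some (c - (n : ZMod 23)) := by
    intro n
    induction n with
    | zero => simpa using hc
    | succ n ih =>
      have h1 := happ (some (n : ZMod 23))
      rw [shiftPerm_some, ih, shiftPerm_inv_some] at h1
      rw [Nat.cast_succ, h1]
      congr 1; ring
  have hsome : ∀ x : ZMod 23, t (some x) = some (c - x) := by
    intro x
    have := key x.val
    rwa [ZMod.natCast_zmod_val] at this
  have hfun : ∀ p, t p = negShiftFun c p := by
    intro p
    cases p with
    | none => exact hnone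
    | some x => exact hsome x
  have h1 := smul_mem_supports_of_mem_M24 ht qr0_mem_supports
  have h2 : t • support₂ (qrWord 0) = (support₂ (qrWord 0)).image (negShiftFun c) := by
    rw [Finset.smul_finset_def]
    apply Finset.image_congr
    intro p _
    exact hfun p
  rw [h2, Helper26.mem_supports_golayCode_iff, negShift_not_code c] at h1
  exact absurd h1 (by decide)

end Cfsg.Agent.Lib.Helper8
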