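import Mathlib
import Cfsg.Prelude.Def_Spor_Conway
import Cfsg.Agent.Lib.Helper8.CrossStab
import Cfsg.Agent.Lib.Helper8.XiAut
import Cfsg.Agent.Lib.Helper8.Co2Orbits
import Cfsg.Agent.Lib.Helper7.M24OctStab
import Cfsg.Agent.Lib.Helper26.GolayBitsCode

/-!
# The centraliser of a 2-central involution of `Co2`: basic definitions (for S2136)

* `oct = setOf octO` is an octad through the support `{∞, 0}` of `leechU = (4,4,0^22)`;
  `octC` its complement, `tPerm` the sign change on `octC`, an involution of `Co2`.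
* `SuppO x`: the integer vector `x` is supported on `oct`; the lattice vectors supported on `oct`
  form a copy `L` of `4 E_8`, the fixed lattice of `tPerm`.
* `CSub`: the subgroup of `Co0` of elements fixing `leechU` and commuting with `tPerm`.
* `Wv`, `WDv`: a symplectic basis of `vbar^⊥ / vbar` in `L / 2L` and its dual basis;
  `cf k x = (x · WDv k) / 16 mod 2`, `cvec`, `phiMat g`.
-/

set_option autoImplicit false

namespace Cfsg.Agent.Lib.Helper8.CoTwoCent
open Cfsg Cfsg.Spor Cfsg.Agent.Lib.Helper7 Cfsg.Agent.Lib.Helper8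

/-- the octad `{∞, 0, 1, 2, 3, 5, 14, 17}` -/
def oct : Finset GolayPt := setOf octO

/-- the complement of `oct` -/
def octC : Finset GolayPt := setOf (allMask ^^^ octO)

theorem oct_eq : oct = {none, some 0, some 1, some 2, some 3, some 5, some 14, some 17} := by
  decide

theorem mem_octC_iff : ∀ p : GolayPt, p ∈ octC ↔ p ∉ oct := by decide

theorem octC_mem : octC ∈ supports (golayCode : Set (GolayPt → ZMod 2)) :=
  (Cfsg.Agent.Lib.Helper26.setOf_mem_supports_iff (by decide)).2 (by decide)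

theorem oct_mem_supports : oct ∈ supports (golayCode : Set (GolayPt → ZMod 2)) :=
  (Cfsg.Agent.Lib.Helper26.setOf_mem_supports_iff (by decide)).2 (by decide)

theorem none_mem_oct : (none : GolayPt) ∈ oct := by decide
theorem zero_mem_oct : (some 0 : GolayPt) ∈ oct := by decide

/-- the involution: sign change on the complement of the octad -/
def tPerm : Equiv.Perm leechLattice := signPerm octC octC_mem

/-- the involution as an element of `Co0` -/
def tCo0 : Co0 := ⟨tPerm, signPerm_mem octC octC_mem⟩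

/-- supported on the octad -/
def SuppO (x : GolayPt → ℤ) : Prop := ∀ i, i ∉ oct → x i = 0

instance (x : GolayPt → ℤ) : Decidable (SuppO x) := by unfold SuppO; infer_instance

theorem SuppO.add {x y : GolayPt → ℤ} (hx : SuppO x) (hy : SuppO y) : SuppO (x + y) := by
  intro i hi; simp [hx i hi, hy i hi]

theorem SuppO.neg {x : GolayPt → ℤ} (hx : SuppO x) : SuppO (-x) := by
  intro i hi; simp [hx i hi]

theorem SuppO.sub {x y : GolayPt → ℤ} (hx : SuppO x) (hy : SuppO y) : SuppO (x - y) := by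
  intro i hi; simp [hx i hi, hy i hi]

theorem SuppO.zsmul {x : GolayPt → ℤ} (hx : SuppO x) (n : ℤ) : SuppO (n • x) := by
  intro i hi; simp [hx i hi]

theorem suppO_zero : SuppO 0 := fun _ _ => rfl

/-- fixed vectors of the involution are the vectors supported on the octad -/
theorem tPerm_apply_eq_iff (v : leechLattice) : tPerm v = v ↔ SuppO (v : GolayPt → ℤ) := by
  constructor
  · intro h i hi
    have h1 : signFun octC v.1 i = v.1 i := by
      have := congrArg (fun w : leechLattice => (w : GolayPt → ℤ) i) h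
      exact this
    unfold signFun at h1
    rw [if_pos ((mem_octC_iff i).2 hi)] at h1
    omega
  · intro h
    apply Subtype.ext
    funext i
    show signFun octC v.1 i = v.1 i
    unfold signFun
    split_ifs with hi
    · rw [h i ((mem_octC_iff i).1 hi)]; rfl
    · rfl

theorem tPerm_mul_self : tPerm * tPerm = 1 := by
  apply Equiv.ext
  intro v
  apply Subtype.ext
  exact signFun_signFun octC v.1

theorem suppO_vecU : SuppO vecU := by decide

theorem tPerm_leechU : tPerm leechU = leechU := (tPerm_apply_eq_iff _).2 suppO_vecU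

theorem tPerm_mem_Co2 : tPerm ∈ Co2 := by
  refine ⟨signPerm_mem octC octC_mem, ?_⟩
  show tPerm ∈ MulAction.stabilizer (Equiv.Perm leechLattice) leechU
  rw [MulAction.mem_stabilizer_iff]
  exact tPerm_leechU

theorem tPerm_ne_one : tPerm ≠ 1 := by
  intro h
  have h1 : tPerm (b8 (some 4)) = b8 (some 4) := by rw [h]; rfl
  have h2 := (tPerm_apply_eq_iff _).1 h1 (some 4) (by decide)
  rw [b8_apply, if_pos rfl] at h2
  omega

/-- the involution as an element of `Co2` -/
def tCo2 : ↥Co2 := ⟨tPerm, tPerm_mem_Co2⟩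

theorem orderOf_tCo2 : orderOf tCo2 = 2 := by
  apply orderOf_eq_prime
  · apply Subtype.ext
    rw [pow_two]
    exact tPerm_mul_self
  · intro h
    exact tPerm_ne_one (congrArg Subtype.val h)

/-- the subgroup of `Co0` fixing `leechU` and commuting with the involution -/
def CSub : Subgroup Co0 :=
  MulAction.stabilizer Co0 leechU ⊓ Subgroup.centralizer {tCo0}

theorem mem_CSub {g : Co0} : g ∈ CSub ↔ g • leechU = leechU ∧ g * tCo0 = tCo0 * g := by
  unfold CSub
  rw [Subgroup.mem_inf, MulAction.mem_stabilizer_iff, Subgroup.mem_centralizer_singleton_iff]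

theorem tCo0_smul (v : leechLattice) : tCo0 • v = tPerm v := rfl

/-- elements of `CSub` preserve the sublattice supported on the octad -/
theorem suppO_smul {g : Co0} (hg : g ∈ CSub) {v : leechLattice} (hv : SuppO (v : GolayPt → ℤ)) :
    SuppO ((g • v : leechLattice) : GolayPt → ℤ) := by
  rw [← tPerm_apply_eq_iff, ← tCo0_smul, ← mul_smul, ← (mem_CSub.1 hg).2, mul_smul, tCo0_smul,
    (tPerm_apply_eq_iff v).2 hv]

/-- index of `Fin 3 ⊕ Fin 3` -/
def sidx : Fin 3 ⊕ Fin 3 → ℕ
  | Sum.inl i => i.val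
  | Sum.inr i => 3 + i.val

/-- a `6 × 6` matrix over `ZMod 2` from a list of rows -/
def matOfList (l : List (List ℕ)) : Matrix (Fin 3 ⊕ Fin 3) (Fin 3 ⊕ Fin 3) (ZMod 2) :=
  fun i j => (((l.getD (sidx i) []).getD (sidx j) 0 : ℕ) : ZMod 2)

/-- an integer vector from the list of its 24 coordinates (position 23 is `∞`) -/
def vecL (l : List ℤ) : GolayPt → ℤ := fun p => l.getD (idx p) 0

/-- the symplectic basis, as lists: `E1, E2, E3, F1, F2, F3` -/
def WList : List (List ℤ) :=
  [[0, 4, -4, 0, 0, 0, 0, 0, 0, 0, 0, 0, 0, 0, 0, 0, 0, 0, 0, 0, 0, 0, 0, 0],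
   [0, 0, 0, 0, 0, 4, 0, 0, 0, 0, 0, 0, 0, 0, -4, 0, 0, 0, 0, 0, 0, 0, 0, 0],
   [-4, 0, 0, 0, 0, 0, 0, 0, 0, 0, 0, 0, 0, 0, 0, 0, 0, 0, 0, 0, 0, 0, 0, 4],
   [0, 0, 4, -4, 0, 0, 0, 0, 0, 0, 0, 0, 0, 0, 0, 0, 0, 0, 0, 0, 0, 0, 0, 0],
   [0, 0, 0, 0, 0, 0, 0, 0, 0, 0, 0, 0, 0, 0, 4, 0, 0, -4, 0, 0, 0, 0, 0, 0],
   [-2, -2, -2, -2, 0, 2, 0, 0, 0, 0, 0, 0, 0, 0, 2, 0, 0, 2, 0, 0, 0, 0, 0, 2]]

/-- the symplectic basis vectors -/
def Wv (k : Fin 3 ⊕ Fin 3) : GolayPt → ℤ := vecL (WList.getD (sidx k) [])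

/-- the dual basis vectors: `F1, F2, F3, E1, E2, E3` -/
def WDv (k : Fin 3 ⊕ Fin 3) : GolayPt → ℤ := Wv (Sum.swap k)

theorem Wv_test : ∀ k, leechTest (Wv k) := by decide +kernel

theorem Wv_mem (k : Fin 3 ⊕ Fin 3) : Wv k ∈ leechLattice :=
  (mem_leechLattice_iff _).2 (mem_leechSet_of_test (Wv_test k))

theorem suppO_Wv : ∀ k, SuppO (Wv k) := by decide +kernel

/-- the basis vectors as lattice elements -/
def W (k : Fin 3 ⊕ Fin 3) : leechLattice := ⟨Wv k, Wv_mem k⟩

/-- the coordinate functional `x ↦ (x · WD_k)/16 mod 2` -/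
def cf (k : Fin 3 ⊕ Fin 3) (x : GolayPt → ℤ) : ZMod 2 := ((dotInt x (WDv k) / 16 : ℤ) : ZMod 2)

/-- the coordinate vector of `x` -/
def cvec (x : GolayPt → ℤ) : Fin 3 ⊕ Fin 3 → ZMod 2 := fun k => cf k x

/-- the matrix of `g` on `vbar^⊥ / vbar` -/
def phiMat (g : Co0) : Matrix (Fin 3 ⊕ Fin 3) (Fin 3 ⊕ Fin 3) (ZMod 2) :=
  fun i j => cf i ((g • W j : leechLattice) : GolayPt → ℤ)

end Cfsg.Agent.Lib.Helper8.CoTwoCent
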