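import Mathlib
import Cfsg.Agent.Lib.Helper8.CoTwoCentDefs

/-!
# The sublattice `L = 4 E_8` of lattice vectors supported on the octad (for S2136)

Arithmetic shape `LSh` of its vectors, dot products with the explicit basis vectors, and the
expansion lemma: a vector of `L` orthogonal (mod 2) to `v = leechU` and to the dual basis lies in
`2L + ℤ v`.
-/

set_option autoImplicit false

namespace Cfsg.Agent.Lib.Helper8.CoTwoCent
open Cfsg Cfsg.Spor Cfsg.Agent.Lib.Helper7 Cfsg.Agent.Lib.Helper8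

theorem mem_oct_cases {i : GolayPt} (hi : i ∈ oct) :
    i = none ∨ i = some 0 ∨ i = some 1 ∨ i = some 2 ∨ i = some 3 ∨ i = some 5 ∨ i = some 14 ∨
      i = some 17 := by
  rw [oct_eq] at hi
  simpa using hi

theorem sum_oct (f : GolayPt → ℤ) : ∑ i ∈ oct, f i = f none + f (some 0) + f (some 1) + f (some 2)
    + f (some 3) + f (some 5) + f (some 14) + f (some 17) := by
  rw [oct_eq, Finset.sum_insert (by decide), Finset.sum_insert (by decide),
    Finset.sum_insert (by decide), Finset.sum_insert (by decide), Finset.sum_insert (by decide),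
    Finset.sum_insert (by decide), Finset.sum_insert (by decide), Finset.sum_singleton]
  ring

theorem sum_suppO {x : GolayPt → ℤ} (hs : SuppO x) : ∑ i, x i = x none + x (some 0) + x (some 1)
    + x (some 2) + x (some 3) + x (some 5) + x (some 14) + x (some 17) := by
  rw [← sum_oct]
  symm
  apply Finset.sum_subset (Finset.subset_univ _)
  intro i _ hi
  exact hs i hi

theorem dotInt_suppO {x : GolayPt → ℤ} (hs : SuppO x) (y : GolayPt → ℤ) :
    dotInt x y = x none * y none + x (some 0) * y (some 0) + x (some 1) * y (some 1)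
      + x (some 2) * y (some 2) + x (some 3) * y (some 3) + x (some 5) * y (some 5)
      + x (some 14) * y (some 14) + x (some 17) * y (some 17) := by
  unfold dotInt
  rw [← sum_oct (fun i => x i * y i)]
  symm
  apply Finset.sum_subset (Finset.subset_univ _)
  intro i _ hi
  rw [hs i hi, zero_mul]

theorem sqNorm_suppO {x : GolayPt → ℤ} (hs : SuppO x) :
    sqNorm x = x none ^ 2 + x (some 0) ^ 2 + x (some 1) ^ 2 + x (some 2) ^ 2 + x (some 3) ^ 2
      + x (some 5) ^ 2 + x (some 14) ^ 2 + x (some 17) ^ 2 := by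
  rw [sqNorm_eq_dotInt, dotInt_suppO hs]
  ring

/-- the arithmetic shape of a lattice vector supported on the octad -/
structure LSh (x : GolayPt → ℤ) : Prop where
  supp : SuppO x
  par : (x none % 4 = 0 ∧ x (some 0) % 4 = 0 ∧ x (some 1) % 4 = 0 ∧ x (some 2) % 4 = 0 ∧
      x (some 3) % 4 = 0 ∧ x (some 5) % 4 = 0 ∧ x (some 14) % 4 = 0 ∧ x (some 17) % 4 = 0) ∨
    (x none % 4 = 2 ∧ x (some 0) % 4 = 2 ∧ x (some 1) % 4 = 2 ∧ x (some 2) % 4 = 2 ∧
      x (some 3) % 4 = 2 ∧ x (some 5) % 4 = 2 ∧ x (some 14) % 4 = 2 ∧ x (some 17) % 4 = 2)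
  sum : (x none + x (some 0) + x (some 1) + x (some 2) + x (some 3) + x (some 5) + x (some 14)
    + x (some 17)) % 8 = 0

theorem card_oct : oct.card = 8 := by decide

theorem lsh_of_mem {x : GolayPt → ℤ} (hx : x ∈ leechLattice) (hs : SuppO x) : LSh x := by
  classical
  obtain ⟨m, h1, h2, h3⟩ := (mem_leechLattice_iff x).1 hx
  have hm : m % 2 = 0 := by
    have := h1 (some 4)
    rw [hs (some 4) (by decide)] at this
    unfold Int.ModEq at this
    omega
  have hev : ∀ i, x i % 2 = 0 := by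
    intro i
    have := h1 i
    unfold Int.ModEq at this
    omega
  have hS := h3 2
  obtain ⟨w, hw, hwS⟩ := hS
  have hmemS : ∀ i, i ∈ support₂ w ↔ x i % 4 = 2 := by
    intro i
    rw [hwS, Finset.mem_filter]
    simp only [Finset.mem_univ, true_and, Int.ModEq]
    omega
  have hsub : support₂ w ⊆ oct := by
    intro i hi
    by_contra hio
    have := (hmemS i).1 hi
    rw [hs i hio] at this
    omega
  have hcases : support₂ w = ∅ ∨ support₂ w = oct := by
    by_cases h0 : w = 0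
    · left
      rw [h0]
      ext i
      simp [support₂]
    · right
      have := golay_min_weight hw h0
      exact Finset.eq_of_subset_of_card_le hsub (by rw [card_oct]; exact this)
  have hsum : (x none + x (some 0) + x (some 1) + x (some 2) + x (some 3) + x (some 5)
      + x (some 14) + x (some 17)) % 8 = 0 := by
    rw [← sum_suppO hs]
    unfold Int.ModEq at h2
    omega
  refine ⟨hs, ?_, hsum⟩
  rcases hcases with h | h
  · left
    have h4 : ∀ i, x i % 4 = 0 := by
      intro i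
      have h1 : ¬ x i % 4 = 2 := by
        rw [← hmemS i, h]
        simp
      have := hev i
      omega
    exact ⟨h4 _, h4 _, h4 _, h4 _, h4 _, h4 _, h4 _, h4 _⟩
  · right
    have h4 : ∀ i ∈ oct, x i % 4 = 2 := by
      intro i hi
      rw [← hmemS i, h]
      exact hi
    exact ⟨h4 _ (by decide), h4 _ (by decide), h4 _ (by decide), h4 _ (by decide),
      h4 _ (by decide), h4 _ (by decide), h4 _ (by decide), h4 _ (by decide)⟩

theorem univ_mem_supports : (Finset.univ : Finset GolayPt) ∈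
    supports (golayCode : Set (GolayPt → ZMod 2)) := Cfsg.Spor.univ_mem_supports_golayCode

theorem mem_of_lsh {x : GolayPt → ℤ} (h : LSh x) : x ∈ leechLattice := by
  classical
  obtain ⟨hs, hpar, hsum⟩ := h
  rw [mem_leechLattice_iff]
  rcases hpar with hp | hp
  · have h4 : ∀ i, x i % 4 = 0 := by
      intro i
      by_cases hi : i ∈ oct
      · obtain ⟨a, b, c, d, e, f, g, h⟩ := hp
        rcases mem_oct_cases hi with rfl | rfl | rfl | rfl | rfl | rfl | rfl | rfl <;> assumption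
      · rw [hs i hi]; rfl
    refine ⟨0, fun i => ?_, ?_, fun k => ?_⟩
    · have := h4 i
      unfold Int.ModEq
      omega
    · rw [sum_suppO hs]
      unfold Int.ModEq
      omega
    · by_cases hk : k % 4 = 0
      · have : (Finset.univ.filter fun i => x i ≡ k [ZMOD 4]) = Finset.univ := by
          apply Finset.filter_true_of_mem
          intro i _
          have := h4 i
          unfold Int.ModEq
          omega
        rw [this]
        exact univ_mem_supports
      · have : (Finset.univ.filter fun i => x i ≡ k [ZMOD 4]) = ∅ := by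
          apply Finset.filter_false_of_mem
          intro i _
          have := h4 i
          unfold Int.ModEq
          omega
        rw [this]
        exact Cfsg.Spor.empty_mem_supports_golayCode
  · have h4 : ∀ i ∈ oct, x i % 4 = 2 := by
      intro i hi
      obtain ⟨a, b, c, d, e, f, g, h⟩ := hp
      rcases mem_oct_cases hi with rfl | rfl | rfl | rfl | rfl | rfl | rfl | rfl <;> assumption
    refine ⟨0, fun i => ?_, ?_, fun k => ?_⟩
    · by_cases hi : i ∈ oct
      · have := h4 i hi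
        unfold Int.ModEq
        omega
      · rw [hs i hi]
    · rw [sum_suppO hs]
      unfold Int.ModEq
      omega
    · by_cases hk0 : k % 4 = 0
      · have : (Finset.univ.filter fun i => x i ≡ k [ZMOD 4]) = octC := by
          ext i
          simp only [Finset.mem_filter, Finset.mem_univ, true_and, mem_octC_iff]
          by_cases hi : i ∈ oct
          · have := h4 i hi
            simp only [hi, not_true_eq_false, iff_false]
            unfold Int.ModEq
            omega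
          · simp only [hi, not_false_eq_true, iff_true]
            rw [hs i hi]
            unfold Int.ModEq
            omega
        rw [this]
        exact octC_mem
      · by_cases hk2 : k % 4 = 2
        · have : (Finset.univ.filter fun i => x i ≡ k [ZMOD 4]) = oct := by
            ext i
            simp only [Finset.mem_filter, Finset.mem_univ, true_and]
            by_cases hi : i ∈ oct
            · have := h4 i hi
              simp only [hi, iff_true]
              unfold Int.ModEq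
              omega
            · simp only [hi, iff_false]
              rw [hs i hi]
              unfold Int.ModEq
              omega
          rw [this]
          exact oct_mem_supports
        · have : (Finset.univ.filter fun i => x i ≡ k [ZMOD 4]) = ∅ := by
            apply Finset.filter_false_of_mem
            intro i _
            by_cases hi : i ∈ oct
            · have := h4 i hi
              unfold Int.ModEq
              omega
            · rw [hs i hi]
              unfold Int.ModEq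
              omega
          rw [this]
          exact Cfsg.Spor.empty_mem_supports_golayCode

/-! ### Dot products with the explicit vectors -/

theorem vecL_none (l : List ℤ) : vecL l none = l.getD 23 0 := rfl
theorem vecL_some0 (l : List ℤ) : vecL l (some 0) = l.getD 0 0 := rfl
theorem vecL_some1 (l : List ℤ) : vecL l (some 1) = l.getD 1 0 := rfl
theorem vecL_some2 (l : List ℤ) : vecL l (some 2) = l.getD 2 0 := rfl
theorem vecL_some3 (l : List ℤ) : vecL l (some 3) = l.getD 3 0 := rfl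
theorem vecL_some5 (l : List ℤ) : vecL l (some 5) = l.getD 5 0 := rfl
theorem vecL_some14 (l : List ℤ) : vecL l (some 14) = l.getD 14 0 := rfl
theorem vecL_some17 (l : List ℤ) : vecL l (some 17) = l.getD 17 0 := rfl

theorem dotInt_suppO_vecL {x : GolayPt → ℤ} (hs : SuppO x) (l : List ℤ) :
    dotInt x (vecL l) = x none * l.getD 23 0 + x (some 0) * l.getD 0 0 + x (some 1) * l.getD 1 0
      + x (some 2) * l.getD 2 0 + x (some 3) * l.getD 3 0 + x (some 5) * l.getD 5 0
      + x (some 14) * l.getD 14 0 + x (some 17) * l.getD 17 0 := by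
  rw [dotInt_suppO hs]
  rfl

/-- the linear forms `x ↦ x · WD_k` -/
def dWD (k : Fin 3 ⊕ Fin 3) (x : GolayPt → ℤ) : ℤ :=
  match k with
  | Sum.inl 0 => 4 * x (some 2) - 4 * x (some 3)
  | Sum.inl 1 => 4 * x (some 14) - 4 * x (some 17)
  | Sum.inl 2 => 2 * x none - 2 * x (some 0) - 2 * x (some 1) - 2 * x (some 2) - 2 * x (some 3)
      + 2 * x (some 5) + 2 * x (some 14) + 2 * x (some 17)
  | Sum.inr 0 => 4 * x (some 1) - 4 * x (some 2)
  | Sum.inr 1 => 4 * x (some 5) - 4 * x (some 14)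
  | Sum.inr 2 => 4 * x none - 4 * x (some 0)

theorem dotInt_WDv {x : GolayPt → ℤ} (hs : SuppO x) (k : Fin 3 ⊕ Fin 3) :
    dotInt x (WDv k) = dWD k x := by
  rcases k with i | i <;> fin_cases i
  all_goals
    simp only [WDv, Wv, Sum.swap_inl, Sum.swap_inr]
    rw [dotInt_suppO_vecL hs]
    simp [WList, sidx, dWD]
    try ring

theorem dotInt_vecU' (x : GolayPt → ℤ) : dotInt x vecU = 4 * x none + 4 * x (some 0) := by
  rw [dotInt_comm, dotInt_vecU]

theorem dWD_add (k : Fin 3 ⊕ Fin 3) (x y : GolayPt → ℤ) : dWD k (x + y) = dWD k x + dWD k y := by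
  rcases k with i | i <;> fin_cases i <;> simp only [dWD, Pi.add_apply] <;> ring

theorem dWD_zsmul (k : Fin 3 ⊕ Fin 3) (n : ℤ) (x : GolayPt → ℤ) : dWD k (n • x) = n * dWD k x := by
  rcases k with i | i <;> fin_cases i <;> simp only [dWD, Pi.smul_apply, smul_eq_mul] <;> ring

theorem dWD_vecU (k : Fin 3 ⊕ Fin 3) : dWD k vecU = 0 := by
  rcases k with i | i <;> fin_cases i <;> decide

theorem dvd_dWD {x : GolayPt → ℤ} (h : LSh x) (k : Fin 3 ⊕ Fin 3) : dWD k x % 16 = 0 := by
  obtain ⟨_, hpar, hsum⟩ := h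
  rcases k with i | i <;> fin_cases i <;> simp only [dWD] <;> omega

theorem cf_eq {x : GolayPt → ℤ} (hs : SuppO x) (k : Fin 3 ⊕ Fin 3) :
    cf k x = ((dWD k x / 16 : ℤ) : ZMod 2) := by
  unfold cf
  rw [dotInt_WDv hs]

theorem cf_add {x y : GolayPt → ℤ} (hx : LSh x) (hy : LSh y) (k : Fin 3 ⊕ Fin 3) :
    cf k (x + y) = cf k x + cf k y := by
  rw [cf_eq (hx.supp.add hy.supp), cf_eq hx.supp, cf_eq hy.supp, dWD_add, ← Int.cast_add]
  congr 1
  have h1 := dvd_dWD hx k
  have h2 := dvd_dWD hy k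
  omega

theorem cf_eq_zero_iff {x : GolayPt → ℤ} (hs : SuppO x) (k : Fin 3 ⊕ Fin 3) :
    cf k x = 0 ↔ (dWD k x / 16) % 2 = 0 := by
  rw [cf_eq hs, ZMod.intCast_zmod_eq_zero_iff_dvd]
  constructor
  · intro h; exact Int.emod_eq_zero_of_dvd h
  · intro h; exact Int.dvd_of_emod_eq_zero h

theorem cf_two_smul {l : GolayPt → ℤ} (hl : LSh l) (k : Fin 3 ⊕ Fin 3) :
    cf k ((2 : ℤ) • l) = 0 := by
  rw [cf_eq_zero_iff (hl.supp.zsmul 2), dWD_zsmul]
  have := dvd_dWD hl k
  omega

theorem cf_zsmul_vecU (n : ℤ) (k : Fin 3 ⊕ Fin 3) : cf k (n • vecU) = 0 := by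
  rw [cf_eq_zero_iff (suppO_vecU.zsmul n), dWD_zsmul, dWD_vecU]
  simp

theorem lsh_Wv (k : Fin 3 ⊕ Fin 3) : LSh (Wv k) := lsh_of_mem (Wv_mem k) (suppO_Wv k)

theorem cf_Wv : ∀ k j : Fin 3 ⊕ Fin 3, cf k (Wv j) = if k = j then 1 else 0 := by
  intro k j
  rw [cf_eq (suppO_Wv j)]
  revert k j
  decide

theorem lsh_vecU : LSh vecU := lsh_of_mem leechU.2 suppO_vecU

/-! ### The expansion lemma -/

theorem vecU_none : vecU none = 4 := by decide
theorem vecU_some0 : vecU (some 0) = 4 := by decide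
theorem vecU_some1 : vecU (some 1) = 0 := by decide
theorem vecU_some2 : vecU (some 2) = 0 := by decide
theorem vecU_some3 : vecU (some 3) = 0 := by decide
theorem vecU_some5 : vecU (some 5) = 0 := by decide
theorem vecU_some14 : vecU (some 14) = 0 := by decide
theorem vecU_some17 : vecU (some 17) = 0 := by decide

theorem vecU_cases (i : GolayPt) : vecU i = 4 ∨ vecU i = 0 := by
  unfold vecU
  split_ifs
  · left; rfl
  · right; rfl

theorem exp_arith (ua u0 u1 u2 u3 u5 u14 u17 n : ℤ)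
    (d1 : (u2 - u3) % 2 = 0) (d2 : (u14 - u17) % 2 = 0)
    (d3 : (ua - u0 - u1 - u2 - u3 + u5 + u14 + u17) % 4 = 0) (d4 : (u1 - u2) % 2 = 0)
    (d5 : (u5 - u14) % 2 = 0) (d6 : (ua - u0) % 2 = 0)
    (hs : (ua + u0 + u1 + u2 + u3 + u5 + u14 + u17) % 2 = 0) (hn : n = (ua - u1) % 2) :
    (((2 * ua - 2 * n) % 4 = 0 ∧ (2 * u0 - 2 * n) % 4 = 0 ∧ (2 * u1) % 4 = 0 ∧ (2 * u2) % 4 = 0 ∧
      (2 * u3) % 4 = 0 ∧ (2 * u5) % 4 = 0 ∧ (2 * u14) % 4 = 0 ∧ (2 * u17) % 4 = 0) ∨
     ((2 * ua - 2 * n) % 4 = 2 ∧ (2 * u0 - 2 * n) % 4 = 2 ∧ (2 * u1) % 4 = 2 ∧ (2 * u2) % 4 = 2 ∧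
      (2 * u3) % 4 = 2 ∧ (2 * u5) % 4 = 2 ∧ (2 * u14) % 4 = 2 ∧ (2 * u17) % 4 = 2)) ∧
    ((2 * ua - 2 * n) + (2 * u0 - 2 * n) + 2 * u1 + 2 * u2 + 2 * u3 + 2 * u5 + 2 * u14
      + 2 * u17) % 8 = 0 := by
  have e15 : (u1 - u5) % 2 = 0 := by omega
  constructor
  · rcases Int.emod_two_eq_zero_or_one u1 with h | h
    · left; omega
    · right; omega
  · omega

theorem aux_sub (a b u v : ℤ) (h : (4 * a - 4 * b) % 32 = 0) (ha : a = 4 * u) (hb : b = 4 * v) :
    (u - v) % 2 = 0 := by omega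

theorem aux_four (a : ℤ) (h : a % 4 = 0) : ∃ u, a = 4 * u := ⟨a / 4, by omega⟩

theorem dWD_mod32 {y : GolayPt → ℤ} (hy : LSh y) {k : Fin 3 ⊕ Fin 3} (hc : cf k y = 0) :
    dWD k y % 32 = 0 := by
  have h1 := (cf_eq_zero_iff hy.supp k).1 hc
  have h2 := dvd_dWD hy k
  omega

theorem aux_half (a n c u k : ℤ) (ha : a = 4 * u) (hc : c = 4 * k) :
    (a - n * c) / 2 = 2 * u - 2 * (n * k) := by
  subst ha hc
  have : 4 * u - n * (4 * k) = 2 * (2 * u - 2 * (n * k)) := by ring
  rw [this]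
  simp

/-- a vector of `L` orthogonal mod 2 to `v` and to the dual basis lies in `2L + ℤ v` -/
theorem exists_expansion {y : GolayPt → ℤ} (hy : LSh y) (hv : dotInt y vecU % 32 = 0)
    (hc : ∀ k, cf k y = 0) :
    ∃ l : GolayPt → ℤ, LSh l ∧ ∃ n : ℤ, y = (2 : ℤ) • l + n • vecU := by
  have c1 := dWD_mod32 hy (hc (Sum.inl 0))
  have c2 := dWD_mod32 hy (hc (Sum.inl 1))
  have c3 := dWD_mod32 hy (hc (Sum.inl 2))
  have c4 := dWD_mod32 hy (hc (Sum.inr 0))
  have c5 := dWD_mod32 hy (hc (Sum.inr 1))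
  have c6 := dWD_mod32 hy (hc (Sum.inr 2))
  obtain ⟨hs, hpar, hsum⟩ := hy
  rw [dotInt_vecU'] at hv
  simp only [dWD] at c1 c2 c3 c4 c5 c6
  have p0 : y none % 4 = 0 := by clear c1 c2 c3 c4 c5 hpar hsum; omega
  have hall : y none % 4 = 0 ∧ y (some 0) % 4 = 0 ∧ y (some 1) % 4 = 0 ∧ y (some 2) % 4 = 0 ∧
      y (some 3) % 4 = 0 ∧ y (some 5) % 4 = 0 ∧ y (some 14) % 4 = 0 ∧ y (some 17) % 4 = 0 := by
    rcases hpar with h | h
    · exact h
    · exfalso; clear c1 c2 c3 c4 c5 c6 hv hsum; omega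
  obtain ⟨ha, hb, h1, h2, h3, h5, h14, h17⟩ := hall
  have hev : ∀ i, y i % 2 = 0 := by
    clear c1 c2 c3 c4 c5 c6 hv hsum hpar p0
    intro i
    by_cases hi : i ∈ oct
    · rcases mem_oct_cases hi with rfl | rfl | rfl | rfl | rfl | rfl | rfl | rfl <;> omega
    · rw [hs i hi]; rfl
  obtain ⟨ua, hua⟩ := aux_four _ ha
  obtain ⟨u0, hu0⟩ := aux_four _ hb
  obtain ⟨u1, hu1⟩ := aux_four _ h1
  obtain ⟨u2, hu2⟩ := aux_four _ h2
  obtain ⟨u3, hu3⟩ := aux_four _ h3
  obtain ⟨u5, hu5⟩ := aux_four _ h5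
  obtain ⟨u14, hu14⟩ := aux_four _ h14
  obtain ⟨u17, hu17⟩ := aux_four _ h17
  have d1 : (u2 - u3) % 2 = 0 := aux_sub _ _ _ _ c1 hu2 hu3
  have d2 : (u14 - u17) % 2 = 0 := aux_sub _ _ _ _ c2 hu14 hu17
  have d4 : (u1 - u2) % 2 = 0 := aux_sub _ _ _ _ c4 hu1 hu2
  have d5 : (u5 - u14) % 2 = 0 := aux_sub _ _ _ _ c5 hu5 hu14
  have d6 : (ua - u0) % 2 = 0 := aux_sub _ _ _ _ c6 hua hu0
  have d3 : (ua - u0 - u1 - u2 - u3 + u5 + u14 + u17) % 4 = 0 := by
    rw [hua, hu0, hu1, hu2, hu3, hu5, hu14, hu17] at c3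
    clear c1 c2 c4 c5 c6 hv hsum hpar ha hb h1 h2 h3 h5 h14 h17 p0 d1 d2 d4 d5 d6
    omega
  have hs2 : (ua + u0 + u1 + u2 + u3 + u5 + u14 + u17) % 2 = 0 := by
    rw [hua, hu0, hu1, hu2, hu3, hu5, hu14, hu17] at hsum
    clear c1 c2 c3 c4 c5 c6 hv hpar ha hb h1 h2 h3 h5 h14 h17 p0 d1 d2 d4 d5 d6 d3
    omega
  obtain ⟨n, hn⟩ : ∃ n : ℤ, n = (ua - u1) % 2 := ⟨_, rfl⟩
  obtain ⟨hA, hB⟩ := exp_arith ua u0 u1 u2 u3 u5 u14 u17 n d1 d2 d3 d4 d5 d6 hs2 hn
  have la : (y none - n * vecU none) / 2 = 2 * ua - 2 * n := by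
    rw [aux_half _ n _ ua 1 hua (by rw [vecU_none]; rfl)]; ring
  have l0 : (y (some 0) - n * vecU (some 0)) / 2 = 2 * u0 - 2 * n := by
    rw [aux_half _ n _ u0 1 hu0 (by rw [vecU_some0]; rfl)]; ring
  have l1 : (y (some 1) - n * vecU (some 1)) / 2 = 2 * u1 := by
    rw [aux_half _ n _ u1 0 hu1 (by rw [vecU_some1]; rfl)]; ring
  have l2 : (y (some 2) - n * vecU (some 2)) / 2 = 2 * u2 := by
    rw [aux_half _ n _ u2 0 hu2 (by rw [vecU_some2]; rfl)]; ring
  have l3 : (y (some 3) - n * vecU (some 3)) / 2 = 2 * u3 := by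
    rw [aux_half _ n _ u3 0 hu3 (by rw [vecU_some3]; rfl)]; ring
  have l5 : (y (some 5) - n * vecU (some 5)) / 2 = 2 * u5 := by
    rw [aux_half _ n _ u5 0 hu5 (by rw [vecU_some5]; rfl)]; ring
  have l14 : (y (some 14) - n * vecU (some 14)) / 2 = 2 * u14 := by
    rw [aux_half _ n _ u14 0 hu14 (by rw [vecU_some14]; rfl)]; ring
  have l17 : (y (some 17) - n * vecU (some 17)) / 2 = 2 * u17 := by
    rw [aux_half _ n _ u17 0 hu17 (by rw [vecU_some17]; rfl)]; ring
  refine ⟨fun i => (y i - n * vecU i) / 2, ⟨?_, ?_, ?_⟩, n, ?_⟩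
  · intro i hi
    have h0 : vecU i = 0 := suppO_vecU i hi
    show (y i - n * vecU i) / 2 = 0
    rw [hs i hi, h0]
    simp
  · show ((y none - n * vecU none) / 2 % 4 = 0 ∧ (y (some 0) - n * vecU (some 0)) / 2 % 4 = 0 ∧
        (y (some 1) - n * vecU (some 1)) / 2 % 4 = 0 ∧ (y (some 2) - n * vecU (some 2)) / 2 % 4 = 0 ∧
        (y (some 3) - n * vecU (some 3)) / 2 % 4 = 0 ∧ (y (some 5) - n * vecU (some 5)) / 2 % 4 = 0 ∧
        (y (some 14) - n * vecU (some 14)) / 2 % 4 = 0 ∧
        (y (some 17) - n * vecU (some 17)) / 2 % 4 = 0) ∨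
      ((y none - n * vecU none) / 2 % 4 = 2 ∧ (y (some 0) - n * vecU (some 0)) / 2 % 4 = 2 ∧
        (y (some 1) - n * vecU (some 1)) / 2 % 4 = 2 ∧ (y (some 2) - n * vecU (some 2)) / 2 % 4 = 2 ∧
        (y (some 3) - n * vecU (some 3)) / 2 % 4 = 2 ∧ (y (some 5) - n * vecU (some 5)) / 2 % 4 = 2 ∧
        (y (some 14) - n * vecU (some 14)) / 2 % 4 = 2 ∧
        (y (some 17) - n * vecU (some 17)) / 2 % 4 = 2)
    rw [la, l0, l1, l2, l3, l5, l14, l17]
    exact hA
  · show ((y none - n * vecU none) / 2 + (y (some 0) - n * vecU (some 0)) / 2 +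
        (y (some 1) - n * vecU (some 1)) / 2 + (y (some 2) - n * vecU (some 2)) / 2 +
        (y (some 3) - n * vecU (some 3)) / 2 + (y (some 5) - n * vecU (some 5)) / 2 +
        (y (some 14) - n * vecU (some 14)) / 2 + (y (some 17) - n * vecU (some 17)) / 2) % 8 = 0
    rw [la, l0, l1, l2, l3, l5, l14, l17]
    exact hB
  · funext i
    simp only [Pi.add_apply, Pi.smul_apply, smul_eq_mul]
    have h1 := hev i
    clear c1 c2 c3 c4 c5 c6 hv hsum hpar ha hb h1 h2 h3 h5 h14 h17 p0 d1 d2 d4 d5 d6 d3 hs2 hA hB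
      la l0 l1 l2 l3 l5 l14 l17
    have h1 := hev i
    rcases vecU_cases i with h | h <;> rw [h] <;> omega

end Cfsg.Agent.Lib.Helper8.CoTwoCent
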