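import Mathlib
import Cfsg.Agent.Lib.Helper8.CoTwoCentLat

/-!
# The homomorphism `CSub → Sp_6(2)` (for S2136)

`Lsub` is the additive group of vectors of shape `LSh` (the lattice `L = 4E_8` on the octad);
`cvecHom : Lsub →+ (Fin 3 ⊕ Fin 3 → ZMod 2)` the coordinate map; `actL g` the action of `g ∈ CSub`
on `Lsub`.  Main identity `cvec_act`: on vectors orthogonal to `v` mod 2, the coordinate vector
of `g x` is `phiMat g` applied to that of `x`.
-/

set_option autoImplicit false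

namespace Cfsg.Agent.Lib.Helper8.CoTwoCent
open Cfsg Cfsg.Spor Cfsg.Agent.Lib.Helper7 Cfsg.Agent.Lib.Helper8
open Matrix

theorem lsh_zero : LSh 0 := ⟨suppO_zero, by left; simp, by simp⟩

theorem lsh_add {x y : GolayPt → ℤ} (hx : LSh x) (hy : LSh y) : LSh (x + y) := by
  obtain ⟨h1, h2, h3⟩ := hx
  obtain ⟨k1, k2, k3⟩ := hy
  refine ⟨h1.add k1, ?_, ?_⟩
  · simp only [Pi.add_apply]
    rcases h2 with h2 | h2 <;> rcases k2 with k2 | k2
    · left; clear h3 k3; omega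
    · right; clear h3 k3; omega
    · right; clear h3 k3; omega
    · left; clear h3 k3; omega
  · simp only [Pi.add_apply]
    clear h2 k2
    omega

theorem lsh_neg {x : GolayPt → ℤ} (hx : LSh x) : LSh (-x) := by
  obtain ⟨h1, h2, h3⟩ := hx
  refine ⟨h1.neg, ?_, ?_⟩
  · simp only [Pi.neg_apply]
    rcases h2 with h2 | h2
    · left; clear h3; omega
    · right; clear h3; omega
  · simp only [Pi.neg_apply]
    clear h2
    omega

/-- the lattice `L` of vectors of shape `LSh` -/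
def Lsub : AddSubgroup (GolayPt → ℤ) where
  carrier := {x | LSh x}
  add_mem' := lsh_add
  zero_mem' := lsh_zero
  neg_mem' := lsh_neg

theorem mem_Lsub {x : GolayPt → ℤ} : x ∈ Lsub ↔ LSh x := Iff.rfl

/-- the coordinate map -/
def cvecHom : Lsub →+ (Fin 3 ⊕ Fin 3 → ZMod 2) where
  toFun x := cvec x.1
  map_zero' := by
    funext k
    show cf k 0 = 0
    unfold cf dotInt
    simp
  map_add' x y := by
    funext k
    exact cf_add x.2 y.2 k

theorem cvecHom_apply (x : Lsub) (k : Fin 3 ⊕ Fin 3) : cvecHom x k = cf k x.1 := rfl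

/-- the linear form `x ↦ x · v` -/
def dotU : (GolayPt → ℤ) →+ ℤ where
  toFun x := 4 * x none + 4 * x (some 0)
  map_zero' := by simp
  map_add' x y := by simp only [Pi.add_apply]; ring

theorem dotU_eq (x : GolayPt → ℤ) : dotU x = dotInt x vecU := (dotInt_vecU' x).symm

/-- basis vectors in `Lsub` -/
def Wl (k : Fin 3 ⊕ Fin 3) : Lsub := ⟨Wv k, lsh_Wv k⟩

/-- `v` in `Lsub` -/
def vl : Lsub := ⟨vecU, lsh_vecU⟩

theorem dotU_Wl : ∀ k, dotU (Wl k).1 = 0 := by decide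

theorem cvecHom_Wl (k : Fin 3 ⊕ Fin 3) : cvecHom (Wl k) = Pi.single k 1 := by
  funext j
  rw [cvecHom_apply]
  show cf j (Wv k) = _
  rw [cf_Wv, Pi.single_apply]

theorem cvecHom_vl : cvecHom vl = 0 := by
  funext k
  rw [cvecHom_apply]
  have := cf_zsmul_vecU 1 k
  rwa [one_smul] at this

/-- lattice element from an element of `Lsub` -/
def toLeech (x : Lsub) : leechLattice := ⟨x.1, mem_of_lsh x.2⟩

theorem toLeech_add (x y : Lsub) : toLeech (x + y) = toLeech x + toLeech y := rfl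

/-- the action of `g ∈ CSub` on `Lsub` -/
def actL (g : Co0) (hg : g ∈ CSub) : Lsub →+ Lsub where
  toFun x := ⟨((g • toLeech x : leechLattice) : GolayPt → ℤ),
    lsh_of_mem (g • toLeech x).2 (suppO_smul hg x.2.supp)⟩
  map_zero' := by
    apply Subtype.ext
    show ((g • (0 : leechLattice) : leechLattice) : GolayPt → ℤ) = 0
    have : g • (0 : leechLattice) = 0 := by
      have h := co0_smul_add g 0 0
      rw [add_zero] at h
      exact left_eq_add.mp h
    rw [this]; rfl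
  map_add' x y := by
    apply Subtype.ext
    show ((g • toLeech (x + y) : leechLattice) : GolayPt → ℤ) = _
    rw [toLeech_add, co0_smul_add]
    rfl

theorem actL_val (g : Co0) (hg : g ∈ CSub) (x : Lsub) :
    (actL g hg x).1 = ((g • toLeech x : leechLattice) : GolayPt → ℤ) := rfl

theorem toLeech_vl : toLeech vl = leechU := rfl

theorem actL_vl (g : Co0) (hg : g ∈ CSub) : actL g hg vl = vl := by
  apply Subtype.ext
  rw [actL_val, toLeech_vl, (mem_CSub.1 hg).1]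
  rfl

theorem dotU_actL (g : Co0) (hg : g ∈ CSub) (x : Lsub) : dotU (actL g hg x).1 = dotU x.1 := by
  rw [dotU_eq, dotU_eq, actL_val]
  have h := co0_dotInt g (toLeech x) leechU
  rw [(mem_CSub.1 hg).1] at h
  exact h

theorem two_smul_fun_zero (f : Fin 3 ⊕ Fin 3 → ZMod 2) : (2 : ℤ) • f = 0 := by
  funext k
  simp only [Pi.smul_apply, Pi.zero_apply, zsmul_eq_mul]
  have : ((2 : ℤ) : ZMod 2) = 0 := by decide
  rw [this, zero_mul]

/-- key lemma: vectors of `2L + ℤ v` are mapped into the kernel of `cvecHom` -/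
theorem cvecHom_actL_eq_zero (g : Co0) (hg : g ∈ CSub) (y : Lsub) (hv : dotU y.1 % 32 = 0)
    (hc : cvecHom y = 0) : cvecHom (actL g hg y) = 0 := by
  rw [dotU_eq] at hv
  obtain ⟨l, hl, n, hy⟩ := exists_expansion y.2 hv (fun k => by
    have := congrFun hc k
    rwa [cvecHom_apply] at this)
  have hy' : y = (2 : ℤ) • (⟨l, hl⟩ : Lsub) + n • vl := Subtype.ext hy
  rw [hy', map_add, map_zsmul, map_zsmul, actL_vl, map_add, map_zsmul, map_zsmul, cvecHom_vl,
    two_smul_fun_zero]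
  simp

/-- integer lift of the coordinates -/
def cZ (x : Lsub) (k : Fin 3 ⊕ Fin 3) : ℤ := (dWD k x.1 / 16) % 2

theorem cZ_cast (x : Lsub) (k : Fin 3 ⊕ Fin 3) : ((cZ x k : ℤ) : ZMod 2) = cvecHom x k := by
  rw [cvecHom_apply, cf_eq x.2.supp]
  unfold cZ
  have := ZMod.intCast_mod (dWD k x.1 / 16) 2
  exact_mod_cast this

/-- the remainder of `x` after subtracting its expansion -/
def rem (x : Lsub) : Lsub := x - ∑ k, cZ x k • Wl k

theorem sum_single_apply (c : Fin 3 ⊕ Fin 3 → ℤ) :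
    (∑ k, c k • (Pi.single k 1 : Fin 3 ⊕ Fin 3 → ZMod 2)) = fun j => ((c j : ℤ) : ZMod 2) := by
  funext j
  rw [Finset.sum_apply]
  rw [Finset.sum_eq_single j]
  · simp
  · intro k _ hk
    simp [hk.symm]
  · intro h; exact absurd (Finset.mem_univ j) h

theorem cvecHom_rem (x : Lsub) : cvecHom (rem x) = 0 := by
  unfold rem
  rw [map_sub, map_sum]
  simp only [map_zsmul, cvecHom_Wl]
  rw [sum_single_apply]
  funext j
  simp only [Pi.sub_apply, Pi.zero_apply]
  rw [cZ_cast, sub_self]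

theorem dotU_rem (x : Lsub) : dotU (rem x).1 = dotU x.1 := by
  unfold rem
  rw [AddSubgroup.coe_sub, map_sub, AddSubgroup.val_finsetSum, map_sum]
  simp only [AddSubgroup.coe_zsmul, map_zsmul, dotU_Wl, smul_zero, Finset.sum_const_zero, sub_zero]

/-- the main identity -/
theorem cvec_act (g : Co0) (hg : g ∈ CSub) (x : Lsub) (hv : dotU x.1 % 32 = 0) :
    cvecHom (actL g hg x) = phiMat g *ᵥ cvecHom x := by
  have hx : x = rem x + ∑ k, cZ x k • Wl k := by unfold rem; abel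
  have h0 := cvecHom_actL_eq_zero g hg (rem x) (by rw [dotU_rem]; exact hv) (cvecHom_rem x)
  conv_lhs => rw [hx]
  rw [map_add, map_add, h0, zero_add, map_sum, map_sum]
  funext i
  rw [Finset.sum_apply]
  show _ = ∑ k, phiMat g i k * cvecHom x k
  apply Finset.sum_congr rfl
  intro k _
  rw [map_zsmul, map_zsmul, Pi.smul_apply, zsmul_eq_mul, cZ_cast, mul_comm]
  rfl

/-! ### Multiplicativity -/

theorem toLeech_Wl (k : Fin 3 ⊕ Fin 3) : toLeech (Wl k) = W k := rfl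

theorem phiMat_apply (g : Co0) (hg : g ∈ CSub) (i j : Fin 3 ⊕ Fin 3) :
    phiMat g i j = cvecHom (actL g hg (Wl j)) i := rfl

theorem actL_mul (g h : Co0) (hg : g ∈ CSub) (hh : h ∈ CSub) (x : Lsub) :
    actL (g * h) (CSub.mul_mem hg hh) x = actL g hg (actL h hh x) := by
  apply Subtype.ext
  rw [actL_val, actL_val, mul_smul]
  rfl

theorem phiMat_mul (g h : Co0) (hg : g ∈ CSub) (hh : h ∈ CSub) :
    phiMat (g * h) = phiMat g * phiMat h := by
  funext i j
  rw [phiMat_apply (g * h) (CSub.mul_mem hg hh), actL_mul g h hg hh,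
    cvec_act g hg _ (by rw [dotU_actL, dotU_Wl]; rfl)]
  rfl

theorem phiMat_one : phiMat 1 = 1 := by
  funext i j
  show cf i ((((1 : Co0) • W j : leechLattice)) : GolayPt → ℤ) = _
  rw [one_smul]
  show cf i (Wv j) = _
  rw [cf_Wv, Matrix.one_apply]

/-! ### The bilinear form -/

theorem dot_arith (p q a1 a2 a3 a4 a5 a6 a7 a8 b1 b2 b3 b4 b5 b6 b7 b8 : ℤ)
    (hp : p = 0 ∨ p = 2) (hq : q = 0 ∨ q = 2)
    (hA : (8 * p + 4 * (a1 + a2 + a3 + a4 + a5 + a6 + a7 + a8)) % 8 = 0)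
    (hB : (8 * q + 4 * (b1 + b2 + b3 + b4 + b5 + b6 + b7 + b8)) % 8 = 0) :
    ((p + 4 * a1) * (q + 4 * b1) + (p + 4 * a2) * (q + 4 * b2) + (p + 4 * a3) * (q + 4 * b3)
      + (p + 4 * a4) * (q + 4 * b4) + (p + 4 * a5) * (q + 4 * b5) + (p + 4 * a6) * (q + 4 * b6)
      + (p + 4 * a7) * (q + 4 * b7) + (p + 4 * a8) * (q + 4 * b8)) % 16 = 0 := by
  have key : ((p + 4 * a1) * (q + 4 * b1) + (p + 4 * a2) * (q + 4 * b2) + (p + 4 * a3) * (q + 4 * b3)
      + (p + 4 * a4) * (q + 4 * b4) + (p + 4 * a5) * (q + 4 * b5) + (p + 4 * a6) * (q + 4 * b6)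
      + (p + 4 * a7) * (q + 4 * b7) + (p + 4 * a8) * (q + 4 * b8))
      = 8 * (p * q) + 4 * (p * (b1 + b2 + b3 + b4 + b5 + b6 + b7 + b8))
        + 4 * (q * (a1 + a2 + a3 + a4 + a5 + a6 + a7 + a8))
        + 16 * (a1 * b1 + a2 * b2 + a3 * b3 + a4 * b4 + a5 * b5 + a6 * b6 + a7 * b7 + a8 * b8) := by
    ring
  rw [key]
  generalize a1 * b1 + a2 * b2 + a3 * b3 + a4 * b4 + a5 * b5 + a6 * b6 + a7 * b7 + a8 * b8 = N
  generalize a1 + a2 + a3 + a4 + a5 + a6 + a7 + a8 = A at *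
  generalize b1 + b2 + b3 + b4 + b5 + b6 + b7 + b8 = B at *
  rcases hp with rfl | rfl <;> rcases hq with rfl | rfl <;> omega

theorem aux_mod4 (a p : ℤ) (h : a % 4 = p) : a = p + 4 * (a / 4) := by omega

/-- the dot product of two vectors of `L` is divisible by 16 -/
theorem dot_lsh {x y : GolayPt → ℤ} (hx : LSh x) (hy : LSh y) : dotInt x y % 16 = 0 := by
  obtain ⟨h1, h2, h3⟩ := hx
  obtain ⟨k1, k2, k3⟩ := hy
  rw [dotInt_suppO h1]
  obtain ⟨p, hp, e1, e2, e3, e4, e5, e6, e7, e8⟩ : ∃ p : ℤ, (p = 0 ∨ p = 2) ∧ x none % 4 = p ∧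
      x (some 0) % 4 = p ∧ x (some 1) % 4 = p ∧ x (some 2) % 4 = p ∧ x (some 3) % 4 = p ∧
      x (some 5) % 4 = p ∧ x (some 14) % 4 = p ∧ x (some 17) % 4 = p := by
    rcases h2 with h | h
    · exact ⟨0, Or.inl rfl, h⟩
    · exact ⟨2, Or.inr rfl, h⟩
  obtain ⟨q, hq, f1, f2, f3, f4, f5, f6, f7, f8⟩ : ∃ p : ℤ, (p = 0 ∨ p = 2) ∧ y none % 4 = p ∧
      y (some 0) % 4 = p ∧ y (some 1) % 4 = p ∧ y (some 2) % 4 = p ∧ y (some 3) % 4 = p ∧
      y (some 5) % 4 = p ∧ y (some 14) % 4 = p ∧ y (some 17) % 4 = p := by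
    rcases k2 with h | h
    · exact ⟨0, Or.inl rfl, h⟩
    · exact ⟨2, Or.inr rfl, h⟩
  have E1 := aux_mod4 _ _ e1
  have E2 := aux_mod4 _ _ e2
  have E3 := aux_mod4 _ _ e3
  have E4 := aux_mod4 _ _ e4
  have E5 := aux_mod4 _ _ e5
  have E6 := aux_mod4 _ _ e6
  have E7 := aux_mod4 _ _ e7
  have E8 := aux_mod4 _ _ e8
  have F1 := aux_mod4 _ _ f1
  have F2 := aux_mod4 _ _ f2
  have F3 := aux_mod4 _ _ f3
  have F4 := aux_mod4 _ _ f4
  have F5 := aux_mod4 _ _ f5
  have F6 := aux_mod4 _ _ f6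
  have F7 := aux_mod4 _ _ f7
  have F8 := aux_mod4 _ _ f8
  have hA : (8 * p + 4 * (x none / 4 + x (some 0) / 4 + x (some 1) / 4 + x (some 2) / 4
      + x (some 3) / 4 + x (some 5) / 4 + x (some 14) / 4 + x (some 17) / 4)) % 8 = 0 := by
    clear k2 k3 f1 f2 f3 f4 f5 f6 f7 f8 F1 F2 F3 F4 F5 F6 F7 F8 h2 e1 e2 e3 e4 e5 e6 e7 e8
    omega
  have hB : (8 * q + 4 * (y none / 4 + y (some 0) / 4 + y (some 1) / 4 + y (some 2) / 4
      + y (some 3) / 4 + y (some 5) / 4 + y (some 14) / 4 + y (some 17) / 4)) % 8 = 0 := by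
    clear h2 h3 e1 e2 e3 e4 e5 e6 e7 e8 E1 E2 E3 E4 E5 E6 E7 E8 k2 f1 f2 f3 f4 f5 f6 f7 f8 hA
    omega
  have := dot_arith p q _ _ _ _ _ _ _ _ _ _ _ _ _ _ _ _ hp hq hA hB
  rw [← E1, ← E2, ← E3, ← E4, ← E5, ← E6, ← E7, ← E8, ← F1, ← F2, ← F3, ← F4, ← F5, ← F6, ← F7,
    ← F8] at this
  exact this

/-- the bilinear form `x · y / 16 mod 2`, additive in the first variable -/
def bilHom (y : Lsub) : Lsub →+ ZMod 2 where
  toFun x := ((dotInt x.1 y.1 / 16 : ℤ) : ZMod 2)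
  map_zero' := by
    show ((dotInt (0 : GolayPt → ℤ) y.1 / 16 : ℤ) : ZMod 2) = 0
    unfold dotInt
    simp
  map_add' x x' := by
    show ((dotInt (x.1 + x'.1) y.1 / 16 : ℤ) : ZMod 2) = _
    rw [dotInt_add_left, ← Int.cast_add]
    congr 1
    have h1 := dot_lsh x.2 y.2
    have h2 := dot_lsh x'.2 y.2
    omega

theorem bilHom_apply (x y : Lsub) : bilHom y x = ((dotInt x.1 y.1 / 16 : ℤ) : ZMod 2) := rfl

theorem WDv_swap (k : Fin 3 ⊕ Fin 3) : WDv (Sum.swap k) = Wv k := by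
  unfold WDv
  rw [Sum.swap_swap]

theorem bilHom_Wl (y : Lsub) (k : Fin 3 ⊕ Fin 3) : bilHom y (Wl k) = cvecHom y (Sum.swap k) := by
  rw [bilHom_apply, cvecHom_apply]
  unfold cf
  rw [WDv_swap, dotInt_comm]
  rfl

theorem dotInt_smul_left (n : ℤ) (x y : GolayPt → ℤ) : dotInt (n • x) y = n * dotInt x y := by
  unfold dotInt
  rw [Finset.mul_sum]
  apply Finset.sum_congr rfl
  intro i _
  simp only [Pi.smul_apply, smul_eq_mul]
  ring

theorem bilHom_rem (x y : Lsub) (hx : dotU x.1 % 32 = 0) (hy : dotU y.1 % 32 = 0) :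
    bilHom y (rem x) = 0 := by
  have hv : dotInt (rem x).1 vecU % 32 = 0 := by rw [← dotU_eq, dotU_rem]; exact hx
  obtain ⟨l, hl, n, hr⟩ := exists_expansion (rem x).2 hv (fun k => by
    have := congrFun (cvecHom_rem x) k
    rwa [cvecHom_apply] at this)
  rw [bilHom_apply, hr, dotInt_add_left, dotInt_smul_left, dotInt_smul_left,
    ZMod.intCast_zmod_eq_zero_iff_dvd]
  have h1 := dot_lsh hl y.2
  have h2 : dotInt vecU y.1 % 32 = 0 := by rw [dotInt_comm, ← dotU_eq]; exact hy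
  generalize dotInt l y.1 = a at h1
  generalize dotInt vecU y.1 = b at h2
  obtain ⟨b', rfl⟩ : ∃ b', b = 32 * b' := ⟨b / 32, by omega⟩
  obtain ⟨a', rfl⟩ : ∃ a', a = 16 * a' := ⟨a / 16, by omega⟩
  have : (2 * (16 * a') + n * (32 * b')) / 16 = 2 * (a' + n * b') := by
    have : 2 * (16 * a') + n * (32 * b') = 16 * (2 * (a' + n * b')) := by ring
    rw [this]
    simp
  rw [this]
  exact ⟨_, rfl⟩

/-- the form in coordinates -/
theorem bil_expand (x y : Lsub) (hx : dotU x.1 % 32 = 0) (hy : dotU y.1 % 32 = 0) :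
    bilHom y x = ∑ k, cvecHom x k * cvecHom y (Sum.swap k) := by
  have hxr : x = rem x + ∑ k, cZ x k • Wl k := by unfold rem; abel
  conv_lhs => rw [hxr]
  rw [map_add, bilHom_rem x y hx hy, zero_add, map_sum]
  apply Finset.sum_congr rfl
  intro k _
  rw [map_zsmul, bilHom_Wl, zsmul_eq_mul, cZ_cast]

theorem bil_act (g : Co0) (hg : g ∈ CSub) (x y : Lsub) :
    bilHom (actL g hg y) (actL g hg x) = bilHom y x := by
  rw [bilHom_apply, bilHom_apply, actL_val, actL_val, co0_dotInt]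
  rfl

theorem J_apply : ∀ k l : Fin 3 ⊕ Fin 3,
    Matrix.J (Fin 3) (ZMod 2) k l = if l = Sum.swap k then 1 else 0 := by
  intro k l
  rcases k with a | a <;> rcases l with b | b <;> fin_cases a <;> fin_cases b <;>
    simp [Matrix.J]

theorem phiMat_form (g : Co0) (hg : g ∈ CSub) (i j : Fin 3 ⊕ Fin 3) :
    ∑ k, phiMat g k i * phiMat g (Sum.swap k) j = if j = Sum.swap i then 1 else 0 := by
  have h0 : ∀ k, dotU (actL g hg (Wl k)).1 % 32 = 0 := by
    intro k; rw [dotU_actL, dotU_Wl]; rfl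
  have h1 := bil_expand (actL g hg (Wl i)) (actL g hg (Wl j)) (h0 i) (h0 j)
  rw [bil_act, bilHom_Wl, cvecHom_Wl] at h1
  change _ = ∑ k, phiMat g k i * phiMat g (Sum.swap k) j at h1
  rw [← h1, Pi.single_apply]
  by_cases h : j = Sum.swap i
  · rw [if_pos h, if_pos h.symm]
  · rw [if_neg h, if_neg (fun h' => h h'.symm)]

theorem phiMat_mem (g : Co0) (hg : g ∈ CSub) :
    phiMat g ∈ Matrix.symplecticGroup (Fin 3) (ZMod 2) := by
  rw [SymplecticGroup.mem_iff']
  funext i j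
  rw [Matrix.mul_apply, J_apply, ← phiMat_form g hg i j]
  have h1 : ∀ l, ((phiMat g)ᵀ * Matrix.J (Fin 3) (ZMod 2)) i l = phiMat g (Sum.swap l) i := by
    intro l
    rw [Matrix.mul_apply, Finset.sum_eq_single (Sum.swap l)]
    · rw [J_apply, if_pos (by rw [Sum.swap_swap]), mul_one, Matrix.transpose_apply]
    · intro k _ hk
      rw [J_apply, if_neg (by intro h; apply hk; rw [h, Sum.swap_swap]), mul_zero]
    · intro h; exact absurd (Finset.mem_univ _) h
  simp only [h1]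
  exact Fintype.sum_equiv (Equiv.sumComm (Fin 3) (Fin 3)) _ _ (fun l => by
    show phiMat g (Sum.swap l) i * phiMat g l j = phiMat g (Sum.swap l) i * phiMat g (Sum.swap (Sum.swap l)) j
    rw [Sum.swap_swap])

/-- the homomorphism onto the symplectic group -/
def phi : CSub →* Matrix.symplecticGroup (Fin 3) (ZMod 2) where
  toFun g := ⟨phiMat g.1, phiMat_mem g.1 g.2⟩
  map_one' := Subtype.ext phiMat_one
  map_mul' g h := Subtype.ext (phiMat_mul g.1 h.1 g.2 h.2)

theorem phi_val (g : CSub) : (phi g).1 = phiMat g.1 := rfl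

end Cfsg.Agent.Lib.Helper8.CoTwoCent
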