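import Mathlib
import Cfsg.Agent.Lib.Helper8.CoTwoCentHom

/-!
# Definitions for the kernel of `phi` (for S2136)
-/

set_option autoImplicit false

namespace Cfsg.Agent.Lib.Helper8.CoTwoCent
open Cfsg Cfsg.Spor Cfsg.Agent.Lib.Helper7 Cfsg.Agent.Lib.Helper8

/-- the monomial elements fixing the octad pointwise with sign set disjoint from it -/
def PMono : Set Co0 := {g | ∃ (σ : Equiv.Perm GolayPt) (hσ : σ ∈ M24) (c : Finset GolayPt)
    (hc : c ∈ supports (golayCode : Set (GolayPt → ZMod 2))),
    (∀ p ∈ setOf octO, σ p = p) ∧ Disjoint c (setOf octO) ∧ g = monoCo0 σ hσ c hc}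

/-- the isometry `-r_v` of `L`: swap the coordinates `∞, 0` and negate the six others -/
def swapNeg (x : GolayPt → ℤ) : GolayPt → ℤ :=
  fun i => if i = none then x (some 0) else if i = some 0 then x none else - x i

end Cfsg.Agent.Lib.Helper8.CoTwoCent
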