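/-
helper8 shared library: the Brauer–Wielandt formula for a four-group `{1,a,b,ab}` acting on a
subgroup `K` of odd order (specialisation of `Cfsg.Agent.Lib.Helper23.wielandt_formula`).
-/
import Mathlib
import Cfsg.Agent.Lib.Helper23.Wielandt
import Cfsg.Agent.Lib.Helper48.FourGroup

set_option autoImplicit false

namespace Cfsg.Agent.Lib.Helper8.OddFour

open Cfsg.Agent.Lib.Helper23 Cfsg.Agent.Lib.Helper48

variable {H : Type*} [Group H]

theorem centralizer_zpowers_eq (t : H) :
    Subgroup.centralizer ((Subgroup.zpowers t : Subgroup H) : Set H) =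
      Subgroup.centralizer ({t} : Set H) := by
  ext x
  simp only [Subgroup.mem_centralizer_iff, SetLike.mem_coe, Set.mem_singleton_iff]
  constructor
  · intro h y hy
    subst hy
    exact h _ (Subgroup.mem_zpowers _)
  · intro h y hy
    obtain ⟨k, rfl⟩ := Subgroup.mem_zpowers_iff.mp hy
    have hc : Commute t x := h t rfl
    exact (hc.zpow_left k).eq

theorem zpowers_le_fourSub_left (a b : H) : Subgroup.zpowers a ≤ fourSub a b := le_sup_left

theorem zpowers_le_fourSub_right (a b : H) : Subgroup.zpowers b ≤ fourSub a b := le_sup_right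

theorem zpowers_mul_le_fourSub (a b : H) : Subgroup.zpowers (a * b) ≤ fourSub a b := by
  rw [Subgroup.zpowers_le]
  exact Subgroup.mul_mem _ (left_mem_fourSub a b) (right_mem_fourSub a b)

theorem mul_mul_self_eq_one {a b : H} (ha : a * a = 1) (hb : b * b = 1) (hab : a * b = b * a) :
    (a * b) * (a * b) = 1 := by
  calc (a * b) * (a * b) = a * (b * a) * b := by group
    _ = a * (a * b) * b := by rw [hab]
    _ = (a * a) * (b * b) := by group
    _ = 1 := by rw [ha, hb, one_mul]

theorem card_zpowers_of_invol [Finite H] {t : H} (ht : t * t = 1) (ht1 : t ≠ 1) :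
    Nat.card (Subgroup.zpowers t) = 2 := by
  rw [Nat.card_zpowers]
  exact orderOf_eq_prime (by rw [pow_two]; exact ht) ht1

theorem relIndex_zpowers_of_invol [Finite H] {a b t : H} (ha : a * a = 1) (hb : b * b = 1)
    (hab : a * b = b * a) (ha1 : a ≠ 1) (hb1 : b ≠ 1) (hne : a ≠ b) (ht : t * t = 1)
    (ht1 : t ≠ 1) (htA : Subgroup.zpowers t ≤ fourSub a b) :
    (Subgroup.zpowers t).relIndex (fourSub a b) = 2 := by
  have h1 := Cfsg.Agent.Lib.Helper23.card_mul_relIndex_of_le htA
  rw [card_zpowers_of_invol ht ht1, card_fourSub ha hb hab ha1 hb1 hne] at h1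
  omega

/-- the three hyperplanes of the four-group -/
noncomputable def hypFour [Finite H] {a b : H} (ha : a * a = 1) (hb : b * b = 1)
    (hab : a * b = b * a) (ha1 : a ≠ 1) (hb1 : b ≠ 1) (hne : a ≠ b) :
    Fin 3 → Hyp 2 (fourSub a b) :=
  ![⟨Subgroup.zpowers a, zpowers_le_fourSub_left a b,
      relIndex_zpowers_of_invol ha hb hab ha1 hb1 hne ha ha1 (zpowers_le_fourSub_left a b)⟩,
    ⟨Subgroup.zpowers b, zpowers_le_fourSub_right a b,
      relIndex_zpowers_of_invol ha hb hab ha1 hb1 hne hb hb1 (zpowers_le_fourSub_right a b)⟩,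
    ⟨Subgroup.zpowers (a * b), zpowers_mul_le_fourSub a b,
      relIndex_zpowers_of_invol ha hb hab ha1 hb1 hne (mul_mul_self_eq_one ha hb hab)
        (fun h => hne (by
          have : a * b = a * a := by rw [h, ha]
          exact (mul_left_cancel this).symm ▸ rfl)) (zpowers_mul_le_fourSub a b)⟩]

theorem mem_zpowers_invol {t x : H} (ht : t * t = 1) :
    x ∈ Subgroup.zpowers t ↔ x = 1 ∨ x = t := by
  constructor
  · exact eq_one_or_eq_of_mem_zpowers ht
  · rintro (rfl | rfl)
    · exact Subgroup.one_mem _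
    · exact Subgroup.mem_zpowers _

theorem hypFour_bijective [Finite H] {a b : H} (ha : a * a = 1) (hb : b * b = 1)
    (hab : a * b = b * a) (ha1 : a ≠ 1) (hb1 : b ≠ 1) (hne : a ≠ b) :
    Function.Bijective (hypFour ha hb hab ha1 hb1 hne) := by
  have hab1 : a * b ≠ 1 := fun h => hne (by
    have : a * b = a * a := by rw [h, ha]
    exact (mul_left_cancel this).symm)
  have habb : a * b ≠ b := fun h => ha1 (by
    have : a * b = 1 * b := by rw [h, one_mul]
    exact mul_right_cancel this)
  have haba : a * b ≠ a := fun h => hb1 (by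
    have : a * b = a * 1 := by rw [h, mul_one]
    exact mul_left_cancel this)
  have habab := mul_mul_self_eq_one ha hb hab
  constructor
  · intro i j hij
    have hval : ((hypFour ha hb hab ha1 hb1 hne i : Hyp 2 (fourSub a b)) : Subgroup H) =
        ((hypFour ha hb hab ha1 hb1 hne j : Hyp 2 (fourSub a b)) : Subgroup H) := by rw [hij]
    fin_cases i <;> fin_cases j <;> simp only [hypFour, Fin.zero_eta, Fin.mk_one, Fin.reduceFinMk,
      Matrix.cons_val_zero, Matrix.cons_val_one, Matrix.cons_val_two, Matrix.head_cons,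
      Matrix.tail_cons] at hval ⊢
    · have h1 : a ∈ Subgroup.zpowers b := hval ▸ Subgroup.mem_zpowers a
      rcases (mem_zpowers_invol hb).1 h1 with h | h
      · exact absurd h ha1
      · exact absurd h hne
    · have h1 : a ∈ Subgroup.zpowers (a * b) := hval ▸ Subgroup.mem_zpowers a
      rcases (mem_zpowers_invol habab).1 h1 with h | h
      · exact absurd h ha1
      · exact absurd h.symm haba
    · have h1 : a ∈ Subgroup.zpowers b := hval.symm ▸ Subgroup.mem_zpowers a
      rcases (mem_zpowers_invol hb).1 h1 with h | h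
      · exact absurd h ha1
      · exact absurd h hne
    · have h1 : b ∈ Subgroup.zpowers (a * b) := hval ▸ Subgroup.mem_zpowers b
      rcases (mem_zpowers_invol habab).1 h1 with h | h
      · exact absurd h hb1
      · exact absurd h.symm habb
    · have h1 : a ∈ Subgroup.zpowers (a * b) := hval.symm ▸ Subgroup.mem_zpowers a
      rcases (mem_zpowers_invol habab).1 h1 with h | h
      · exact absurd h ha1
      · exact absurd h.symm haba
    · have h1 : b ∈ Subgroup.zpowers (a * b) := hval.symm ▸ Subgroup.mem_zpowers b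
      rcases (mem_zpowers_invol habab).1 h1 with h | h
      · exact absurd h hb1
      · exact absurd h.symm habb
  · rintro ⟨B, hBA, hBi⟩
    have hcardB : Nat.card B = 2 := by
      have h1 := Cfsg.Agent.Lib.Helper23.card_mul_relIndex_of_le hBA
      rw [hBi, card_fourSub ha hb hab ha1 hb1 hne] at h1
      omega
    -- a nonidentity element of B
    have hne' : ∃ t ∈ B, t ≠ 1 := by
      by_contra hcon
      push Not at hcon
      have : B = ⊥ := (Subgroup.eq_bot_iff_forall B).2 hcon
      rw [this, Subgroup.card_bot] at hcardB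
      omega
    obtain ⟨t, htB, ht1⟩ := hne'
    have htA := hBA htB
    have hBt : ∀ s : H, s * s = 1 → s ≠ 1 → s ∈ B → Subgroup.zpowers s = B := by
      intro s hs hs1 hsB
      have hle : Subgroup.zpowers s ≤ B := (Subgroup.zpowers_le).2 hsB
      apply Subgroup.eq_of_le_of_card_ge hle
      rw [card_zpowers_of_invol hs hs1, hcardB]
    rcases (mem_fourSub ha hb hab).1 htA with h | h | h | h
    · exact absurd h ht1
    · subst h
      exact ⟨0, Subtype.ext (hBt t ha ha1 htB)⟩
    · subst h
      exact ⟨1, Subtype.ext (hBt t hb hb1 htB)⟩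
    · subst h
      exact ⟨2, Subtype.ext (hBt (a * b) habab hab1 htB)⟩

/-- **Brauer–Wielandt** for a four-group acting on a subgroup of odd order. -/
theorem bw_four [Finite H] {a b : H} (ha : a * a = 1) (hb : b * b = 1) (hab : a * b = b * a)
    (ha1 : a ≠ 1) (hb1 : b ≠ 1) (hne : a ≠ b) (K : Subgroup H) (hK : Odd (Nat.card K))
    (haK : a ∈ Subgroup.normalizer (K : Set H)) (hbK : b ∈ Subgroup.normalizer (K : Set H)) :
    Nat.card ↥(K ⊓ Subgroup.centralizer ({a} : Set H)) *
        Nat.card ↥(K ⊓ Subgroup.centralizer ({b} : Set H)) *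
        Nat.card ↥(K ⊓ Subgroup.centralizer ({a * b} : Set H)) =
      Nat.card K * Nat.card ↥(K ⊓ Subgroup.centralizer ((fourSub a b : Subgroup H) : Set H)) ^ 2 := by
  classical
  have hA : Cfsg.IsElementaryAbelian 2 (fourSub a b) := by
    refine ⟨⟨⟨?_⟩⟩, ?_⟩
    · rintro ⟨x, hx⟩ ⟨y, hy⟩
      apply Subtype.ext
      show x * y = y * x
      have key : ∀ x ∈ fourSub a b, Commute x a ∧ Commute x b := by
        intro x hx
        rcases (mem_fourSub ha hb hab).1 hx with rfl | rfl | rfl | rfl
        · exact ⟨Commute.one_left _, Commute.one_left _⟩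
        · exact ⟨Commute.refl _, hab⟩
        · exact ⟨hab.symm, Commute.refl _⟩
        · exact ⟨Commute.mul_left (Commute.refl _) (show Commute b a from hab.symm),
            Commute.mul_left (show Commute a b from hab) (Commute.refl _)⟩
      obtain ⟨hxa, hxb⟩ := key x hx
      rcases (mem_fourSub ha hb hab).1 hy with rfl | rfl | rfl | rfl
      · exact (Commute.one_right x).eq
      · exact hxa.eq
      · exact hxb.eq
      · exact (Commute.mul_right hxa hxb).eq
    · intro x hx
      rw [pow_two]
      rcases (mem_fourSub ha hb hab).1 hx with rfl | rfl | rfl | rfl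
      · simp
      · exact ha
      · exact hb
      · exact mul_mul_self_eq_one ha hb hab
  have hA2 : 2 ^ 2 ≤ Nat.card ↥(fourSub a b) := by
    rw [card_fourSub ha hb hab ha1 hb1 hne]; norm_num
  have hK2 : ¬ 2 ∣ Nat.card ↥K := by
    rw [← Nat.not_even_iff_odd] at hK
    exact fun h => hK (even_iff_two_dvd.2 h)
  have hAK : fourSub a b ≤ Subgroup.normalizer (K : Set H) := by
    unfold fourSub
    rw [sup_le_iff, Subgroup.zpowers_le, Subgroup.zpowers_le]
    exact ⟨haK, hbK⟩
  have : Fact (Nat.Prime 2) := ⟨Nat.prime_two⟩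
  have hW := wielandt_formula 2 (fourSub a b) hA hA2 K hK2 hAK
  have hbij := hypFour_bijective ha hb hab ha1 hb1 hne
  have hcard3 : Fintype.card (Hyp 2 (fourSub a b)) = 3 := by
    rw [← Fintype.card_of_bijective hbij, Fintype.card_fin]
  have hprod : (∏ B : Hyp 2 (fourSub a b),
      Nat.card ↥(K ⊓ Subgroup.centralizer ((B : Subgroup H) : Set H))) =
      Nat.card ↥(K ⊓ Subgroup.centralizer ({a} : Set H)) *
        Nat.card ↥(K ⊓ Subgroup.centralizer ({b} : Set H)) *
        Nat.card ↥(K ⊓ Subgroup.centralizer ({a * b} : Set H)) := by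
    rw [← Fintype.prod_bijective (hypFour ha hb hab ha1 hb1 hne) hbij
      (fun i => Nat.card ↥(K ⊓ Subgroup.centralizer
        (((hypFour ha hb hab ha1 hb1 hne i : Hyp 2 (fourSub a b)) : Subgroup H) : Set H)))
      _ (fun _ => rfl)]
    rw [Fin.prod_univ_three]
    simp only [hypFour, Matrix.cons_val_zero, Matrix.cons_val_one, Matrix.cons_val_two,
      Matrix.head_cons, Matrix.tail_cons, centralizer_zpowers_eq]
  rw [hprod, hcard3] at hW
  set c := Nat.card ↥(K ⊓ Subgroup.centralizer ((fourSub a b : Subgroup H) : Set H)) with hc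
  have hcpos : 0 < c := Nat.card_pos
  have h3 : c ^ 3 = c ^ 2 * c := by ring
  rw [h3, ← mul_assoc] at hW
  exact Nat.eq_of_mul_eq_mul_right hcpos hW

end Cfsg.Agent.Lib.Helper8.OddFour
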