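/-
helper8 shared library (for S4221): `4`-transitive actions in which the stabilizer of an injective
`4`-tuple has odd order.  Generic lemmas: involutions realising an index involution on a tuple,
their conjugacy under the stabilizer, counting via centralizers.
-/
import Mathlib
import Cfsg.Agent.S0415
import Cfsg.Agent.Lib.Helper8.OddFourBW

set_option autoImplicit false

namespace Cfsg.Agent.Lib.Helper8.OddFour

open MulAction Cfsg.Agent.Lib.Helper38 Cfsg.Agent.Lib.Helper48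

variable {G α : Type*} [Group G] [MulAction G α]

/-- the tuple `z ∘ σ` -/
abbrev re (σ : Equiv.Perm (Fin 4)) (z : Fin 4 ↪ α) : Fin 4 ↪ α := σ.toEmbedding.trans z

theorem re_apply (σ : Equiv.Perm (Fin 4)) (z : Fin 4 ↪ α) (i : Fin 4) : re σ z i = z (σ i) := rfl

theorem re_re (σ τ : Equiv.Perm (Fin 4)) (z : Fin 4 ↪ α) : re σ (re τ z) = re (τ * σ) z := by
  ext i; rfl

theorem re_one (z : Fin 4 ↪ α) : re 1 z = z := by
  ext i; rfl

theorem smul_re (g : G) (σ : Equiv.Perm (Fin 4)) (z : Fin 4 ↪ α) :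
    g • re σ z = re σ (g • z) := smul_perm_trans g σ z

theorem re_injective (σ : Equiv.Perm (Fin 4)) :
    Function.Injective (re σ : (Fin 4 ↪ α) → (Fin 4 ↪ α)) := by
  intro z z' h
  ext i
  have h1 := DFunLike.congr_fun h (σ⁻¹ i)
  simpa [re_apply] using h1

theorem stabilizer_re (σ : Equiv.Perm (Fin 4)) (z : Fin 4 ↪ α) :
    stabilizer G (re σ z) = stabilizer G z := by
  ext g
  simp only [mem_stabilizer_iff, smul_re]
  exact ⟨fun h => re_injective σ h, fun h => by rw [h]⟩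

theorem smul_apply_of_eq {t : G} {σ : Equiv.Perm (Fin 4)} {z : Fin 4 ↪ α} (h : t • z = re σ z)
    (i : Fin 4) : t • z i = z (σ i) := by
  have := DFunLike.congr_fun h i
  simpa [Function.Embedding.smul_apply] using this

theorem pow_smul_re {g : G} {σ : Equiv.Perm (Fin 4)} {z : Fin 4 ↪ α} (h : g • z = re σ z) (k : ℕ) :
    g ^ k • z = re (σ ^ k) z := by
  induction k with
  | zero => simp [re_one]
  | succ k ih => rw [pow_succ, mul_smul, h, smul_re, ih, re_re, pow_succ]

theorem pow_odd_of_mul_self {M : Type*} [Monoid M] {s : M} (hs : s * s = 1) {k : ℕ} (hk : Odd k) :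
    s ^ k = s := by
  obtain ⟨j, rfl⟩ := hk
  rw [pow_succ, pow_mul, pow_two, hs, one_pow, one_mul]

theorem inv_eq_self_of_mul_self {t : G} (ht : t * t = 1) : t⁻¹ = t :=
  inv_eq_of_mul_eq_one_right ht

theorem conj_mul_self {t : G} (ht : t * t = 1) (g : G) : (g * t * g⁻¹) * (g * t * g⁻¹) = 1 := by
  calc (g * t * g⁻¹) * (g * t * g⁻¹) = g * (t * t) * g⁻¹ := by group
    _ = 1 := by rw [ht]; group

section odd

/-- an involution realising the index involution `σ` on the tuple `z` -/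
theorem exists_invol [IsMultiplyPretransitive G α 4]
    (hodd : ∀ z : Fin 4 ↪ α, Odd (Nat.card (stabilizer G z)))
    (σ : Equiv.Perm (Fin 4)) (hσ : σ * σ = 1) (z : Fin 4 ↪ α) :
    ∃ t : G, t * t = 1 ∧ t • z = re σ z := by
  obtain ⟨g, hg⟩ := exists_smul_eq G z (re σ z)
  have hs : g * g ∈ stabilizer G z := by
    rw [mem_stabilizer_iff, mul_smul, hg, smul_re, hg, re_re, hσ, re_one]
  have hk : Odd (orderOf (g * g)) :=
    Odd.of_dvd_nat (hodd z) (Subgroup.orderOf_dvd_natCard _ hs)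
  refine ⟨g ^ orderOf (g * g), ?_, ?_⟩
  · rw [← pow_add, ← two_mul, pow_mul, pow_two, pow_orderOf_eq_one]
  · rw [pow_smul_re hg, pow_odd_of_mul_self hσ hk]

/-- two involutions realising the same index involution on `z` are conjugate under a power of
their product, which lies in the stabilizer of `z` -/
theorem conj_in_stab [Finite G] (hodd : ∀ z : Fin 4 ↪ α, Odd (Nat.card (stabilizer G z)))
    {t t' : G} {σ : Equiv.Perm (Fin 4)} (hσ : σ * σ = 1) {z : Fin 4 ↪ α}
    (ht : t * t = 1) (ht' : t' * t' = 1) (h : t • z = re σ z) (h' : t' • z = re σ z) :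
    ∃ k : G, k ∈ stabilizer G z ∧ k ∈ Subgroup.zpowers (t * t') ∧ k * t * k⁻¹ = t' := by
  set r := t * t' with hr
  have hrs : r ∈ stabilizer G z := by
    rw [mem_stabilizer_iff, hr, mul_smul, h', smul_re, h, re_re, hσ, re_one]
  have hk : Odd (orderOf r) := Odd.of_dvd_nat (hodd z) (Subgroup.orderOf_dvd_natCard _ hrs)
  obtain ⟨j, hj⟩ := hk
  refine ⟨r ^ j, Subgroup.pow_mem _ hrs j, Subgroup.pow_mem _ (Subgroup.mem_zpowers r) j, ?_⟩
  have hti : t⁻¹ = t := inv_eq_self_of_mul_self ht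
  have hti' : t'⁻¹ = t' := inv_eq_self_of_mul_self ht'
  have hrinv : r⁻¹ = t' * t := by rw [hr, mul_inv_rev, hti, hti']
  have hsem : SemiconjBy t r⁻¹ r := by
    show t * r⁻¹ = r * t
    rw [hrinv, hr, mul_assoc]
  have hsem2 : t * (r⁻¹) ^ j = r ^ j * t := (hsem.pow_right j).eq
  have h2j : r ^ j * r ^ j * r = 1 := by
    rw [← pow_add, ← pow_succ, ← two_mul, ← hj, pow_orderOf_eq_one]
  have h3 : (r ^ j)⁻¹ * (r ^ j)⁻¹ = r := by
    rw [← mul_inv_rev]
    exact inv_eq_of_mul_eq_one_right h2j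
  calc r ^ j * t * (r ^ j)⁻¹ = t * (r⁻¹) ^ j * (r ^ j)⁻¹ := by rw [hsem2]
    _ = t * ((r ^ j)⁻¹ * (r ^ j)⁻¹) := by rw [inv_pow, mul_assoc]
    _ = t * r := by rw [h3]
    _ = t' := by rw [hr, ← mul_assoc, ht, one_mul]

/-- pairs (involution, tuple) of the same type are conjugate -/
theorem exists_conj_pair [Finite G] [IsMultiplyPretransitive G α 4]
    (hodd : ∀ z : Fin 4 ↪ α, Odd (Nat.card (stabilizer G z)))
    {t t' : G} {σ : Equiv.Perm (Fin 4)} (hσ : σ * σ = 1) {z z' : Fin 4 ↪ α}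
    (ht : t * t = 1) (ht' : t' * t' = 1) (h : t • z = re σ z) (h' : t' • z' = re σ z') :
    ∃ g : G, g * t * g⁻¹ = t' ∧ g • z = z' := by
  obtain ⟨g0, hg0⟩ := exists_smul_eq G z z'
  have h0 : (g0 * t * g0⁻¹) • z' = re σ z' := by
    rw [mul_smul, mul_smul, ← hg0, inv_smul_smul, h, smul_re]
  obtain ⟨k, hks, -, hk⟩ := conj_in_stab hodd hσ (conj_mul_self ht g0) ht' h0 h'
  refine ⟨k * g0, ?_, ?_⟩
  · rw [← hk]; group
  · rw [mul_smul, hg0]; exact hks

end odd

/-- conjugation transports `stabilizer ⊓ centralizer` -/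
theorem conj_mem_stab_cent (g x t : G) (z : Fin 4 ↪ α)
    (hx : x ∈ stabilizer G z ⊓ Subgroup.centralizer ({t} : Set G)) :
    g * x * g⁻¹ ∈ stabilizer G (g • z) ⊓ Subgroup.centralizer ({g * t * g⁻¹} : Set G) := by
  obtain ⟨h1, h2⟩ := Subgroup.mem_inf.1 hx
  refine Subgroup.mem_inf.2 ⟨?_, ?_⟩
  · rw [mem_stabilizer_iff] at h1 ⊢
    rw [mul_smul, mul_smul, inv_smul_smul, h1]
  · rw [Subgroup.mem_centralizer_iff] at h2 ⊢
    intro y hy
    rw [Set.mem_singleton_iff] at hy
    subst hy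
    have h3 := h2 t rfl
    calc g * t * g⁻¹ * (g * x * g⁻¹) = g * (t * x) * g⁻¹ := by group
      _ = g * (x * t) * g⁻¹ := by rw [h3]
      _ = g * x * g⁻¹ * (g * t * g⁻¹) := by group

theorem card_eq_of_conj (K K' : Subgroup G) (g : G) (h1 : ∀ x, x ∈ K → g * x * g⁻¹ ∈ K')
    (h2 : ∀ y, y ∈ K' → g⁻¹ * y * g ∈ K) : Nat.card K = Nat.card K' :=
  Nat.card_congr
    { toFun := fun x => ⟨g * x.1 * g⁻¹, h1 x.1 x.2⟩
      invFun := fun y => ⟨g⁻¹ * y.1 * g, h2 y.1 y.2⟩
      left_inv := fun x => by apply Subtype.ext; simp [mul_assoc]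
      right_inv := fun y => by apply Subtype.ext; simp [mul_assoc] }

theorem card_stab_cent_conj (g t : G) (z : Fin 4 ↪ α) :
    Nat.card ↥(stabilizer G z ⊓ Subgroup.centralizer ({t} : Set G)) =
      Nat.card ↥(stabilizer G (g • z) ⊓ Subgroup.centralizer ({g * t * g⁻¹} : Set G)) := by
  apply card_eq_of_conj _ _ g
  · intro x hx
    exact conj_mem_stab_cent g x t z hx
  · intro y hy
    have := conj_mem_stab_cent g⁻¹ y (g * t * g⁻¹) (g • z) hy
    rw [inv_smul_smul, inv_inv] at this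
    have e : g⁻¹ * (g * t * g⁻¹) * g = t := by group
    rw [e] at this
    exact this

section odd2

variable [Finite G]

/-- the order of `C_{G_z}(t)` only depends on the type of `(t, z)` -/
theorem card_stab_cent_eq [IsMultiplyPretransitive G α 4]
    (hodd : ∀ z : Fin 4 ↪ α, Odd (Nat.card (stabilizer G z)))
    {t t' : G} {σ : Equiv.Perm (Fin 4)} (hσ : σ * σ = 1) {z z' : Fin 4 ↪ α}
    (ht : t * t = 1) (ht' : t' * t' = 1) (h : t • z = re σ z) (h' : t' • z' = re σ z') :
    Nat.card ↥(stabilizer G z ⊓ Subgroup.centralizer ({t} : Set G)) =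
      Nat.card ↥(stabilizer G z' ⊓ Subgroup.centralizer ({t'} : Set G)) := by
  obtain ⟨g, hg1, hg2⟩ := exists_conj_pair hodd hσ ht ht' h h'
  rw [card_stab_cent_conj g t z, hg1, hg2]

/-- the same, with a reindexing of the tuple -/
theorem card_stab_cent_eq_re [IsMultiplyPretransitive G α 4]
    (hodd : ∀ z : Fin 4 ↪ α, Odd (Nat.card (stabilizer G z)))
    {t t' : G} {σ σ' π : Equiv.Perm (Fin 4)} (hσ' : σ' * σ' = 1) (hπ : σ * π = π * σ')
    {z z' : Fin 4 ↪ α}
    (ht : t * t = 1) (ht' : t' * t' = 1) (h : t • z = re σ z) (h' : t' • z' = re σ' z') :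
    Nat.card ↥(stabilizer G z ⊓ Subgroup.centralizer ({t} : Set G)) =
      Nat.card ↥(stabilizer G z' ⊓ Subgroup.centralizer ({t'} : Set G)) := by
  have h1 : t • re π z = re σ' (re π z) := by
    rw [smul_re, h, re_re, re_re, hπ]
  have := card_stab_cent_eq hodd hσ' ht ht' h1 h'
  rwa [stabilizer_re] at this

end odd2

/-- restricted orbit–stabilizer -/
theorem card_orbit_mul_card_inf {β : Type*} [MulAction G β] (C : Subgroup G) (b : β) :
    Nat.card (orbit ↥C b) * Nat.card ↥(stabilizer G b ⊓ C) = Nat.card ↥C := by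
  have h1 := Subgroup.card_eq_card_quotient_mul_card_subgroup (stabilizer ↥C b)
  have h2 : Nat.card (orbit ↥C b) = Nat.card (↥C ⧸ stabilizer ↥C b) :=
    Nat.card_congr (orbitEquivQuotientStabilizer ↥C b)
  have h3 : Nat.card ↥(stabilizer ↥C b) = Nat.card ↥(stabilizer G b ⊓ C) :=
    Nat.card_congr
      { toFun := fun x => ⟨x.1.1, Subgroup.mem_inf.2 ⟨by
          have h := x.2
          rw [mem_stabilizer_iff] at h
          exact mem_stabilizer_iff.2 h, x.1.2⟩⟩
        invFun := fun y => ⟨⟨y.1, (Subgroup.mem_inf.1 y.2).2⟩, by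
          have h := (Subgroup.mem_inf.1 y.2).1
          rw [mem_stabilizer_iff] at h
          exact mem_stabilizer_iff.2 h⟩
        left_inv := fun x => rfl
        right_inv := fun y => rfl }
  rw [h1, h2, h3]

end Cfsg.Agent.Lib.Helper8.OddFour
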