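/-
helper8 shared library (for S4221): commuting pairs of involutions `e, e'` realising `(01)` and
`(23)` on a base tuple; conjugacy of pairs; normalizer of the stabilizer.
-/
import Mathlib
import Cfsg.Agent.Lib.Helper8.OddFourCore

set_option autoImplicit false

namespace Cfsg.Agent.Lib.Helper8.OddFour

open MulAction Cfsg.Agent.Lib.Helper38 Cfsg.Agent.Lib.Helper48

variable {G α : Type*} [Group G] [MulAction G α]

/-- `(01)` -/
abbrev s01 : Equiv.Perm (Fin 4) := Equiv.swap (0 : Fin 4) 1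
/-- `(23)` -/
abbrev s23 : Equiv.Perm (Fin 4) := Equiv.swap (2 : Fin 4) 3
/-- `(01)(23)` -/
abbrev rho : Equiv.Perm (Fin 4) := Equiv.swap (0 : Fin 4) 1 * Equiv.swap 2 3
/-- `(03)(12)` -/
abbrev tp : Equiv.Perm (Fin 4) := Equiv.swap (0 : Fin 4) 3 * Equiv.swap 1 2
/-- `(02)(13)` -/
abbrev tau : Equiv.Perm (Fin 4) := Equiv.swap (0 : Fin 4) 2 * Equiv.swap 1 3

theorem s01_sq : s01 * s01 = 1 := by decide
theorem s23_sq : s23 * s23 = 1 := by decide
theorem rho_sq : rho * rho = 1 := by decide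
theorem tp_sq : tp * tp = 1 := by decide
theorem tau_sq : tau * tau = 1 := by decide
theorem s01_s23 : s01 * s23 = s23 * s01 := by decide
theorem rho_tp : rho * tp = tp * rho := by decide
theorem rho_mul_tp : rho * tp = tau := by decide
theorem s23_tau : s23 * tau = tau * s01 := by decide

/-- a permutation `π` with `tp * π = π * rho` -/
abbrev pi1 : Equiv.Perm (Fin 4) := Equiv.swap (1 : Fin 4) 3 * Equiv.swap 2 3
theorem tp_pi1 : tp * pi1 = pi1 * rho := by decide
/-- a permutation `π` with `tau * π = π * rho` -/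
abbrev pi2 : Equiv.Perm (Fin 4) := Equiv.swap (1 : Fin 4) 2
theorem tau_pi2 : tau * pi2 = pi2 * rho := by decide

theorem mem_cent_fourSub {a b x : G} :
    x ∈ Subgroup.centralizer ((fourSub a b : Subgroup G) : Set G) ↔ a * x = x * a ∧ b * x = x * b := by
  constructor
  · intro h
    rw [Subgroup.mem_centralizer_iff] at h
    exact ⟨h a (left_mem_fourSub a b), h b (right_mem_fourSub a b)⟩
  · rintro ⟨h1, h2⟩
    have hle : fourSub a b ≤ Subgroup.centralizer ({x} : Set G) := by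
      unfold fourSub
      rw [sup_le_iff, Subgroup.zpowers_le, Subgroup.zpowers_le]
      constructor
      · rw [Subgroup.mem_centralizer_iff]
        intro y hy
        rw [Set.mem_singleton_iff] at hy
        subst hy
        exact h1.symm
      · rw [Subgroup.mem_centralizer_iff]
        intro y hy
        rw [Set.mem_singleton_iff] at hy
        subst hy
        exact h2.symm
    rw [Subgroup.mem_centralizer_iff]
    intro y hy
    have := hle hy
    rw [Subgroup.mem_centralizer_iff] at this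
    exact (this x rfl).symm

/-- an involution realising an index involution on `z` normalizes the stabilizer of `z` -/
theorem mem_normalizer_stab {t : G} {σ : Equiv.Perm (Fin 4)} (hσ : σ * σ = 1) {z : Fin 4 ↪ α}
    (ht : t * t = 1) (h : t • z = re σ z) :
    t ∈ Subgroup.normalizer ((stabilizer G z : Subgroup G) : Set G) := by
  have hti : t⁻¹ = t := inv_eq_self_of_mul_self ht
  have key : ∀ x, x ∈ stabilizer G z → t * x * t⁻¹ ∈ stabilizer G z := by
    intro x hx
    rw [mem_stabilizer_iff] at hx ⊢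
    rw [hti, mul_smul, mul_smul, h, smul_re, hx, smul_re, h, re_re, hσ, re_one]
  rw [Subgroup.mem_normalizer_iff]
  intro x
  constructor
  · exact key x
  · intro hx
    have := key _ hx
    have e : t * (t * x * t⁻¹) * t⁻¹ = x := by
      rw [hti]
      calc t * (t * x * t) * t = (t * t) * x * (t * t) := by group
        _ = x := by rw [ht, one_mul, mul_one]
    rwa [e] at this

section odd

variable [IsMultiplyPretransitive G α 4]

/-- a commuting partner of prescribed type -/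
theorem exists_commuting_invol (hodd : ∀ z : Fin 4 ↪ α, Odd (Nat.card (stabilizer G z)))
    {t : G} {σ1 σ2 : Equiv.Perm (Fin 4)} (h1 : σ1 * σ1 = 1) (h2 : σ2 * σ2 = 1)
    (hc : σ1 * σ2 = σ2 * σ1) {z : Fin 4 ↪ α} (ht : t * t = 1) (h : t • z = re σ1 z) :
    ∃ t2 : G, t2 * t2 = 1 ∧ t2 • z = re σ2 z ∧ t * t2 = t2 * t := by
  have h12 : (σ1 * σ2) * (σ1 * σ2) = 1 := by
    calc (σ1 * σ2) * (σ1 * σ2) = σ1 * (σ2 * σ1) * σ2 := by group
      _ = σ1 * (σ1 * σ2) * σ2 := by rw [hc]
      _ = (σ1 * σ1) * (σ2 * σ2) := by group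
      _ = 1 := by rw [h1, h2, one_mul]
  obtain ⟨s, hs, hsz⟩ := exists_invol hodd (σ1 * σ2) h12 z
  set r := t * s with hr
  have hrz : r • z = re σ2 z := by
    rw [hr, mul_smul, hsz, smul_re, h, re_re, ← mul_assoc, h1, one_mul]
  have hrr : r * r ∈ stabilizer G z := by
    rw [mem_stabilizer_iff, mul_smul, hrz, smul_re, hrz, re_re, h2, re_one]
  have hk : Odd (orderOf (r * r)) :=
    Odd.of_dvd_nat (hodd z) (Subgroup.orderOf_dvd_natCard _ hrr)
  have ht2 : r ^ orderOf (r * r) * r ^ orderOf (r * r) = 1 := by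
    rw [← pow_add, ← two_mul, pow_mul, pow_two, pow_orderOf_eq_one]
  refine ⟨r ^ orderOf (r * r), ht2, ?_, ?_⟩
  · rw [pow_smul_re hrz, pow_odd_of_mul_self h2 hk]
  · have hti : t⁻¹ = t := inv_eq_self_of_mul_self ht
    have hsi : s⁻¹ = s := inv_eq_self_of_mul_self hs
    have hrinv : r⁻¹ = s * t := by rw [hr, mul_inv_rev, hti, hsi]
    have hsem : SemiconjBy t r r⁻¹ := by
      show t * r = r⁻¹ * t
      rw [hrinv, hr, ← mul_assoc, ht, one_mul, mul_assoc, ht, mul_one]
    have h3 : t * r ^ orderOf (r * r) = (r⁻¹) ^ orderOf (r * r) * t :=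
      (hsem.pow_right _).eq
    rw [h3, inv_pow, inv_eq_self_of_mul_self ht2]

/-- commuting pairs of involutions of the same pair of types are simultaneously conjugate -/
theorem exists_conj_pair2 [Finite G] (hodd : ∀ z : Fin 4 ↪ α, Odd (Nat.card (stabilizer G z)))
    {t1 t2 s1 s2 : G} {σ1 σ2 : Equiv.Perm (Fin 4)} (h1 : σ1 * σ1 = 1) (h2 : σ2 * σ2 = 1)
    {z z' : Fin 4 ↪ α}
    (ht1 : t1 * t1 = 1) (ht2 : t2 * t2 = 1) (hs1 : s1 * s1 = 1) (hs2 : s2 * s2 = 1)
    (htc : t1 * t2 = t2 * t1) (hsc : s1 * s2 = s2 * s1)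
    (hz1 : t1 • z = re σ1 z) (hz2 : t2 • z = re σ2 z)
    (hz1' : s1 • z' = re σ1 z') (hz2' : s2 • z' = re σ2 z') :
    ∃ g : G, g * t1 * g⁻¹ = s1 ∧ g * t2 * g⁻¹ = s2 ∧ g • z = z' := by
  obtain ⟨g0, hg1, hg2⟩ := exists_conj_pair hodd h1 ht1 hs1 hz1 hz1'
  have h0 : (g0 * t2 * g0⁻¹) • z' = re σ2 z' := by
    rw [mul_smul, mul_smul, ← hg2, inv_smul_smul, hz2, smul_re]
  have hc0 : s1 * (g0 * t2 * g0⁻¹) = (g0 * t2 * g0⁻¹) * s1 := by
    rw [← hg1]
    calc g0 * t1 * g0⁻¹ * (g0 * t2 * g0⁻¹) = g0 * (t1 * t2) * g0⁻¹ := by group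
      _ = g0 * (t2 * t1) * g0⁻¹ := by rw [htc]
      _ = g0 * t2 * g0⁻¹ * (g0 * t1 * g0⁻¹) := by group
  obtain ⟨k, hks, hkz, hk⟩ := conj_in_stab hodd h2 (conj_mul_self ht2 g0) hs2 h0 hz2'
  -- `k` commutes with `s1`
  have hkc : k * s1 = s1 * k := by
    have hmem : (g0 * t2 * g0⁻¹) * s2 ∈ Subgroup.centralizer ({s1} : Set G) := by
      rw [Subgroup.mem_centralizer_iff]
      intro y hy
      rw [Set.mem_singleton_iff] at hy
      subst hy
      rw [← mul_assoc, hc0, mul_assoc, hsc, ← mul_assoc]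
    have hle : Subgroup.zpowers ((g0 * t2 * g0⁻¹) * s2) ≤ Subgroup.centralizer ({s1} : Set G) :=
      (Subgroup.zpowers_le).2 hmem
    have := hle hkz
    rw [Subgroup.mem_centralizer_iff] at this
    exact (this s1 rfl).symm
  refine ⟨k * g0, ?_, ?_, ?_⟩
  · calc k * g0 * t1 * (k * g0)⁻¹ = k * (g0 * t1 * g0⁻¹) * k⁻¹ := by group
      _ = k * s1 * k⁻¹ := by rw [hg1]
      _ = s1 * k * k⁻¹ := by rw [hkc]
      _ = s1 := by group
  · rw [← hk]; group
  · rw [mul_smul, hg2]; exact hks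

end odd

end Cfsg.Agent.Lib.Helper8.OddFour
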