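/-
helper8 shared library (for S4221): the counting argument.  `G` is `4`-transitive on `α` with
stabilizers of injective `4`-tuples of odd order and `|α| ≥ 8`; then `|α| = 11`.
-/
import Mathlib
import Cfsg.Agent.Lib.Helper8.OddFourPair

set_option autoImplicit false

namespace Cfsg.Agent.Lib.Helper8.OddFour

open MulAction Cfsg.Agent.Lib.Helper38 Cfsg.Agent.Lib.Helper48
open Cfsg.Agent.S0415 (fixSet movSet mem_fixSet mem_movSet card_fix_add_card_mov card_T1 card_T2
  injective_vec4)

variable {G α : Type*} [Group G] [MulAction G α]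

/-- an involution cannot fix an injective `4`-tuple -/
theorem not_fix_four (hodd : ∀ z : Fin 4 ↪ α, Odd (Nat.card (stabilizer G z)))
    {t : G} (ht : t * t = 1) (ht1 : t ≠ 1) (z : Fin 4 ↪ α) (h : t • z = z) : False := by
  have hmem : t ∈ stabilizer G z := h
  have ho : orderOf t = 2 := orderOf_eq_prime (by rw [pow_two]; exact ht) ht1
  have hd : 2 ∣ Nat.card (stabilizer G z) := ho ▸ Subgroup.orderOf_dvd_natCard _ hmem
  exact (Nat.not_even_iff_odd.2 (hodd z)) (even_iff_two_dvd.2 hd)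

/-- an element of odd order cannot swap two distinct points -/
theorem not_swap_of_odd {g : G} (hg : Odd (orderOf g)) {p q : α} (hpq : p ≠ q)
    (h1 : g • p = q) (h2 : g • q = p) : False := by
  have key : ∀ j : ℕ, g ^ (2 * j) • p = p := by
    intro j
    induction j with
    | zero => simp
    | succ j ih =>
      have : 2 * (j + 1) = 2 * j + 2 := by ring
      rw [this, pow_add, mul_smul, pow_two, mul_smul, h1, h2, ih]
  obtain ⟨j, hj⟩ := hg
  have h3 : g ^ orderOf g • p = q := by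
    rw [hj, pow_succ, mul_smul, h1]
    have := key j
    -- g^(2j) • q : use symmetry
    have key' : ∀ j : ℕ, g ^ (2 * j) • q = q := by
      intro j
      induction j with
      | zero => simp
      | succ j ih =>
        have : 2 * (j + 1) = 2 * j + 2 := by ring
        rw [this, pow_add, mul_smul, pow_two, mul_smul, h2, h1, ih]
    exact key' j
  rw [pow_orderOf_eq_one, one_smul] at h3
  exact hpq h3

/-- points fixed by `e'` and moved by `e` (commuting involutions) -/
theorem eq_of_fixed_moved (hodd : ∀ z : Fin 4 ↪ α, Odd (Nat.card (stabilizer G z)))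
    {e e' : G} (he : e * e = 1) (he' : e' * e' = 1) (hc : e * e' = e' * e) (he'1 : e' ≠ 1)
    {p0 p1 : α} (h0 : e' • p0 = p0) (h01 : e • p0 = p1) (hne : p0 ≠ p1)
    {q : α} (hq : e' • q = q) (hq' : e • q ≠ q) : q = p0 ∨ q = p1 := by
  by_contra hcon
  push Not at hcon
  obtain ⟨hq0, hq1⟩ := hcon
  have h10 : e • p1 = p0 := by rw [← h01, ← mul_smul, he, one_smul]
  have heq : e • (e • q) = q := by rw [← mul_smul, he, one_smul]
  have h1 : e' • p1 = p1 := by rw [← h01, ← mul_smul, ← hc, mul_smul, h0]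
  have heq' : e' • (e • q) = e • q := by rw [← mul_smul, ← hc, mul_smul, hq]
  have hinj : Function.Injective ![p0, p1, q, e • q] := by
    apply injective_vec4 hne (Ne.symm hq0)
    · intro h; exact hq1 (by rw [← heq, ← h, h01])
    · exact Ne.symm hq1
    · intro h; apply hq0; rw [← h01] at h; exact (MulAction.injective e h).symm
    · exact Ne.symm hq'
  apply not_fix_four hodd he' he'1 ⟨![p0, p1, q, e • q], hinj⟩
  ext i
  simp only [Function.Embedding.smul_apply, Function.Embedding.coeFn_mk]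
  fin_cases i
  · exact h0
  · exact h1
  · exact hq
  · exact heq'

/-- a commuting pair of involutions of types `(01)`, `(23)` on the base tuple -/
structure EPair (G : Type*) {α : Type*} [Group G] [MulAction G α] (z0 : Fin 4 ↪ α) where
  e : G
  e' : G
  he : e * e = 1
  he' : e' * e' = 1
  hc : e * e' = e' * e
  hz : e • z0 = re s01 z0
  hz' : e' • z0 = re s23 z0

theorem exists_epair [IsMultiplyPretransitive G α 4]
    (hodd : ∀ z : Fin 4 ↪ α, Odd (Nat.card (stabilizer G z))) (z0 : Fin 4 ↪ α) :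
    Nonempty (EPair G z0) := by
  obtain ⟨e, he, hz⟩ := exists_invol hodd s01 s01_sq z0
  obtain ⟨e', he', hz', hc⟩ := exists_commuting_invol hodd s01_sq s23_sq s01_s23 he hz
  exact ⟨⟨e, e', he, he', hc, hz, hz'⟩⟩

namespace EPair

variable {z0 : Fin 4 ↪ α} (P : EPair G z0)

theorem e0 : P.e • z0 0 = z0 1 := smul_apply_of_eq P.hz 0
theorem e1 : P.e • z0 1 = z0 0 := smul_apply_of_eq P.hz 1
theorem e2 : P.e • z0 2 = z0 2 := smul_apply_of_eq P.hz 2
theorem e3 : P.e • z0 3 = z0 3 := smul_apply_of_eq P.hz 3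
theorem e'0 : P.e' • z0 0 = z0 0 := smul_apply_of_eq P.hz' 0
theorem e'1 : P.e' • z0 1 = z0 1 := smul_apply_of_eq P.hz' 1
theorem e'2 : P.e' • z0 2 = z0 3 := smul_apply_of_eq P.hz' 2
theorem e'3 : P.e' • z0 3 = z0 2 := smul_apply_of_eq P.hz' 3

omit [Group G] [MulAction G α] in
theorem z01 (z0 : Fin 4 ↪ α) : z0 0 ≠ z0 1 := fun h => by simpa using z0.injective h
omit [Group G] [MulAction G α] in
theorem z23 (z0 : Fin 4 ↪ α) : z0 2 ≠ z0 3 := fun h => by simpa using z0.injective h

theorem e_ne_one : P.e ≠ 1 := fun h => by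
  have := P.e0
  rw [h, one_smul] at this
  exact z01 z0 this

theorem e'_ne_one : P.e' ≠ 1 := fun h => by
  have := P.e'2
  rw [h, one_smul] at this
  exact z23 z0 this

theorem e_ne_e' : P.e ≠ P.e' := fun h => by
  have := P.e0
  rw [h, P.e'0] at this
  exact z01 z0 this

theorem hee : (P.e * P.e') * (P.e * P.e') = 1 := mul_mul_self_eq_one P.he P.he' P.hc

theorem hzz : (P.e * P.e') • z0 = re rho z0 := by
  rw [mul_smul, P.hz', smul_re, P.hz, re_re]

theorem ee_ne_one : P.e * P.e' ≠ 1 := fun h => by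
  have := smul_apply_of_eq P.hzz 0
  rw [h, one_smul] at this
  exact z01 z0 this

theorem smul_comm' (p : α) : P.e • P.e' • p = P.e' • P.e • p := by
  rw [← mul_smul, ← mul_smul, P.hc]

theorem ee_smul (p : α) : P.e • P.e • p = p := by rw [← mul_smul, P.he, one_smul]

theorem e'e'_smul (p : α) : P.e' • P.e' • p = p := by rw [← mul_smul, P.he', one_smul]

section classes

variable [Fintype α] [DecidableEq α]

/-- points in regular orbits of `⟨e, e'⟩` -/
def Xi : Finset α :=
  Finset.univ.filter (fun p => P.e • p ≠ p ∧ P.e' • p ≠ p ∧ (P.e * P.e') • p ≠ p)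

/-- points fixed by `e` and moved by `e'` -/
def P23 : Finset α := Finset.univ.filter (fun p => P.e • p = p ∧ P.e' • p ≠ p)

/-- points fixed by `e'` and moved by `e` -/
def P01 : Finset α := Finset.univ.filter (fun p => P.e' • p = p ∧ P.e • p ≠ p)

theorem mem_Xi {p : α} :
    p ∈ P.Xi ↔ P.e • p ≠ p ∧ P.e' • p ≠ p ∧ (P.e * P.e') • p ≠ p := by
  simp [Xi]

theorem mem_P23 {p : α} : p ∈ P.P23 ↔ P.e • p = p ∧ P.e' • p ≠ p := by simp [P23]

theorem mem_P01 {p : α} : p ∈ P.P01 ↔ P.e' • p = p ∧ P.e • p ≠ p := by simp [P01]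

theorem P23_eq (hodd : ∀ z : Fin 4 ↪ α, Odd (Nat.card (stabilizer G z))) :
    P.P23 = {z0 2, z0 3} := by
  ext q
  rw [mem_P23, Finset.mem_insert, Finset.mem_singleton]
  constructor
  · rintro ⟨h1, h2⟩
    exact eq_of_fixed_moved hodd P.he' P.he P.hc.symm P.e_ne_one P.e2 P.e'2 (z23 z0) h1 h2
  · rintro (rfl | rfl)
    · exact ⟨P.e2, by rw [P.e'2]; exact (z23 z0).symm⟩
    · exact ⟨P.e3, by rw [P.e'3]; exact z23 z0⟩

theorem P01_eq (hodd : ∀ z : Fin 4 ↪ α, Odd (Nat.card (stabilizer G z))) :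
    P.P01 = {z0 0, z0 1} := by
  ext q
  rw [mem_P01, Finset.mem_insert, Finset.mem_singleton]
  constructor
  · rintro ⟨h1, h2⟩
    exact eq_of_fixed_moved hodd P.he P.he' P.hc P.e'_ne_one P.e'0 P.e0 (z01 z0) h1 h2
  · rintro (rfl | rfl)
    · exact ⟨P.e'0, by rw [P.e0]; exact (z01 z0).symm⟩
    · exact ⟨P.e'1, by rw [P.e1]; exact z01 z0⟩

theorem card_P23 (hodd : ∀ z : Fin 4 ↪ α, Odd (Nat.card (stabilizer G z))) :
    P.P23.card = 2 := by
  rw [P.P23_eq hodd, Finset.card_pair (z23 z0)]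

theorem card_P01 (hodd : ∀ z : Fin 4 ↪ α, Odd (Nat.card (stabilizer G z))) :
    P.P01.card = 2 := by
  rw [P.P01_eq hodd, Finset.card_pair (z01 z0)]

/-- the four classes of points partition `α` -/
theorem card_classes :
    Fintype.card α = P.Xi.card + (fixSet α (P.e * P.e')).card + P.P23.card + P.P01.card := by
  rw [Xi, fixSet, P23, P01, Finset.card_filter, Finset.card_filter, Finset.card_filter,
    Finset.card_filter, ← Finset.sum_add_distrib, ← Finset.sum_add_distrib,
    ← Finset.sum_add_distrib, ← Finset.card_univ, Finset.card_eq_sum_ones]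
  apply Finset.sum_congr rfl
  intro p _
  have hm : (P.e * P.e') • p = P.e • P.e' • p := mul_smul _ _ _
  have k1 : P.e • p = p → P.e' • p = p → (P.e * P.e') • p = p := by
    intro h1 h2; rw [hm, h2, h1]
  have k2 : P.e • p = p → (P.e * P.e') • p = p → P.e' • p = p := by
    intro h1 h3
    rw [hm, P.smul_comm', h1] at h3
    exact h3
  have k3 : P.e' • p = p → (P.e * P.e') • p = p → P.e • p = p := by
    intro h2 h3
    rw [hm, h2] at h3
    exact h3
  by_cases h1 : P.e • p = p <;> by_cases h2 : P.e' • p = p <;>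
    by_cases h3 : (P.e * P.e') • p = p <;> simp [h1, h2, h3] <;> tauto

/-- the tuple `(p, e p, e e' p, e' p)` for a point in a regular orbit -/
def tup {p : α} (hp : p ∈ P.Xi) : Fin 4 ↪ α :=
  ⟨![p, P.e • p, (P.e * P.e') • p, P.e' • p], by
    obtain ⟨h1, h2, h3⟩ := P.mem_Xi.1 hp
    have hm : (P.e * P.e') • p = P.e • P.e' • p := mul_smul _ _ _
    apply injective_vec4 (Ne.symm h1) (Ne.symm h3) (Ne.symm h2)
    · rw [hm]
      intro h
      exact h2 (MulAction.injective P.e h).symm
    · intro h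
      apply h3
      rw [hm, ← h, P.ee_smul]
    · rw [hm, P.smul_comm']
      intro h
      exact h1 (MulAction.injective P.e' h)⟩

theorem tup_zero {p : α} (hp : p ∈ P.Xi) : P.tup hp 0 = p := rfl

theorem e_tup {p : α} (hp : p ∈ P.Xi) : P.e • P.tup hp = re rho (P.tup hp) := by
  have hm : (P.e * P.e') • p = P.e • P.e' • p := mul_smul _ _ _
  ext i
  simp only [Function.Embedding.smul_apply, re_apply, tup, Function.Embedding.coeFn_mk]
  fin_cases i
  · rfl
  · exact P.ee_smul p
  · show P.e • (P.e * P.e') • p = P.e' • p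
    rw [hm, P.ee_smul]
  · show P.e • P.e' • p = (P.e * P.e') • p
    rw [hm]

theorem e'_tup {p : α} (hp : p ∈ P.Xi) : P.e' • P.tup hp = re tp (P.tup hp) := by
  have hm : (P.e * P.e') • p = P.e • P.e' • p := mul_smul _ _ _
  ext i
  simp only [Function.Embedding.smul_apply, re_apply, tup, Function.Embedding.coeFn_mk]
  fin_cases i
  · rfl
  · show P.e' • P.e • p = (P.e * P.e') • p
    rw [hm, P.smul_comm']
  · show P.e' • (P.e * P.e') • p = P.e • p
    rw [hm, P.smul_comm', P.e'e'_smul]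
  · exact P.e'e'_smul p

theorem ee_tup {p : α} (hp : p ∈ P.Xi) : (P.e * P.e') • P.tup hp = re tau (P.tup hp) := by
  rw [mul_smul, P.e'_tup hp, smul_re, P.e_tup hp, re_re, rho_mul_tp]

end classes

/-- the centralizer of the four-group `⟨e, e'⟩` -/
def CE : Subgroup G := Subgroup.centralizer ((fourSub P.e P.e' : Subgroup G) : Set G)

theorem mem_CE {x : G} : x ∈ P.CE ↔ P.e * x = x * P.e ∧ P.e' * x = x * P.e' :=
  mem_cent_fourSub

theorem smul_e {g : G} (hg : g ∈ P.CE) (p : α) : g • P.e • p = P.e • g • p := by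
  rw [← mul_smul, ← mul_smul, (P.mem_CE.1 hg).1]

theorem smul_e' {g : G} (hg : g ∈ P.CE) (p : α) : g • P.e' • p = P.e' • g • p := by
  rw [← mul_smul, ← mul_smul, (P.mem_CE.1 hg).2]

theorem e_mem_CE : P.e ∈ P.CE := P.mem_CE.2 ⟨rfl, P.hc.symm⟩

theorem e'_mem_CE : P.e' ∈ P.CE := P.mem_CE.2 ⟨P.hc, rfl⟩

theorem fourSub_le_CE : fourSub P.e P.e' ≤ P.CE := by
  unfold fourSub
  rw [sup_le_iff, Subgroup.zpowers_le, Subgroup.zpowers_le]
  exact ⟨P.e_mem_CE, P.e'_mem_CE⟩

omit [Group G] [MulAction G α] in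
theorem tuple_ext4 {z z' : Fin 4 ↪ α} (h0 : z 0 = z' 0) (h1 : z 1 = z' 1) (h2 : z 2 = z' 2)
    (h3 : z 3 = z' 3) : z = z' := by
  ext i
  fin_cases i
  · exact h0
  · exact h1
  · exact h2
  · exact h3

section CEcard

variable [Fintype α] [DecidableEq α]

/-- every element of `C(E)` acts on the base tuple like an element of `E` -/
theorem exists_smul_eq_of_mem_CE (hodd : ∀ z : Fin 4 ↪ α, Odd (Nat.card (stabilizer G z)))
    {g : G} (hg : g ∈ P.CE) : ∃ ε ∈ fourSub P.e P.e', g • z0 = ε • z0 := by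
  have hv0 : g • z0 0 ∈ P.P01 := by
    rw [mem_P01]
    refine ⟨by rw [← P.smul_e' hg, P.e'0], ?_⟩
    rw [← P.smul_e hg, P.e0]
    exact fun h => z01 z0 (MulAction.injective g h).symm
  have hv2 : g • z0 2 ∈ P.P23 := by
    rw [mem_P23]
    refine ⟨by rw [← P.smul_e hg, P.e2], ?_⟩
    rw [← P.smul_e' hg, P.e'2]
    exact fun h => z23 z0 (MulAction.injective g h).symm
  rw [P.P01_eq hodd, Finset.mem_insert, Finset.mem_singleton] at hv0
  rw [P.P23_eq hodd, Finset.mem_insert, Finset.mem_singleton] at hv2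
  have hv1 : g • z0 1 = P.e • g • z0 0 := by rw [← P.smul_e hg, P.e0]
  have hv3 : g • z0 3 = P.e' • g • z0 2 := by rw [← P.smul_e' hg, P.e'2]
  rcases hv0 with h0 | h0 <;> rcases hv2 with h2 | h2
  · refine ⟨1, Subgroup.one_mem _, ?_⟩
    rw [one_smul]
    apply tuple_ext4
    · exact h0
    · show g • z0 1 = z0 1
      rw [hv1, h0, P.e0]
    · exact h2
    · show g • z0 3 = z0 3
      rw [hv3, h2, P.e'2]
  · refine ⟨P.e', right_mem_fourSub _ _, ?_⟩
    rw [P.hz']
    apply tuple_ext4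
    · exact h0
    · show g • z0 1 = z0 1
      rw [hv1, h0, P.e0]
    · exact h2
    · show g • z0 3 = z0 2
      rw [hv3, h2, P.e'3]
  · refine ⟨P.e, left_mem_fourSub _ _, ?_⟩
    rw [P.hz]
    apply tuple_ext4
    · exact h0
    · show g • z0 1 = z0 0
      rw [hv1, h0, P.e1]
    · exact h2
    · show g • z0 3 = z0 3
      rw [hv3, h2, P.e'2]
  · refine ⟨P.e * P.e', Subgroup.mul_mem _ (left_mem_fourSub _ _) (right_mem_fourSub _ _), ?_⟩
    rw [P.hzz]
    apply tuple_ext4
    · exact h0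
    · show g • z0 1 = z0 0
      rw [hv1, h0, P.e1]
    · exact h2
    · show g • z0 3 = z0 2
      rw [hv3, h2, P.e'3]

/-- `|C(E)| = 4 |C_H(E)|`, `H` the stabilizer of the base tuple -/
theorem card_CE [Finite G] (hodd : ∀ z : Fin 4 ↪ α, Odd (Nat.card (stabilizer G z))) :
    Nat.card ↥P.CE = 4 * Nat.card ↥(stabilizer G z0 ⊓ P.CE) := by
  have hsup : fourSub P.e P.e' ⊔ (stabilizer G z0 ⊓ P.CE) = P.CE := by
    apply le_antisymm
    · exact sup_le P.fourSub_le_CE inf_le_right
    · intro g hg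
      obtain ⟨ε, hε, hgε⟩ := P.exists_smul_eq_of_mem_CE hodd hg
      have h1 : ε⁻¹ * g ∈ stabilizer G z0 ⊓ P.CE := by
        refine Subgroup.mem_inf.2 ⟨?_, ?_⟩
        · rw [mem_stabilizer_iff, mul_smul, hgε, inv_smul_smul]
        · exact Subgroup.mul_mem _ (Subgroup.inv_mem _ (P.fourSub_le_CE hε)) hg
      have h2 : g = ε * (ε⁻¹ * g) := by group
      rw [h2]
      exact Subgroup.mul_mem _ (Subgroup.mem_sup_left hε) (Subgroup.mem_sup_right h1)
  have hd : fourSub P.e P.e' ⊓ (stabilizer G z0 ⊓ P.CE) = ⊥ := by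
    rw [eq_bot_iff]
    intro x hx
    obtain ⟨hx1, hx2⟩ := Subgroup.mem_inf.1 hx
    have hx3 : x • z0 = z0 := (Subgroup.mem_inf.1 hx2).1
    rw [Subgroup.mem_bot]
    rcases (mem_fourSub P.he P.he' P.hc).1 hx1 with rfl | rfl | rfl | rfl
    · rfl
    · exfalso
      have := DFunLike.congr_fun hx3 0
      rw [Function.Embedding.smul_apply, P.e0] at this
      exact z01 z0 this.symm
    · exfalso
      have := DFunLike.congr_fun hx3 2
      rw [Function.Embedding.smul_apply, P.e'2] at this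
      exact z23 z0 this.symm
    · exfalso
      have := DFunLike.congr_fun hx3 0
      rw [P.hzz] at this
      exact z01 z0 this.symm
  have hn : fourSub P.e P.e' ≤
      Subgroup.normalizer ((stabilizer G z0 ⊓ P.CE : Subgroup G) : Set G) := by
    refine le_trans ?_ (Subgroup.centralizer_le_normalizer _)
    rw [Subgroup.le_centralizer_iff]
    exact inf_le_right
  have h := card_sup_of_le_normalizer_of_disjoint _ _ hn hd
  rw [hsup, card_fourSub P.he P.he' P.hc P.e_ne_one P.e'_ne_one P.e_ne_e'] at h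
  exact h

theorem smul_mem_Xi {g : G} (hg : g ∈ P.CE) {p : α} (hp : p ∈ P.Xi) : g • p ∈ P.Xi := by
  obtain ⟨h1, h2, h3⟩ := P.mem_Xi.1 hp
  rw [mem_Xi]
  refine ⟨?_, ?_, ?_⟩
  · rw [← P.smul_e hg]
    exact fun h => h1 (MulAction.injective g h)
  · rw [← P.smul_e' hg]
    exact fun h => h2 (MulAction.injective g h)
  · rw [mul_smul, ← P.smul_e' hg, ← P.smul_e hg, ← mul_smul P.e P.e' p]
    exact fun h => h3 (MulAction.injective g h)

/-- `C(E)` is transitive on the points in regular `E`-orbits, with stabilizer `C_{G_z}(E)` for the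
associated tuple `z` -/
theorem card_Xi_mul [Finite G] [IsMultiplyPretransitive G α 4]
    (hodd : ∀ z : Fin 4 ↪ α, Odd (Nat.card (stabilizer G z))) {p : α} (hp : p ∈ P.Xi) :
    P.Xi.card * Nat.card ↥(stabilizer G (P.tup hp) ⊓ P.CE) = Nat.card ↥P.CE := by
  have h0 := card_orbit_mul_card_inf (β := α) P.CE p
  have h1 : stabilizer G p ⊓ P.CE = stabilizer G (P.tup hp) ⊓ P.CE := by
    ext g
    rw [Subgroup.mem_inf, Subgroup.mem_inf]
    constructor
    · rintro ⟨hg1, hg2⟩
      refine ⟨?_, hg2⟩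
      rw [mem_stabilizer_iff] at hg1 ⊢
      apply tuple_ext4
      · exact hg1
      · show g • P.e • p = P.e • p
        rw [P.smul_e hg2, hg1]
      · show g • (P.e * P.e') • p = (P.e * P.e') • p
        rw [mul_smul, P.smul_e hg2, P.smul_e' hg2, hg1]
      · show g • P.e' • p = P.e' • p
        rw [P.smul_e' hg2, hg1]
    · rintro ⟨hg1, hg2⟩
      refine ⟨?_, hg2⟩
      rw [mem_stabilizer_iff] at hg1 ⊢
      have := DFunLike.congr_fun hg1 0
      exact this
  have h2 : orbit ↥P.CE p = (P.Xi : Set α) := by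
    ext q
    rw [mem_orbit_iff, Finset.mem_coe]
    constructor
    · rintro ⟨g, rfl⟩
      exact P.smul_mem_Xi g.2 hp
    · intro hq
      obtain ⟨g, hg1, hg2, hg3⟩ := exists_conj_pair2 hodd rho_sq tp_sq P.he P.he' P.he P.he'
        P.hc P.hc (P.e_tup hp) (P.e'_tup hp) (P.e_tup hq) (P.e'_tup hq)
      have hgCE : g ∈ P.CE := by
        rw [mem_CE]
        constructor
        · have : g * P.e * g⁻¹ * g = P.e * g := by rw [hg1]
          rw [← this]; group
        · have : g * P.e' * g⁻¹ * g = P.e' * g := by rw [hg2]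
          rw [← this]; group
      refine ⟨⟨g, hgCE⟩, ?_⟩
      have := DFunLike.congr_fun hg3 0
      exact this
  rw [h1, h2, Nat.card_coe_set_eq, Set.ncard_coe_finset] at h0
  exact h0

end CEcard

end EPair

end Cfsg.Agent.Lib.Helper8.OddFour
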