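/-
helper8 shared library (for S4221): assembling the counting argument.
-/
import Mathlib
import Cfsg.Agent.Lib.Helper8.OddFourMain

set_option autoImplicit false

namespace Cfsg.Agent.Lib.Helper8.OddFour

open MulAction Cfsg.Agent.Lib.Helper38 Cfsg.Agent.Lib.Helper48
open Cfsg.Agent.S0415 (fixSet movSet mem_fixSet mem_movSet card_fix_add_card_mov card_T1 card_T2
  injective_vec4)

variable {G α : Type*} [Group G] [MulAction G α]

/-- the arithmetic core -/
theorem arith_core {F X x y w u h c : ℕ} (hF : F = 2 ∨ F = 6) (hx : 0 < x)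
    (hu : 0 < u)
    (e1 : (X + 4) * F * y = c) (e2 : (X + 4) * (X + 2) * x = c) (g1 : y * y * x = h * w ^ 2)
    (g2 : x * x * x = h * u ^ 2) (i1 : X * u = 4 * w) :
    F = 6 ∧ X = 4 ∧ x * x * x = h * w ^ 2 := by
  have k1 : F * y = (X + 2) * x := by
    have : (X + 4) * (F * y) = (X + 4) * ((X + 2) * x) := by
      rw [← mul_assoc, ← mul_assoc, e1, e2]
    exact Nat.eq_of_mul_eq_mul_left (by omega) this
  have k2 : y * u = x * w := by
    have hsq : (y * u) ^ 2 * x = (x * w) ^ 2 * x := by
      calc (y * u) ^ 2 * x = (y * y * x) * u ^ 2 := by ring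
        _ = h * w ^ 2 * u ^ 2 := by rw [g1]
        _ = (h * u ^ 2) * w ^ 2 := by ring
        _ = (x * x * x) * w ^ 2 := by rw [g2]
        _ = (x * w) ^ 2 * x := by ring
    have hsq2 : (y * u) ^ 2 = (x * w) ^ 2 := Nat.eq_of_mul_eq_mul_right hx hsq
    exact Nat.pow_left_injective (by norm_num : (2 : ℕ) ≠ 0) hsq2
  have k3 : 4 * y = X * x := by
    have : (4 * y) * u = (X * x) * u := by
      calc (4 * y) * u = 4 * (y * u) := by ring
        _ = 4 * (x * w) := by rw [k2]
        _ = x * (4 * w) := by ring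
        _ = x * (X * u) := by rw [i1]
        _ = (X * x) * u := by ring
    exact Nat.eq_of_mul_eq_mul_right hu this
  have k4 : F * X = 4 * (X + 2) := by
    have : (F * X) * x = (4 * (X + 2)) * x := by
      calc (F * X) * x = F * (X * x) := by ring
        _ = F * (4 * y) := by rw [k3]
        _ = 4 * (F * y) := by ring
        _ = 4 * ((X + 2) * x) := by rw [k1]
        _ = (4 * (X + 2)) * x := by ring
    exact Nat.eq_of_mul_eq_mul_right hx this
  rcases hF with rfl | rfl
  · omega
  · have hX : X = 4 := by omega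
    subst hX
    have huw : u = w := by omega
    subst huw
    exact ⟨rfl, rfl, g2⟩

theorem card_fixSet_conj [Fintype α] [DecidableEq α] (g t : G) :
    (fixSet α (g * t * g⁻¹)).card = (fixSet α t).card := by
  symm
  apply Finset.card_bij (fun a _ => g • a)
  · intro a ha
    rw [mem_fixSet] at ha ⊢
    rw [mul_smul, mul_smul, inv_smul_smul, ha]
  · intro a _ b _ hab
    exact MulAction.injective g hab
  · intro b hb
    rw [mem_fixSet] at hb
    refine ⟨g⁻¹ • b, ?_, smul_inv_smul g b⟩
    rw [mem_fixSet]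
    have : t • g⁻¹ • b = g⁻¹ • (g * t * g⁻¹) • b := by
      rw [mul_smul, mul_smul, inv_smul_smul]
    rw [this, hb]

theorem card_stabilizer_eq [IsMultiplyPretransitive G α 4] (z z' : Fin 4 ↪ α) :
    Nat.card (stabilizer G z) = Nat.card (stabilizer G z') := by
  obtain ⟨g, hg⟩ := exists_smul_eq G z z'
  apply card_eq_of_conj _ _ g
  · intro x hx
    rw [mem_stabilizer_iff] at hx ⊢
    rw [← hg, mul_smul, mul_smul, inv_smul_smul, hx]
  · intro y hy
    rw [mem_stabilizer_iff] at hy ⊢
    rw [← hg] at hy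
    rw [mul_smul, mul_smul, hy, inv_smul_smul]

/-- an involution fixes at most three points -/
theorem card_fixSet_le_three [Fintype α] [DecidableEq α]
    (hodd : ∀ z : Fin 4 ↪ α, Odd (Nat.card (stabilizer G z)))
    {t : G} (ht : t * t = 1) (ht1 : t ≠ 1) : (fixSet α t).card ≤ 3 := by
  by_contra hcon
  have hk : 4 ≤ (fixSet α t).card := by omega
  obtain ⟨y⟩ : Nonempty (Fin 4 ↪ ↥(fixSet α t)) :=
    Function.Embedding.nonempty_of_card_le (by simpa using hk)
  apply not_fix_four hodd ht ht1 (y.trans (Function.Embedding.subtype _))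
  ext i
  simp only [Function.Embedding.smul_apply, Function.Embedding.trans_apply,
    Function.Embedding.subtype_apply]
  exact mem_fixSet.1 (y i).2

/-- the number of tuples of a given type for an involution -/
theorem card_tuples_mul [Finite G] [IsMultiplyPretransitive G α 4]
    (hodd : ∀ z : Fin 4 ↪ α, Odd (Nat.card (stabilizer G z)))
    {t : G} {σ : Equiv.Perm (Fin 4)} (hσ : σ * σ = 1) {z : Fin 4 ↪ α} (ht : t * t = 1)
    (h : t • z = re σ z) :
    Nat.card {z' : Fin 4 ↪ α // t • z' = re σ z'} *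
        Nat.card ↥(stabilizer G z ⊓ Subgroup.centralizer ({t} : Set G)) =
      Nat.card ↥(Subgroup.centralizer ({t} : Set G)) := by
  have h0 := card_orbit_mul_card_inf (β := Fin 4 ↪ α) (Subgroup.centralizer ({t} : Set G)) z
  rw [← h0]
  congr 1
  symm
  apply Nat.card_congr
  apply Equiv.subtypeEquivRight
  intro q
  rw [mem_orbit_iff]
  constructor
  · rintro ⟨g, rfl⟩
    have hg := Subgroup.mem_centralizer_iff.1 g.2 t rfl
    show t • (g : G) • z = re σ ((g : G) • z)
    rw [← mul_smul, hg, mul_smul, h, smul_re]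
  · intro hq
    obtain ⟨g, hg1, hg2⟩ := exists_conj_pair hodd hσ ht ht h hq
    have hgc : g ∈ Subgroup.centralizer ({t} : Set G) := by
      rw [Subgroup.mem_centralizer_iff]
      intro s hs
      rw [Set.mem_singleton_iff] at hs
      subst hs
      have : g * s * g⁻¹ * g = s * g := by rw [hg1]
      rw [← this]; group
    exact ⟨⟨g, hgc⟩, hg2⟩

/-- the main count: degree at least `8` forces degree `11` -/
theorem main_count [Finite G] [Fintype α] [DecidableEq α] [IsMultiplyPretransitive G α 4]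
    (hodd : ∀ z : Fin 4 ↪ α, Odd (Nat.card (stabilizer G z))) {z0 : Fin 4 ↪ α} (P : EPair G z0)
    (hn : 8 ≤ Fintype.card α) :
    Fintype.card α = 11 ∧ P.Xi.card = 4 ∧ (fixSet α P.e).card = 3 ∧
      (fixSet α (P.e * P.e')).card = 3 ∧
      ∃ x : ℕ, x * x * x =
        Nat.card (stabilizer G z0) * Nat.card ↥(stabilizer G z0 ⊓ P.CE) ^ 2 := by
  have hfM := card_fix_add_card_mov (α := α) P.e
  have hf2 : 2 ≤ (fixSet α P.e).card := by
    have hsub : ({z0 2, z0 3} : Finset α) ⊆ fixSet α P.e := by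
      intro a ha
      simp only [Finset.mem_insert, Finset.mem_singleton] at ha
      rcases ha with rfl | rfl
      · exact mem_fixSet.2 P.e2
      · exact mem_fixSet.2 P.e3
    calc 2 = ({z0 2, z0 3} : Finset α).card := (Finset.card_pair (EPair.z23 z0)).symm
      _ ≤ _ := Finset.card_le_card hsub
  have hf3 := card_fixSet_le_three hodd P.he P.e_ne_one
  have hf3' := card_fixSet_le_three hodd P.hee P.ee_ne_one
  have hclass := P.card_classes
  rw [P.card_P23 hodd, P.card_P01 hodd] at hclass
  have hXpos : 0 < P.Xi.card := by omega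
  obtain ⟨p, hp⟩ := Finset.card_pos.1 hXpos
  -- `e` and `e e'` are conjugate
  obtain ⟨g, hg1, -⟩ := exists_conj_pair hodd rho_sq P.he P.hee (P.e_tup hp) P.hzz
  have hff : (fixSet α (P.e * P.e')).card = (fixSet α P.e).card := by
    rw [← hg1, card_fixSet_conj]
  -- the two tuple counts
  have c1 := card_tuples_mul hodd s01_sq P.he P.hz
  have c2 := card_tuples_mul hodd rho_sq P.he (P.e_tup hp)
  have t1 := card_T1 (α := α) P.e P.he
  have t2 := card_T2 (α := α) P.e P.he
  rw [t1] at c1
  rw [t2] at c2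
  -- Brauer–Wielandt for `E` on the two stabilizers
  have bw1 := bw_four P.he P.he' P.hc P.e_ne_one P.e'_ne_one P.e_ne_e' (stabilizer G z0)
    (hodd z0) (mem_normalizer_stab s01_sq P.he P.hz) (mem_normalizer_stab s23_sq P.he' P.hz')
  have bw2 := bw_four P.he P.he' P.hc P.e_ne_one P.e'_ne_one P.e_ne_e' (stabilizer G (P.tup hp))
    (hodd _) (mem_normalizer_stab rho_sq P.he (P.e_tup hp))
    (mem_normalizer_stab tp_sq P.he' (P.e'_tup hp))
  have y2 : Nat.card ↥(stabilizer G z0 ⊓ Subgroup.centralizer ({P.e'} : Set G)) =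
      Nat.card ↥(stabilizer G z0 ⊓ Subgroup.centralizer ({P.e} : Set G)) :=
    card_stab_cent_eq_re hodd s01_sq s23_tau P.he' P.he P.hz' P.hz
  have y3 : Nat.card ↥(stabilizer G z0 ⊓ Subgroup.centralizer ({P.e * P.e'} : Set G)) =
      Nat.card ↥(stabilizer G (P.tup hp) ⊓ Subgroup.centralizer ({P.e} : Set G)) :=
    card_stab_cent_eq hodd rho_sq P.hee P.he P.hzz (P.e_tup hp)
  have x2 : Nat.card ↥(stabilizer G (P.tup hp) ⊓ Subgroup.centralizer ({P.e'} : Set G)) =
      Nat.card ↥(stabilizer G (P.tup hp) ⊓ Subgroup.centralizer ({P.e} : Set G)) :=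
    card_stab_cent_eq_re hodd rho_sq tp_pi1 P.he' P.he (P.e'_tup hp) (P.e_tup hp)
  have x3 : Nat.card ↥(stabilizer G (P.tup hp) ⊓ Subgroup.centralizer ({P.e * P.e'} : Set G)) =
      Nat.card ↥(stabilizer G (P.tup hp) ⊓ Subgroup.centralizer ({P.e} : Set G)) :=
    card_stab_cent_eq_re hodd rho_sq tau_pi2 P.hee P.he (P.ee_tup hp) (P.e_tup hp)
  rw [y2, y3] at bw1
  rw [x2, x3, card_stabilizer_eq (P.tup hp) z0] at bw2
  have i1 := P.card_CE hodd
  have i2 := P.card_Xi_mul hodd hp
  rw [i1] at i2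
  -- abbreviations
  set f := (fixSet α P.e).card with hf
  set M := (movSet α P.e).card with hM
  set X := P.Xi.card with hX
  set y := Nat.card ↥(stabilizer G z0 ⊓ Subgroup.centralizer ({P.e} : Set G)) with hy
  set x := Nat.card ↥(stabilizer G (P.tup hp) ⊓ Subgroup.centralizer ({P.e} : Set G)) with hx
  set w := Nat.card ↥(stabilizer G z0 ⊓ P.CE) with hw
  set u := Nat.card ↥(stabilizer G (P.tup hp) ⊓ P.CE) with hu
  set h := Nat.card (stabilizer G z0) with hh
  set c := Nat.card ↥(Subgroup.centralizer ({P.e} : Set G)) with hc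
  have hxpos : 0 < x := Nat.card_pos
  have hupos : 0 < u := Nat.card_pos
  have hMX : M = X + 4 := by omega
  have hF : f * f - f = 2 ∨ f * f - f = 6 := by
    have : f = 2 ∨ f = 3 := by omega
    rcases this with h2 | h2 <;> rw [h2]
    · left; rfl
    · right; rfl
  have hM2 : M - 2 = X + 2 := by omega
  rw [hMX] at c1 c2
  rw [show X + 4 - 2 = X + 2 by omega] at c2
  have bw1' : y * y * x = h * w ^ 2 := bw1
  have bw2' : x * x * x = h * u ^ 2 := bw2
  obtain ⟨hF6, hX4, hfin⟩ := arith_core hF hxpos hupos c1 c2 bw1' bw2' i2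
  have hf3v : f = 3 := by
    rcases (show f = 2 ∨ f = 3 by omega) with h2 | h2
    · rw [h2] at hF6; omega
    · exact h2
  refine ⟨by omega, hX4, hf3v, by omega, x, hfin⟩

end Cfsg.Agent.Lib.Helper8.OddFour
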