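/-
helper8 shared library (for S4221): in the degree-11 configuration the subgroup `C_H(E)` fixes
every point, hence is trivial for a faithful action.
-/
import Mathlib
import Cfsg.Agent.Lib.Helper8.OddFourCount

set_option autoImplicit false

namespace Cfsg.Agent.Lib.Helper8.OddFour

open MulAction Cfsg.Agent.Lib.Helper38 Cfsg.Agent.Lib.Helper48
open Cfsg.Agent.S0415 (fixSet movSet mem_fixSet mem_movSet card_fix_add_card_mov card_T1 card_T2
  injective_vec4)

variable {G α : Type*} [Group G] [MulAction G α]

namespace EPair

variable {z0 : Fin 4 ↪ α} (P : EPair G z0)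

/-- an element of odd order of `C(E)` mapping `p` into its `E`-orbit fixes `p` -/
theorem fix_of_smul_eq {g : G} (hg : g ∈ P.CE) (hgo : Odd (orderOf g)) {ε : G}
    (hε : ε ∈ fourSub P.e P.e') {p : α} (h : g • p = ε • p) : g • p = p := by
  by_cases hp : ε • p = p
  · rw [h, hp]
  · exfalso
    have hεε : ε * ε = 1 := by
      rcases (mem_fourSub P.he P.he' P.hc).1 hε with rfl | rfl | rfl | rfl
      · simp
      · exact P.he
      · exact P.he'
      · exact P.hee
    have hcomm : ε * g = g * ε := (Subgroup.mem_centralizer_iff.1 hg) ε hε
    have h2 : g • ε • p = p := by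
      rw [← mul_smul, ← hcomm, mul_smul, h, ← mul_smul, hεε, one_smul]
    exact not_swap_of_odd hgo (Ne.symm hp) h h2

variable [Fintype α] [DecidableEq α]

theorem stab_inf_CE_eq_bot [FaithfulSMul G α]
    (hodd : ∀ z : Fin 4 ↪ α, Odd (Nat.card (stabilizer G z)))
    (hX : P.Xi.card = 4) (hf : (fixSet α P.e).card = 3)
    (hf3 : (fixSet α (P.e * P.e')).card = 3) : stabilizer G z0 ⊓ P.CE = ⊥ := by
  rw [eq_bot_iff]
  intro g hg
  obtain ⟨hg1, hg2⟩ := Subgroup.mem_inf.1 hg
  rw [Subgroup.mem_bot]
  have hgo : Odd (orderOf g) := Odd.of_dvd_nat (hodd z0) (Subgroup.orderOf_dvd_natCard _ hg1)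
  have hgz : ∀ i, g • z0 i = z0 i := by
    intro i
    have := DFunLike.congr_fun (mem_stabilizer_iff.1 hg1) i
    exact this
  have hm : ∀ p : α, (P.e * P.e') • p = P.e • P.e' • p := fun p => mul_smul _ _ _
  -- the common fixed points of `E`
  set F0 : Finset α := (fixSet α P.e).filter (fun p => P.e' • p = p) with hF0
  have hF0card : F0.card = 1 := by
    have h1 := Finset.card_filter_add_card_filter_not (s := fixSet α P.e) (fun p => P.e' • p = p)
    have h2 : (fixSet α P.e).filter (fun p => ¬ P.e' • p = p) = P.P23 := by
      ext p
      simp only [Finset.mem_filter, mem_fixSet, P.mem_P23]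
    rw [h2, P.card_P23 hodd, hf] at h1
    rw [hF0]
    omega
  have hF3card : ((fixSet α (P.e * P.e')).filter (fun p => ¬ P.e • p = p)).card = 2 := by
    have h1 := Finset.card_filter_add_card_filter_not (s := fixSet α (P.e * P.e'))
      (fun p => P.e • p = p)
    have h2 : (fixSet α (P.e * P.e')).filter (fun p => P.e • p = p) = F0 := by
      ext p
      simp only [hF0, Finset.mem_filter, mem_fixSet]
      constructor
      · rintro ⟨h3, h4⟩
        refine ⟨h4, ?_⟩
        rw [hm, P.smul_comm', h4] at h3
        exact h3
      · rintro ⟨h3, h4⟩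
        exact ⟨by rw [hm, h4, h3], h3⟩
    rw [h2, hF0card, hf3] at h1
    omega
  have hall : ∀ p : α, g • p = p := by
    intro p
    by_cases h1 : P.e • p = p
    · by_cases h2 : P.e' • p = p
      · -- common fixed point
        have hp : p ∈ F0 := by
          simp only [hF0, Finset.mem_filter, mem_fixSet]
          exact ⟨h1, h2⟩
        have hgp : g • p ∈ F0 := by
          simp only [hF0, Finset.mem_filter, mem_fixSet]
          exact ⟨by rw [← P.smul_e hg2, h1], by rw [← P.smul_e' hg2, h2]⟩
        exact Finset.card_le_one.1 hF0card.le _ hgp _ hp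
      · have hp : p ∈ P.P23 := P.mem_P23.2 ⟨h1, h2⟩
        rw [P.P23_eq hodd, Finset.mem_insert, Finset.mem_singleton] at hp
        rcases hp with rfl | rfl
        · exact hgz 2
        · exact hgz 3
    · by_cases h2 : P.e' • p = p
      · have hp : p ∈ P.P01 := P.mem_P01.2 ⟨h2, h1⟩
        rw [P.P01_eq hodd, Finset.mem_insert, Finset.mem_singleton] at hp
        rcases hp with rfl | rfl
        · exact hgz 0
        · exact hgz 1
      · by_cases h3 : (P.e * P.e') • p = p
        · -- fixed by `e e'` only
          set T : Finset α := (fixSet α (P.e * P.e')).filter (fun p => ¬ P.e • p = p) with hT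
          have hpT : p ∈ T := by
            simp only [hT, Finset.mem_filter, mem_fixSet]
            exact ⟨h3, h1⟩
          have hepT : P.e • p ∈ T := by
            simp only [hT, Finset.mem_filter, mem_fixSet]
            have he'p : P.e' • p = P.e • p := by
              have h4 := h3
              rw [hm] at h4
              have h5 := congrArg (fun q => P.e • q) h4
              simp only [P.ee_smul] at h5
              exact h5
            refine ⟨?_, ?_⟩
            · rw [hm, P.smul_comm', P.ee_smul, he'p]
            · rw [P.ee_smul]; exact Ne.symm h1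
          have hgpT : g • p ∈ T := by
            simp only [hT, Finset.mem_filter, mem_fixSet]
            refine ⟨?_, ?_⟩
            · rw [hm, ← P.smul_e' hg2, ← P.smul_e hg2, ← hm, h3]
            · rw [← P.smul_e hg2]
              exact fun h => h1 (MulAction.injective g h)
          have hsub : ({p, P.e • p} : Finset α) ⊆ T := by
            intro a ha
            rw [Finset.mem_insert, Finset.mem_singleton] at ha
            rcases ha with rfl | rfl
            · exact hpT
            · exact hepT
          have hpair : ({p, P.e • p} : Finset α).card = 2 := Finset.card_pair (Ne.symm h1)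
          have heq : ({p, P.e • p} : Finset α) = T :=
            Finset.eq_of_subset_of_card_le hsub (by rw [hF3card, hpair])
          rw [← heq, Finset.mem_insert, Finset.mem_singleton] at hgpT
          rcases hgpT with h | h
          · exact h
          · exact P.fix_of_smul_eq hg2 hgo (left_mem_fourSub _ _) h
        · -- regular orbit
          have hp : p ∈ P.Xi := P.mem_Xi.2 ⟨h1, h2, h3⟩
          have hsub : Finset.univ.image (P.tup hp) ⊆ P.Xi := by
            intro a ha
            rw [Finset.mem_image] at ha
            obtain ⟨i, -, rfl⟩ := ha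
            fin_cases i
            · exact hp
            · exact P.smul_mem_Xi P.e_mem_CE hp
            · exact P.smul_mem_Xi (Subgroup.mul_mem _ P.e_mem_CE P.e'_mem_CE) hp
            · exact P.smul_mem_Xi P.e'_mem_CE hp
          have hcard : (Finset.univ.image (P.tup hp)).card = 4 := by
            rw [Finset.card_image_of_injective _ (P.tup hp).injective, Finset.card_univ,
              Fintype.card_fin]
          have heq : Finset.univ.image (P.tup hp) = P.Xi :=
            Finset.eq_of_subset_of_card_le hsub (by rw [hX, hcard])
          have hgp : g • p ∈ P.Xi := P.smul_mem_Xi hg2 hp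
          rw [← heq, Finset.mem_image] at hgp
          obtain ⟨i, -, hi⟩ := hgp
          fin_cases i
          · exact hi.symm
          · exact P.fix_of_smul_eq hg2 hgo (left_mem_fourSub _ _) hi.symm
          · exact P.fix_of_smul_eq hg2 hgo
              (Subgroup.mul_mem _ (left_mem_fourSub _ _) (right_mem_fourSub _ _)) hi.symm
          · exact P.fix_of_smul_eq hg2 hgo (right_mem_fourSub _ _) hi.symm
  apply FaithfulSMul.eq_of_smul_eq_smul (α := α)
  intro a
  rw [hall a, one_smul]

end EPair

end Cfsg.Agent.Lib.Helper8.OddFour
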