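import Mathlib
import Cfsg.Agent.Lib.Helper8.CoTwoCentKerDefs

/-!
# Monomial elements fixing the octad pointwise lie in the kernel of `phi` (for S2136)
-/

set_option autoImplicit false

namespace Cfsg.Agent.Lib.Helper8.CoTwoCent
open Cfsg Cfsg.Spor Cfsg.Agent.Lib.Helper7 Cfsg.Agent.Lib.Helper8

theorem symm_fix_of_fix {σ : Equiv.Perm GolayPt} (h : ∀ p ∈ oct, σ p = p) :
    ∀ p ∈ oct, σ.symm p = p := by
  intro p hp
  rw [Equiv.symm_apply_eq, h p hp]

theorem symm_mem_oct_iff {σ : Equiv.Perm GolayPt} (h : ∀ p ∈ oct, σ p = p) (i : GolayPt) :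
    σ.symm i ∈ oct ↔ i ∈ oct := by
  constructor
  · intro hi
    have := h _ hi
    rw [Equiv.apply_symm_apply] at this
    rw [this]
    exact hi
  · intro hi
    rw [symm_fix_of_fix h i hi]
    exact hi

theorem signedPerm_of_suppO {σ : Equiv.Perm GolayPt} {c : Finset GolayPt}
    (h : ∀ p ∈ oct, σ p = p) (hc : Disjoint c oct) {x : GolayPt → ℤ} (hx : SuppO x) :
    signedPerm σ c x = x := by
  funext i
  unfold signedPerm
  by_cases hi : i ∈ oct
  · rw [symm_fix_of_fix h i hi, if_neg (fun hic => Finset.disjoint_left.1 hc hic hi)]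
  · have h1 : σ.symm i ∉ oct := fun h' => hi ((symm_mem_oct_iff h i).1 h')
    rw [hx _ h1, hx i hi]
    split_ifs <;> rfl

theorem mem_CSub_of_mem_PMono' (g : Co0) (hg : g ∈ PMono) : g ∈ CSub ∧ phiMat g = 1 := by
  obtain ⟨σ, hσ, c, hc, hfix, hdisj, rfl⟩ := hg
  have hfix' : ∀ p ∈ oct, σ p = p := hfix
  have hdisj' : Disjoint c oct := hdisj
  have hact : ∀ v : leechLattice, SuppO (v : GolayPt → ℤ) → monoCo0 σ hσ c hc • v = v := by
    intro v hv
    apply Subtype.ext
    rw [monoCo0_apply]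
    exact signedPerm_of_suppO hfix' hdisj' hv
  refine ⟨mem_CSub.2 ⟨hact leechU suppO_vecU, ?_⟩, ?_⟩
  · apply Subtype.ext
    apply Equiv.ext
    intro v
    apply Subtype.ext
    show ((monoCo0 σ hσ c hc • (tCo0 • v) : leechLattice) : GolayPt → ℤ)
      = ((tCo0 • (monoCo0 σ hσ c hc • v) : leechLattice) : GolayPt → ℤ)
    rw [monoCo0_apply]
    show signedPerm σ c (signFun octC v.1) = signFun octC ((monoCo0 σ hσ c hc • v : leechLattice) : GolayPt → ℤ)
    rw [monoCo0_apply]
    funext i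
    unfold signedPerm signFun
    have hiff : σ.symm i ∈ octC ↔ i ∈ octC := by
      rw [mem_octC_iff, mem_octC_iff, symm_mem_oct_iff hfix']
    by_cases hi : i ∈ octC
    · rw [if_pos (hiff.2 hi), if_pos hi]
      by_cases hic : i ∈ c
      · simp only [if_pos hic]
      · simp only [if_neg hic]
    · rw [if_neg (fun h' => hi (hiff.1 h')), if_neg hi]
  · funext i j
    show cf i ((monoCo0 σ hσ c hc • W j : leechLattice) : GolayPt → ℤ) = _
    rw [hact (W j) (suppO_Wv j)]
    show cf i (Wv j) = _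
    rw [cf_Wv, Matrix.one_apply]

end Cfsg.Agent.Lib.Helper8.CoTwoCent
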