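import Mathlib
import Cfsg.Agent.Lib.Helper8.CoTwoCentKerDefs
import Cfsg.Agent.Lib.Helper47.Basic
import Cfsg.Agent.Lib.Helper9.ESCrit
import Cfsg.Prelude.Def_CaseTheorems
import Cfsg.Prelude.Def_Transfer

/-!
# Assembly for S2136: from `phi : CSub →* Sp_6(2)` (surjective, kernel `2^{1+8}`) to the statement
-/

set_option autoImplicit false

namespace Cfsg.Agent.Lib.Helper8.CoTwoCent
open Cfsg Cfsg.Spor Cfsg.Agent.Lib.Helper7 Cfsg.Agent.Lib.Helper8

/-- extraspecial groups transport along isomorphisms -/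
theorem isExtraspecial_of_mulEquiv {P Q : Type*} [Group P] [Group Q] (e : P ≃* Q) {p : ℕ}
    (h : Cfsg.IsExtraspecial p P) : Cfsg.IsExtraspecial p Q := by
  obtain ⟨⟨hP, hfr, hco⟩, hcard⟩ := h
  have hmemc : ∀ x : P, e x ∈ Subgroup.center Q ↔ x ∈ Subgroup.center P :=
    fun x => Cfsg.Agent.Lib.Helper9.map_mem_center_iff e x
  have hfr' : ∀ x : P, e x ∈ frattini Q ↔ x ∈ frattini P := by
    intro x
    constructor
    · intro hx
      have := frattini_le_comap_frattini_of_surjective (φ := e.symm.toMonoidHom)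
        e.symm.surjective hx
      simpa using this
    · intro hx
      exact frattini_le_comap_frattini_of_surjective (φ := e.toMonoidHom) e.surjective hx
  refine ⟨⟨hP.of_equiv e, ?_, ?_⟩, ?_⟩
  · ext y
    obtain ⟨x, rfl⟩ := e.surjective y
    rw [hfr', hmemc, hfr]
  · have h1 : commutator Q = (commutator P).map e.toMonoidHom := by
      rw [commutator_def, commutator_def, Subgroup.map_commutator,
        Subgroup.map_top_of_surjective _ e.surjective]
    ext y
    obtain ⟨x, rfl⟩ := e.surjective y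
    rw [h1, hmemc, ← hco]
    constructor
    · rintro ⟨x', hx', hxx⟩
      have : x' = x := e.injective hxx
      rwa [← this]
    · intro hx
      exact ⟨x, hx, rfl⟩
  · rw [← Nat.card_congr (Subgroup.centerCongr e).toEquiv, hcard]

/-- the `p`-core is the kernel of a surjection onto a group without normal `p`-subgroups,
when that kernel is a `p`-group -/
theorem pCore_eq_ker {C S : Type*} [Group C] [Group S] (p : ℕ) [Fact p.Prime] (φ : C →* S)
    (hφ : Function.Surjective φ) (hker : IsPGroup p φ.ker)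
    (hS : ∀ N : Subgroup S, N.Normal → IsPGroup p N → N = ⊥) : Cfsg.pCore p C = φ.ker := by
  apply le_antisymm
  · have hn : (Cfsg.pCore p C).Normal := by
      unfold Cfsg.pCore
      exact Subgroup.sSup_normal _ (fun N hN => hN.1)
    have h1 : ((Cfsg.pCore p C).map φ).Normal := hn.map φ hφ
    have h2 : IsPGroup p ((Cfsg.pCore p C).map φ) :=
      (Cfsg.Agent.Lib.Helper47.pCore_isPGroup p C).map φ
    have h3 := hS _ h1 h2
    intro x hx
    rw [MonoidHom.mem_ker]
    have : φ x ∈ (Cfsg.pCore p C).map φ := Subgroup.mem_map_of_mem φ hx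
    rw [h3] at this
    exact Subgroup.mem_bot.1 this
  · exact Cfsg.Agent.Lib.Helper47.le_pCore (MonoidHom.normal_ker φ) hker

/-- the centraliser of the involution in `Co2` -/
abbrev Cent : Type := ↥(Subgroup.centralizer ({tCo2} : Set ↥Co2))

theorem cent_mem_Co0 (g : Cent) : g.1.1 ∈ Co0 := (Subgroup.mem_inf.1 g.1.2).1

theorem cent_fix (g : Cent) : g.1.1 leechU = leechU := by
  have := (Subgroup.mem_inf.1 g.1.2).2
  rw [MulAction.mem_stabilizer_iff] at this
  exact this

theorem cent_comm (g : Cent) : g.1.1 * tPerm = tPerm * g.1.1 := by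
  have := Subgroup.mem_centralizer_singleton_iff.1 g.2
  exact congrArg Subtype.val this

/-- the isomorphism with `CSub` -/
def centEquiv : Cent ≃* CSub where
  toFun g := ⟨⟨g.1.1, cent_mem_Co0 g⟩, mem_CSub.2 ⟨Subtype.ext (by
      show ((g.1.1 leechU : leechLattice) : GolayPt → ℤ) = _
      rw [cent_fix]), Subtype.ext (cent_comm g)⟩⟩
  invFun h := ⟨⟨h.1.1, Subgroup.mem_inf.2 ⟨h.1.2, by
      rw [MulAction.mem_stabilizer_iff]
      exact (mem_CSub.1 h.2).1⟩⟩, Subgroup.mem_centralizer_singleton_iff.2 (Subtype.ext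
        (congrArg (fun x : Co0 => (x : Equiv.Perm leechLattice)) (mem_CSub.1 h.2).2))⟩
  left_inv g := rfl
  right_inv h := rfl
  map_mul' g h := rfl

/-- the assembly: from the facts about `phi` to the statement -/
theorem main_of (hsurj : Function.Surjective phi)
    (hker : ∀ g : CSub, phi g = 1 ↔ (g : Co0) ∈ PMono)
    (hsub : ∀ g : Co0, g ∈ PMono → g ∈ CSub)
    (hP : ∃ P : Subgroup Co0, (P : Set Co0) = PMono ∧ Nat.card P = 2 ^ 9 ∧
      Cfsg.IsExtraspecial 2 P)
    (hS : ∀ N : Subgroup (Matrix.symplecticGroup (Fin 3) (ZMod 2)), N.Normal → IsPGroup 2 N →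
      N = ⊥) :
    ∃ t : ↥Cfsg.Spor.Co2, orderOf t = 2 ∧
      Cfsg.IsExtraspecial 2 (Cfsg.pCore 2 ↥(Subgroup.centralizer ({t} : Set ↥Cfsg.Spor.Co2))) ∧
      Nat.card (Cfsg.pCore 2 ↥(Subgroup.centralizer ({t} : Set ↥Cfsg.Spor.Co2))) = 2 ^ 9 ∧
      Nonempty (↥(Subgroup.centralizer ({t} : Set ↥Cfsg.Spor.Co2)) ⧸
        Cfsg.pCore 2 ↥(Subgroup.centralizer ({t} : Set ↥Cfsg.Spor.Co2)) ≃*
          Matrix.symplecticGroup (Fin 3) (ZMod 2)) := by
  haveI : Fact (Nat.Prime 2) := ⟨Nat.prime_two⟩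
  obtain ⟨P, hPset, hPcard, hPes⟩ := hP
  have hmemP : ∀ g : Co0, g ∈ P ↔ g ∈ PMono := by
    intro g
    rw [← hPset]
    rfl
  -- the homomorphism on the centraliser
  let φ' : Cent →* Matrix.symplecticGroup (Fin 3) (ZMod 2) := phi.comp centEquiv.toMonoidHom
  have hφ' : Function.Surjective φ' := hsurj.comp centEquiv.surjective
  -- its kernel is isomorphic to `P`
  let e : φ'.ker ≃* P :=
    { toFun := fun k => ⟨(centEquiv k.1).1, (hmemP _).2 ((hker _).1 (MonoidHom.mem_ker.1 k.2))⟩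
      invFun := fun q => ⟨centEquiv.symm ⟨q.1, hsub q.1 ((hmemP _).1 q.2)⟩, by
        rw [MonoidHom.mem_ker]
        show phi (centEquiv (centEquiv.symm _)) = 1
        rw [MulEquiv.apply_symm_apply]
        exact (hker _).2 ((hmemP _).1 q.2)⟩
      left_inv := fun k => by
        apply Subtype.ext
        show centEquiv.symm ⟨(centEquiv k.1).1, _⟩ = k.1
        exact centEquiv.symm_apply_apply k.1
      right_inv := fun q => by
        apply Subtype.ext
        show (centEquiv (centEquiv.symm ⟨q.1, _⟩)).1 = q.1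
        rw [MulEquiv.apply_symm_apply]
      map_mul' := fun k k' => rfl }
  have hKes : Cfsg.IsExtraspecial 2 φ'.ker := isExtraspecial_of_mulEquiv e.symm hPes
  have hKcard : Nat.card φ'.ker = 2 ^ 9 := by rw [Nat.card_congr e.toEquiv, hPcard]
  have hKp : IsPGroup 2 φ'.ker := IsPGroup.of_card hKcard
  have hcore : Cfsg.pCore 2 Cent = φ'.ker := pCore_eq_ker 2 φ' hφ' hKp hS
  refine ⟨tCo2, orderOf_tCo2, ?_, ?_, ?_⟩
  · show Cfsg.IsExtraspecial 2 (Cfsg.pCore 2 Cent)
    rw [hcore]
    exact hKes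
  · show Nat.card (Cfsg.pCore 2 Cent) = 2 ^ 9
    rw [hcore]
    exact hKcard
  · exact ⟨(QuotientGroup.quotientMulEquivOfEq hcore).trans
      (QuotientGroup.quotientKerEquivOfSurjective φ' hφ')⟩

end Cfsg.Agent.Lib.Helper8.CoTwoCent
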