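import Mathlib
import Cfsg.Agent.Lib.Helper8.CoTwoCentKerDefs
import Cfsg.Agent.Lib.Helper1.Sp6Gen

/-!
# Surjectivity of `phi : CSub →* Sp_6(2)` (for S2136)

Four explicit elements of `CSub`: three sign changes and one conjugate `ξ (ε_D π) ξ` of a monomial
element by the extra automorphism; their matrices generate `Sp_6(2)` (`Helper1.Sp6Gen`).
-/

set_option autoImplicit false

namespace Cfsg.Agent.Lib.Helper8.CoTwoCent
open Cfsg Cfsg.Spor Cfsg.Agent.Lib.Helper7 Cfsg.Agent.Lib.Helper8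

/-! ### Evaluation of coordinate permutations through tables -/

/-- the list of coordinates of a vector -/
def toL (x : GolayPt → ℤ) : List ℤ := (List.range 24).map fun i => x (pt i)

theorem getD_map_range (f : ℕ → ℤ) {i : ℕ} (hi : i < 24) :
    ((List.range 24).map f).getD i 0 = f i := by
  rw [List.getD_eq_getElem _ _ (by simpa using hi)]
  simp

theorem vecL_toL (x : GolayPt → ℤ) : vecL (toL x) = x := by
  funext p
  unfold vecL toL
  rw [getD_map_range _ (idx_lt p), pt_idx]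

/-- permuting a coordinate list by a table -/
def permL (t : List ℕ) (l : List ℤ) : List ℤ :=
  (List.range 24).map fun i => l.getD (t.getD i 0) 0

theorem coordFun_vecL {σ : Equiv.Perm GolayPt} {t : List ℕ} (h : Matches σ t) (l : List ℤ) :
    coordFun σ (vecL l) = vecL (permL t l) := by
  funext p
  unfold coordFun vecL permL
  rw [getD_map_range _ (idx_lt p), h p]

theorem coordFun_eq {σ : Equiv.Perm GolayPt} {t : List ℕ} (h : Matches σ t) (x : GolayPt → ℤ) :
    coordFun σ x = vecL (permL t (toL x)) := by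
  rw [← coordFun_vecL h, vecL_toL]

/-! ### Commutation with the involution -/

theorem signFun_comm (c d : Finset GolayPt) (x : GolayPt → ℤ) :
    signFun c (signFun d x) = signFun d (signFun c x) := by
  funext i
  unfold signFun
  split_ifs <;> rfl

theorem signPerm_comm_tPerm (c : Finset GolayPt)
    (hc : c ∈ supports (golayCode : Set (GolayPt → ZMod 2))) :
    signPerm c hc * tPerm = tPerm * signPerm c hc := by
  apply Equiv.ext
  intro v
  apply Subtype.ext
  exact signFun_comm c octC v.1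

theorem mem_octC_iff_tet : ∀ j : GolayPt, j ∈ octC ↔ 2 ≤ tet j := by decide

theorem tetSum_signFun_octC (x : GolayPt → ℤ) (t : ℕ) :
    tetSum (signFun octC x) t = if 2 ≤ t then - tetSum x t else tetSum x t := by
  unfold tetSum
  split_ifs with ht
  · rw [← Finset.sum_neg_distrib]
    apply Finset.sum_congr rfl
    intro j hj
    have hjt : tet j = t := (Finset.mem_filter.1 hj).2
    unfold signFun
    rw [if_pos ((mem_octC_iff_tet j).2 (by rw [hjt]; exact ht))]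
  · apply Finset.sum_congr rfl
    intro j hj
    have hjt : tet j = t := (Finset.mem_filter.1 hj).2
    unfold signFun
    rw [if_neg (fun h => ht (by rw [← hjt]; exact (mem_octC_iff_tet j).1 h))]

theorem xiFun_signFun_octC {x : GolayPt → ℤ} (hx : EvenT x) :
    xiFun (signFun octC x) = signFun octC (xiFun x) := by
  funext i
  unfold xiFun
  rw [tetSum_signFun_octC]
  by_cases hi : i ∈ octC
  · have h2 := (mem_octC_iff_tet i).1 hi
    simp only [signFun, if_pos hi, if_pos h2]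
    have := hx (tet i)
    have e : (- tetSum x (tet i)) / 2 = - (tetSum x (tet i) / 2) := by omega
    rw [e]
    ring
  · have h2 : ¬ 2 ≤ tet i := fun h => hi ((mem_octC_iff_tet i).2 h)
    simp only [signFun, if_neg hi, if_neg h2]

theorem xiPerm_comm_tPerm : xiPerm * tPerm = tPerm * xiPerm := by
  apply Equiv.ext
  intro v
  apply Subtype.ext
  exact xiFun_signFun_octC (evenT_of_mem v.2)

theorem coordPerm_comm_tPerm (σ : Equiv.Perm GolayPt) (hσ : σ ∈ M24)
    (h : ∀ i, σ i ∈ octC ↔ i ∈ octC) : coordPerm σ hσ * tPerm = tPerm * coordPerm σ hσ := by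
  apply Equiv.ext
  intro v
  apply Subtype.ext
  funext i
  show signFun octC v.1 (σ i) = signFun octC (coordFun σ v.1) i
  unfold signFun coordFun
  by_cases hi : i ∈ octC
  · rw [if_pos ((h i).2 hi), if_pos hi]
  · rw [if_neg (fun h' => hi ((h i).1 h')), if_neg hi]

/-! ### The sign elements -/

theorem mask_mem (m : ℕ) (hm : m < 2 ^ 24) (h : Cfsg.Agent.Lib.Helper26.isCode m = true) :
    setOf m ∈ supports (golayCode : Set (GolayPt → ZMod 2)) :=
  (Cfsg.Agent.Lib.Helper26.setOf_mem_supports_iff hm).2 h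

/-- the sign change on the code word with mask `m`, as an element of `Co0` -/
def sgnElt (m : ℕ) (hm : m < 2 ^ 24) (h : Cfsg.Agent.Lib.Helper26.isCode m = true) : Co0 :=
  ⟨signPerm (setOf m) (mask_mem m hm h), signPerm_mem _ _⟩

theorem sgnElt_smul (m : ℕ) (hm : m < 2 ^ 24) (h : Cfsg.Agent.Lib.Helper26.isCode m = true)
    (v : leechLattice) :
    ((sgnElt m hm h • v : leechLattice) : GolayPt → ℤ) = signFun (setOf m) v.1 := rfl

theorem sgnElt_mem (m : ℕ) (hm : m < 2 ^ 24) (h : Cfsg.Agent.Lib.Helper26.isCode m = true)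
    (hU : signFun (setOf m) vecU = vecU) : sgnElt m hm h ∈ CSub := by
  rw [mem_CSub]
  refine ⟨Subtype.ext ?_, Subtype.ext (signPerm_comm_tPerm (setOf m) (mask_mem m hm h))⟩
  rw [sgnElt_smul]
  exact hU

def s0 : Co0 := sgnElt 0x32e07e (by decide) (by decide)
def s1 : Co0 := sgnElt 0x27c00a (by decide) (by decide)
def s2 : Co0 := sgnElt 0x4f8014 (by decide) (by decide)

theorem s0_mem : s0 ∈ CSub := sgnElt_mem _ _ _ (by decide)
theorem s1_mem : s1 ∈ CSub := sgnElt_mem _ _ _ (by decide)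
theorem s2_mem : s2 ∈ CSub := sgnElt_mem _ _ _ (by decide)

theorem phiMat_s0 : phiMat s0 = Cfsg.Agent.Lib.Helper1.Sp6Gen.matOfList
    [[1,0,0,0,0,0],[0,1,0,0,0,0],[0,0,1,0,0,1],[0,0,0,1,0,0],[0,0,0,0,1,0],[0,0,0,0,0,1]] := by
  funext i j
  show cf i (signFun (setOf 0x32e07e) (Wv j)) = _
  revert i j
  unfold Cfsg.Agent.Lib.Helper1.Sp6Gen.matOfList
  decide +kernel

theorem phiMat_s1 : phiMat s1 = Cfsg.Agent.Lib.Helper1.Sp6Gen.matOfList
    [[1,0,0,0,0,1],[0,1,0,0,0,0],[1,1,1,1,0,0],[0,0,0,1,0,1],[0,0,0,0,1,1],[0,0,0,0,0,1]] := by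
  funext i j
  show cf i (signFun (setOf 0x27c00a) (Wv j)) = _
  revert i j
  unfold Cfsg.Agent.Lib.Helper1.Sp6Gen.matOfList
  decide +kernel

theorem phiMat_s2 : phiMat s2 = Cfsg.Agent.Lib.Helper1.Sp6Gen.matOfList
    [[1,0,0,0,0,1],[0,1,0,0,0,1],[1,0,1,1,1,1],[0,0,0,1,0,1],[0,0,0,0,1,0],[0,0,0,0,0,1]] := by
  funext i j
  show cf i (signFun (setOf 0x4f8014) (Wv j)) = _
  revert i j
  unfold Cfsg.Agent.Lib.Helper1.Sp6Gen.matOfList
  decide +kernel

/-! ### The element `ξ (ε_D π) ξ` -/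

/-- the permutation `π` (a chain element of `M24`) -/
noncomputable def sig : Equiv.Perm GolayPt := uP 3 14

theorem sig_mem : sig ∈ M24 := uP_mem_M24 3 14

/-- its table -/
def sigT : List ℕ :=
  [0, 1, 17, 14, 6, 3, 18, 13, 10, 20, 21, 11, 22, 4, 2, 8, 12, 5, 7, 15, 16, 19, 9, 23]

theorem uT_eq : uT 3 14 = sigT := by decide +kernel

theorem sig_matches : Matches sig sigT := by
  have := matches_uP 3 14
  rwa [uT_eq] at this

theorem sig_octC (i : GolayPt) : sig i ∈ octC ↔ i ∈ octC := by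
  have h : ∀ n < 24, (allMask ^^^ octO).testBit (sigT.getD n 0) = (allMask ^^^ octO).testBit n := by
    decide
  unfold octC
  rw [mem_setOf, mem_setOf, sig_matches i, h _ (idx_lt i)]

theorem maskD_mem : setOf 0x527c ∈ supports (golayCode : Set (GolayPt → ZMod 2)) :=
  mask_mem 0x527c (by decide) (by decide)

/-- the element `ξ (ε_D π) ξ` of `Co0` -/
noncomputable def x1 : Co0 :=
  ⟨xiPerm * (signPerm (setOf 0x527c) maskD_mem * coordPerm sig sig_mem) * xiPerm,
    Co0.mul_mem (Co0.mul_mem xiPerm_mem (Co0.mul_mem (signPerm_mem _ _) (coordPerm_mem _ _)))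
      xiPerm_mem⟩

theorem x1_smul (v : leechLattice) : ((x1 • v : leechLattice) : GolayPt → ℤ) =
    xiFun (signFun (setOf 0x527c) (vecL (permL sigT (toL (xiFun v.1))))) := by
  rw [← coordFun_eq sig_matches]
  rfl

/-- `ξ v` -/
def vpL : List ℤ :=
  [2, 2, 2, 2, 0, -2, 0, 0, 0, 0, 0, 0, 0, 0, -2, 0, 0, -2, 0, 0, 0, 0, 0, -2]

theorem toL_xi_vecU : toL (xiFun vecU) = vpL := by decide +kernel

theorem xi_vpL : xiFun (signFun (setOf 0x527c) (vecL (permL sigT vpL))) = vecU := by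
  decide +kernel

theorem x1_mem : x1 ∈ CSub := by
  rw [mem_CSub]
  constructor
  · apply Subtype.ext
    rw [x1_smul]
    show xiFun (signFun (setOf 0x527c) (vecL (permL sigT (toL (xiFun vecU))))) = vecU
    rw [toL_xi_vecU, xi_vpL]
  · apply Subtype.ext
    show xiPerm * (signPerm (setOf 0x527c) maskD_mem * coordPerm sig sig_mem) * xiPerm * tPerm
      = tPerm * (xiPerm * (signPerm (setOf 0x527c) maskD_mem * coordPerm sig sig_mem) * xiPerm)
    have h1 : Commute xiPerm tPerm := xiPerm_comm_tPerm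
    have h2 : Commute (signPerm (setOf 0x527c) maskD_mem) tPerm := signPerm_comm_tPerm _ _
    have h3 : Commute (coordPerm sig sig_mem) tPerm := coordPerm_comm_tPerm sig sig_mem sig_octC
    exact ((h1.mul_left (h2.mul_left h3)).mul_left h1).eq

/-- the images `ξ W_j` -/
def AList : List (List ℤ) :=
  [[0, -4, 4, 0, 0, 0, 0, 0, 0, 0, 0, 0, 0, 0, 0, 0, 0, 0, 0, 0, 0, 0, 0, 0],
   [0, 0, 0, 0, 0, 4, 0, 0, 0, 0, 0, 0, 0, 0, -4, 0, 0, 0, 0, 0, 0, 0, 0, 0],
   [-2, 2, 2, 2, 0, 2, 0, 0, 0, 0, 0, 0, 0, 0, 2, 0, 0, 2, 0, 0, 0, 0, 0, -2],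
   [0, 0, -4, 4, 0, 0, 0, 0, 0, 0, 0, 0, 0, 0, 0, 0, 0, 0, 0, 0, 0, 0, 0, 0],
   [0, 0, 0, 0, 0, 0, 0, 0, 0, 0, 0, 0, 0, 0, 4, 0, 0, -4, 0, 0, 0, 0, 0, 0],
   [-4, 0, 0, 0, 0, 0, 0, 0, 0, 0, 0, 0, 0, 0, 0, 0, 0, 0, 0, 0, 0, 0, 0, -4]]

theorem toL_xi_Wv : ∀ j : Fin 3 ⊕ Fin 3, toL (xiFun (Wv j)) = AList.getD (sidx j) [] := by
  decide +kernel

theorem phiMat_x1_aux : ∀ i j : Fin 3 ⊕ Fin 3,
    cf i (xiFun (signFun (setOf 0x527c) (vecL (permL sigT (AList.getD (sidx j) []))))) =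
      (((([[0,1,0,0,0,0],[1,1,1,1,0,0],[0,0,1,0,0,0],[1,0,1,0,1,0],[1,0,0,0,0,0],[1,1,0,0,0,1]] :
        List (List ℕ)).getD (Cfsg.Agent.Lib.Helper1.Sp6Gen.sidx i) []).getD
          (Cfsg.Agent.Lib.Helper1.Sp6Gen.sidx j) 0 : ℕ) : ZMod 2) := by
  decide +kernel

theorem phiMat_x1 : phiMat x1 = Cfsg.Agent.Lib.Helper1.Sp6Gen.matOfList
    [[0,1,0,0,0,0],[1,1,1,1,0,0],[0,0,1,0,0,0],[1,0,1,0,1,0],[1,0,0,0,0,0],[1,1,0,0,0,1]] := by
  funext i j
  show cf i ((x1 • W j : leechLattice) : GolayPt → ℤ) = _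
  rw [x1_smul]
  show cf i (xiFun (signFun (setOf 0x527c) (vecL (permL sigT (toL (xiFun (Wv j))))))) = _
  rw [toL_xi_Wv, phiMat_x1_aux]
  rfl

/-! ### Surjectivity -/

theorem phi_surjective : Function.Surjective phi := by
  rw [← MonoidHom.range_eq_top]
  apply Cfsg.Agent.Lib.Helper1.Sp6Gen.sp6_gen_top phi.range
    (phi ⟨s0, s0_mem⟩) (phi ⟨s1, s1_mem⟩) (phi ⟨s2, s2_mem⟩) (phi ⟨x1, x1_mem⟩)
    ⟨_, rfl⟩ ⟨_, rfl⟩ ⟨_, rfl⟩ ⟨_, rfl⟩
  · exact phiMat_s0
  · exact phiMat_s1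
  · exact phiMat_s2
  · exact phiMat_x1

end Cfsg.Agent.Lib.Helper8.CoTwoCent
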