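import Mathlib

/-!
# A simplicity criterion via a self-centralising Sylow subgroup of prime order

`G` finite, `P ≤ G` of prime order `r` with `r² ∤ |G|`, `C_G(P) = P`, `|N_G(P)|` dividing `r * d`,
`P ≤ M` with `M` simple of index prime to `d`, `K` a second simple subgroup; if every number
dividing both indices (and prime to `r`) divides `c`, groups of order dividing `c` are solvable,
and no prime power dividing `c` is `≡ 1 (mod r)`, then `G` is simple.
-/

set_option autoImplicit false

namespace Cfsg.Agent.Lib.Helper8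
open Subgroup

section
variable {G : Type*} [Group G] [Finite G]

theorem card_dvd_index_of_inf_eq_bot (N M : Subgroup G) [N.Normal] (h : N ⊓ M = ⊥) :
    Nat.card N ∣ M.index := by
  have h1 : N.relIndex M = Nat.card M := by
    rw [← inf_relIndex_right, h, relIndex_bot_left]
  have h2 : N.relIndex M ∣ N.index := relIndex_dvd_index_of_normal (H := N) (K := M)
  rw [h1] at h2
  obtain ⟨j, hj⟩ := h2
  have h3 := N.card_mul_index
  have h4 := M.card_mul_index
  rw [hj] at h3
  have hpos : 0 < Nat.card M := Nat.card_pos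
  refine ⟨j, ?_⟩
  have : Nat.card M * (Nat.card N * j) = Nat.card M * M.index := by
    rw [h4, ← h3]; ring
  exact (Nat.eq_of_mul_eq_mul_left hpos this).symm

theorem mem_normal_of_prime_order (N : Subgroup G) [N.Normal] (r : ℕ) [Fact r.Prime]
    (hr : ¬ r ^ 2 ∣ Nat.card G) (hN : r ∣ Nat.card N) {x : G} (hx : x ^ r = 1) : x ∈ N := by
  have hidx : ¬ r ∣ N.index := by
    intro h
    apply hr
    rw [← N.card_mul_index, pow_two]
    exact Nat.mul_dvd_mul hN h
  rw [← QuotientGroup.eq_one_iff]
  have h1 : orderOf (x : G ⧸ N) ∣ r := by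
    apply orderOf_dvd_of_pow_eq_one
    rw [← QuotientGroup.mk_pow, hx, QuotientGroup.mk_one]
  have h2 : orderOf (x : G ⧸ N) ∣ N.index := by
    rw [Subgroup.index_eq_card]
    exact orderOf_dvd_natCard _
  rcases (Nat.dvd_prime (Fact.out : r.Prime)).1 h1 with h | h
  · exact orderOf_eq_one_iff.1 h
  · rw [h] at h2; exact absurd h2 hidx

theorem factorization_eq_one_of (n r : ℕ) (hr : r.Prime) (hn : n ≠ 0) (h1 : r ∣ n)
    (h2 : ¬ r ^ 2 ∣ n) : n.factorization r = 1 := by
  have a : 1 ≤ n.factorization r := by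
    rw [← hr.pow_dvd_iff_le_factorization hn, pow_one]; exact h1
  have b : ¬ 2 ≤ n.factorization r := by
    rw [← hr.pow_dvd_iff_le_factorization hn]; exact h2
  omega

/-- **Case 1**: a normal subgroup of order divisible by `r` is everything. -/
theorem eq_top_of_prime_dvd (r d : ℕ) [Fact r.Prime] (P M N : Subgroup G) [N.Normal]
    (hP : Nat.card P = r) (hr : ¬ r ^ 2 ∣ Nat.card G)
    (hN : Nat.card (normalizer (P : Set G)) ∣ r * d)
    (hPM : P ≤ M) [IsSimpleGroup M] (hMd : Nat.Coprime M.index d)
    (hrN : r ∣ Nat.card N) : N = ⊤ := by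
  have hrp : r.Prime := Fact.out
  have hPN : P ≤ N := by
    intro x hx
    apply mem_normal_of_prime_order N r hr hrN
    have h := pow_card_eq_one' (G := P) (x := ⟨x, hx⟩)
    rw [hP] at h
    exact congrArg Subtype.val h
  have hPne : P ≠ ⊥ := by
    intro h
    rw [h, Subgroup.card_bot] at hP
    exact hrp.one_lt.ne hP
  have hMN : M ≤ N := by
    have hnorm : (N.subgroupOf M).Normal := inferInstance
    rcases hnorm.eq_bot_or_eq_top with h | h
    · exfalso
      rw [subgroupOf_eq_bot] at h
      apply hPne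
      rw [eq_bot_iff]
      intro x hx
      exact (Subgroup.disjoint_def.1 h) (hPN hx) (hPM hx)
    · exact subgroupOf_eq_top.1 h
  have hr1 : (Nat.card G).factorization r = 1 :=
    factorization_eq_one_of _ r hrp Nat.card_pos.ne' (hP ▸ Subgroup.card_subgroup_dvd_card P) hr
  let S : Sylow r G := Sylow.ofCard P (by rw [hP, hr1, pow_one])
  have hfr : normalizer ((S : Subgroup G) : Set G) ⊔ N = ⊤ := Sylow.normalizer_sup_eq_top' S hPN
  have hS : (S : Subgroup G) = P := rfl
  rw [hS] at hfr
  set Nm := normalizer (P : Set G) with hNm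
  have hPNm : P ≤ Nm := le_normalizer
  have e1 : N.index = N.relIndex Nm := by
    rw [← relIndex_top_right, ← hfr, relIndex_sup_right]
  have e2 : N.relIndex Nm = (N ⊓ Nm).relIndex Nm := (inf_relIndex_right N Nm).symm
  have e3 : P.relIndex (N ⊓ Nm) * (N ⊓ Nm).relIndex Nm = P.relIndex Nm :=
    relIndex_mul_relIndex P (N ⊓ Nm) Nm (le_inf hPN hPNm) inf_le_right
  have e4 : (⊥ : Subgroup G).relIndex P * P.relIndex Nm = (⊥ : Subgroup G).relIndex Nm :=
    relIndex_mul_relIndex ⊥ P Nm bot_le hPNm
  rw [relIndex_bot_left, relIndex_bot_left, hP] at e4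
  have h5 : P.relIndex Nm ∣ d := by
    rw [← e4] at hN
    exact Nat.dvd_of_mul_dvd_mul_left hrp.pos hN
  have h6 : N.index ∣ d := by
    rw [e1, e2]
    exact (Dvd.intro_left _ e3).trans h5
  have h7 : N.index ∣ M.index := index_dvd_of_le hMN
  have h8 : N.index = 1 := Nat.eq_one_of_dvd_coprimes hMd h7 h6
  exact index_eq_one.1 h8

/-- a group of prime order `r` with `C_G(P) = P` acting by conjugation on a normal subgroup of order
prime to `r` has exactly one fixed point -/
theorem card_mod_of_selfcentralizing (r : ℕ) [Fact r.Prime] (P A : Subgroup G) [hA : A.Normal]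
    (hP : Nat.card P = r) (hC : ∀ g : G, (∀ x ∈ P, g * x = x * g) → g ∈ P)
    (hrA : ¬ r ∣ Nat.card A) : Nat.card A % r = 1 := by
  have hrp : r.Prime := Fact.out
  letI : MulAction P A :=
    { smul := fun x a => ⟨x * a * x⁻¹, hA.conj_mem a a.2 x⟩
      one_smul := fun a => Subtype.ext (by
        show ((1 : P) : G) * a * ((1 : P) : G)⁻¹ = a
        simp)
      mul_smul := fun x y a => Subtype.ext (by
        show ((x * y : P) : G) * a * ((x * y : P) : G)⁻¹ = (x : G) * ((y : G) * a * (y : G)⁻¹) * (x : G)⁻¹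
        simp [mul_assoc]) }
  have hsmul : ∀ (x : P) (a : A), ((x • a : A) : G) = (x : G) * a * (x : G)⁻¹ := fun _ _ => rfl
  have hPg : IsPGroup r P := IsPGroup.of_card (n := 1) (by rw [hP, pow_one])
  have h := hPg.card_modEq_card_fixedPoints A
  have hfix : MulAction.fixedPoints P A = {1} := by
    ext a
    rw [MulAction.mem_fixedPoints, Set.mem_singleton_iff]
    constructor
    · intro ha
      have h1 : (a : G) ∈ P := hC a (fun x hx => by
        have h2 := congrArg Subtype.val (ha ⟨x, hx⟩)
        rw [hsmul] at h2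
        simp only at h2
        calc (a : G) * x = (x * a * x⁻¹) * x := by rw [h2]
          _ = x * a := by group)
      have o1 : orderOf (a : G) ∣ r := by
        have := orderOf_dvd_natCard (⟨(a : G), h1⟩ : P)
        rw [hP] at this
        rwa [← Subgroup.orderOf_coe] at this
      have o2 : orderOf (a : G) ∣ Nat.card A := by
        rw [Subgroup.orderOf_coe]; exact orderOf_dvd_natCard a
      have h3 : (a : G) = 1 := by
        rcases (Nat.dvd_prime hrp).1 o1 with h | h
        · exact orderOf_eq_one_iff.1 h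
        · exact absurd (h ▸ o2) hrA
      exact Subtype.ext h3
    · rintro rfl x
      exact Subtype.ext (by rw [hsmul]; simp)
  rw [hfix] at h
  have h1 : Nat.card (({1} : Set A)) = 1 := by simp
  rw [h1] at h
  unfold Nat.ModEq at h
  rw [h]
  exact Nat.mod_eq_of_lt hrp.one_lt

/-- the `p`-torsion of a commutative subgroup -/
def omegaSub (A : Subgroup G) (hA : ∀ a ∈ A, ∀ b ∈ A, a * b = b * a) (p : ℕ) : Subgroup G where
  carrier := {a | a ∈ A ∧ a ^ p = 1}
  mul_mem' := by
    rintro a b ⟨ha, hap⟩ ⟨hb, hbp⟩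
    refine ⟨A.mul_mem ha hb, ?_⟩
    rw [(show Commute a b from hA a ha b hb).mul_pow, hap, hbp, one_mul]
  one_mem' := ⟨A.one_mem, one_pow _⟩
  inv_mem' := by
    rintro a ⟨ha, hap⟩
    exact ⟨A.inv_mem ha, by rw [inv_pow, hap, inv_one]⟩

/-- **Case 2**: there is no nontrivial normal subgroup of order dividing `c`. -/
theorem no_small_normal (r c : ℕ) [Fact r.Prime] (P : Subgroup G)
    (hP : Nat.card P = r)
    (hC : ∀ g : G, (∀ x ∈ P, g * x = x * g) → g ∈ P)
    (hsolv : ∀ H : Subgroup G, Nat.card H ∣ c → Group.IsSolvable H)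
    (hpp : ∀ p k, p.Prime → 0 < k → p ^ k ∣ c → p ^ k % r ≠ 1)
    (hrc : ¬ r ∣ c) :
    ∀ n, ∀ A : Subgroup G, A.Normal → Nat.card A ∣ c → A ≠ ⊥ → Nat.card A = n → False := by
  intro n
  induction n using Nat.strong_induction_on with
  | _ n ih =>
  intro A hAn hAc hAne hcard
  haveI := hAn
  have hsol : Group.IsSolvable A := hsolv A hAc
  have hcard1 : Nat.card A ≠ 1 := fun h => hAne (Subgroup.card_eq_one.1 h)
  by_cases hcomm : ⁅A, A⁆ = ⊥
  · have hab : ∀ a ∈ A, ∀ b ∈ A, a * b = b * a := by
      rw [commutator_eq_bot_iff_le_centralizer] at hcomm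
      intro a ha b hb
      exact ((mem_centralizer_iff.1 (hcomm ha)) b hb).symm
    have hp : (Nat.card A).minFac.Prime := Nat.minFac_prime hcard1
    have hpd : (Nat.card A).minFac ∣ Nat.card A := Nat.minFac_dvd _
    set p := (Nat.card A).minFac with hpdef
    have hΩn : (omegaSub A hab p).Normal := ⟨by
      rintro a ⟨ha, hap⟩ g
      exact ⟨hAn.conj_mem a ha g, by rw [conj_pow, hap, mul_one, mul_inv_cancel]⟩⟩
    have hΩle : omegaSub A hab p ≤ A := fun a ha => ha.1
    have hΩne : omegaSub A hab p ≠ ⊥ := by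
      obtain ⟨x, hx⟩ := exists_prime_orderOf_dvd_card' (G := A) p (hp := ⟨hp⟩) hpd
      intro h
      have h1 : (x : G) ∈ omegaSub A hab p := ⟨x.2, by
        rw [← Subgroup.coe_pow, ← hx, pow_orderOf_eq_one]; rfl⟩
      rw [h, Subgroup.mem_bot] at h1
      have h2 : x = 1 := Subtype.ext h1
      rw [h2, orderOf_one] at hx
      exact hp.one_lt.ne hx
    by_cases hΩA : omegaSub A hab p = A
    · have hpg : IsPGroup p A := fun a => ⟨1, by
        have h1 : (a : G) ∈ omegaSub A hab p := by rw [hΩA]; exact a.2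
        exact Subtype.ext (by rw [Subgroup.coe_pow, pow_one]; exact h1.2)⟩
      haveI : Fact p.Prime := ⟨hp⟩
      obtain ⟨k, hk⟩ := hpg.exists_card_eq
      have hk0 : 0 < k := by
        rcases Nat.eq_zero_or_pos k with h | h
        · rw [h, pow_zero] at hk; exact absurd hk hcard1
        · exact h
      have hrA : ¬ r ∣ Nat.card A := fun h => hrc (h.trans hAc)
      have hmod := card_mod_of_selfcentralizing r P A hP hC hrA
      exact hpp p k hp hk0 (hk ▸ hAc) (hk ▸ hmod)
    · have hlt : Nat.card (omegaSub A hab p) < Nat.card A := by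
        rcases lt_or_eq_of_le (Subgroup.card_le_of_le hΩle) with h | h
        · exact h
        · exact absurd (Subgroup.eq_of_le_of_card_ge hΩle h.ge) hΩA
      exact ih _ (hcard ▸ hlt) _ hΩn ((card_dvd_of_le hΩle).trans hAc) hΩne rfl
  · have hle : ⁅A, A⁆ ≤ A := commutator_le_right A A
    have hne : ⁅A, A⁆ ≠ A := by
      intro h
      haveI : Nontrivial A := (Subgroup.nontrivial_iff_ne_bot A).2 hAne
      have h1 := Group.IsSolvable.commutator_lt_top_of_nontrivial A
      have h2 : (_root_.commutator A).map A.subtype = (⊤ : Subgroup A).map A.subtype := by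
        rw [map_subtype_commutator, h, ← MonoidHom.range_eq_map, Subgroup.range_subtype]
      exact h1.ne (Subgroup.map_injective A.subtype_injective h2)
    have hlt : Nat.card (⁅A, A⁆ : Subgroup G) < Nat.card A := by
      rcases lt_or_eq_of_le (Subgroup.card_le_of_le hle) with h | h
      · exact h
      · exact absurd (Subgroup.eq_of_le_of_card_ge hle h.ge) hne
    exact ih _ (hcard ▸ hlt) _ inferInstance ((card_dvd_of_le hle).trans hAc) hcomm rfl

/-- an automorphism of order two of a group of prime order is inversion -/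
theorem mulAut_inv_of_sq {P : Type*} [Group P] (hp : (Nat.card P).Prime)
    (hcomm : ∀ a b : P, a * b = b * a) (f : MulAut P)
    (hf2 : ∀ x, f (f x) = x) (hf1 : f ≠ 1) (x : P) : f x = x⁻¹ := by
  haveI : Fact (Nat.card P).Prime := ⟨hp⟩
  let E : Subgroup P := MonoidHom.eqLocus f.toMonoidHom (MonoidHom.id P)
  have hE : ∀ y, y ∈ E ↔ f y = y := fun y => Iff.rfl
  rcases E.eq_bot_or_eq_top_of_prime_card with h | h
  · have h1 : f x * x ∈ E := by
      rw [hE, map_mul, hf2, hcomm]
    rw [h, Subgroup.mem_bot] at h1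
    exact eq_inv_of_mul_eq_one_left h1
  · exfalso
    apply hf1
    ext y
    have : y ∈ E := by rw [h]; exact Subgroup.mem_top y
    exact (hE y).1 this

/-- the order of the normaliser of a self-centralising subgroup of prime order without inverting
elements -/
theorem card_normalizer_dvd (r d : ℕ) [Fact r.Prime] (g : G) (hg : orderOf g = r)
    (hC : ∀ t : G, t * g = g * t → t ∈ zpowers g)
    (hinv : ∀ t : G, t * g * t⁻¹ ≠ g⁻¹)
    (hd : ∀ m, m ∣ r - 1 → ¬ 2 ∣ m → m ∣ d) :
    Nat.card (normalizer ((zpowers g : Subgroup G) : Set G)) ∣ r * d := by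
  have hrp : r.Prime := Fact.out
  set P : Subgroup G := zpowers g with hPdef
  have hP : Nat.card P = r := by rw [hPdef, Nat.card_zpowers, hg]
  set Nm := normalizer (P : Set G) with hNm
  have hPNm : P ≤ Nm := le_normalizer
  let ψ : Nm →* MulAut P := P.normalizerMonoidHom
  have hker : ψ.ker = (centralizer (P : Set G)).subgroupOf Nm := P.normalizerMonoidHom_ker
  have hcommP : ∀ a b : P, a * b = b * a := isMulCommutative_iff.1 (zpowers_isMulCommutative g)
  have hcent : centralizer (P : Set G) = P := by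
    apply le_antisymm
    · intro t ht
      apply hC
      exact (mem_centralizer_iff.1 ht g (mem_zpowers g)).symm
    · intro t ht
      rw [mem_centralizer_iff]
      intro h hh
      exact congrArg Subtype.val (hcommP ⟨h, hh⟩ ⟨t, ht⟩)
  have hkercard : Nat.card ψ.ker = r := by
    rw [hker, hcent, ← hP]
    exact Nat.card_congr (subgroupOfEquivOfLe hPNm).toEquiv
  have hcardNm : Nat.card Nm = r * Nat.card ψ.range := by
    rw [← hkercard, ← Subgroup.index_ker, mul_comm]
    exact (Subgroup.card_mul_index ψ.ker).symm ▸ (mul_comm _ _)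
  haveI : Fact (Nat.card P).Prime := ⟨hP ▸ hrp⟩
  haveI : IsCyclic P := isCyclic_of_prime_card hP
  have hautcard : Nat.card (MulAut P) = r - 1 := by
    rw [IsCyclic.card_mulAut, hP, Nat.totient_prime hrp]
  have hrange_dvd : Nat.card ψ.range ∣ r - 1 := by
    rw [← hautcard]; exact Subgroup.card_subgroup_dvd_card _
  have hodd : ¬ 2 ∣ Nat.card ψ.range := by
    intro h2
    obtain ⟨f, hf⟩ := exists_prime_orderOf_dvd_card' (G := ψ.range) 2 h2
    obtain ⟨t, ht⟩ := f.2
    have hfsq : (f : MulAut P) ^ 2 = 1 := by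
      have := pow_orderOf_eq_one f
      rw [hf] at this
      exact congrArg Subtype.val this
    have hfne : (f : MulAut P) ≠ 1 := by
      intro h
      have : f = 1 := Subtype.ext h
      rw [this, orderOf_one] at hf
      omega
    have hcomm : ∀ a b : P, a * b = b * a := hcommP
    have key := mulAut_inv_of_sq (hP ▸ hrp) hcomm (f : MulAut P)
      (fun x => by
        have := congrArg (fun φ : MulAut P => φ x) hfsq
        simpa [pow_two] using this) hfne ⟨g, mem_zpowers g⟩
    rw [← ht] at key
    have key2 := congrArg Subtype.val key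
    exact hinv (t : G) key2
  rw [hcardNm]
  exact Nat.mul_dvd_mul_left r (hd _ hrange_dvd hodd)

/-- **Simplicity criterion.** -/
theorem isSimpleGroup_of_sylow (r d c : ℕ) [Fact r.Prime] (g : G) (M K : Subgroup G)
    (hg : orderOf g = r) (hr : ¬ r ^ 2 ∣ Nat.card G)
    (hC : ∀ t : G, t * g = g * t → t ∈ zpowers g)
    (hinv : ∀ t : G, t * g * t⁻¹ ≠ g⁻¹)
    (hd : ∀ m, m ∣ r - 1 → ¬ 2 ∣ m → m ∣ d)
    (hgM : g ∈ M) [IsSimpleGroup M] [IsSimpleGroup K]
    (hMd : Nat.Coprime M.index d)
    (hKM : ¬ Nat.card K ∣ M.index)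
    (hc : Nat.gcd M.index K.index ∣ c)
    (hrc : ¬ r ∣ c)
    (hsolv : ∀ H : Subgroup G, Nat.card H ∣ c → Group.IsSolvable H)
    (hpp : ∀ p k, p.Prime → 0 < k → p ^ k ∣ c → p ^ k % r ≠ 1) : IsSimpleGroup G := by
  have hrp : r.Prime := Fact.out
  set P : Subgroup G := zpowers g with hPdef
  have hP : Nat.card P = r := by rw [hPdef, Nat.card_zpowers, hg]
  have hPM : P ≤ M := by rw [hPdef, zpowers_le]; exact hgM
  have hN := card_normalizer_dvd r d g hg hC hinv hd
  have hCP : ∀ t : G, (∀ x ∈ P, t * x = x * t) → t ∈ P := fun t ht => hC t (ht g (mem_zpowers g))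
  have hg1 : g ≠ 1 := by
    intro h; rw [h, orderOf_one] at hg; exact hrp.one_lt.ne hg
  haveI : Nontrivial G := ⟨⟨g, 1, hg1⟩⟩
  refine ⟨fun N hNn => ?_⟩
  haveI := hNn
  by_cases hbot : N = ⊥
  · exact Or.inl hbot
  right
  by_cases hrN : r ∣ Nat.card N
  · exact eq_top_of_prime_dvd r d P M N hP hr hN hPM hMd hrN
  · exfalso
    -- N meets M trivially
    have hNM : N ⊓ M = ⊥ := by
      have hnorm : (N.subgroupOf M).Normal := inferInstance
      rcases hnorm.eq_bot_or_eq_top with h | h
      · rw [subgroupOf_eq_bot] at h; exact h.eq_bot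
      · exfalso
        have hMN : M ≤ N := subgroupOf_eq_top.1 h
        apply hrN
        rw [← hP]
        exact card_dvd_of_le (hPM.trans hMN)
    have h1 : Nat.card N ∣ M.index := card_dvd_index_of_inf_eq_bot N M hNM
    have hNK : N ⊓ K = ⊥ := by
      have hnorm : (N.subgroupOf K).Normal := inferInstance
      rcases hnorm.eq_bot_or_eq_top with h | h
      · rw [subgroupOf_eq_bot] at h; exact h.eq_bot
      · exfalso
        have hKN : K ≤ N := subgroupOf_eq_top.1 h
        exact hKM ((card_dvd_of_le hKN).trans h1)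
    have h2 : Nat.card N ∣ K.index := card_dvd_index_of_inf_eq_bot N K hNK
    have h3 : Nat.card N ∣ c := (Nat.dvd_gcd h1 h2).trans hc
    exact no_small_normal r c P hP hCP hsolv hpp hrc _ N hNn h3 hbot rfl

end

end Cfsg.Agent.Lib.Helper8
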