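import Mathlib
import Cfsg.Agent.Lib.Helper8.SylSimple
import Cfsg.Agent.Lib.Helper8.Shift23
import Cfsg.Agent.Lib.Helper8.HSGroup

/-!
# Simplicity of the stabilisers of `(α, 1^23)` (`α = 5`: `Co3`, `α = -3`: `Co2`)

Generic part: the element of order 23, its centraliser and normaliser inside the stabiliser.
-/

set_option autoImplicit false

namespace Cfsg.Agent.Lib.Helper8
open Cfsg Cfsg.Agent.Lib.Helper7 Cfsg.Spor
open scoped Pointwise

/-- the shift as an element of `Co0` -/
noncomputable def sCo0 : Co0 := permCo0 shiftPerm shiftPerm_mem_M24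

section generic
variable {α : ℤ} {u : leechLattice}

theorem permCo0_fix_ua (hu : ∀ i, (u : GolayPt → ℤ) i = if i = none then α else 1)
    (σ : Equiv.Perm GolayPt) (hσ : σ ∈ M24) (h0 : σ none = none) :
    permCo0 σ hσ • u = u := by
  apply Subtype.ext
  rw [permCo0_apply]
  funext i
  rw [hu, hu]
  have : σ.symm i = none ↔ i = none := by rw [Equiv.symm_apply_eq, h0]
  simp only [this]

/-- an automorphism fixing `(α, 1^23)` and `8 e_∞` is a coordinate permutation -/
theorem exists_perm_of_fix_ua (hu : ∀ i, (u : GolayPt → ℤ) i = if i = none then α else 1)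
    (t : Co0) (h1 : t • u = u) (h2 : t • Cfsg.Agent.S0397.v0 = Cfsg.Agent.S0397.v0) :
    ∃ σ, ∃ hσ : σ ∈ M24, σ none = none ∧ t = permCo0 σ hσ := by
  classical
  have hNN : t ∈ Cfsg.Agent.S0397.NN :=
    Cfsg.Agent.S0397.stab_le (MulAction.mem_stabilizer_iff.2 h2)
  obtain ⟨σ, hσ, c, hc, hgv⟩ :=
    exists_signedPerm_of_presCross t ((Cfsg.Agent.S0397.mem_NN t).1 hNN)
  have hv := hgv Cfsg.Agent.S0397.v0
  rw [h2] at hv
  have hv' : ∀ i, e8 none i = signedPerm σ c (e8 none) i := fun i => congrFun hv i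
  have hσ0 : σ none = none := by
    have := hv' (σ none)
    unfold signedPerm e8 at this
    rw [Equiv.symm_apply_apply, if_pos rfl] at this
    by_contra hne
    rw [if_neg hne] at this
    split_ifs at this <;> omega
  have hc0 : none ∉ c := by
    intro hin
    have := hv' none
    unfold signedPerm e8 at this
    rw [if_pos hin, if_pos rfl] at this
    have hs : σ.symm none = none := by rw [Equiv.symm_apply_eq, hσ0]
    rw [hs, if_pos rfl] at this
    omega
  have hU := hgv u
  rw [h1] at hU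
  have hcempty : c = ∅ := by
    apply Finset.eq_empty_of_forall_notMem
    intro i hi
    have hine : i ≠ none := fun h => hc0 (h ▸ hi)
    have := congrFun hU i
    unfold signedPerm at this
    rw [if_pos hi, hu, hu, if_neg hine] at this
    have hs : σ.symm i ≠ none := by
      intro h
      rw [Equiv.symm_apply_eq, hσ0] at h
      exact hine h
    rw [if_neg hs] at this
    omega
  subst hcempty
  refine ⟨σ, hσ, hσ0, ?_⟩
  apply co0_ext
  intro v
  apply Subtype.ext
  rw [hgv v, signedPerm_empty, permCo0_apply]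

theorem sqNorm_option (y : GolayPt → ℤ) :
    sqNorm y = y none ^ 2 + ∑ x : ZMod 23, y (some x) ^ 2 := by
  unfold sqNorm
  exact Fintype.sum_option _

theorem dotInt_option (x y : GolayPt → ℤ) :
    dotInt x y = x none * y none + ∑ z : ZMod 23, x (some z) * y (some z) := by
  unfold dotInt
  exact Fintype.sum_option _

/-- if `t` fixes `(α, 1^23)` and `t • 8 e_∞` is fixed by the shift then `t` fixes `8 e_∞` -/
theorem fix_v0_of_shift_fix (hα : α ≠ 0)
    (hu : ∀ i, (u : GolayPt → ℤ) i = if i = none then α else 1)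
    (t : Co0) (h1 : t • u = u)
    (h2 : sCo0 • (t • Cfsg.Agent.S0397.v0) = t • Cfsg.Agent.S0397.v0) :
    t • Cfsg.Agent.S0397.v0 = Cfsg.Agent.S0397.v0 := by
  set y : leechLattice := t • Cfsg.Agent.S0397.v0 with hy
  have hinv : ∀ p, (y : GolayPt → ℤ) (shiftPerm p) = (y : GolayPt → ℤ) p := by
    intro p
    have := congrFun (congrArg Subtype.val h2) (shiftPerm p)
    unfold sCo0 at this
    rw [permCo0_apply] at this
    simp only [Equiv.symm_apply_apply] at this
    exact this.symm
  have hconst := shift_invariant_const (y : GolayPt → ℤ) hinv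
  set a := (y : GolayPt → ℤ) none with ha
  set b := (y : GolayPt → ℤ) (some 0) with hb
  have hn : sqNorm (y : GolayPt → ℤ) = 64 := by
    rw [hy, co0_sqNorm]
    exact sqNorm_e8 none
  have hd : dotInt (u : GolayPt → ℤ) (y : GolayPt → ℤ) = 8 * α := by
    have := co0_dotInt t u Cfsg.Agent.S0397.v0
    rw [h1] at this
    rw [hy, this]
    show dotInt (u : GolayPt → ℤ) (e8 none) = 8 * α
    rw [dotInt_e8, hu, if_pos rfl]
  rw [sqNorm_option] at hn
  rw [dotInt_option] at hd
  have e1 : ∑ x : ZMod 23, (y : GolayPt → ℤ) (some x) ^ 2 = 23 * b ^ 2 := by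
    rw [Finset.sum_congr rfl (fun x _ => by rw [hconst x])]
    rw [Finset.sum_const, Finset.card_univ, ZMod.card]
    simp
  have e2 : ∑ z : ZMod 23, (u : GolayPt → ℤ) (some z) * (y : GolayPt → ℤ) (some z) = 23 * b := by
    rw [Finset.sum_congr rfl (fun x _ => by rw [hconst x, hu, if_neg (by simp), one_mul])]
    rw [Finset.sum_const, Finset.card_univ, ZMod.card]
    simp
  rw [e1] at hn
  rw [e2, hu, if_pos rfl] at hd
  -- a^2 + 23 b^2 = 64, α a + 23 b = 8 α
  have hb0 : b = 0 := by
    have hb2 : b ^ 2 ≤ 2 := by nlinarith [sq_nonneg a]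
    have hbl : -1 ≤ b := by nlinarith
    have hbu : b ≤ 1 := by nlinarith
    have : b = -1 ∨ b = 0 ∨ b = 1 := by omega
    rcases this with h | h | h
    · exfalso
      rw [h] at hn
      have : a ^ 2 = 41 := by linarith
      have h6 : a ≤ 6 := by nlinarith
      have h6' : -6 ≤ a := by nlinarith
      interval_cases a <;> omega
    · exact h
    · exfalso
      rw [h] at hn
      have : a ^ 2 = 41 := by linarith
      have h6 : a ≤ 6 := by nlinarith
      have h6' : -6 ≤ a := by nlinarith
      interval_cases a <;> omega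
  have ha8 : a = 8 := by
    rw [hb0] at hd
    have : α * (a - 8) = 0 := by linarith
    rcases mul_eq_zero.1 this with h | h
    · exact absurd h hα
    · linarith
  apply Subtype.ext
  funext p
  show (y : GolayPt → ℤ) p = e8 none p
  unfold e8
  cases p with
  | none => rw [if_pos rfl]; exact ha8
  | some x => rw [if_neg (by simp), hconst x]; exact hb0

end generic

/-! ### the subgroup of coordinate permutations and the element of order 23 -/

section group
variable {α : ℤ} {u : leechLattice}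

/-- the one-point stabiliser of `M24` -/
abbrev M23' : Subgroup M24 := MulAction.stabilizer M24 (none : GolayPt)

theorem mem_M23' (τ : M24) : τ ∈ M23' ↔ (τ : Equiv.Perm GolayPt) none = none := by
  rw [MulAction.mem_stabilizer_iff]
  rfl

/-- the embedding of the one-point stabiliser of `M24` into the stabiliser of `(α, 1^23)` -/
noncomputable def phiU (hu : ∀ i, (u : GolayPt → ℤ) i = if i = none then α else 1) :
    M23' →* MulAction.stabilizer Co0 u where
  toFun τ := ⟨permCo0 τ.1.1 τ.1.2, MulAction.mem_stabilizer_iff.2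
    (permCo0_fix_ua hu _ _ ((mem_M23' τ.1).1 τ.2))⟩
  map_one' := Subtype.ext permCo0_one
  map_mul' a b := Subtype.ext (permCo0_mul _ _ a.1.2 b.1.2)

theorem phiU_coe (hu : ∀ i, (u : GolayPt → ℤ) i = if i = none then α else 1) (τ : M23') :
    ((phiU hu τ : MulAction.stabilizer Co0 u) : Co0) = permCo0 τ.1.1 τ.1.2 := rfl

theorem phiU_injective (hu : ∀ i, (u : GolayPt → ℤ) i = if i = none then α else 1) :
    Function.Injective (phiU hu) := by
  intro a b h
  have h1 : permCo0 a.1.1 a.1.2 = permCo0 b.1.1 b.1.2 := by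
    rw [← phiU_coe hu, ← phiU_coe hu, h]
  exact Subtype.ext (Subtype.ext (permCo0_injective h1))

/-- the shift inside `M23'` -/
noncomputable def s23 : M23' := ⟨⟨shiftPerm, shiftPerm_mem_M24⟩, (mem_M23' _).2 shiftPerm_none⟩

theorem orderOf_s23 : orderOf s23 = 23 := by
  have h1 : orderOf s23 = orderOf (s23 : M24) := (Subgroup.orderOf_coe s23).symm
  have h2 : orderOf (s23 : M24) = orderOf ((s23 : M24) : Equiv.Perm GolayPt) :=
    (Subgroup.orderOf_coe (s23 : M24)).symm
  rw [h1, h2]
  exact orderOf_shiftPerm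

theorem phiU_s23_coe (hu : ∀ i, (u : GolayPt → ℤ) i = if i = none then α else 1) :
    ((phiU hu s23 : MulAction.stabilizer Co0 u) : Co0) = sCo0 := rfl

theorem orderOf_phiU_s23 (hu : ∀ i, (u : GolayPt → ℤ) i = if i = none then α else 1) :
    orderOf (phiU hu s23) = 23 := by
  rw [orderOf_injective (phiU hu) (phiU_injective hu), orderOf_s23]

theorem sCo0_fix_v0 : sCo0 • Cfsg.Agent.S0397.v0 = Cfsg.Agent.S0397.v0 := by
  unfold sCo0 Cfsg.Agent.S0397.v0
  rw [permCo0_b8, shiftPerm_none]

/-- an element of the stabiliser conjugating the shift into a power of itself fixing `8 e_∞`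
is a coordinate permutation -/
theorem exists_preimage_of_conj (hα : α ≠ 0)
    (hu : ∀ i, (u : GolayPt → ℤ) i = if i = none then α else 1)
    (t : MulAction.stabilizer Co0 u) (w : MulAction.stabilizer Co0 u)
    (hw : (w : Co0) • Cfsg.Agent.S0397.v0 = Cfsg.Agent.S0397.v0)
    (h : t⁻¹ * phiU hu s23 * t = w) : ∃ τ : M23', phiU hu τ = t := by
  have h1 : (t : Co0) • u = u := MulAction.mem_stabilizer_iff.1 t.2
  have h2 : sCo0 • ((t : Co0) • Cfsg.Agent.S0397.v0) = (t : Co0) • Cfsg.Agent.S0397.v0 := by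
    have e : phiU hu s23 * t = t * w := by rw [← h]; group
    have e' : sCo0 * (t : Co0) = (t : Co0) * (w : Co0) := by
      have := congrArg (Subtype.val) e
      simpa [phiU_s23_coe] using this
    rw [← mul_smul, e', mul_smul, hw]
  have h3 := fix_v0_of_shift_fix hα hu (t : Co0) h1 h2
  obtain ⟨σ, hσ, hσ0, ht⟩ := exists_perm_of_fix_ua hu (t : Co0) h1 h3
  refine ⟨⟨⟨σ, hσ⟩, (mem_M23' _).2 hσ0⟩, ?_⟩
  apply Subtype.ext
  rw [phiU_coe, ht]

theorem phiU_centralizer (hα : α ≠ 0)
    (hu : ∀ i, (u : GolayPt → ℤ) i = if i = none then α else 1)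
    (t : MulAction.stabilizer Co0 u) (h : t * phiU hu s23 = phiU hu s23 * t) :
    t ∈ Subgroup.zpowers (phiU hu s23) := by
  obtain ⟨τ, rfl⟩ := exists_preimage_of_conj hα hu t (phiU hu s23)
    (by rw [phiU_s23_coe]; exact sCo0_fix_v0)
    (by rw [mul_assoc, ← h, ← mul_assoc, inv_mul_cancel, one_mul])
  rw [← map_mul, ← map_mul] at h
  have h1 : τ * s23 = s23 * τ := phiU_injective hu h
  have h2 : (τ : Equiv.Perm GolayPt) * shiftPerm = shiftPerm * (τ : Equiv.Perm GolayPt) := by
    have := congrArg (fun x : M23' => ((x : M24) : Equiv.Perm GolayPt)) h1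
    exact this
  have h3 := mem_zpowers_shift_of_commute _ h2
  obtain ⟨k, hk⟩ := Subgroup.mem_zpowers_iff.1 h3
  have h4 : τ = s23 ^ k := by
    apply Subtype.ext
    apply Subtype.ext
    rw [Subgroup.coe_zpow, Subgroup.coe_zpow]
    exact hk.symm
  rw [h4, map_zpow]
  exact Subgroup.zpow_mem_zpowers _ k

theorem phiU_not_invert (hα : α ≠ 0)
    (hu : ∀ i, (u : GolayPt → ℤ) i = if i = none then α else 1)
    (t : MulAction.stabilizer Co0 u) : t * phiU hu s23 * t⁻¹ ≠ (phiU hu s23)⁻¹ := by
  intro h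
  have hw : (((phiU hu s23)⁻¹ : MulAction.stabilizer Co0 u) : Co0) • Cfsg.Agent.S0397.v0
      = Cfsg.Agent.S0397.v0 := by
    rw [Subgroup.coe_inv, phiU_s23_coe, inv_smul_eq_iff, sCo0_fix_v0]
  have h' : t⁻¹ * phiU hu s23 * t = (phiU hu s23)⁻¹ := by
    have e : phiU hu s23 = t⁻¹ * (phiU hu s23)⁻¹ * t := by rw [← h]; group
    calc t⁻¹ * phiU hu s23 * t = (t⁻¹ * (phiU hu s23)⁻¹ * t)⁻¹ := by group
      _ = (phiU hu s23)⁻¹ := by rw [← e]
  obtain ⟨τ, rfl⟩ := exists_preimage_of_conj hα hu t _ hw h'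
  rw [← map_inv, ← map_mul, ← map_mul, ← map_inv] at h
  have h1 : τ * s23 * τ⁻¹ = s23⁻¹ := phiU_injective hu h
  have h2 : (τ : Equiv.Perm GolayPt) * shiftPerm * (τ : Equiv.Perm GolayPt)⁻¹ = shiftPerm⁻¹ := by
    have := congrArg (fun x : M23' => ((x : M24) : Equiv.Perm GolayPt)) h1
    exact this
  exact not_invert_shift _ τ.1.2 h2

/-- **Simplicity of the stabiliser of `(α, 1^23)`**, from its order, a simple subgroup of order
`44352000`, and arithmetic. -/
theorem isSimpleGroup_stab_ua (hα : α ≠ 0)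
    (hu : ∀ i, (u : GolayPt → ℤ) i = if i = none then α else 1) (n c : ℕ)
    (hG : Nat.card (MulAction.stabilizer Co0 u) = n)
    (Kc : Subgroup Co0) (hKle : Kc ≤ MulAction.stabilizer Co0 u) (hKs : IsSimpleGroup Kc)
    (hKcard : Nat.card Kc = 44352000)
    (h23 : ¬ 23 ^ 2 ∣ n)
    (hMd : Nat.Coprime (n / 10200960) 11)
    (hKM : ¬ 44352000 ∣ n / 10200960)
    (hc : Nat.gcd (n / 10200960) (n / 44352000) ∣ c)
    (hrc : ¬ 23 ∣ c)
    (hsolv : ∀ H : Subgroup (MulAction.stabilizer Co0 u), Nat.card H ∣ c → Group.IsSolvable H)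
    (hpp : ∀ p k, p.Prime → 0 < k → p ^ k ∣ c → p ^ k % 23 ≠ 1) :
    IsSimpleGroup (MulAction.stabilizer Co0 u) := by
  haveI : Fact (Nat.Prime 23) := ⟨by norm_num⟩
  haveI : Finite (MulAction.stabilizer Co0 u) := by
    apply Nat.finite_of_card_ne_zero
    rw [hG]
    intro h0
    rw [h0] at h23
    exact h23 (dvd_zero _)
  let M : Subgroup (MulAction.stabilizer Co0 u) := (phiU hu).range
  let K : Subgroup (MulAction.stabilizer Co0 u) := Kc.subgroupOf (MulAction.stabilizer Co0 u)
  have eM : M23' ≃* M := MonoidHom.ofInjective (phiU_injective hu)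
  haveI : IsSimpleGroup M23' := isSimpleGroup_stabilizer_M24 none
  haveI hMs : IsSimpleGroup M := MulEquiv.isSimpleGroup eM.symm
  have hMcard : Nat.card M = 10200960 := by
    rw [← Nat.card_congr eM.toEquiv]
    exact card_stabilizer_M24 none
  have eK : K ≃* Kc := Subgroup.subgroupOfEquivOfLe hKle
  haveI hKs' : IsSimpleGroup K := MulEquiv.isSimpleGroup eK
  have hKcard' : Nat.card K = 44352000 := by
    rw [Nat.card_congr eK.toEquiv, hKcard]
  have hMidx : M.index = n / 10200960 := by
    have := M.card_mul_index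
    rw [hMcard, hG] at this
    rw [← this, Nat.mul_div_cancel_left _ (by norm_num)]
  have hKidx : K.index = n / 44352000 := by
    have := K.card_mul_index
    rw [hKcard', hG] at this
    rw [← this, Nat.mul_div_cancel_left _ (by norm_num)]
  refine isSimpleGroup_of_sylow 23 11 c (phiU hu s23) M K (orderOf_phiU_s23 hu) (by rw [hG]; exact h23)
    (phiU_centralizer hα hu) (phiU_not_invert hα hu) ?_ ⟨s23, rfl⟩
    (by rw [hMidx]; exact hMd) (by rw [hKcard', hMidx]; exact hKM)
    (by rw [hMidx, hKidx]; exact hc) hrc hsolv hpp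
  intro m hm h2
  have hle : m ≤ 22 := Nat.le_of_dvd (by norm_num) hm
  interval_cases m <;> omega

end group

end Cfsg.Agent.Lib.Helper8
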