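import Mathlib
import Cfsg.Prelude.Def_FischerSpaces
import Cfsg.Agent.Lib.Helper90.FischerTri
set_option autoImplicit false

/-!
Fischer's transitivity theorem, part A: in a finite group generated by a class `D` of
3-transpositions such that every `⟨C_D(d)⟩` is a maximal `D`-subgroup and no two different members
of `D` have comparable commuting sets, the members of `D` other than `d` commuting with `d` form a
single orbit of the subgroup they generate.
-/

namespace Cfsg.Agent.Lib.Helper8.FT

open Cfsg Cfsg.Agent.Lib.Helper90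

variable {G : Type*} [Group G] {D : Set G}

/-- the members of `D` other than `d` commuting with `d` -/
def Dd (D : Set G) (d : G) : Set G := {y : G | y ∈ D ∧ y ≠ d ∧ Commute d y}

/-- the subgroup generated by `Dd D d` -/
def Xd (D : Set G) (d : G) : Subgroup G := Subgroup.closure (Dd D d)

/-- the orbit of `e` under `Xd D d` -/
def Orb (D : Set G) (d e : G) : Set G := {z : G | ∃ g ∈ Xd D d, z = g * e * g⁻¹}

theorem commute_of_mem_Xd {d g : G} (hg : g ∈ Xd D d) : Commute g d := by
  unfold Xd at hg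
  induction hg using Subgroup.closure_induction with
  | mem x hx => exact hx.2.2.symm
  | one => exact Commute.one_left d
  | mul x y _ _ hx hy => exact hx.mul_left hy
  | inv x _ hx => exact hx.inv_left

theorem orb_refl (d e : G) : e ∈ Orb D d e := ⟨1, one_mem _, by group⟩

theorem orb_symm {d e z : G} (h : z ∈ Orb D d e) : e ∈ Orb D d z := by
  obtain ⟨g, hg, rfl⟩ := h
  exact ⟨g⁻¹, inv_mem hg, by group⟩

theorem orb_trans {d e z w : G} (h1 : z ∈ Orb D d e) (h2 : w ∈ Orb D d z) : w ∈ Orb D d e := by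
  obtain ⟨g, hg, rfl⟩ := h1
  obtain ⟨h, hh, rfl⟩ := h2
  exact ⟨h * g, mul_mem hh hg, by group⟩

theorem orb_subset (hc : ∀ g : G, ∀ d ∈ D, g * d * g⁻¹ ∈ D) {d e : G} (he : e ∈ Dd D d) :
    Orb D d e ⊆ Dd D d := by
  rintro z ⟨g, hg, rfl⟩
  have hgd := commute_of_mem_Xd hg
  refine ⟨hc g e he.1, ?_, ?_⟩
  · intro h
    apply he.2.1
    have : e = g⁻¹ * (g * e * g⁻¹) * g := by group
    rw [this, h]
    have h2 : g⁻¹ * d * g = g⁻¹ * (d * g) := by group
    rw [h2, ← hgd.eq]; group
  · exact (hgd.symm.mul_right he.2.2).mul_right hgd.symm.inv_right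

/-- non-commuting members of `Dd D d` are conjugate under `Xd D d` -/
theorem mem_orb_of_not_commute (hT : IsThreeTranspositionSet D) {d y z : G}
    (hy : y ∈ Dd D d) (hz : z ∈ Dd D d) (h : ¬ Commute y z) : y ∈ Orb D d z := by
  refine ⟨z * y, mul_mem (Subgroup.subset_closure hz) (Subgroup.subset_closure hy), ?_⟩
  have hb := tt_braid hT hy.1 hz.1 h
  -- hb : z * y * z = y * z * y
  have hyi := tt_inv hT hy.1
  have hzi := tt_inv hT hz.1
  have hzz := tt_sq hT hz.1
  rw [mul_inv_rev, hyi, hzi]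
  calc y = z * (z * y * z) * z := by
        rw [show z * (z * y * z) * z = (z * z) * y * (z * z) by simp only [mul_assoc], hzz]; simp
    _ = z * (y * z * y) * z := by rw [hb]
    _ = z * y * z * (y * z) := by simp only [mul_assoc]

theorem commute_of_not_mem_orb (hT : IsThreeTranspositionSet D)
    (hc : ∀ g : G, ∀ d ∈ D, g * d * g⁻¹ ∈ D) {d e y : G}
    (he : e ∈ Dd D d) (hy : y ∈ Dd D d) (hny : y ∉ Orb D d e) :
    ∀ z ∈ Orb D d e, Commute y z := by
  intro z hz
  by_contra h
  exact hny (orb_trans hz (mem_orb_of_not_commute hT hy (orb_subset hc he hz) h))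

/-! ### conjugation equivariance -/

theorem Dd_conj (hc : ∀ g : G, ∀ d ∈ D, g * d * g⁻¹ ∈ D) (g : G) {d x : G} (hx : x ∈ Dd D d) :
    g * x * g⁻¹ ∈ Dd D (g * d * g⁻¹) := by
  refine ⟨hc g x hx.1, ?_, ?_⟩
  · intro h
    apply hx.2.1
    have := congrArg (fun t => g⁻¹ * t * g) h
    simpa [mul_assoc] using this
  · show g * d * g⁻¹ * (g * x * g⁻¹) = g * x * g⁻¹ * (g * d * g⁻¹)
    calc g * d * g⁻¹ * (g * x * g⁻¹) = g * (d * x) * g⁻¹ := by group
      _ = g * (x * d) * g⁻¹ := by rw [hx.2.2.eq]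
      _ = g * x * g⁻¹ * (g * d * g⁻¹) := by group

theorem Xd_conj (hc : ∀ g : G, ∀ d ∈ D, g * d * g⁻¹ ∈ D) (g : G) {d x : G} (hx : x ∈ Xd D d) :
    g * x * g⁻¹ ∈ Xd D (g * d * g⁻¹) := by
  unfold Xd at hx ⊢
  induction hx using Subgroup.closure_induction with
  | mem x hx => exact Subgroup.subset_closure (Dd_conj hc g hx)
  | one => simp
  | mul x y _ _ hx hy =>
    have : g * (x * y) * g⁻¹ = g * x * g⁻¹ * (g * y * g⁻¹) := by group
    rw [this]; exact mul_mem hx hy
  | inv x _ hx =>
    have : g * x⁻¹ * g⁻¹ = (g * x * g⁻¹)⁻¹ := by group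
    rw [this]; exact inv_mem hx

theorem Orb_conj (hc : ∀ g : G, ∀ d ∈ D, g * d * g⁻¹ ∈ D) (g : G) {d e z : G}
    (hz : z ∈ Orb D d e) : g * z * g⁻¹ ∈ Orb D (g * d * g⁻¹) (g * e * g⁻¹) := by
  obtain ⟨h, hh, rfl⟩ := hz
  exact ⟨g * h * g⁻¹, Xd_conj hc g hh, by group⟩

/-- hypotheses of the transitivity theorem -/
structure Hyp (D : Set G) : Prop where
  hT : IsThreeTranspositionSet D
  hc : ∀ g : G, ∀ d ∈ D, g * d * g⁻¹ ∈ D
  hgen : Subgroup.closure D = ⊤
  htrans : ∀ a ∈ D, ∀ b ∈ D, ∃ g : G, g * a * g⁻¹ = b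
  hmax : ∀ d ∈ D, ∀ H : Subgroup G, IsDSubgroup D H →
    Subgroup.closure {y : G | y ∈ D ∧ Commute d y} ≤ H →
      H = Subgroup.closure {y : G | y ∈ D ∧ Commute d y} ∨ H = ⊤
  hperp : ∀ d ∈ D, ∀ e ∈ D, (∀ y ∈ D, Commute d y → Commute e y) → d = e

variable (hH : Hyp D)
include hH

/-- a component is not a single point -/
theorem exists_not_commute_in_orb {d e : G} (hd : d ∈ D) (he : e ∈ Dd D d) :
    ∃ a ∈ Orb D d e, ¬ Commute e a := by
  by_contra hcon
  push Not at hcon
  apply he.2.1
  symm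
  apply hH.hperp d hd e he.1
  intro y hy hdy
  by_cases hyd : y = d
  · rw [hyd]; exact he.2.2.symm
  · have hyD : y ∈ Dd D d := ⟨hy, hyd, hdy⟩
    by_contra hne
    have h1 : y ∈ Orb D d e := mem_orb_of_not_commute hH.hT hyD he (fun h => hne h.symm)
    exact hne (hcon y h1)

omit hH in
/-- elements of the maximal subgroup commute with `d` -/
theorem commute_of_mem_M {d x : G}
    (hx : x ∈ Subgroup.closure {y : G | y ∈ D ∧ Commute d y}) : Commute x d := by
  induction hx using Subgroup.closure_induction with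
  | mem x hx => exact hx.2.symm
  | one => exact Commute.one_left d
  | mul x y _ _ hx hy => exact hx.mul_left hy
  | inv x _ hx => exact hx.inv_left

/-- the normal-closure trick: if `B ⊆ D` is nonempty and `B` together with its centralizer in `D`
generates `G`, then `B` generates `G` -/
theorem closure_eq_top_of_union {B : Set G} (hBD : B ⊆ D) (hBne : B.Nonempty)
    (htop : Subgroup.closure ({x : G | x ∈ D ∧ ∀ b ∈ B, Commute x b} ∪ B) = ⊤) :
    Subgroup.closure B = ⊤ := by
  set CB : Set G := {x : G | x ∈ D ∧ ∀ b ∈ B, Commute x b} with hCB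
  set N : Subgroup G := Subgroup.closure B with hN
  have hcomm : ∀ x ∈ CB, ∀ n ∈ N, Commute x n := by
    intro x hx n hn
    induction hn using Subgroup.closure_induction with
    | mem b hb => exact hx.2 b hb
    | one => exact Commute.one_right x
    | mul a b _ _ ha hb => exact ha.mul_right hb
    | inv a _ ha => exact ha.inv_right
  have hnorm : ∀ g ∈ Subgroup.closure (CB ∪ B),
      (∀ n ∈ N, g * n * g⁻¹ ∈ N) ∧ (∀ n ∈ N, g⁻¹ * n * g ∈ N) := by
    intro g hg
    induction hg using Subgroup.closure_induction with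
    | mem x hx =>
      rcases hx with hx | hx
      · constructor
        · intro n hn
          have h1 := (hcomm x hx n hn).eq
          have : x * n * x⁻¹ = n := by rw [h1]; group
          rw [this]; exact hn
        · intro n hn
          have h1 := (hcomm x hx n hn).eq
          have : x⁻¹ * n * x = n := by
            rw [mul_assoc, ← h1]; group
          rw [this]; exact hn
      · have hxN : x ∈ N := Subgroup.subset_closure hx
        exact ⟨fun n hn => mul_mem (mul_mem hxN hn) (inv_mem hxN),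
          fun n hn => mul_mem (mul_mem (inv_mem hxN) hn) hxN⟩
    | one => simp
    | mul a b _ _ ha hb =>
      constructor
      · intro n hn
        have : a * b * n * (a * b)⁻¹ = a * (b * n * b⁻¹) * a⁻¹ := by group
        rw [this]; exact ha.1 _ (hb.1 n hn)
      · intro n hn
        have : (a * b)⁻¹ * n * (a * b) = b⁻¹ * (a⁻¹ * n * a) * b := by group
        rw [this]; exact hb.2 _ (ha.2 n hn)
    | inv a _ ha =>
      constructor
      · intro n hn
        have : a⁻¹ * n * a⁻¹⁻¹ = a⁻¹ * n * a := by group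
        rw [this]; exact ha.2 n hn
      · intro n hn
        have : a⁻¹⁻¹ * n * a⁻¹ = a * n * a⁻¹ := by group
        rw [this]; exact ha.1 n hn
  obtain ⟨y, hy⟩ := hBne
  have hyN : y ∈ N := Subgroup.subset_closure hy
  rw [eq_top_iff, ← hH.hgen, Subgroup.closure_le]
  intro v hv
  obtain ⟨g, hg⟩ := hH.htrans y (hBD hy) v hv
  rw [← hg]
  exact (hnorm g (by rw [htop]; exact Subgroup.mem_top g)).1 y hyN

/-- **rule R**: what is outside the component of `e` at `d` lies in the component of `d` at `e` -/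
theorem rule_R {d e y : G} (hd : d ∈ D) (he : e ∈ Dd D d) (hy : y ∈ Dd D d)
    (hny : y ∉ Orb D d e) : y ∈ Orb D e d := by
  by_contra hyB
  have hT := hH.hT
  have hc := hH.hc
  have heD : e ∈ D := he.1
  have hde : d ∈ Dd D e := ⟨hd, fun h => he.2.1 h.symm, he.2.2.symm⟩
  -- members of `Dd d` outside the component of `e` lie in `Dd e`
  have hin : ∀ b ∈ Dd D d, b ∉ Orb D d e → b ∈ Dd D e := by
    intro b hb hnb
    refine ⟨hb.1, ?_, ?_⟩
    · intro h; apply hnb; rw [h]; exact orb_refl d e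
    · exact (commute_of_not_mem_orb hT hc he hb hnb e (orb_refl d e)).symm
  set B : Set G := {b : G | b ∈ Dd D d ∧ b ∉ Orb D d e ∧ b ∉ Orb D e d} with hB
  set CB : Set G := {x : G | x ∈ D ∧ ∀ b ∈ B, Commute x b} with hCB
  set H : Subgroup G := Subgroup.closure (CB ∪ B) with hHdef
  have hyBm : y ∈ B := ⟨hy, hny, hyB⟩
  have hBD : B ⊆ D := fun b hb => hb.1.1
  have hCBD : CB ⊆ D := fun x hx => hx.1
  have hDsub : IsDSubgroup D H := by
    unfold IsDSubgroup
    apply le_antisymm
    · rw [Subgroup.closure_le]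
      intro x hx; exact hx.2
    · rw [hHdef, Subgroup.closure_le]
      intro x hx
      apply Subgroup.subset_closure
      refine ⟨?_, Subgroup.subset_closure hx⟩
      rcases hx with hx | hx
      · exact hCBD hx
      · exact hBD hx
  -- the component of `d` at `e` commutes with `B`
  have hTheta : ∀ v ∈ Orb D e d, v ∈ CB := by
    intro v hv
    refine ⟨(orb_subset hc hde hv).1, ?_⟩
    intro b hb
    exact (commute_of_not_mem_orb hT hc hde (hin b hb.1 hb.2.1) hb.2.2 v hv).symm
  have hMle : Subgroup.closure {y : G | y ∈ D ∧ Commute d y} ≤ H := by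
    rw [Subgroup.closure_le]
    intro v hv
    rw [SetLike.mem_coe]
    apply Subgroup.subset_closure
    by_cases hvd : v = d
    · left
      rw [hvd]
      exact ⟨hd, fun b hb => hb.1.2.2⟩
    · have hvD : v ∈ Dd D d := ⟨hv.1, hvd, hv.2⟩
      by_cases h1 : v ∈ Orb D d e
      · left
        refine ⟨hv.1, fun b hb => ?_⟩
        exact (commute_of_not_mem_orb hT hc he hb.1 hb.2.1 v h1).symm
      · by_cases h2 : v ∈ Orb D e d
        · left; exact hTheta v h2
        · right; exact ⟨hvD, h1, h2⟩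
  rcases hH.hmax d hd H hDsub hMle with hM | htop
  · -- `H = M_d`: the component of `d` at `e` commutes with `d`
    obtain ⟨a, ha, hna⟩ := exists_not_commute_in_orb hH heD hde
    apply hna
    have haH : a ∈ H := Subgroup.subset_closure (Or.inl (hTheta a ha))
    rw [hM] at haH
    exact (commute_of_mem_M haH).symm
  · -- `H = ⊤`: `⟨B⟩` is everything, and `d` is central
    have hNtop : Subgroup.closure B = ⊤ := closure_eq_top_of_union hH hBD ⟨y, hyBm⟩ htop
    have hdN : ∀ n ∈ Subgroup.closure B, Commute d n := by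
      intro n hn
      induction hn using Subgroup.closure_induction with
      | mem b hb => exact hb.1.2.2
      | one => exact Commute.one_right d
      | mul a b _ _ ha hb => exact ha.mul_right hb
      | inv a _ ha => exact ha.inv_right
    obtain ⟨g, hg⟩ := hH.htrans d hd e heD
    apply he.2.1
    rw [← hg]
    have h1 := (hdN g (by rw [hNtop]; exact Subgroup.mem_top g)).eq
    rw [← h1]; group

/-- a member of `D` not commuting with `d` cannot commute with all of `Dd D d` (if nonempty) -/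
theorem not_commute_all {d y : G} (hd : d ∈ D) (hy : y ∈ D) (hdy : ¬ Commute d y)
    (hne : (Dd D d).Nonempty) : ¬ ∀ v ∈ Dd D d, Commute y v := by
  intro hall
  set B : Set G := Dd D d with hB
  have hBD : B ⊆ D := fun b hb => hb.1
  set H : Subgroup G := Subgroup.closure ({x : G | x ∈ D ∧ ∀ b ∈ B, Commute x b} ∪ B) with hHdef
  have hDsub : IsDSubgroup D H := by
    unfold IsDSubgroup
    apply le_antisymm
    · rw [Subgroup.closure_le]
      intro x hx; exact hx.2
    · rw [hHdef, Subgroup.closure_le]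
      intro x hx
      apply Subgroup.subset_closure
      refine ⟨?_, Subgroup.subset_closure hx⟩
      rcases hx with hx | hx
      · exact hx.1
      · exact hBD hx
  have hMle : Subgroup.closure {y : G | y ∈ D ∧ Commute d y} ≤ H := by
    rw [Subgroup.closure_le]
    intro v hv
    rw [SetLike.mem_coe]
    apply Subgroup.subset_closure
    by_cases hvd : v = d
    · left
      rw [hvd]
      exact ⟨hd, fun b hb => hb.2.2⟩
    · right; exact ⟨hv.1, hvd, hv.2⟩
  have hyH : y ∈ H := Subgroup.subset_closure (Or.inl ⟨hy, hall⟩)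
  rcases hH.hmax d hd H hDsub hMle with hM | htop
  · rw [hM] at hyH
    exact hdy (commute_of_mem_M hyH).symm
  · have hNtop : Subgroup.closure B = ⊤ := closure_eq_top_of_union hH hBD hne htop
    have hyX : y ∈ Xd D d := by
      unfold Xd; rw [← hB, hNtop]; exact Subgroup.mem_top y
    exact hdy (commute_of_mem_Xd hyX).symm

omit hH in
theorem Dd_conj' (hc : ∀ g : G, ∀ d ∈ D, g * d * g⁻¹ ∈ D) (g : G) {d x : G}
    (hx : x ∈ Dd D (g * d * g⁻¹)) : g⁻¹ * x * g ∈ Dd D d := by
  have h := Dd_conj hc g⁻¹ hx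
  rw [inv_inv] at h
  have e1 : g⁻¹ * (g * d * g⁻¹) * g = d := by group
  rwa [e1] at h

omit hH in
theorem Orb_conj' (hc : ∀ g : G, ∀ d ∈ D, g * d * g⁻¹ ∈ D) (g : G) {d e z : G}
    (hz : z ∈ Orb D (g * d * g⁻¹) e) : g⁻¹ * z * g ∈ Orb D d (g⁻¹ * e * g) := by
  have h := Orb_conj hc g⁻¹ hz
  rw [inv_inv] at h
  have e1 : g⁻¹ * (g * d * g⁻¹) * g = d := by group
  rwa [e1] at h

/-- if some `Dd D u₀` is not a single orbit, then in every `Dd D u` each orbit misses some member -/
theorem exists_outside {u₀ e f : G} (hu₀ : u₀ ∈ D) (he : e ∈ Dd D u₀) (hf : f ∈ Dd D u₀)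
    (hfe : f ∉ Orb D u₀ e) {u : G} (hu : u ∈ D) {e' : G} (he' : e' ∈ Dd D u) :
    ∃ w ∈ Dd D u, w ∉ Orb D u e' := by
  have hc := hH.hc
  obtain ⟨g, hg⟩ := hH.htrans u₀ hu₀ u hu
  subst hg
  have he'' : g⁻¹ * e' * g ∈ Dd D u₀ := Dd_conj' hc g he'
  have key : ∀ w₀ ∈ Dd D u₀, w₀ ∉ Orb D u₀ (g⁻¹ * e' * g) →
      ∃ w ∈ Dd D (g * u₀ * g⁻¹), w ∉ Orb D (g * u₀ * g⁻¹) e' := by
    intro w₀ hw₀ hn
    refine ⟨g * w₀ * g⁻¹, Dd_conj hc g hw₀, ?_⟩
    intro h
    apply hn
    have h2 := Orb_conj' hc g h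
    have e1 : g⁻¹ * (g * w₀ * g⁻¹) * g = w₀ := by group
    rwa [e1] at h2
  by_cases h1 : e ∈ Orb D u₀ (g⁻¹ * e' * g)
  · apply key f hf
    intro h2
    exact hfe (orb_trans (orb_symm h1) h2)
  · exact key e he h1

open Classical in
theorem orb_eq_aux (hne : ∃ u₀ ∈ D, ∃ e ∈ Dd D u₀, ∃ f ∈ Dd D u₀, f ∉ Orb D u₀ e) :
    ∀ n : ℕ, ∃ (P : Finset G) (u : G), P.card = n + 1 ∧ u ∈ P ∧ (∀ p ∈ P, p ∈ D) ∧
      (∀ p ∈ P, ∀ q ∈ P, Commute p q) ∧ ∃ e₀ ∈ Dd D u, ∀ p ∈ P, p ≠ u → p ∈ Orb D u e₀ := by
  obtain ⟨u₀, hu₀, e, he, f, hf, hfe⟩ := hne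
  have hT := hH.hT
  have hc := hH.hc
  intro n
  induction n with
  | zero =>
    refine ⟨{u₀}, u₀, by simp, by simp, ?_, ?_, e, he, ?_⟩
    · intro p hp; rw [Finset.mem_singleton] at hp; rw [hp]; exact hu₀
    · intro p hp q hq
      rw [Finset.mem_singleton] at hp hq
      rw [hp, hq]
    · intro p hp hpu
      rw [Finset.mem_singleton] at hp
      exact absurd hp hpu
  | succ n ih =>
    obtain ⟨P, u, hcard, huP, hPD, hPc, e₀, he₀, hPo⟩ := ih
    have huD : u ∈ D := hPD u huP
    obtain ⟨w, hw, hnw⟩ := exists_outside hH hu₀ he hf hfe huD he₀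
    have hwP : w ∉ P := by
      intro h
      exact hnw (hPo w h hw.2.1)
    have huw : u ∈ Dd D w := ⟨huD, fun h => hw.2.1 h.symm, hw.2.2.symm⟩
    have hwp : ∀ p ∈ P, Commute w p := by
      intro p hp
      by_cases hpu : p = u
      · rw [hpu]; exact hw.2.2.symm
      · exact commute_of_not_mem_orb hT hc he₀ hw hnw p (hPo p hp hpu)
    refine ⟨insert w P, w, ?_, Finset.mem_insert_self w P, ?_, ?_, u, huw, ?_⟩
    · rw [Finset.card_insert_of_notMem hwP, hcard]
    · intro p hp
      rw [Finset.mem_insert] at hp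
      rcases hp with rfl | hp
      · exact hw.1
      · exact hPD p hp
    · intro p hp q hq
      rw [Finset.mem_insert] at hp hq
      rcases hp with rfl | hp
      · rcases hq with rfl | hq
        · exact Commute.refl _
        · exact hwp q hq
      · rcases hq with rfl | hq
        · exact (hwp p hp).symm
        · exact hPc p hp q hq
    · intro p hp hpw
      rw [Finset.mem_insert] at hp
      rcases hp with rfl | hp
      · exact absurd rfl hpw
      · by_cases hpu : p = u
        · rw [hpu]; exact orb_refl w u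
        · have hpo := hPo p hp hpu
          have hpD : p ∈ Dd D u := orb_subset hc he₀ hpo
          apply rule_R hH huD hw hpD
          intro h
          exact hnw (orb_trans hpo (orb_symm h))

/-- **Fischer's transitivity theorem, part A**: `Dd D u` is a single orbit of `Xd D u` -/
theorem orb_eq [Finite G] {u e f : G} (hu : u ∈ D) (he : e ∈ Dd D u) (hf : f ∈ Dd D u) :
    f ∈ Orb D u e := by
  by_contra hfe
  have := Fintype.ofFinite G
  obtain ⟨P, -, hcard, -⟩ := orb_eq_aux hH ⟨u, hu, e, he, f, hf, hfe⟩ (Fintype.card G)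
  have := Finset.card_le_univ P
  omega

end Cfsg.Agent.Lib.Helper8.FT
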