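import Mathlib
import Cfsg.Prelude.Def_FischerSpaces
import Cfsg.Agent.Lib.Helper8.FischerTrans1
set_option autoImplicit false

/-!
Fischer's transitivity theorem, part B: under the hypotheses of part A and connectedness of the
commuting graph, the centraliser of `d` is transitive on the members of `D` not commuting with `d`.
-/

namespace Cfsg.Agent.Lib.Helper8.FT

open Cfsg Cfsg.Agent.Lib.Helper90

variable {G : Type*} [Group G] {D : Set G}

/-- the orbit of `x` under the centraliser of `d` -/
def Col (d x : G) : Set G := {y : G | ∃ g : G, Commute g d ∧ g * x * g⁻¹ = y}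

theorem col_refl (d x : G) : x ∈ Col d x := ⟨1, Commute.one_left d, by group⟩

theorem col_symm {d x y : G} (h : y ∈ Col d x) : x ∈ Col d y := by
  obtain ⟨g, hg, rfl⟩ := h
  exact ⟨g⁻¹, hg.inv_left, by group⟩

theorem col_trans {d x y z : G} (h1 : y ∈ Col d x) (h2 : z ∈ Col d y) : z ∈ Col d x := by
  obtain ⟨g, hg, rfl⟩ := h1
  obtain ⟨h, hh, rfl⟩ := h2
  exact ⟨h * g, hh.mul_left hg, by group⟩

/-- conjugating by an element of the centraliser of `d` preserves non-commutation with `d` -/
theorem not_commute_conj {d g x : G} (hg : Commute g d) (hx : ¬ Commute d x) :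
    ¬ Commute d (g * x * g⁻¹) := by
  intro h
  apply hx
  have h1 : d * (g * x * g⁻¹) = g * x * g⁻¹ * d := h
  have h2 : g * d = d * g := hg
  show d * x = x * d
  calc d * x = g⁻¹ * (g * d) * x := by group
    _ = g⁻¹ * (d * g) * x := by rw [h2]
    _ = g⁻¹ * (d * (g * x * g⁻¹)) * g := by group
    _ = g⁻¹ * (g * x * g⁻¹ * d) * g := by rw [h1]
    _ = x * (g⁻¹ * (d * g)) := by group
    _ = x * (g⁻¹ * (g * d)) := by rw [h2]
    _ = x * d := by group

section words

variable (hT : IsThreeTranspositionSet D) (hc : ∀ g : G, ∀ d ∈ D, g * d * g⁻¹ ∈ D)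
include hT hc

/-- commuting members of `D`, both not commuting with `d`, are conjugate under the centraliser
of `d` (they lie in a common `S₄`) -/
theorem col_of_commute {d u y : G} (hd : d ∈ D) (hu : u ∈ D) (hy : y ∈ D)
    (hdu : ¬ Commute d u) (hdy : ¬ Commute d y) (huy : Commute u y) : y ∈ Col d u := by
  have hdd := tt_sq hT hd
  have huu := tt_sq hT hu
  have hyy := tt_sq hT hy
  have hdi := tt_inv hT hd
  have hui := tt_inv hT hu
  have hyi := tt_inv hT hy
  -- y' = d y d
  set y' : G := d * y * d with hy'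
  have hy'D : y' ∈ D := by
    have := hc d y hy
    rwa [hdi] at this
  have hy'y' := tt_sq hT hy'D
  have hy'i := tt_inv hT hy'D
  have hbdy := tt_braid hT hd hy hdy  -- y * d * y = d * y * d
  have hbdu := tt_braid hT hd hu hdu  -- u * d * u = d * u * d
  -- d = y y' y
  have hdyy : d = y * y' * y := by
    rw [hy', ← hbdy]
    calc d = (y * y) * d * (y * y) := by rw [hyy]; simp
      _ = y * (y * d * y) * y := by simp only [mul_assoc]
  -- u does not commute with y'
  have huy' : ¬ Commute u y' := by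
    intro h
    apply hdu
    rw [hdyy]
    exact ((huy.symm.mul_left h.symm).mul_left huy.symm)
  have hbuy' := tt_braid hT hu hy'D huy'  -- y' * u * y' = u * y' * u
  set e : G := u * y' * u with he
  have heD : e ∈ D := by
    have := hc u y' hy'D
    rwa [hui] at this
  have hee := tt_sq hT heD
  have hei := tt_inv hT heD
  have hdt : ∀ z : G, d * (d * z) = z := fun z => by rw [← mul_assoc, hdd, one_mul]
  have hut : ∀ z : G, u * (u * z) = z := fun z => by rw [← mul_assoc, huu, one_mul]
  have hdy'd : d * y' * d = y := by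
    rw [hy']
    simp only [mul_assoc, hdt, hdd, mul_one]
  have huyu : u * y * u = y := by
    rw [huy.eq, mul_assoc, huu, mul_one]
  -- e commutes with d
  have hed : d * e * d = e := by
    calc d * e * d = (d * u * d) * (d * y' * d) * (d * u * d) := by
          rw [he]; simp only [mul_assoc, hdt]
      _ = (u * d * u) * y * (u * d * u) := by rw [← hbdu, hdy'd]
      _ = u * d * (u * y * u) * d * u := by simp only [mul_assoc]
      _ = u * (d * y * d) * u := by rw [huyu]; simp only [mul_assoc]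
      _ = e := by rw [he, hy']
  -- e conjugates u to y'
  have heu : e * u * e = y' := by
    calc e * u * e = u * (y' * u * y') * u := by
          rw [he]; simp only [mul_assoc, hut]
      _ = u * (u * y' * u) * u := by rw [hbuy']
      _ = y' := by simp only [mul_assoc, hut, huu, mul_one]
  refine ⟨d * e, ?_, ?_⟩
  · show d * e * d = d * (d * e)
    rw [hed, hdt]
  · rw [mul_inv_rev, hei, hdi]
    calc d * e * u * (e * d) = d * (e * u * e) * d := by simp only [mul_assoc]
      _ = y := by rw [heu, hdy'd]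

/-- (*) two members not commuting with `d` in different orbits of the centraliser of `d`: whatever
commutes with both commutes with `d` -/
theorem star {d y z u : G} (hd : d ∈ D) (hy : y ∈ D) (hz : z ∈ D) (hu : u ∈ D)
    (hdy : ¬ Commute d y) (hdz : ¬ Commute d z) (hzy : z ∉ Col d y)
    (huy : Commute u y) (huz : Commute u z) : Commute d u := by
  by_contra hdu
  have h1 : y ∈ Col d u := col_of_commute hT hc hd hu hy hdu hdy huy
  have h2 : z ∈ Col d u := col_of_commute hT hc hd hu hz hdu hdz huz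
  exact hzy (col_trans (col_symm h1) h2)

omit hc in
/-- triangle lemma: for pairwise non-commuting `d, x, y`, if `d, y` are conjugate under `C(x)` and
`d, x` are conjugate under `C(y)` then `x, y` are conjugate under `C(d)` -/
theorem col_triangle {d x y : G} (hd : d ∈ D) (hx : x ∈ D) (hdx : ¬ Commute d x)
    (h1 : y ∈ Col x d) (h2 : x ∈ Col y d) : y ∈ Col d x := by
  obtain ⟨g, hg, hgd⟩ := h1
  obtain ⟨h, hh, hhd⟩ := h2
  have hdd := tt_sq hT hd
  have hxx := tt_sq hT hx
  have hdi := tt_inv hT hd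
  have hxi := tt_inv hT hx
  have hb := tt_braid hT hd hx hdx  -- x * d * x = d * x * d
  obtain ⟨s, hs⟩ : ∃ s : G, s = d * x * d := ⟨_, rfl⟩
  have hsi : s⁻¹ = s := by
    rw [hs, mul_inv_rev, mul_inv_rev, hdi, hxi, mul_assoc]
  have hdt : ∀ z : G, d * (d * z) = z := fun z => by rw [← mul_assoc, hdd, one_mul]
  have hxt : ∀ z : G, x * (x * z) = z := fun z => by rw [← mul_assoc, hxx, one_mul]
  have hsd : s * d * s⁻¹ = x := by
    rw [hsi, hs]
    calc d * x * d * d * (d * x * d) = d * (x * d * x) * d := by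
          simp only [mul_assoc, hdt]
      _ = d * (d * x * d) * d := by rw [hb]
      _ = x := by simp only [mul_assoc, hdt, hdd, mul_one]
  have hsx : s * x * s⁻¹ = d := by
    rw [hsi, hs, ← hb]
    calc x * d * x * x * (x * d * x) = x * (d * x * d) * x := by
          simp only [mul_assoc, hxt]
      _ = x * (x * d * x) * x := by rw [hb]
      _ = d := by simp only [mul_assoc, hxt, hxx, mul_one]
  have hgx : g * x * g⁻¹ = x := by rw [hg.eq]; group
  have hhy : h⁻¹ * y * h = y := by
    have : h * y = y * h := hh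
    rw [mul_assoc, ← this]; group
  have hhx : h⁻¹ * x * h = d := by rw [← hhd]; group
  refine ⟨h⁻¹ * g * s, ?_, ?_⟩
  · have key : (h⁻¹ * g * s) * d * (h⁻¹ * g * s)⁻¹ = d := by
      calc (h⁻¹ * g * s) * d * (h⁻¹ * g * s)⁻¹ = h⁻¹ * (g * (s * d * s⁻¹) * g⁻¹) * h := by group
        _ = d := by rw [hsd, hgx, hhx]
    show (h⁻¹ * g * s) * d = d * (h⁻¹ * g * s)
    calc (h⁻¹ * g * s) * d = ((h⁻¹ * g * s) * d * (h⁻¹ * g * s)⁻¹) * (h⁻¹ * g * s) := by group
      _ = d * (h⁻¹ * g * s) := by rw [key]
  · calc (h⁻¹ * g * s) * x * (h⁻¹ * g * s)⁻¹ = h⁻¹ * (g * (s * x * s⁻¹) * g⁻¹) * h := by group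
      _ = y := by rw [hsx, hgd, hhy]

end words

/-- the common commuting partners of `d` and `x` -/
def Ed (D : Set G) (d x : G) : Set G := {e : G | e ∈ Dd D d ∧ Commute x e}

theorem Ed_conj (hc : ∀ g : G, ∀ d ∈ D, g * d * g⁻¹ ∈ D) {d g x e : G} (hg : Commute g d)
    (he : e ∈ Ed D d x) : g * e * g⁻¹ ∈ Ed D d (g * x * g⁻¹) := by
  have h1 := Dd_conj hc g he.1
  have h2 : g * d * g⁻¹ = d := by rw [hg.eq]; group
  rw [h2] at h1
  refine ⟨h1, ?_⟩
  show g * x * g⁻¹ * (g * e * g⁻¹) = g * e * g⁻¹ * (g * x * g⁻¹)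
  calc g * x * g⁻¹ * (g * e * g⁻¹) = g * (x * e) * g⁻¹ := by group
    _ = g * (e * x) * g⁻¹ := by rw [he.2.eq]
    _ = g * e * g⁻¹ * (g * x * g⁻¹) := by group

theorem Ed_ncard [Finite G] (hc : ∀ g : G, ∀ d ∈ D, g * d * g⁻¹ ∈ D) {d x x' : G}
    (hx' : x' ∈ Col d x) : (Ed D d x').ncard = (Ed D d x).ncard := by
  obtain ⟨g, hg, rfl⟩ := hx'
  have himg : Ed D d (g * x * g⁻¹) = (fun e => g * e * g⁻¹) '' Ed D d x := by
    ext e
    constructor
    · intro he
      refine ⟨g⁻¹ * e * g, ?_, by group⟩
      have := Ed_conj hc hg.inv_left he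
      rw [inv_inv] at this
      have e1 : g⁻¹ * (g * x * g⁻¹) * g = x := by group
      rwa [e1] at this
    · rintro ⟨e', he', rfl⟩
      exact Ed_conj hc hg he'
  rw [himg]
  apply Set.ncard_image_of_injective
  intro a b hab
  have := congrArg (fun t => g⁻¹ * t * g) hab
  simpa [mul_assoc] using this

theorem Ed_subset_or (hT : IsThreeTranspositionSet D) (hc : ∀ g : G, ∀ d ∈ D, g * d * g⁻¹ ∈ D)
    {d x y : G} (hd : d ∈ D) (hx : x ∈ D) (hy : y ∈ D) (hdx : ¬ Commute d x)
    (hdy : ¬ Commute d y) (hyx : y ∉ Col d x) :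
    Ed D d y ⊆ Ed D d x ∨ Ed D d x ⊆ Ed D d y := by
  by_cases h1 : y ∈ Col x d
  · right
    have h2 : x ∉ Col y d := fun h2 => hyx (col_triangle hT hd hx hdx h1 h2)
    intro e he
    refine ⟨he.1, ?_⟩
    exact star hT hc hy hd hx he.1.1 (fun h => hdy h.symm)
      (fun h => hyx (col_of_commute hT hc hd hx hy hdx hdy h.symm)) h2 he.1.2.2.symm he.2.symm
  · left
    intro e he
    refine ⟨he.1, ?_⟩
    exact star hT hc hx hd hy he.1.1 (fun h => hdx h.symm)
      (fun h => hyx (col_of_commute hT hc hd hx hy hdx hdy h)) h1 he.1.2.2.symm he.2.symm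

section main

variable [Finite G] (hH : Hyp D)
include hH

theorem Ed_empty_of_le {d x y : G} (hd : d ∈ D) (hx : x ∈ D) (hy : y ∈ D)
    (hdx : ¬ Commute d x) (hdy : ¬ Commute d y) (hyx : y ∉ Col d x)
    (hle : (Ed D d x).ncard ≤ (Ed D d y).ncard) : Ed D d x = ∅ := by
  have hT := hH.hT
  have hc := hH.hc
  by_contra hne
  obtain ⟨e, he⟩ := Set.nonempty_iff_ne_empty.mpr hne
  have hsub : ∀ x' ∈ Col d x, Ed D d x' ⊆ Ed D d y := by
    intro x' hx'
    have hx'D : x' ∈ D := by
      obtain ⟨g, -, rfl⟩ := hx'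
      exact hc g x hx
    have hdx' : ¬ Commute d x' := by
      obtain ⟨g, hg, rfl⟩ := hx'
      exact not_commute_conj hg hdx
    have hyx' : y ∉ Col d x' := fun h => hyx (col_trans hx' h)
    rcases Ed_subset_or hT hc hd hx'D hy hdx' hdy hyx' with h | h
    · have hcard : (Ed D d x').ncard ≤ (Ed D d y).ncard := by
        rw [Ed_ncard hc hx']; exact hle
      have := Set.eq_of_subset_of_ncard_le h hcard (Set.toFinite _)
      rw [this]
    · exact h
  have hall : ∀ v ∈ Dd D d, Commute y v := by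
    intro v hv
    obtain ⟨g, hg, rfl⟩ := orb_eq hH hd he.1 hv
    have hgd := commute_of_mem_Xd hg
    have h1 := Ed_conj hc hgd he
    exact (hsub _ ⟨g, hgd, rfl⟩ h1).2
  exact not_commute_all hH hd hy hdy ⟨e, he.1⟩ hall

theorem false_of_Ed_empty (hconn : (commutingGraph D).Connected) {d x : G} (hd : d ∈ D)
    (hx : x ∈ D) (hdx : ¬ Commute d x) (hE : Ed D d x = ∅) : False := by
  have hT := hH.hT
  have hc := hH.hc
  have hE' : ∀ x' ∈ Col d x, Ed D d x' = ∅ := by
    intro x' hx'
    have h := Ed_ncard hc hx'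
    rw [hE, Set.ncard_empty] at h
    exact (Set.ncard_eq_zero (Set.toFinite _)).mp h
  have hstep : ∀ a b : D, (commutingGraph D).Adj a b → (a : G) ∈ Col d x → (b : G) ∈ Col d x := by
    intro a b hab ha
    unfold commutingGraph at hab
    rw [SimpleGraph.fromRel_adj] at hab
    have hne : (a : G) ≠ (b : G) := fun h => hab.1 (Subtype.ext h)
    have hcom : Commute (a : G) (b : G) := by
      rcases hab.2 with h | h
      · exact h
      · exact h.symm
    have haD : (a : G) ∈ D := a.2
    have hda : ¬ Commute d (a : G) := by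
      obtain ⟨g, hg, hga⟩ := ha
      rw [← hga]
      exact not_commute_conj hg hdx
    have hdb : ¬ Commute d (b : G) := by
      intro h
      have hbd : (b : G) ≠ d := by
        intro h2
        apply hda
        rw [← h2]; exact hcom.symm
      have : (b : G) ∈ Ed D d (a : G) := ⟨⟨b.2, hbd, h⟩, hcom⟩
      rw [hE' _ ha] at this
      exact this
    exact col_trans ha (col_of_commute hT hc hd haD b.2 hda hdb hcom)
  have hwalk : ∀ a b : D, (commutingGraph D).Walk a b → (a : G) ∈ Col d x → (b : G) ∈ Col d x := by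
    intro a b w
    induction w with
    | nil => exact id
    | cons hadj _ ih => exact fun ha => ih (hstep _ _ hadj ha)
  obtain ⟨w⟩ := hconn.preconnected ⟨x, hx⟩ ⟨d, hd⟩
  have hdcol : d ∈ Col d x := hwalk _ _ w (col_refl d x)
  obtain ⟨g, hg, hgx⟩ := hdcol
  apply hdx
  have : x = g⁻¹ * d * g := by rw [← hgx]; group
  rw [this]
  exact ((hg.inv_left.symm.mul_right (Commute.refl d)).mul_right hg.symm)

/-- **Fischer's transitivity theorem, part B** -/
theorem col_eq (hconn : (commutingGraph D).Connected) {d x y : G} (hd : d ∈ D) (hx : x ∈ D)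
    (hy : y ∈ D) (hdx : ¬ Commute d x) (hdy : ¬ Commute d y) : y ∈ Col d x := by
  by_contra hyx
  rcases le_total (Ed D d x).ncard (Ed D d y).ncard with h | h
  · exact false_of_Ed_empty hH hconn hd hx hdx (Ed_empty_of_le hH hd hx hy hdx hdy hyx h)
  · exact false_of_Ed_empty hH hconn hd hy hdy
      (Ed_empty_of_le hH hd hy hx hdy hdx (fun h' => hyx (col_symm h')) h)

end main

end Cfsg.Agent.Lib.Helper8.FT
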