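import Mathlib
import Cfsg.Prelude.Def_FischerSpaces
import Cfsg.Prelude.Def_Local
import Cfsg.Agent.Lib.Helper8.FischerTrans2
import Cfsg.Agent.Lib.Helper90.TTMax
import Cfsg.Agent.Lib.Helper90.TTSimple
set_option autoImplicit false

/-!
Fischer's transitivity theorem for primitive 3-transposition groups, and primitivity from a
non-abelian simple commutator subgroup.
-/

namespace Cfsg.Agent.Lib.Helper8.FT

open Cfsg Cfsg.Agent.Lib.Helper90

universe u

variable {G : Type u} [Group G] {D : Set G}

section prim

variable [Finite G]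

/-- in a primitive 3-transposition group no two different members of `D` have comparable
commuting sets -/
theorem perp_inj (hG : IsThreeTranspositionGroup D) (hprim : IsPrimitiveUnderConj D)
    {d e : G} (hd : d ∈ D) (he : e ∈ D) (h : ∀ y ∈ D, Commute d y → Commute e y) : d = e := by
  obtain ⟨hT, hc, hgen⟩ := hG
  obtain ⟨htrans, hD2, hblk⟩ := hprim
  obtain ⟨g, hg⟩ := htrans d hd e he
  set C : G → Set G := fun x => {y : G | y ∈ D ∧ Commute x y} with hC
  have hsub : C d ⊆ C e := fun y hy => ⟨hy.1, h y hy.1 hy.2⟩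
  have himg : C e = (fun y => g * y * g⁻¹) '' C d := by
    ext y
    constructor
    · intro hy
      refine ⟨g⁻¹ * y * g, ⟨?_, ?_⟩, by group⟩
      · have := hc g⁻¹ y hy.1
        rwa [inv_inv] at this
      · have h1 : e * y = y * e := hy.2
        rw [← hg] at h1
        show d * (g⁻¹ * y * g) = g⁻¹ * y * g * d
        calc d * (g⁻¹ * y * g) = g⁻¹ * (g * d * g⁻¹ * y) * g := by group
          _ = g⁻¹ * (y * (g * d * g⁻¹)) * g := by rw [h1]
          _ = g⁻¹ * y * g * d := by group
    · rintro ⟨y, hy, rfl⟩
      refine ⟨hc g y hy.1, ?_⟩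
      rw [← hg]
      show g * d * g⁻¹ * (g * y * g⁻¹) = g * y * g⁻¹ * (g * d * g⁻¹)
      calc g * d * g⁻¹ * (g * y * g⁻¹) = g * (d * y) * g⁻¹ := by group
        _ = g * (y * d) * g⁻¹ := by rw [hy.2.eq]
        _ = g * y * g⁻¹ * (g * d * g⁻¹) := by group
  have hcard : (C e).ncard ≤ (C d).ncard := by
    rw [himg]
    exact Set.ncard_image_le (Set.toFinite _)
  have heq : C d = C e := Set.eq_of_subset_of_ncard_le hsub hcard (Set.toFinite _)
  have hR := sameCommute_invEquiv (D := D) hc
  set B : Set G := {v : G | v ∈ D ∧ ∀ y ∈ D, Commute v y ↔ Commute d y} with hB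
  have hBD : B ⊆ D := fun v hv => hv.1
  have hdB : d ∈ B := ⟨hd, fun y _ => Iff.rfl⟩
  have heB : e ∈ B := by
    refine ⟨he, fun y hy => ?_⟩
    constructor
    · intro h1
      have : y ∈ C e := ⟨hy, h1⟩
      rw [← heq] at this
      exact this.2
    · intro h1
      exact h y hy h1
  rcases hblk B hBD (hR.class_block hc d) with hs | hall
  · exact hs hdB heB
  · -- `d` commutes with all of `D`, hence is central
    have hdall : ∀ v ∈ D, Commute d v := by
      intro v hv
      have hvB : v ∈ B := by rw [hall]; exact hv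
      exact (hvB.2 v hv).mp (Commute.refl v)
    have hdtop : ∀ x ∈ Subgroup.closure D, Commute d x := by
      intro x hx
      induction hx using Subgroup.closure_induction with
      | mem v hv => exact hdall v hv
      | one => exact Commute.one_right d
      | mul a b _ _ ha hb => exact ha.mul_right hb
      | inv a _ ha => exact ha.inv_right
    have h1 := (hdtop g (by rw [hgen]; exact Subgroup.mem_top g)).eq
    rw [← hg, ← h1]; group

/-- the hypotheses of the transitivity theorems hold in primitive 3-transposition groups of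
width at least two -/
theorem hyp_of_prim (hG : IsThreeTranspositionGroup D) (hprim : IsPrimitiveUnderConj D)
    (hw : ∃ a ∈ D, ∃ b ∈ D, a ≠ b ∧ Commute a b) : Hyp D where
  hT := hG.1
  hc := hG.2.1
  hgen := hG.2.2
  htrans := hprim.1
  hmax := fun _ hd => (tt_centralizer_maximal hG hprim hw hd).2
  hperp := fun _ hd _ he h => perp_inj hG hprim hd he h

/-- **Fischer**: in a primitive 3-transposition group of width at least two, the members of `D`
other than `d` commuting with `d` are conjugate under the subgroup they generate -/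
theorem prim_Dd_transitive (hG : IsThreeTranspositionGroup D) (hprim : IsPrimitiveUnderConj D)
    (hw : ∃ a ∈ D, ∃ b ∈ D, a ≠ b ∧ Commute a b) {d : G} (hd : d ∈ D)
    {y y' : G} (hy : y ∈ {y : G | y ∈ D ∧ y ≠ d ∧ Commute d y})
    (hy' : y' ∈ {y : G | y ∈ D ∧ y ≠ d ∧ Commute d y}) :
    ∃ g ∈ Subgroup.closure {y : G | y ∈ D ∧ y ≠ d ∧ Commute d y}, g * y * g⁻¹ = y' := by
  obtain ⟨g, hg, h⟩ := orb_eq (hyp_of_prim hG hprim hw) hd hy hy'
  exact ⟨g, hg, h.symm⟩

/-- **Fischer**: in a primitive 3-transposition group of width at least two, the centraliser of `d`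
is transitive on the members of `D` not commuting with `d` -/
theorem prim_Ad_transitive (hG : IsThreeTranspositionGroup D) (hprim : IsPrimitiveUnderConj D)
    (hw : ∃ a ∈ D, ∃ b ∈ D, a ≠ b ∧ Commute a b) {d c c' : G} (hd : d ∈ D)
    (hc : c ∈ D) (hc' : c' ∈ D) (hdc : ¬ Commute d c) (hdc' : ¬ Commute d c') :
    ∃ g : G, Commute g d ∧ g * c * g⁻¹ = c' :=
  col_eq (hyp_of_prim hG hprim hw) (prim_connected hG hprim hw) hd hc hc' hdc hdc'

end prim

end Cfsg.Agent.Lib.Helper8.FT
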