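import Mathlib
import Cfsg.Prelude.Def_FischerSpaces
import Cfsg.Prelude.Def_Local
import Cfsg.Agent.Lib.Helper8.FischerTrans3
set_option autoImplicit false

/-!
A finite group generated by a class of 3-transpositions with non-abelian simple commutator subgroup is
primitive of width at least two.
-/

namespace Cfsg.Agent.Lib.Helper8.FT

open Cfsg Cfsg.Agent.Lib.Helper90
open scoped commutatorElement

universe u

variable {G : Type u} [Group G] {D : Set G} [Finite G]

/-- a finite group with a subgroup which is a simple non-abelian `p`-group does not exist -/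
theorem not_le_pCore_of_simple_nonab {p : ℕ} [Fact p.Prime] {S : Subgroup G}
    (hS : IsSimpleGroup ↥S) (hnonab : ∃ x y : ↥S, x * y ≠ y * x) : ¬ S ≤ pCore p G := by
  intro hle
  have hp : IsPGroup p ↥S := by
    have h1 := pCore_isPGroup p G
    exact IsPGroup.of_injective h1 (Subgroup.inclusion hle) (Subgroup.inclusion_injective hle)
  have : Group.IsNilpotent ↥S := hp.isNilpotent
  have hsol : Group.IsSolvable ↥S := inferInstance
  obtain ⟨x, y, hxy⟩ := hnonab
  exact hxy (IsSimpleGroup.comm_iff_isSolvable.mpr hsol x y)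

theorem prim_of_simple_nonab
    (hZs : ∀ H : Subgroup G, Cfsg.Agent.Lib.Helper58.ZStarProd.ZStarHyp ↥H)
    (hD : IsThreeTranspositionClass D)
    (hS : IsSimpleGroup (commutator G)) (hnonab : ∃ x y : commutator G, x * y ≠ y * x) :
    IsPrimitiveUnderConj D ∧ ∃ a ∈ D, ∃ b ∈ D, a ≠ b ∧ Commute a b := by
  have hG := class_to_group hD
  obtain ⟨hT, hc, hgen⟩ := hG
  have hD' := hD
  obtain ⟨-, ⟨d₀, hd₀, hDd⟩, -⟩ := hD'
  set S := commutator G with hSdef
  -- conjugate members differ by an element of `G'`
  have hdiff : ∀ a ∈ D, ∀ b ∈ D, a⁻¹ * b ∈ S := by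
    intro a ha b hb
    have h1 : IsConj d₀ a := by rw [hDd] at ha; exact ha
    have h2' : IsConj d₀ b := by rw [hDd] at hb; exact hb
    obtain ⟨g, hg⟩ := isConj_iff.mp (h1.symm.trans h2')
    have : a⁻¹ * b = ⁅a⁻¹, g⁆ := by
      rw [commutatorElement_def, ← hg, inv_inv]; group
    rw [this, hSdef, commutator_def]
    exact Subgroup.commutator_mem_commutator (Subgroup.mem_top _) (Subgroup.mem_top _)
  -- dichotomy for normal subgroups
  have hdich : ∀ N : Subgroup G, N.Normal → N ⊓ S = ⊥ ∨ S ≤ N := by
    intro N hN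
    have hn : ((N ⊓ S).subgroupOf S).Normal := by
      have : (N ⊓ S).Normal := Subgroup.normal_inf_normal N S
      exact this.subgroupOf S
    rcases hn.eq_bot_or_eq_top with h | h
    · left
      rw [Subgroup.subgroupOf_eq_bot] at h
      have : N ⊓ S ≤ ⊥ := by
        have := h (le_refl (N ⊓ S)) inf_le_right
        exact this
      exact le_bot_iff.mp this
    · right
      rw [Subgroup.subgroupOf_eq_top] at h
      exact h.trans inf_le_left
  -- a normal subgroup meeting `G'` trivially is central
  have hcentral : ∀ N : Subgroup G, N.Normal → N ⊓ S = ⊥ → N ≤ Subgroup.center G := by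
    intro N hN hNS q hq
    rw [Subgroup.mem_center_iff]
    intro g
    have h1 : ⁅q, g⁆ ∈ N := by
      rw [commutatorElement_def]
      have : q * g * q⁻¹ * g⁻¹ = q * (g * q⁻¹ * g⁻¹) := by group
      rw [this]
      exact mul_mem hq (hN.conj_mem _ (inv_mem hq) g)
    have h2 : ⁅q, g⁆ ∈ S := by
      rw [hSdef, commutator_def]
      exact Subgroup.commutator_mem_commutator (Subgroup.mem_top _) (Subgroup.mem_top _)
    have h3 : ⁅q, g⁆ ∈ N ⊓ S := ⟨h1, h2⟩
    rw [hNS, Subgroup.mem_bot, commutatorElement_eq_one_iff_commute] at h3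
    exact h3.eq.symm
  -- a non-commuting pair exists
  have hnc : ∃ a ∈ D, ∃ b ∈ D, ¬ Commute a b := by
    by_contra hcon
    push Not at hcon
    have hab : ∀ x ∈ Subgroup.closure D, ∀ y ∈ Subgroup.closure D, Commute x y := by
      intro x hx
      induction hx using Subgroup.closure_induction with
      | mem v hv =>
        intro y hy
        induction hy using Subgroup.closure_induction with
        | mem w hw => exact hcon v hv w hw
        | one => exact Commute.one_right v
        | mul a b _ _ ha hb => exact ha.mul_right hb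
        | inv a _ ha => exact ha.inv_right
      | one => intro y _; exact Commute.one_left y
      | mul a b _ _ ha hb => intro y hy; exact (ha y hy).mul_left (hb y hy)
      | inv a _ ha => intro y hy; exact (ha y hy).inv_left
    obtain ⟨x, y, hxy⟩ := hnonab
    apply hxy
    apply Subtype.ext
    exact (hab x.1 (by rw [hgen]; exact Subgroup.mem_top _) y.1
      (by rw [hgen]; exact Subgroup.mem_top _)).eq
  have hD2 : ∃ a ∈ D, ∃ b ∈ D, a ≠ b := by
    obtain ⟨a, ha, b, hb, hab⟩ := hnc
    exact ⟨a, ha, b, hb, fun h => hab (by rw [h])⟩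
  have : Fact (Nat.Prime 2) := ⟨Nat.prime_two⟩
  have : Fact (Nat.Prime 3) := ⟨Nat.prime_three⟩
  have h2 : pCore 2 G ≤ Subgroup.center G := by
    rcases hdich _ (pCore_normal 2 G) with h | h
    · exact hcentral _ (pCore_normal 2 G) h
    · exact absurd h (not_le_pCore_of_simple_nonab hS hnonab)
  have h3 : pCore 3 G ≤ Subgroup.center G := by
    rcases hdich _ (pCore_normal 3 G) with h | h
    · exact hcentral _ (pCore_normal 3 G) h
    · exact absurd h (not_le_pCore_of_simple_nonab hS hnonab)
  obtain ⟨L, hLn, hLq, hF, -⟩ := tt_component_structure hZs hD hD2 h2 h3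
  -- `G' ≤ L`
  have hSL : S ≤ L := by
    rcases hdich L hLn with h | h
    · exfalso
      have h1 : ⁅L, L⁆ = L := Cfsg.Agent.Lib.Helper21.qs_commutator_eq_self hLq
      have hLS : L ≤ S := by
        rw [hSdef, commutator_def, ← h1]
        exact Subgroup.commutator_mono le_top le_top
      have : L = ⊥ := by
        rw [← h]; exact (inf_of_le_left hLS).symm
      have hnt : Nontrivial ↥L := Cfsg.Agent.Lib.Helper21.qs_nontrivial hLq
      rw [this] at hnt
      exact not_nontrivial _ hnt
    · exact h
  obtain ⟨a, ha, -⟩ := hD2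
  have htop : L ⊔ Subgroup.zpowers a = ⊤ := by
    rw [eq_top_iff, ← hgen, Subgroup.closure_le]
    intro v hv
    have : v = a * (a⁻¹ * v) := by group
    rw [SetLike.mem_coe, this, sup_comm]
    exact Subgroup.mul_mem_sup (Subgroup.mem_zpowers a) (hSL (hdiff a ha v hv))
  have hidx := index_le_two_of_sup_zpowers hLn (hT.1 a ha) htop
  have hD2' : ∃ a ∈ D, ∃ b ∈ D, a ≠ b := by
    obtain ⟨a, ha, b, hb, hab⟩ := hnc
    exact ⟨a, ha, b, hb, fun h => hab (by rw [h])⟩
  refine ⟨tt_primitive_of_index_le_two hD hD2' h2 h3 L hLq hF hidx, ?_⟩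
  have hLc : IsComponent L := ⟨hLn.isSubnormal, hLq⟩
  obtain ⟨l, -, hne, hcom⟩ := exists_lconj_commute hZs hD ha hLc
  exact ⟨a, ha, l * a * l⁻¹, hc l a ha, fun h => hne h.symm, hcom⟩

end Cfsg.Agent.Lib.Helper8.FT
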