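import Mathlib
import Cfsg.Prelude.Def_FischerSpaces
import Cfsg.Prelude.Def_Local
import Cfsg.Agent.Lib.Helper8.FischerTrans3
import Cfsg.Agent.Lib.Helper89.TTSylowGen
import Cfsg.Agent.Lib.Helper90.WidthOne
set_option autoImplicit false

/-!
A finite group generated by a class of 3-transpositions, without solvable normal subgroups and with
perfect commutator subgroup, is primitive on the class (Fischer's hypotheses).
-/

namespace Cfsg.Agent.Lib.Helper8.FT

open Cfsg Cfsg.Agent.Lib.Helper90
open scoped commutatorElement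

universe u

variable {G : Type u} [Group G] {D : Set G}

/-- a perfect subgroup lies in every normal subgroup with solvable quotient -/
theorem perfect_le_of_solvable_quotient (N : Subgroup G) [N.Normal] [hs : Group.IsSolvable (G ⧸ N)]
    (K : Subgroup G) (hK : ⁅K, K⁆ = K) : K ≤ N := by
  have hall : ∀ n : ℕ, K.map (QuotientGroup.mk' N) ≤ derivedSeries (G ⧸ N) n := by
    intro n
    induction n with
    | zero => exact le_top
    | succ n ih =>
      rw [derivedSeries_succ]
      calc K.map (QuotientGroup.mk' N) = (⁅K, K⁆).map (QuotientGroup.mk' N) := by rw [hK]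
        _ = ⁅K.map (QuotientGroup.mk' N), K.map (QuotientGroup.mk' N)⁆ := Subgroup.map_commutator _ _ _
        _ ≤ ⁅derivedSeries (G ⧸ N) n, derivedSeries (G ⧸ N) n⁆ := Subgroup.commutator_mono ih ih
  obtain ⟨n, hn⟩ := hs.solvable
  have hbot : K.map (QuotientGroup.mk' N) = ⊥ := by
    rw [eq_bot_iff, ← hn]; exact hall n
  have := (Subgroup.map_eq_bot_iff _).mp hbot
  rwa [QuotientGroup.ker_mk'] at this

section Finite

variable [Finite G]

/-- a finite group which is the join of a cyclic subgroup and a normal `p`-subgroup is solvable -/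
theorem isSolvable_of_zpowers_sup_pGroup {p : ℕ} [Fact p.Prime] (P : Subgroup G) (hPn : P.Normal)
    (hP : IsPGroup p P) (d : G) (htop : Subgroup.zpowers d ⊔ P = ⊤) : Group.IsSolvable G := by
  have hle : commutator G ≤ P := commutator_le_of_sup_zpowers hPn (by rw [sup_comm]; exact htop)
  have : Group.IsNilpotent ↥P := hP.isNilpotent
  have hsP : Group.IsSolvable ↥P := inferInstance
  apply Group.isSolvable_of_ker_le_range P.subtype (Abelianization.of (G := G))
  rw [Abelianization.ker_of, Subgroup.range_subtype]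
  exact hle

theorem prim_of_nosolv_perfect
    (hZs : ∀ H : Subgroup G, Cfsg.Agent.Lib.Helper58.ZStarProd.ZStarHyp ↥H)
    (hZq : ∀ N : Subgroup G, ∀ _ : N.Normal, Cfsg.Agent.Lib.Helper58.ZStarProd.ZStarHyp (G ⧸ N))
    (hD : IsThreeTranspositionClass D)
    (hsol : ∀ N : Subgroup G, N.Normal → Group.IsSolvable ↥N → N = ⊥)
    (hperf : ⁅commutator G, commutator G⁆ = commutator G)
    (hD2 : ∃ a ∈ D, ∃ b ∈ D, a ≠ b) : IsPrimitiveUnderConj D := by
  have hG := class_to_group hD
  obtain ⟨hT, hc, hgen⟩ := hG
  have hD' := hD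
  obtain ⟨-, ⟨d₀, hd₀, hDd⟩, -⟩ := hD'
  have : Fact (Nat.Prime 2) := ⟨Nat.prime_two⟩
  have : Fact (Nat.Prime 3) := ⟨Nat.prime_three⟩
  have hcore : ∀ p : ℕ, [Fact p.Prime] → pCore p G = ⊥ := by
    intro p _
    apply hsol _ (pCore_normal p G)
    have : Group.IsNilpotent ↥(pCore p G) := (pCore_isPGroup p G).isNilpotent
    infer_instance
  have h2 : pCore 2 G ≤ Subgroup.center G := by rw [hcore 2]; exact bot_le
  have h3 : pCore 3 G ≤ Subgroup.center G := by rw [hcore 3]; exact bot_le
  obtain ⟨L, hLn, hLq, hF, hcase⟩ := tt_component_structure hZs hD hD2 h2 h3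
  -- conjugate members differ by an element of `G'`
  have hdiff : ∀ a ∈ D, ∀ b ∈ D, a⁻¹ * b ∈ commutator G := by
    intro a ha b hb
    have h1 : IsConj d₀ a := by rw [hDd] at ha; exact ha
    have h2' : IsConj d₀ b := by rw [hDd] at hb; exact hb
    obtain ⟨g, hg⟩ := isConj_iff.mp (h1.symm.trans h2')
    have : a⁻¹ * b = ⁅a⁻¹, g⁆ := by
      rw [commutatorElement_def, ← hg, inv_inv]; group
    rw [this, commutator_def]
    exact Subgroup.commutator_mem_commutator (Subgroup.mem_top _) (Subgroup.mem_top _)
  have hidx : L.index ≤ 2 := by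
    by_cases hex : ∃ a ∈ D, a ∈ L
    · obtain ⟨a, ha, haL⟩ := hex
      have : L = ⊤ := by
        rw [eq_top_iff, ← hgen, Subgroup.closure_le]
        intro x hx
        have h1 : IsConj d₀ a := by rw [hDd] at ha; exact ha
        have h2' : IsConj d₀ x := by rw [hDd] at hx; exact hx
        obtain ⟨g, hg⟩ := isConj_iff.mp (h1.symm.trans h2')
        rw [SetLike.mem_coe, ← hg]
        exact hLn.conj_mem a haL g
      rw [this, Subgroup.index_top]; omega
    · push Not at hex
      have hw1 : ∀ a ∈ D, ∀ b ∈ D, a * b * a⁻¹ * b⁻¹ ∈ L → a⁻¹ * b ∈ L := by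
        rcases hcase with h | h
        · intro a _ b _ _
          rw [h]; exact Subgroup.mem_top _
        · exact h
      have hDq : IsThreeTranspositionClass (QuotientGroup.mk' L '' D) :=
        Cfsg.Agent.Lib.Helper89.TTSylowGen.quot_class hD L hex
      obtain ⟨a, ha, -⟩ := hD2
      have haq : QuotientGroup.mk' L a ∈ QuotientGroup.mk' L '' D := ⟨a, ha, rfl⟩
      have hwidth : commutingWidth (QuotientGroup.mk' L '' D) = 1 := by
        apply width_one_of_not_commute haq
        rintro _ ⟨x, hx, rfl⟩ _ ⟨y, hy, rfl⟩ hne hcom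
        apply hne
        have h1 : x * y * x⁻¹ * y⁻¹ ∈ L := by
          rw [← QuotientGroup.eq_one_iff]
          have h2 : (QuotientGroup.mk' L x) * (QuotientGroup.mk' L y) =
              (QuotientGroup.mk' L y) * (QuotientGroup.mk' L x) := hcom
          have : ((x * y * x⁻¹ * y⁻¹ : G) : G ⧸ L) =
              (QuotientGroup.mk' L x) * (QuotientGroup.mk' L y) * (QuotientGroup.mk' L x)⁻¹ *
                (QuotientGroup.mk' L y)⁻¹ := rfl
          rw [this, h2]; group
        have h3 := hw1 x hx y hy h1
        exact (QuotientGroup.eq).mpr h3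
      have hsup := (width_one_iff (hZq L hLn) (class_to_group hDq) haq).mp hwidth
      have hsolq : Group.IsSolvable (G ⧸ L) :=
        isSolvable_of_zpowers_sup_pGroup (p := 3) _ (pCore_normal 3 _) (pCore_isPGroup 3 _) _ hsup
      have hGL : commutator G ≤ L := perfect_le_of_solvable_quotient L (commutator G) hperf
      have htop : L ⊔ Subgroup.zpowers a = ⊤ := by
        rw [eq_top_iff, ← hgen, Subgroup.closure_le]
        intro v hv
        have : v = a * (a⁻¹ * v) := by group
        rw [SetLike.mem_coe, this, sup_comm]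
        exact Subgroup.mul_mem_sup (Subgroup.mem_zpowers a) (hGL (hdiff a ha v hv))
      exact index_le_two_of_sup_zpowers hLn (hT.1 a ha) htop
  exact tt_primitive_of_index_le_two hD hD2 h2 h3 L hLq hF hidx

end Finite

end Cfsg.Agent.Lib.Helper8.FT
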