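import Mathlib
import Cfsg.Prelude.Def_FischerSpaces
import Cfsg.Prelude.Def_Local
import Cfsg.Agent.Lib.Helper8.FischerTrans3
import Cfsg.Agent.Lib.Helper89.TTSylowGen
import Cfsg.Agent.Lib.Helper17.SylowBasic
set_option autoImplicit false

/-!
Fischer: in a primitive 3-transposition group, the normaliser of a commuting set of transpositions of
maximum size contains a Sylow 2-subgroup and is doubly transitive on the set.
-/

namespace Cfsg.Agent.Lib.Helper8.FT

open Cfsg Cfsg.Agent.Lib.Helper90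

universe u

variable {G : Type u} [Group G] {D : Set G}

/-- two `p`-subgroups of a subgroup `C` can be put into a common `p`-subgroup after conjugating one of
them by an element of `C` -/
theorem exists_common_pgroup [Finite G] {p : ℕ} [Fact p.Prime] (C R₁ R₂ : Subgroup G)
    (h₁ : R₁ ≤ C) (h₂ : R₂ ≤ C) (hp₁ : IsPGroup p R₁) (hp₂ : IsPGroup p R₂) :
    ∃ Q : Subgroup G, IsPGroup p Q ∧ R₁ ≤ Q ∧ ∃ h ∈ C, ∀ x ∈ R₂, h * x * h⁻¹ ∈ Q := by
  have hp₁' : IsPGroup p (R₁.subgroupOf C) :=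
    hp₁.comap_of_injective C.subtype C.subtype_injective
  have hp₂' : IsPGroup p (R₂.subgroupOf C) :=
    hp₂.comap_of_injective C.subtype C.subtype_injective
  obtain ⟨Q₁, hQ₁⟩ := hp₁'.exists_le_sylow
  obtain ⟨n, -, hn⟩ := Cfsg.Agent.Lib.Helper17.exists_conj_le_sylow_of_le Q₁ ⊤
    (R₂.subgroupOf C) le_top le_top hp₂'
  refine ⟨(Q₁ : Subgroup ↥C).map C.subtype, Q₁.2.map C.subtype, ?_, n.1, n.2, ?_⟩
  · intro x hx
    exact ⟨⟨x, h₁ hx⟩, hQ₁ (Subgroup.mem_subgroupOf.mpr hx), rfl⟩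
  · intro x hx
    have := hn ⟨x, h₂ hx⟩ (Subgroup.mem_subgroupOf.mpr hx)
    exact ⟨_, this, by simp⟩

/-- members of `D` inside a `2`-subgroup commute -/
theorem commute_of_mem_two_group (hT : IsThreeTranspositionSet D) {Q : Subgroup G}
    (hQ : IsPGroup 2 Q) {a b : G} (ha : a ∈ D) (hb : b ∈ D) (haQ : a ∈ Q) (hbQ : b ∈ Q) :
    Commute a b := by
  by_contra hnc
  have h3 := tt_cube hT ha hb hnc
  have h1 := Cfsg.Agent.Lib.Helper89.TTSylowGen.eq_one_of_cube_of_mem_two_group hQ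
    (mul_mem haQ hbQ) h3
  apply hnc
  have : a = b := by
    have := eq_inv_of_mul_eq_one_left h1
    rwa [tt_inv hT hb] at this
  rw [this]

section main

variable [Finite G]

/-- **Fischer**: maximal commuting sets of 3-transpositions -/
theorem max_commuting_set (hG : IsThreeTranspositionGroup D) (hprim : IsPrimitiveUnderConj D)
    {E : Set G} (hE : E ⊆ D) (hcE : ∀ a ∈ E, ∀ b ∈ E, Commute a b)
    (hmax : ∀ E' : Set G, E' ⊆ D → (∀ a ∈ E', ∀ b ∈ E', Commute a b) → E'.ncard ≤ E.ncard) :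
    (∃ P : Sylow 2 G, (P : Subgroup G) ≤ Subgroup.normalizer E) ∧
      ∀ a ∈ E, ∀ b ∈ E, ∀ c ∈ E, ∀ d ∈ E, a ≠ b → c ≠ d →
        ∃ g ∈ Subgroup.normalizer E, g * a * g⁻¹ = c ∧ g * b * g⁻¹ = d := by
  have hT := hG.1
  have hc := hG.2.1
  have : Fact (Nat.Prime 2) := ⟨Nat.prime_two⟩
  set R : Subgroup G := Subgroup.closure E with hR
  have hRcomm : ∀ x ∈ R, ∀ y ∈ R, Commute x y := by
    intro x hx
    induction hx using Subgroup.closure_induction with
    | mem v hv =>
      intro y hy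
      induction hy using Subgroup.closure_induction with
      | mem w hw => exact hcE v hv w hw
      | one => exact Commute.one_right v
      | mul a b _ _ ha hb => exact ha.mul_right hb
      | inv a _ ha => exact ha.inv_right
    | one => intro y _; exact Commute.one_left y
    | mul a b _ _ ha hb => intro y hy; exact (ha y hy).mul_left (hb y hy)
    | inv a _ ha => intro y hy; exact (ha y hy).inv_left
  have hRsq : ∀ x ∈ R, x * x = 1 := by
    intro x hx
    induction hx using Subgroup.closure_induction with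
    | mem v hv => exact tt_sq hT (hE hv)
    | one => simp
    | mul a b ha hb iha ihb =>
      have hab : a * b = b * a := (hRcomm a ha b hb).eq
      calc a * b * (a * b) = a * (b * a) * b := by simp only [mul_assoc]
        _ = a * (a * b) * b := by rw [hab]
        _ = (a * a) * (b * b) := by simp only [mul_assoc]
        _ = 1 := by rw [iha, ihb, one_mul]
    | inv a _ iha =>
      have : a⁻¹ = a := inv_eq_of_mul_eq_one_right iha
      rw [this]; exact iha
  have hRp : IsPGroup 2 R := by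
    intro x
    refine ⟨1, ?_⟩
    apply Subtype.ext
    have := hRsq x.1 x.2
    simp [pow_two, this]
  -- key: a 2-subgroup containing `E` meets `D` exactly in `E`
  have hkey : ∀ Q : Subgroup G, IsPGroup 2 Q → E ⊆ Q → ∀ x ∈ D, x ∈ Q → x ∈ E := by
    intro Q hQ hEQ x hxD hxQ
    set E' : Set G := {v : G | v ∈ D ∧ v ∈ Q} with hE'
    have h1 : E'.ncard ≤ E.ncard := by
      apply hmax E' (fun v hv => hv.1)
      intro a ha b hb
      exact commute_of_mem_two_group hT hQ ha.1 hb.1 ha.2 hb.2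
    have h2 : E ⊆ E' := fun v hv => ⟨hE hv, hEQ hv⟩
    have h3 : E = E' := Set.eq_of_subset_of_ncard_le h2 h1 (Set.toFinite _)
    rw [h3]; exact ⟨hxD, hxQ⟩
  -- conjugation by `g` maps `E` into `E` ⇒ `g` normalizes `E`
  have hnorm : ∀ g : G, (∀ e ∈ E, g * e * g⁻¹ ∈ E) → g ∈ Subgroup.normalizer E := by
    intro g hg
    have himg : (fun e => g * e * g⁻¹) '' E = E := by
      apply Set.eq_of_subset_of_ncard_le
      · rintro _ ⟨e, he, rfl⟩; exact hg e he
      · rw [Set.ncard_image_of_injective]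
        intro a b hab
        have := congrArg (fun t => g⁻¹ * t * g) hab
        simpa [mul_assoc] using this
      · exact Set.toFinite _
    rw [Subgroup.mem_set_normalizer_iff]
    intro n
    constructor
    · exact hg n
    · intro hn
      rw [← himg] at hn
      obtain ⟨e, he, hen⟩ := hn
      have : e = n := by
        have := congrArg (fun t => g⁻¹ * t * g) hen
        simpa [mul_assoc] using this
      rw [← this]; exact he
  refine ⟨?_, ?_⟩
  · obtain ⟨P, hP⟩ := hRp.exists_le_sylow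
    refine ⟨P, ?_⟩
    intro g hg
    apply hnorm
    intro e he
    have heP : e ∈ (P : Subgroup G) := hP (Subgroup.subset_closure he)
    exact hkey P P.2 (fun v hv => hP (Subgroup.subset_closure hv)) _ (hc g e (hE he))
      (mul_mem (mul_mem hg heP) (inv_mem hg))
  · intro a ha b hb c hcE' d hd hab hcd
    have haD := hE ha
    have hbD := hE hb
    have hcD := hE hcE'
    have hdD := hE hd
    have hw : ∃ a ∈ D, ∃ b ∈ D, a ≠ b ∧ Commute a b := ⟨a, haD, b, hbD, hab, hcE a ha b hb⟩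
    -- `G`-conjugacy of the pairs
    obtain ⟨g₁, hg₁⟩ := hprim.1 a haD c hcD
    have hb₁ : g₁ * b * g₁⁻¹ ∈ {y : G | y ∈ D ∧ y ≠ c ∧ Commute c y} := by
      refine ⟨hc g₁ b hbD, ?_, ?_⟩
      · intro h
        apply hab
        rw [← hg₁] at h
        have := congrArg (fun t => g₁⁻¹ * t * g₁) h
        simpa [mul_assoc] using this.symm
      · rw [← hg₁]
        show g₁ * a * g₁⁻¹ * (g₁ * b * g₁⁻¹) = g₁ * b * g₁⁻¹ * (g₁ * a * g₁⁻¹)
        calc g₁ * a * g₁⁻¹ * (g₁ * b * g₁⁻¹) = g₁ * (a * b) * g₁⁻¹ := by group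
          _ = g₁ * (b * a) * g₁⁻¹ := by rw [(hcE a ha b hb).eq]
          _ = g₁ * b * g₁⁻¹ * (g₁ * a * g₁⁻¹) := by group
    have hd₁ : d ∈ {y : G | y ∈ D ∧ y ≠ c ∧ Commute c y} :=
      ⟨hdD, fun h => hcd h.symm, hcE c hcE' d hd⟩
    obtain ⟨g₂, hg₂, hg₂d⟩ := prim_Dd_transitive hG hprim hw hcD hb₁ hd₁
    have hg₂c : Commute g₂ c := commute_of_mem_Xd hg₂
    set g₀ : G := g₂ * g₁ with hg₀
    have hg₀a : g₀ * a * g₀⁻¹ = c := by
      calc g₀ * a * g₀⁻¹ = g₂ * (g₁ * a * g₁⁻¹) * g₂⁻¹ := by rw [hg₀]; group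
        _ = g₂ * c * g₂⁻¹ := by rw [hg₁]
        _ = c := by rw [hg₂c.eq]; group
    have hg₀b : g₀ * b * g₀⁻¹ = d := by
      calc g₀ * b * g₀⁻¹ = g₂ * (g₁ * b * g₁⁻¹) * g₂⁻¹ := by rw [hg₀]; group
        _ = d := hg₂d
    -- the centraliser of `c` and `d`
    set C : Subgroup G := Subgroup.centralizer {c, d} with hC
    have hRC : R ≤ C := by
      intro x hx
      rw [hC, Subgroup.mem_centralizer_iff]
      intro y hy
      have hyR : y ∈ R := by
        rcases hy with rfl | rfl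
        · exact Subgroup.subset_closure hcE'
        · exact Subgroup.subset_closure hd
      exact (hRcomm y hyR x hx).eq
    set R₂ : Subgroup G := R.map (MulAut.conj g₀).toMonoidHom with hR₂
    have hR₂C : R₂ ≤ C := by
      rintro _ ⟨x, hx, rfl⟩
      rw [hC, Subgroup.mem_centralizer_iff]
      intro y hy
      have key : ∀ v ∈ E, (g₀ * v * g₀⁻¹) * (g₀ * x * g₀⁻¹) = (g₀ * x * g₀⁻¹) * (g₀ * v * g₀⁻¹) := by
        intro v hv
        have h1 := (hRcomm v (Subgroup.subset_closure hv) x hx).eq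
        calc (g₀ * v * g₀⁻¹) * (g₀ * x * g₀⁻¹) = g₀ * (v * x) * g₀⁻¹ := by group
          _ = g₀ * (x * v) * g₀⁻¹ := by rw [h1]
          _ = (g₀ * x * g₀⁻¹) * (g₀ * v * g₀⁻¹) := by group
      show y * (g₀ * x * g₀⁻¹) = g₀ * x * g₀⁻¹ * y
      rcases hy with rfl | rfl
      · rw [← hg₀a]; exact key a ha
      · rw [← hg₀b]; exact key b hb
    have hR₂p : IsPGroup 2 R₂ := hRp.map _
    obtain ⟨Q, hQ, hRQ, h, hhC, hh⟩ := exists_common_pgroup C R R₂ hRC hR₂C hRp hR₂p
    have hEQ : E ⊆ Q := fun v hv => hRQ (Subgroup.subset_closure hv)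
    refine ⟨h * g₀, ?_, ?_, ?_⟩
    · apply hnorm
      intro e he
      have h1 : g₀ * e * g₀⁻¹ ∈ R₂ := ⟨e, Subgroup.subset_closure he, rfl⟩
      have h2 := hh _ h1
      have h3 : h * g₀ * e * (h * g₀)⁻¹ = h * (g₀ * e * g₀⁻¹) * h⁻¹ := by group
      rw [h3]
      apply hkey Q hQ hEQ _ _ h2
      rw [← h3]
      exact hc _ e (hE he)
    · rw [hC, Subgroup.mem_centralizer_iff] at hhC
      have h1 := hhC c (by simp)
      calc h * g₀ * a * (h * g₀)⁻¹ = h * (g₀ * a * g₀⁻¹) * h⁻¹ := by group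
        _ = h * c * h⁻¹ := by rw [hg₀a]
        _ = c := by rw [← h1]; group
    · rw [hC, Subgroup.mem_centralizer_iff] at hhC
      have h1 := hhC d (by simp)
      calc h * g₀ * b * (h * g₀)⁻¹ = h * (g₀ * b * g₀⁻¹) * h⁻¹ := by group
        _ = h * d * h⁻¹ := by rw [hg₀b]
        _ = d := by rw [← h1]; group

end main

end Cfsg.Agent.Lib.Helper8.FT
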