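import Mathlib
import Cfsg.Prelude.Def_Sporadic_a

/-!
# Transport of the point-block graph and of its automorphism group along an isomorphism of
set systems
-/

set_option autoImplicit false

namespace Cfsg.Agent.Lib.Helper8
open Cfsg

section
variable {α β : Type*} [DecidableEq β]

theorem map_eq_image_equiv (e : α ≃ β) (s : Finset α) : s.map e.toEmbedding = s.image e := by
  rw [Finset.map_eq_image]; rfl

/-- the bijection between the blocks of isomorphic set systems -/
noncomputable def blockEquiv (e : α ≃ β) {B : Set (Finset α)} {B' : Set (Finset β)}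
    (h : (fun b => b.image e) '' B = B') : B ≃ B' :=
  Equiv.ofBijective
    (fun b => ⟨b.1.map e.toEmbedding, by
      rw [← h]
      exact ⟨b.1, b.2, (map_eq_image_equiv e b.1).symm⟩⟩)
    ⟨fun b c hbc => by
        have := congrArg Subtype.val hbc
        exact Subtype.ext (Finset.map_injective _ this),
      fun c => by
        have hc : (c : Finset β) ∈ (fun b => b.image e) '' B := by rw [h]; exact c.2
        obtain ⟨b, hb, hbc⟩ := hc
        exact ⟨⟨b, hb⟩, Subtype.ext (by rw [← hbc]; exact map_eq_image_equiv e b)⟩⟩

theorem blockEquiv_coe (e : α ≃ β) {B : Set (Finset α)} {B' : Set (Finset β)}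
    (h : (fun b => b.image e) '' B = B') (b : B) :
    ((blockEquiv e h b : B') : Finset β) = b.1.map e.toEmbedding := rfl

/-- the bijection between the vertices of the point-block graphs -/
noncomputable def vertexEquiv (e : α ≃ β) {B : Set (Finset α)} {B' : Set (Finset β)}
    (h : (fun b => b.image e) '' B = B') : Option (α ⊕ B) ≃ Option (β ⊕ B') :=
  Equiv.optionCongr (Equiv.sumCongr e (blockEquiv e h))

theorem pointBlockRel_iff (e : α ≃ β) {B : Set (Finset α)} {B' : Set (Finset β)}
    (h : (fun b => b.image e) '' B = B') (x y : Option (α ⊕ B)) :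
    pointBlockRel B' (vertexEquiv e h x) (vertexEquiv e h y) ↔ pointBlockRel B x y := by
  match x, y with
  | none, none => simp [vertexEquiv, pointBlockRel]
  | none, some (Sum.inl a) => simp [vertexEquiv, pointBlockRel]
  | none, some (Sum.inr b) => simp [vertexEquiv, pointBlockRel]
  | some (Sum.inl a), none => simp [vertexEquiv, pointBlockRel]
  | some (Sum.inr b), none => simp [vertexEquiv, pointBlockRel]
  | some (Sum.inl a), some (Sum.inl a') => simp [vertexEquiv, pointBlockRel]
  | some (Sum.inr b), some (Sum.inl a') => simp [vertexEquiv, pointBlockRel]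
  | some (Sum.inl a), some (Sum.inr b) =>
    simp only [vertexEquiv, pointBlockRel, Equiv.optionCongr_apply, Option.map_some,
      Equiv.sumCongr_apply, Sum.map_inl, Sum.map_inr, blockEquiv_coe]
    exact Finset.mem_map' e.toEmbedding
  | some (Sum.inr b), some (Sum.inr c) =>
    simp only [vertexEquiv, pointBlockRel, Equiv.optionCongr_apply, Option.map_some,
      Equiv.sumCongr_apply, Sum.map_inr, blockEquiv_coe]
    exact Finset.disjoint_map e.toEmbedding

/-- isomorphic set systems have isomorphic point-block graphs -/
noncomputable def pointBlockGraphIso (e : α ≃ β) {B : Set (Finset α)} {B' : Set (Finset β)}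
    (h : (fun b => b.image e) '' B = B') : pointBlockGraph B ≃g pointBlockGraph B' where
  toEquiv := vertexEquiv e h
  map_rel_iff' := by
    intro x y
    unfold pointBlockGraph
    rw [SimpleGraph.fromRel_adj, SimpleGraph.fromRel_adj, pointBlockRel_iff, pointBlockRel_iff,
      (vertexEquiv e h).injective.ne_iff]

end

section
variable {V W : Type*} {G : SimpleGraph V} {G' : SimpleGraph W}

/-- isomorphic graphs have isomorphic automorphism groups -/
def autCongrGraph (φ : G ≃g G') : (G ≃g G) ≃* (G' ≃g G') where
  toFun f := (φ.symm.trans f).trans φ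
  invFun f := (φ.trans f).trans φ.symm
  left_inv f := by
    apply RelIso.ext
    intro a
    simp [RelIso.trans_apply]
  right_inv f := by
    apply RelIso.ext
    intro a
    simp [RelIso.trans_apply]
  map_mul' f g := by
    apply RelIso.ext
    intro a
    simp [RelIso.trans_apply, RelIso.mul_apply]

end

end Cfsg.Agent.Lib.Helper8
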