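import Mathlib
import Cfsg.Agent.Lib.Helper8.HSGroup
import Cfsg.Agent.Lib.Helper8.GraphTransport
import Cfsg.Agent.Lib.Helper7.GolayFacts

/-!
# The Higman–Sims group acts on the point-block graph of the S(3,6,22) from the Golay code
-/

set_option autoImplicit false

namespace Cfsg.Agent.Lib.Helper8
open Cfsg Cfsg.Agent.Lib.Helper7 Cfsg.Spor
open scoped Pointwise

/-- the 22 points -/
abbrev P22 : Type := {j : GolayPt // j ∈ ptsF}

theorem card_P22 : Fintype.card P22 = 22 := by
  rw [Fintype.card_coe, card_ptsF]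

/-- the 8-set attached to a set of points -/
def hexOf (b : Finset P22) : Finset GolayPt :=
  insert none (insert (some 0) (b.map (Function.Embedding.subtype _)))

theorem mem_hexOf {b : Finset P22} {i : GolayPt} :
    i ∈ hexOf b ↔ i = none ∨ i = some 0 ∨ ∃ h : i ∈ ptsF, (⟨i, h⟩ : P22) ∈ b := by
  unfold hexOf
  rw [Finset.mem_insert, Finset.mem_insert, Finset.mem_map]
  constructor
  · rintro (h | h | ⟨j, hj, rfl⟩)
    · exact Or.inl h
    · exact Or.inr (Or.inl h)
    · exact Or.inr (Or.inr ⟨j.2, hj⟩)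
  · rintro (h | h | ⟨h, hj⟩)
    · exact Or.inl h
    · exact Or.inr (Or.inl h)
    · exact Or.inr (Or.inr ⟨⟨i, h⟩, hj, rfl⟩)

theorem none_mem_hexOf (b : Finset P22) : none ∈ hexOf b := mem_hexOf.2 (Or.inl rfl)

theorem zero_mem_hexOf (b : Finset P22) : some 0 ∈ hexOf b := mem_hexOf.2 (Or.inr (Or.inl rfl))

theorem val_mem_hexOf {b : Finset P22} (j : P22) : (j : GolayPt) ∈ hexOf b ↔ j ∈ b := by
  rw [mem_hexOf]
  have h := mem_ptsF.1 j.2
  constructor
  · rintro (h' | h' | ⟨_, hj⟩)
    · exact absurd h' h.1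
    · exact absurd h' h.2
    · exact hj
  · intro hj
    exact Or.inr (Or.inr ⟨j.2, hj⟩)

theorem subtype_hexOf (b : Finset P22) : (hexOf b).subtype (fun j => j ∈ ptsF) = b := by
  ext j
  rw [Finset.mem_subtype, val_mem_hexOf]

theorem hexOf_subtype {O : Finset GolayPt} (h1 : none ∈ O) (h2 : some 0 ∈ O) :
    hexOf (O.subtype (fun j => j ∈ ptsF)) = O := by
  ext i
  rw [mem_hexOf]
  constructor
  · rintro (h | h | ⟨h, hj⟩)
    · rw [h]; exact h1
    · rw [h]; exact h2
    · exact Finset.mem_subtype.1 hj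
  · intro hi
    by_cases hn : i = none
    · exact Or.inl hn
    by_cases h0 : i = some 0
    · exact Or.inr (Or.inl h0)
    exact Or.inr (Or.inr ⟨mem_ptsF.2 ⟨hn, h0⟩, Finset.mem_subtype.2 hi⟩)

theorem hexOf_injective : Function.Injective hexOf := by
  intro b c h
  rw [← subtype_hexOf b, ← subtype_hexOf c, h]

theorem card_hexOf (b : Finset P22) : (hexOf b).card = b.card + 2 := by
  unfold hexOf
  rw [Finset.card_insert_of_notMem, Finset.card_insert_of_notMem, Finset.card_map]
  · rw [Finset.mem_map]
    rintro ⟨j, _, hj⟩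
    exact (mem_ptsF.1 j.2).2 hj
  · rw [Finset.mem_insert, Finset.mem_map]
    rintro (h | ⟨j, _, hj⟩)
    · exact absurd h (by decide)
    · exact (mem_ptsF.1 j.2).1 hj

theorem hexOf_subset {s b : Finset P22} : hexOf s ⊆ hexOf b ↔ s ⊆ b := by
  constructor
  · intro h j hj
    exact (val_mem_hexOf j).1 (h ((val_mem_hexOf j).2 hj))
  · intro h i hi
    rw [mem_hexOf] at hi ⊢
    rcases hi with h' | h' | ⟨h', hj⟩
    · exact Or.inl h'
    · exact Or.inr (Or.inl h')
    · exact Or.inr (Or.inr ⟨h', h hj⟩)

/-- the 77 blocks of the Steiner system `S(3,6,22)` coming from the octads through `∞, 0` -/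
def B0 : Set (Finset P22) := {b | hexOf b ∈ octads}

theorem B0_steiner : IsSteinerSystem 3 6 B0 := by
  refine ⟨fun b hb => ?_, fun s hs => ?_⟩
  · have h8 := octads_steiner.1 _ hb
    rw [card_hexOf] at h8
    omega
  · have h5 : (hexOf s).card = 5 := by rw [card_hexOf, hs]
    obtain ⟨O, ⟨hO, hsub⟩, huniq⟩ := octads_steiner.2 (hexOf s) h5
    have h1 : none ∈ O := hsub (none_mem_hexOf s)
    have h2 : some 0 ∈ O := hsub (zero_mem_hexOf s)
    refine ⟨O.subtype (fun j => j ∈ ptsF), ⟨?_, ?_⟩, ?_⟩
    · show hexOf _ ∈ octads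
      rw [hexOf_subtype h1 h2]; exact hO
    · rw [← hexOf_subset, hexOf_subtype h1 h2]; exact hsub
    · rintro b' ⟨hb', hsb'⟩
      have := huniq (hexOf b') ⟨hb', hexOf_subset.2 hsb'⟩
      rw [← subtype_hexOf b', this]

/-! ### the hundred vectors -/

/-- vertices of the graph -/
abbrev V0 : Type := Option (P22 ⊕ B0)

/-- the Leech vector attached to a vertex -/
noncomputable def psi : V0 → leechLattice
  | none => leechU
  | some (Sum.inl j) => oddvL j.1
  | some (Sum.inr b) => twoOnL (hexOf b.1) b.2

theorem psi_mem (a : V0) : psi a ∈ S100 := by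
  apply (hs_std_iff _).2
  match a with
  | none => exact hsstd_vecU
  | some (Sum.inl j) => exact hsstd_oddv (mem_ptsF.1 j.2).1 (mem_ptsF.1 j.2).2
  | some (Sum.inr b) => exact hsstd_twoOn b.2 (none_mem_hexOf _) (zero_mem_hexOf _)

theorem dotInt_oddv_left (j : GolayPt) (x : GolayPt → ℤ) :
    dotInt (oddv j) x = ∑ i, x i - 4 * x j := by
  unfold dotInt oddv
  have : ∀ i, (if i = j then (-3 : ℤ) else 1) * x i = x i - (if i = j then 4 * x i else 0) := by
    intro i
    split_ifs <;> ring
  rw [Finset.sum_congr rfl (fun i _ => this i), Finset.sum_sub_distrib, Finset.sum_ite_eq']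
  simp

theorem dotInt_twoOn_twoOn (O O' : Finset GolayPt) :
    dotInt (twoOn O) (twoOn O') = 4 * ((O ∩ O').card : ℤ) := by
  classical
  unfold dotInt twoOn
  have : ∀ i, (if i ∈ O then (2 : ℤ) else 0) * (if i ∈ O' then 2 else 0)
      = if i ∈ O ∩ O' then 4 else 0 := by
    intro i
    by_cases h1 : i ∈ O <;> by_cases h2 : i ∈ O' <;> simp [h1, h2]
  rw [Finset.sum_congr rfl (fun i _ => this i), Finset.sum_ite_mem, Finset.univ_inter,
    Finset.sum_const]
  simp [mul_comm]

theorem dotInt_comm' (x y : GolayPt → ℤ) : dotInt x y = dotInt y x := by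
  unfold dotInt
  exact Finset.sum_congr rfl (fun i _ => mul_comm _ _)

theorem dotInt_oddv_oddv (j j' : GolayPt) :
    dotInt (oddv j) (oddv j') = if j = j' then 32 else 16 := by
  rw [dotInt_oddv_left, sum_oddv]
  unfold oddv
  split_ifs <;> norm_num

theorem dotInt_oddv_twoOn (j : GolayPt) {O : Finset GolayPt} (h8 : O.card = 8) :
    dotInt (oddv j) (twoOn O) = if j ∈ O then 8 else 16 := by
  rw [dotInt_oddv_left, sum_twoOn h8]
  unfold twoOn
  split_ifs <;> norm_num

theorem hexOf_inter (b c : Finset P22) : hexOf b ∩ hexOf c = hexOf (b ∩ c) := by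
  ext i
  rw [Finset.mem_inter, mem_hexOf, mem_hexOf, mem_hexOf]
  constructor
  · rintro ⟨h1 | h1 | ⟨h1, hb⟩, h2 | h2 | ⟨h2, hc⟩⟩
    all_goals first
      | exact Or.inl (by assumption)
      | exact Or.inr (Or.inl (by assumption))
      | skip
    · exact Or.inr (Or.inr ⟨h1, Finset.mem_inter.2 ⟨hb, hc⟩⟩)
  · rintro (h | h | ⟨h, hbc⟩)
    · exact ⟨Or.inl h, Or.inl h⟩
    · exact ⟨Or.inr (Or.inl h), Or.inr (Or.inl h)⟩
    · rw [Finset.mem_inter] at hbc
      exact ⟨Or.inr (Or.inr ⟨h, hbc.1⟩), Or.inr (Or.inr ⟨h, hbc.2⟩)⟩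

theorem dotInt_twoOn_hexOf (b c : Finset P22) :
    dotInt (twoOn (hexOf b)) (twoOn (hexOf c)) = 4 * ((b ∩ c).card : ℤ) + 8 := by
  rw [dotInt_twoOn_twoOn, hexOf_inter, card_hexOf]
  push_cast; ring

theorem psi_none : ((psi none : leechLattice) : GolayPt → ℤ) = vecU := rfl

theorem psi_inl (j : P22) : ((psi (some (Sum.inl j)) : leechLattice) : GolayPt → ℤ) = oddv j.1 := rfl

theorem psi_inr (b : B0) :
    ((psi (some (Sum.inr b)) : leechLattice) : GolayPt → ℤ) = twoOn (hexOf b.1) := rfl

theorem card_block {b : Finset P22} (hb : b ∈ B0) : b.card = 6 := B0_steiner.1 b hb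

/-- adjacency in the point-block graph is `dot product = 8` -/
theorem adj_iff (a b : V0) :
    (pointBlockGraph B0).Adj a b ↔
      dotInt ((psi a : leechLattice) : GolayPt → ℤ) ((psi b : leechLattice) : GolayPt → ℤ) = 8 := by
  unfold pointBlockGraph
  rw [SimpleGraph.fromRel_adj]
  match a, b with
  | none, none =>
    rw [psi_none, dotInt_vecU_vecU]
    simp
  | none, some (Sum.inl j) =>
    rw [psi_none, psi_inl, dotInt_vecU_oddv j.2]
    simp [pointBlockRel]
  | none, some (Sum.inr c) =>
    rw [psi_none, psi_inr,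
      dotInt_vecU_twoOn (mem_hexF.2 ⟨c.2, none_mem_hexOf _, zero_mem_hexOf _⟩)]
    simp [pointBlockRel]
  | some (Sum.inl j), none =>
    rw [psi_none, psi_inl, dotInt_comm', dotInt_vecU_oddv j.2]
    simp [pointBlockRel]
  | some (Sum.inr c), none =>
    rw [psi_none, psi_inr, dotInt_comm',
      dotInt_vecU_twoOn (mem_hexF.2 ⟨c.2, none_mem_hexOf _, zero_mem_hexOf _⟩)]
    simp [pointBlockRel]
  | some (Sum.inl j), some (Sum.inl j') =>
    rw [psi_inl, psi_inl, dotInt_oddv_oddv]
    simp only [pointBlockRel, or_self, and_false, false_iff]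
    split_ifs <;> norm_num
  | some (Sum.inl j), some (Sum.inr c) =>
    rw [psi_inl, psi_inr, dotInt_oddv_twoOn _ (octads_steiner.1 _ c.2)]
    by_cases h : j ∈ c.1
    · rw [if_pos ((val_mem_hexOf j).2 h)]
      simp [pointBlockRel, h]
    · rw [if_neg (fun h' => h ((val_mem_hexOf j).1 h'))]
      simp [pointBlockRel, h]
  | some (Sum.inr c), some (Sum.inl j) =>
    rw [psi_inl, psi_inr, dotInt_comm', dotInt_oddv_twoOn _ (octads_steiner.1 _ c.2)]
    by_cases h : j ∈ c.1
    · rw [if_pos ((val_mem_hexOf j).2 h)]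
      simp [pointBlockRel, h]
    · rw [if_neg (fun h' => h ((val_mem_hexOf j).1 h'))]
      simp [pointBlockRel, h]
  | some (Sum.inr c), some (Sum.inr d) =>
    rw [psi_inr, psi_inr, dotInt_twoOn_hexOf]
    simp only [pointBlockRel]
    constructor
    · rintro ⟨_, h | h⟩
      · rw [Finset.disjoint_iff_inter_eq_empty.1 h]; simp
      · rw [Finset.inter_comm, Finset.disjoint_iff_inter_eq_empty.1 h]; simp
    · intro h
      have h0 : (c.1 ∩ d.1).card = 0 := by
        have : ((c.1 ∩ d.1).card : ℤ) = 0 := by linarith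
        exact_mod_cast this
      have hdisj : Disjoint c.1 d.1 :=
        Finset.disjoint_iff_inter_eq_empty.2 (Finset.card_eq_zero.1 h0)
      refine ⟨?_, Or.inl hdisj⟩
      intro heq
      have hcd : c = d := by
        have := Option.some.inj heq
        exact Sum.inr.inj this
      rw [hcd] at h0
      rw [Finset.inter_self, card_block d.2] at h0
      norm_num at h0

/-! ### the bijection with the hundred vectors -/

theorem vecU_none : vecU none = 4 := by
  unfold vecU; simp

theorem psi_injective : Function.Injective psi := by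
  intro a b h
  have hv : ((psi a : leechLattice) : GolayPt → ℤ) = ((psi b : leechLattice) : GolayPt → ℤ) :=
    congrArg Subtype.val h
  match a, b with
  | none, none => rfl
  | none, some (Sum.inl j) =>
    exfalso
    have := congrFun hv none
    rw [psi_none, psi_inl, vecU_none] at this
    unfold oddv at this
    split_ifs at this <;> omega
  | none, some (Sum.inr c) =>
    exfalso
    have := congrFun hv none
    rw [psi_none, psi_inr, vecU_none] at this
    unfold twoOn at this
    split_ifs at this <;> omega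
  | some (Sum.inl j), none =>
    exfalso
    have := congrFun hv none
    rw [psi_none, psi_inl, vecU_none] at this
    unfold oddv at this
    split_ifs at this <;> omega
  | some (Sum.inr c), none =>
    exfalso
    have := congrFun hv none
    rw [psi_none, psi_inr, vecU_none] at this
    unfold twoOn at this
    split_ifs at this <;> omega
  | some (Sum.inl j), some (Sum.inl j') =>
    rw [psi_inl, psi_inl] at hv
    have := oddv_injective hv
    rw [Subtype.ext this]
  | some (Sum.inl j), some (Sum.inr c) =>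
    exfalso
    have := congrFun hv none
    rw [psi_inl, psi_inr] at this
    unfold oddv twoOn at this
    split_ifs at this <;> omega
  | some (Sum.inr c), some (Sum.inl j) =>
    exfalso
    have := congrFun hv none
    rw [psi_inl, psi_inr] at this
    unfold oddv twoOn at this
    split_ifs at this <;> omega
  | some (Sum.inr c), some (Sum.inr d) =>
    rw [psi_inr, psi_inr] at hv
    have := hexOf_injective (twoOn_injective hv)
    rw [Subtype.ext this]

theorem psi_surjective {x : leechLattice} (hx : x ∈ S100) : ∃ a, psi a = x := by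
  rcases hs_classify ((hs_std_iff x).1 hx) with h | ⟨j, hj, hj0, h⟩ | ⟨O, hO, h1, h2, h⟩
  · exact ⟨none, Subtype.ext h.symm⟩
  · exact ⟨some (Sum.inl ⟨j, mem_ptsF.2 ⟨hj, hj0⟩⟩), Subtype.ext h.symm⟩
  · refine ⟨some (Sum.inr ⟨O.subtype (fun j => j ∈ ptsF), ?_⟩), ?_⟩
    · show hexOf _ ∈ octads
      rw [hexOf_subtype h1 h2]; exact hO
    · apply Subtype.ext
      rw [psi_inr, h]
      show twoOn (hexOf (O.subtype (fun j => j ∈ ptsF))) = twoOn O
      rw [hexOf_subtype h1 h2]

/-- the vertices of the graph are the hundred vectors -/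
noncomputable def psiE : V0 ≃ S100 :=
  Equiv.ofBijective (fun a => ⟨psi a, psi_mem a⟩)
    ⟨fun a b h => psi_injective (congrArg Subtype.val h),
      fun x => by
        obtain ⟨a, ha⟩ := psi_surjective x.2
        exact ⟨a, Subtype.ext ha⟩⟩

theorem psiE_coe (a : V0) : ((psiE a : S100) : leechLattice) = psi a := rfl

instance actS100 : MulAction Hstd S100 where
  smul g x := ⟨g • x.1, smul_mem_S100 g x.2⟩
  one_smul x := Subtype.ext (one_smul _ _)
  mul_smul g h x := Subtype.ext (mul_smul _ _ _)

theorem actS100_coe (g : Hstd) (x : S100) : ((g • x : S100) : leechLattice) = g • x.1 := rfl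

theorem psi_symm_smul (g : Hstd) (a : V0) : psi (psiE.symm (g • psiE a)) = g • psi a := by
  have := psiE.apply_symm_apply (g • psiE a)
  have h2 := congrArg Subtype.val this
  rw [psiE_coe, actS100_coe, psiE_coe] at h2
  exact h2

/-- the action of the Higman–Sims group on the graph -/
noncomputable def PhiG : Hstd →* (pointBlockGraph B0 ≃g pointBlockGraph B0) where
  toFun g :=
    { toEquiv := psiE.trans ((MulAction.toPerm g : Equiv.Perm S100).trans psiE.symm)
      map_rel_iff' := by
        intro a b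
        show (pointBlockGraph B0).Adj (psiE.symm (g • psiE a)) (psiE.symm (g • psiE b)) ↔ _
        rw [adj_iff, adj_iff, psi_symm_smul, psi_symm_smul, hstd_smul_def, hstd_smul_def,
          co0_dotInt] }
  map_one' := by
    apply RelIso.ext
    intro a
    show psiE.symm ((1 : Hstd) • psiE a) = a
    rw [one_smul, Equiv.symm_apply_apply]
  map_mul' g h := by
    apply RelIso.ext
    intro a
    show psiE.symm ((g * h) • psiE a) = psiE.symm (g • psiE (psiE.symm (h • psiE a)))
    rw [Equiv.apply_symm_apply, mul_smul]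

theorem PhiG_apply (g : Hstd) (a : V0) : PhiG g a = psiE.symm (g • psiE a) := rfl

theorem PhiG_injective : Function.Injective PhiG := by
  rw [injective_iff_map_eq_one]
  intro g hg
  apply hstd_faithful
  intro x hx
  obtain ⟨a, ha⟩ := psi_surjective hx
  have h1 : PhiG g a = a := by rw [hg]; rfl
  rw [PhiG_apply] at h1
  have h2 : g • psiE a = psiE a := by
    have := congrArg psiE h1
    rwa [Equiv.apply_symm_apply] at this
  have h3 := congrArg Subtype.val h2
  rw [actS100_coe, psiE_coe, ha] at h3
  exact h3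

/-- **The automorphism group of the point-block graph of the standard `S(3,6,22)` contains a
Higman–Sims group.** -/
theorem isHS_range : IsHS PhiG.range := by
  have e : Hstd ≃* PhiG.range := MonoidHom.ofInjective PhiG_injective
  obtain ⟨h1, h2⟩ := isHS_Hstd
  exact ⟨MulEquiv.isSimpleGroup e.symm, by rw [← Nat.card_congr e.toEquiv]; exact h2⟩

end Cfsg.Agent.Lib.Helper8
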