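import Mathlib
import Cfsg.Agent.Lib.Helper8.HSConfig

/-!
# A fixed-point-free involution of the Higman–Sims configuration

In a frame adapted to a dodecad `D'` the pair `v' = 2 · 1_{D'}`, `w' = (2^2, -2^10)` on `D'` is fixed
by the sign change on the complementary dodecad, and a lattice vector fixed by that sign change has
coordinate sum divisible by 8, hence inner product with `v'` divisible by 16.
-/

set_option autoImplicit false

namespace Cfsg.Agent.Lib.Helper8
open Cfsg Cfsg.Agent.Lib.Helper7 Cfsg.Spor

/-- the dodecad `{0} ∪ {squares}` -/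
def dodA : Finset GolayPt :=
  {some 0, some 1, some 2, some 3, some 4, some 6, some 8, some 9, some 12, some 13, some 16,
    some 18}

/-- the complementary dodecad -/
def dodB : Finset GolayPt :=
  {none, some 5, some 7, some 10, some 11, some 14, some 15, some 17, some 19, some 20, some 21,
    some 22}

theorem dodB_mem : dodB ∈ supports (golayCode : Set (GolayPt → ZMod 2)) :=
  (Cfsg.Agent.Lib.Helper26.mem_supports_golayCode_iff dodB).2 (by decide +kernel)

/-- `2` on the dodecad `dodA` -/
def vD : GolayPt → ℤ := fun i => if i ∈ dodA then 2 else 0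

/-- `2` at two points of `dodA`, `-2` at the other ten -/
def wD : GolayPt → ℤ := fun i =>
  if i ∈ dodA then (if i = some 1 ∨ i = some 13 then 2 else -2) else 0

theorem vD_mem : vD ∈ leechLattice := by
  rw [mem_leechLattice_iff]
  exact mem_leechSet_of_test (by decide +kernel)

theorem wD_mem : wD ∈ leechLattice := by
  rw [mem_leechLattice_iff]
  exact mem_leechSet_of_test (by decide +kernel)

theorem sqNorm_vD : sqNorm vD = 48 := by decide +kernel

theorem sqNorm_wD : sqNorm wD = 48 := by decide +kernel

theorem dotInt_vD_wD : dotInt vD wD = -32 := by decide +kernel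

theorem signFun_dodB_vD : signFun dodB vD = vD := by decide +kernel

theorem signFun_dodB_wD : signFun dodB wD = wD := by decide +kernel

/-- the sign change on `dodB` as an element of `Co0` -/
noncomputable def invD : Co0 := ⟨signPerm dodB dodB_mem, signPerm_mem dodB dodB_mem⟩

theorem invD_apply (x : leechLattice) :
    ((invD • x : leechLattice) : GolayPt → ℤ) = signFun dodB (x : GolayPt → ℤ) := rfl

theorem invD_mul_self : invD * invD = 1 := by
  apply Subtype.ext
  apply Equiv.ext
  intro x
  apply Subtype.ext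
  show signFun dodB (signFun dodB (x : GolayPt → ℤ)) = _
  rw [signFun_signFun]
  rfl

theorem invD_ne_one : invD ≠ 1 := by
  intro h
  have h1 : invD • (⟨e8 none, e8_mem none⟩ : leechLattice) = ⟨e8 none, e8_mem none⟩ := by
    rw [h, one_smul]
  have h2 := congrFun (congrArg Subtype.val h1) none
  rw [invD_apply] at h2
  revert h2
  decide +kernel

theorem orderOf_invD : orderOf invD = 2 :=
  orderOf_eq_prime (by rw [sq]; exact invD_mul_self) invD_ne_one

/-- a lattice vector fixed by the sign change on `dodB` has inner product with `vD` divisible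
by 16 -/
theorem dotInt_vD_of_fixed {x : GolayPt → ℤ} (hx : x ∈ leechLattice)
    (hfix : signFun dodB x = x) : (16 : ℤ) ∣ dotInt vD x := by
  classical
  have hzero : ∀ i ∈ dodB, x i = 0 := by
    intro i hi
    have := congrFun hfix i
    unfold signFun at this
    rw [if_pos hi] at this
    omega
  obtain ⟨m, hm, hsum, -⟩ := (mem_leechLattice_iff _).1 hx
  have hm0 : m % 2 = 0 := by
    have := hm none
    rw [hzero none (by decide)] at this
    simp only [Int.ModEq] at this
    omega
  have hsum8 : (∑ i, x i) % 8 = 0 := by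
    simp only [Int.ModEq] at hsum
    omega
  have hdot : dotInt vD x = 2 * ∑ i, x i := by
    unfold dotInt
    rw [Finset.mul_sum]
    refine Finset.sum_congr rfl fun i _ => ?_
    unfold vD
    by_cases hi : i ∈ dodA
    · rw [if_pos hi]
    · rw [if_neg hi]
      have : i ∈ dodB := by
        revert i
        decide
      rw [hzero i this]; ring
  rw [hdot]
  omega

/-- no vector of the Higman–Sims set of `(vD, wD)` is fixed by `invD` -/
theorem invD_moves (x : leechLattice)
    (h : dotInt vD (x : GolayPt → ℤ) = 24) : invD • x ≠ x := by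
  intro hfix
  have := dotInt_vD_of_fixed x.2 (by rw [← invD_apply, hfix])
  rw [h] at this
  omega

/-- **A fixed-point-free involution in the stabiliser of a Higman–Sims pair.** -/
theorem hs_exists_invol (v w : leechLattice) (hv : sqNorm (v : GolayPt → ℤ) = 48)
    (hw : sqNorm (w : GolayPt → ℤ) = 48)
    (hvw : dotInt (v : GolayPt → ℤ) (w : GolayPt → ℤ) = -32) :
    ∃ g : Co0, g • v = v ∧ g • w = w ∧ orderOf g = 2 ∧
      ∀ x : leechLattice, dotInt (v : GolayPt → ℤ) (x : GolayPt → ℤ) = 24 → g • x ≠ x := by
  obtain ⟨g1, a1, a2⟩ := hs_normal v w hv hw hvw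
  obtain ⟨g2, b1, b2⟩ := hs_normal ⟨vD, vD_mem⟩ ⟨wD, wD_mem⟩ sqNorm_vD sqNorm_wD dotInt_vD_wD
  -- `h` moves `(v, w)` to `(vD, wD)`
  obtain ⟨h, hdef⟩ : ∃ h : Co0, h = g2⁻¹ * g1 := ⟨_, rfl⟩
  have c1 : h • v = ⟨vD, vD_mem⟩ := by rw [hdef, mul_smul, a1, ← b1, inv_smul_smul]
  have c2 : h • w = ⟨wD, wD_mem⟩ := by rw [hdef, mul_smul, a2, ← b2, inv_smul_smul]
  have f1 : invD • (⟨vD, vD_mem⟩ : leechLattice) = ⟨vD, vD_mem⟩ :=
    Subtype.ext signFun_dodB_vD
  have f2 : invD • (⟨wD, wD_mem⟩ : leechLattice) = ⟨wD, wD_mem⟩ :=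
    Subtype.ext signFun_dodB_wD
  refine ⟨h⁻¹ * invD * h, ?_, ?_, ?_, ?_⟩
  · rw [mul_smul, mul_smul, c1, f1, ← c1, inv_smul_smul]
  · rw [mul_smul, mul_smul, c2, f2, ← c2, inv_smul_smul]
  · refine orderOf_eq_prime ?_ ?_
    · rw [sq]
      have : h⁻¹ * invD * h * (h⁻¹ * invD * h) = h⁻¹ * (invD * invD) * h := by group
      rw [this, invD_mul_self]; group
    · intro h1
      apply invD_ne_one
      have : invD = h * (h⁻¹ * invD * h) * h⁻¹ := by group
      rw [this, h1]; group
  · intro x hx hfix
    rw [mul_smul, mul_smul, inv_smul_eq_iff] at hfix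
    refine invD_moves (h • x) ?_ hfix
    have := co0_dotInt h v x
    rw [c1] at this
    rw [← hx, ← this]

end Cfsg.Agent.Lib.Helper8
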