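/-
Generic group lemmas for certificate-style arguments (helper8): closures of commuting involutions,
conjugation-stable closures, lower bounds for the order of a subgroup from a list of coded elements.
-/
import Cfsg.Agent.Lib.Helper7.SylowPair
import Cfsg.Agent.Lib.Helper7.StemStep

set_option autoImplicit false

namespace Cfsg.Agent.Lib.Helper8.HeGrp

open Subgroup Cfsg.Agent.Lib.Helper7.SylowPair Cfsg.Agent.Lib.Helper7.Stem

variable {G : Type*} [Group G]

theorem closure_cons (g : G) (rest : List G) :
    closure {x | x ∈ g :: rest} = closure {x | x ∈ rest} ⊔ zpowers g := by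
  have : {x | x ∈ g :: rest} = {x | x ∈ rest} ∪ {g} := by
    ext x
    simp only [List.mem_cons, Set.mem_ofPred_eq, Set.union_singleton, Set.mem_insert_iff]
  rw [this, Subgroup.closure_union, zpowers_eq_closure]

/-- Every element of the closure of a list of commuting involutions is a polycyclic word. -/
theorem mem_closure_pcw (gs : List G) (hsq : ∀ g ∈ gs, g * g = 1)
    (hcomm : ∀ g ∈ gs, ∀ h ∈ gs, g * h = h * g) :
    ∀ x ∈ closure {x | x ∈ gs}, ∃ k < 2 ^ gs.length, x = pcw gs k := by
  induction gs with
  | nil =>
    intro x hx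
    have : {x : G | x ∈ ([] : List G)} = ∅ := by ext; simp
    rw [this, Subgroup.closure_empty, mem_bot] at hx
    exact ⟨0, by simp, by rw [hx]; rfl⟩
  | cons g rest ih =>
    intro x hx
    rw [closure_cons] at hx
    have hrest := ih (fun a ha => hsq a (List.mem_cons_of_mem _ ha))
      (fun a ha b hb => hcomm a (List.mem_cons_of_mem _ ha) b (List.mem_cons_of_mem _ hb))
    have hcen : ∀ q ∈ closure {x | x ∈ rest}, g * q = q * g := by
      intro q hq
      induction hq using closure_induction with
      | mem y hy => exact hcomm g List.mem_cons_self y (List.mem_cons_of_mem _ hy)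
      | one => simp
      | mul a b _ _ ha hb => rw [← mul_assoc, ha, mul_assoc, hb, mul_assoc]
      | inv a _ ha =>
        have : a⁻¹ * (g * a) * a⁻¹ = a⁻¹ * (a * g) * a⁻¹ := by rw [ha]
        simpa [mul_assoc] using this.symm
    have hg2 : g ^ 2 ∈ closure {x | x ∈ rest} := by
      rw [pow_two, hsq g List.mem_cons_self]; exact one_mem _
    have hn : ∀ q ∈ closure {x | x ∈ rest}, g * q * g⁻¹ ∈ closure {x | x ∈ rest} := by
      intro q hq
      rw [hcen q hq, mul_inv_cancel_right]; exact hq
    obtain ⟨q, hq, i, hi, rfl⟩ := mem_sup_zpowers (by norm_num : 0 < 2) hg2 hn hx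
    obtain ⟨k, hk, rfl⟩ := hrest q hq
    refine ⟨2 * k + i, ?_, ?_⟩
    · rw [List.length_cons, pow_succ]; omega
    · have h1 : (2 * k + i) / 2 = k := by omega
      have h2 : (2 * k + i) % 2 = i := by omega
      simp only [pcw, h1, h2]
      interval_cases i
      · simp
      · simp

theorem card_closure_le (gs : List G) (hsq : ∀ g ∈ gs, g * g = 1)
    (hcomm : ∀ g ∈ gs, ∀ h ∈ gs, g * h = h * g) :
    Nat.card ↥(closure {x | x ∈ gs}) ≤ 2 ^ gs.length := by
  classical
  have key : ∀ x : ↥(closure {x | x ∈ gs}), ∃ k : Fin (2 ^ gs.length), (x : G) = pcw gs k := by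
    intro x
    obtain ⟨k, hk, h⟩ := mem_closure_pcw gs hsq hcomm x x.2
    exact ⟨⟨k, hk⟩, h⟩
  choose f hf using key
  have hinj : Function.Injective f := by
    intro x y hxy
    apply Subtype.ext
    rw [hf x, hf y, hxy]
  have := Nat.card_le_card_of_injective f hinj
  rwa [Nat.card_fin] at this

/-- Conjugation by `g` preserves a closure as soon as it maps the generators into it. -/
theorem conj_mem_closure_of_gens {S : Set G} {g : G}
    (h : ∀ s ∈ S, g * s * g⁻¹ ∈ closure S) : ∀ x ∈ closure S, g * x * g⁻¹ ∈ closure S := by
  intro x hx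
  have hle : closure S ≤ (closure S).comap (MulAut.conj g).toMonoidHom := by
    rw [closure_le]
    intro s hs
    rw [SetLike.mem_coe, mem_comap]
    simpa [MulAut.conj_apply] using h s hs
  have := hle hx
  rw [mem_comap] at this
  simpa [MulAut.conj_apply] using this

/-- The list increases strictly. -/
def incrL : List ℕ → Bool
  | [] => true
  | [_] => true
  | a :: b :: l => Nat.blt a b && incrL (b :: l)

theorem pairwise_of_incrL : ∀ l : List ℕ, incrL l = true → l.Pairwise (· < ·) := by
  intro l
  induction l with
  | nil => intro _; exact List.Pairwise.nil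
  | cons a l ih =>
    cases l with
    | nil => intro _; exact List.pairwise_singleton _ _
    | cons b l =>
      intro h
      simp only [incrL, Bool.and_eq_true, Nat.blt_eq] at h
      have h2 := ih h.2
      have h3 := List.pairwise_cons.mp h2
      rw [List.pairwise_cons]
      refine ⟨?_, h2⟩
      intro x hx
      rcases List.mem_cons.mp hx with rfl | hx'
      · exact h.1
      · exact lt_trans h.1 (h3.1 x hx')

/-- A subgroup containing the elements `f k`, `k ∈ ks`, whose codes increase strictly along `ks`,
has at least `ks.length` elements. -/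
theorem card_ge_of_codes [Finite G] (S : Subgroup G) (f : ℕ → G) (hf : ∀ k, f k ∈ S)
    (code : ℕ → ℕ) (hcode : ∀ k k', f k = f k' → code k = code k') (ks : List ℕ)
    (hincr : incrL (ks.map code) = true) : ks.length ≤ Nat.card ↥S := by
  classical
  have hpw := pairwise_of_incrL _ hincr
  have hnd : (ks.map fun k => (⟨f k, hf k⟩ : ↥S)).Nodup := by
    rw [List.Nodup, List.pairwise_map]
    rw [List.pairwise_map] at hpw
    refine hpw.imp ?_
    intro a b hab heq
    have : f a = f b := congrArg Subtype.val heq
    exact absurd (hcode a b this) (ne_of_lt hab)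
  have : Fintype ↥S := Fintype.ofFinite _
  have h1 := List.Nodup.length_le_card (α := ↥S) hnd
  rw [List.length_map] at h1
  rwa [Nat.card_eq_fintype_card]

end Cfsg.Agent.Lib.Helper8.HeGrp
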