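/-
Packed-table calculus for the Held group acting on 2058 points (helper8).
Elements of helper56's permutation group `Gh` are tracked by their 12-bit packed tables; relations
are checked pointwise in the kernel.
-/
import Cfsg.Agent.Lib.Helper56.HePerm.Main

set_option autoImplicit false

namespace Cfsg.Agent.Lib.Helper8.HeTab

open Cfsg.Spor.He (Gen)
open Cfsg.Agent.Lib.Helper28 Cfsg.Agent.Lib.Helper28.TC Cfsg.Agent.Lib.Helper28.He2058
open Cfsg.Agent.Lib.Helper56.HePerm

/-- entry `i` of a packed table -/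
def lk (t i : ℕ) : ℕ := look t 12 4095 i

/-- action of a word of tables: the first table is applied last -/
def actT (w : List ℕ) (i : ℕ) : ℕ :=
  List.rec i (fun t _ ih => Nat.land (Nat.shiftRight t (Nat.mul 12 ih)) 4095) w

theorem actT_nil (i : ℕ) : actT [] i = i := rfl

theorem actT_cons (t : ℕ) (w : List ℕ) (i : ℕ) : actT (t :: w) i = lk t (actT w i) := rfl

theorem actT_append (w u : List ℕ) (i : ℕ) : actT (w ++ u) i = actT w (actT u i) := by
  induction w with
  | nil => rfl
  | cons t w ih => simp only [List.cons_append, actT_cons, ih]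

/-- the element `x` of `Gh` acts as the table `t` -/
def Tab (x : ↥Gh) (t : ℕ) : Prop := ∀ i : Fin nn, ((x : Equiv.Perm (Fin nn)) i).val = lk t i.val

/-- the element `x` of `Gh` acts as the word of tables `w` -/
def TabW (x : ↥Gh) (w : List ℕ) : Prop :=
  ∀ i : Fin nn, ((x : Equiv.Perm (Fin nn)) i).val = actT w i.val

/-- the generators as elements of `Gh` -/
noncomputable def gen (x : Gen) : ↥Gh := ⟨T.perm x, perm_mem_Gh x⟩

theorem tab_gen (x : Gen) : Tab (gen x) (tfT x) := fun _ => rfl

theorem tabW_one : TabW 1 [] := fun _ => rfl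

theorem Tab.tabW {x : ↥Gh} {t : ℕ} (h : Tab x t) : TabW x [t] := h

theorem TabW.mul {x y : ↥Gh} {w u : List ℕ} (hx : TabW x w) (hy : TabW y u) :
    TabW (x * y) (w ++ u) := by
  intro i
  rw [actT_append, ← hy i]
  exact hx _

theorem TabW.cons {x y : ↥Gh} {t : ℕ} {u : List ℕ} (hx : Tab x t) (hy : TabW y u) :
    TabW (x * y) (t :: u) := hx.tabW.mul hy

theorem tabW_prod {xs : List ↥Gh} {ts : List ℕ} (h : List.Forall₂ Tab xs ts) :
    TabW xs.prod ts := by
  induction h with
  | nil => exact tabW_one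
  | cons h _ ih => rw [List.prod_cons]; exact TabW.cons h ih

theorem TabW.pow {x : ↥Gh} {w : List ℕ} (hx : TabW x w) (k : ℕ) :
    TabW (x ^ k) (List.replicate k w).flatten := by
  induction k with
  | zero => exact tabW_one
  | succ k ih =>
    rw [pow_succ', List.replicate_succ, List.flatten_cons]
    exact hx.mul ih


theorem tabW_prodW {xs : List ↥Gh} {ws : List (List ℕ)} (h : List.Forall₂ TabW xs ws) :
    TabW xs.prod ws.flatten := by
  induction h with
  | nil => exact tabW_one
  | cons h _ ih => rw [List.prod_cons, List.flatten_cons]; exact h.mul ih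

theorem gen_mul_self (x : Gen) : gen x * gen x = 1 :=
  Subtype.ext (T.perm_mul_self x)

theorem gen_inv (x : Gen) : (gen x)⁻¹ = gen x :=
  inv_eq_of_mul_eq_one_left (gen_mul_self x)

theorem TabW.tab {x : ↥Gh} {t : ℕ} (h : TabW x [t]) : Tab x t := h

/-- pointwise comparison of two words of tables on `[0, nn)` -/
def chkEq (w u : List ℕ) : Bool :=
  allRange (guard nn fun i => Nat.beq (actT w i) (actT u i)) 12 0

theorem chkEq_spec {w u : List ℕ} (h : chkEq w u = true) : ∀ i, i < nn → actT w i = actT u i := by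
  intro i hi
  have h1 := allRange_spec _ 12 0 h i (Nat.zero_le _)
    (lt_of_lt_of_le hi (by decide))
  exact nbeq_eq_true.1 (guard_spec nn _ i h1 hi)

theorem eq_of_tabW {x y : ↥Gh} {w u : List ℕ} (hx : TabW x w) (hy : TabW y u)
    (h : chkEq w u = true) : x = y := by
  apply Subtype.ext
  apply Equiv.ext
  intro i
  apply Fin.ext
  rw [hx i, hy i]
  exact chkEq_spec h i.val i.2

theorem Tab.of_tabW {x : ↥Gh} {w : List ℕ} {t : ℕ} (hx : TabW x w) (h : chkEq w [t] = true) :
    Tab x t := by
  intro i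
  rw [hx i]
  exact chkEq_spec h i.val i.2

/-- two words of tables differ at the point `i` -/
def chkNe (w u : List ℕ) (i : ℕ) : Bool :=
  band (nlt i nn) (Bool.rec true false (Nat.beq (actT w i) (actT u i)))

theorem ne_of_tabW {x y : ↥Gh} {w u : List ℕ} (hx : TabW x w) (hy : TabW y u) (i : ℕ)
    (h : chkNe w u i = true) : x ≠ y := by
  unfold chkNe at h
  rw [band_eq_true] at h
  have hi : i < nn := nlt_eq_true.1 h.1
  intro hxy
  have h1 := hx ⟨i, hi⟩
  rw [hxy, hy ⟨i, hi⟩] at h1
  have h2 : Nat.beq (actT w i) (actT u i) = true := nbeq_eq_true.2 h1.symm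
  have h3 := h.2
  rw [h2] at h3
  exact absurd h3 (by decide)

/-- `t'` is the table of the inverse of `t` -/
def chkInv (t t' : ℕ) : Bool :=
  allRange (guard nn fun i => band (nlt (lk t' i) nn) (Nat.beq (lk t (lk t' i)) i)) 12 0

theorem Tab.inv {x : ↥Gh} {t t' : ℕ} (hx : Tab x t) (h : chkInv t t' = true) : Tab x⁻¹ t' := by
  intro i
  have h1 := allRange_spec _ 12 0 h i.val (Nat.zero_le _) (lt_of_lt_of_le i.2 (by decide))
  have h2 := guard_spec nn _ i.val h1 i.2
  rw [band_eq_true] at h2
  have hlt : lk t' i.val < nn := nlt_eq_true.1 h2.1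
  have hval : lk t (lk t' i.val) = i.val := nbeq_eq_true.1 h2.2
  have h3 : (x : Equiv.Perm (Fin nn)) ⟨lk t' i.val, hlt⟩ = i := by
    apply Fin.ext
    rw [hx ⟨_, hlt⟩]
    exact hval
  have h4 : ((x⁻¹ : ↥Gh) : Equiv.Perm (Fin nn)) i = ⟨lk t' i.val, hlt⟩ := by
    rw [Subgroup.coe_inv, Equiv.Perm.inv_eq_iff_eq]
    exact h3.symm
  rw [h4]

end Cfsg.Agent.Lib.Helper8.HeTab
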