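/-
Packed-table calculus for the Held group, part 2 (helper8): Boolean certificates for sets of
generators (involutions, commutation, normalization), polycyclic words and order bounds.
-/
import Cfsg.Agent.Lib.Helper8.HeTab
import Cfsg.Agent.Lib.Helper8.HeGrp

set_option autoImplicit false

namespace Cfsg.Agent.Lib.Helper8.HeTab

open Cfsg.Spor.He (Gen)
open Cfsg.Agent.Lib.Helper28 Cfsg.Agent.Lib.Helper28.TC Cfsg.Agent.Lib.Helper28.He2058
open Cfsg.Agent.Lib.Helper56.HePerm Cfsg.Agent.Lib.Helper7.SylowPair
open Cfsg.Agent.Lib.Helper8.HeGrp Subgroup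

instance finite_Gh : Finite ↥Gh := inferInstance

/-- Boolean disjunction by recursion on the first argument. -/
def bor (a b : Bool) : Bool := Bool.rec b true a

theorem bor_eq_true {a b : Bool} : bor a b = true ↔ a = true ∨ b = true := by
  cases a <;> cases b <;> simp [bor]

/-- Some member of a list satisfies `p`. -/
def anyList {β : Type} (p : β → Bool) (l : List β) : Bool :=
  List.rec false (fun b _ ih => bor (p b) ih) l

theorem anyList_spec {β : Type} (p : β → Bool) (l : List β) :
    anyList p l = true → ∃ b ∈ l, p b = true := by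
  induction l with
  | nil => intro h; cases h
  | cons a l ih =>
    intro h
    have h' : bor (p a) (anyList p l) = true := h
    rcases bor_eq_true.1 h' with h1 | h1
    · exact ⟨a, List.mem_cons_self, h1⟩
    · obtain ⟨b, hb, hp⟩ := ih h1
      exact ⟨b, List.mem_cons_of_mem _ hb, hp⟩

/-- entry `k` of a list, by structural recursion -/
def nth {β : Type} (l : List β) (k : ℕ) (d : β) : β :=
  List.rec (motive := fun _ => ℕ → β) (fun _ => d)
    (fun a _ ih k => Nat.rec (motive := fun _ => β) a (fun k' _ => ih k') k) l k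

theorem exists_tabW_of_mem {gs : List ↥Gh} {ws : List (List ℕ)} (h : List.Forall₂ TabW gs ws) :
    ∀ g ∈ gs, ∃ w ∈ ws, TabW g w := by
  induction h with
  | nil => intro g hg; cases hg
  | cons hx _ ih =>
    intro g hg
    rcases List.mem_cons.1 hg with rfl | hg
    · exact ⟨_, List.mem_cons_self, hx⟩
    · obtain ⟨w, hw, hgw⟩ := ih g hg
      exact ⟨w, List.mem_cons_of_mem _ hw, hgw⟩

/-- all generators are involutions -/
theorem sq_of_chk {gs : List ↥Gh} {ws : List (List ℕ)} (h : List.Forall₂ TabW gs ws)
    (hc : allList (fun w => chkEq (w ++ w) []) ws = true) : ∀ g ∈ gs, g * g = 1 := by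
  intro g hg
  obtain ⟨w, hw, hgw⟩ := exists_tabW_of_mem h g hg
  exact eq_of_tabW (hgw.mul hgw) tabW_one (allList_spec _ _ hc w hw)

/-- all generators commute -/
theorem comm_of_chk {gs : List ↥Gh} {ws : List (List ℕ)} (h : List.Forall₂ TabW gs ws)
    (hc : allList (fun w => allList (fun u => chkEq (w ++ u) (u ++ w)) ws) ws = true) :
    ∀ g ∈ gs, ∀ g' ∈ gs, g * g' = g' * g := by
  intro g hg g' hg'
  obtain ⟨w, hw, hgw⟩ := exists_tabW_of_mem h g hg
  obtain ⟨u, hu, hgu⟩ := exists_tabW_of_mem h g' hg'
  exact eq_of_tabW (hgw.mul hgu) (hgu.mul hgw) (allList_spec _ _ (allList_spec _ _ hc w hw) u hu)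

/-- the word of tables of a polycyclic word -/
def pcwW : List (List ℕ) → ℕ → List ℕ
  | [], _ => []
  | w :: rest, n => pcwW rest (n / 2) ++ (if n % 2 = 1 then w else [])

theorem tabW_pcw {gs : List ↥Gh} {ws : List (List ℕ)} (h : List.Forall₂ TabW gs ws) :
    ∀ n : ℕ, TabW (pcw gs n) (pcwW ws n) := by
  induction h with
  | nil => intro n; exact tabW_one
  | cons hx _ ih =>
    intro n
    simp only [pcw, pcwW]
    split_ifs
    · exact (ih _).mul hx
    · exact (ih _).mul tabW_one

/-- `g` maps every generator to a polycyclic word under conjugation -/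
def normChk (gw : List ℕ) (ws : List (List ℕ)) (ks : List ℕ) : Bool :=
  allList (fun w => anyList (fun k => chkEq (gw ++ w) (pcwW ws k ++ gw)) ks) ws

theorem conj_mem_of_normChk {gs : List ↥Gh} {ws : List (List ℕ)} (h : List.Forall₂ TabW gs ws)
    {g : ↥Gh} {gw : List ℕ} (hg : TabW g gw) (ks : List ℕ) (hc : normChk gw ws ks = true) :
    ∀ x ∈ closure {x | x ∈ gs}, g * x * g⁻¹ ∈ closure {x | x ∈ gs} := by
  apply conj_mem_closure_of_gens
  intro s hs
  obtain ⟨w, hw, hsw⟩ := exists_tabW_of_mem h s hs
  obtain ⟨k, -, hk⟩ := anyList_spec _ _ (allList_spec _ _ hc w hw)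
  have e : g * s = pcw gs k * g := eq_of_tabW (hg.mul hsw) ((tabW_pcw h k).mul hg) hk
  have : g * s * g⁻¹ = pcw gs k := by rw [e]; group
  rw [this]
  exact pcw_mem_closure gs k

/-- the code of a word of tables: its images of the points `pts` -/
def codeW (pts : List ℕ) (w : List ℕ) : ℕ :=
  List.rec (motive := fun _ => ℕ → ℕ) (fun acc => acc)
    (fun b _ ih acc => ih (Nat.add (Nat.mul acc 4096) (actT w b))) pts 0

theorem codeW_congr (pts : List ℕ) (hpts : ∀ b ∈ pts, b < nn) {x : ↥Gh} {w u : List ℕ}
    (hw : TabW x w) (hu : TabW x u) : codeW pts w = codeW pts u := by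
  unfold codeW
  generalize (0 : ℕ) = acc
  induction pts generalizing acc with
  | nil => rfl
  | cons b pts ih =>
    have hb : b < nn := hpts b List.mem_cons_self
    have e : actT w b = actT u b := by
      rw [← hw ⟨b, hb⟩, ← hu ⟨b, hb⟩]
    show List.rec (motive := fun _ => ℕ → ℕ) (fun acc => acc)
      (fun b _ ih acc => ih (Nat.add (Nat.mul acc 4096) (actT w b))) pts
        (Nat.add (Nat.mul acc 4096) (actT w b)) = List.rec (motive := fun _ => ℕ → ℕ) (fun acc => acc)
      (fun b _ ih acc => ih (Nat.add (Nat.mul acc 4096) (actT u b))) pts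
        (Nat.add (Nat.mul acc 4096) (actT u b))
    rw [e]
    exact ih (fun b hb => hpts b (List.mem_cons_of_mem _ hb)) _

/-- Lower bound for the order of a subgroup containing the generators `gs`, from a list of
polycyclic words with strictly increasing codes. -/
theorem card_ge_of_pcw_codes (S : Subgroup ↥Gh) {gs : List ↥Gh} {ws : List (List ℕ)}
    (h : List.Forall₂ TabW gs ws) (hS : ∀ g ∈ gs, g ∈ S) (pts : List ℕ)
    (hpts : ∀ b ∈ pts, b < nn) (ks : List ℕ)
    (hincr : incrL (ks.map fun k => codeW pts (pcwW ws k)) = true) : ks.length ≤ Nat.card ↥S := by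
  have hle : closure {x | x ∈ gs} ≤ S := by
    rw [closure_le]
    intro x hx
    exact hS x hx
  refine card_ge_of_codes S (fun k => pcw gs k) (fun k => hle (pcw_mem_closure gs k))
    (fun k => codeW pts (pcwW ws k)) ?_ ks hincr
  intro k k' hkk
  have h1 := tabW_pcw h k
  have h2 := tabW_pcw h k'
  rw [hkk] at h1
  exact codeW_congr pts hpts h1 h2

/-- words in two generators -/
noncomputable def wordE (a b : ↥Gh) (l : List Bool) : ↥Gh := (l.map fun c => cond c b a).prod

/-- the tables of a word in two generators -/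
def wordT (a b : ℕ) (l : List Bool) : List ℕ := l.map fun c => cond c b a

theorem tabW_wordE {a b : ↥Gh} {ta tb : ℕ} (ha : Tab a ta) (hb : Tab b tb) (l : List Bool) :
    TabW (wordE a b l) (wordT ta tb l) := by
  induction l with
  | nil => exact tabW_one
  | cons c l ih =>
    unfold wordE wordT
    rw [List.map_cons, List.prod_cons, List.map_cons]
    cases c
    · exact TabW.cons ha ih
    · exact TabW.cons hb ih

end Cfsg.Agent.Lib.Helper8.HeTab
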