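/-
The odd part of the Schur multiplier of the Held group is trivial (helper8): Sylow subgroups
`3^{1+2}`, `5^2`, `7^{1+2}` with the fusion criteria of helper7 and helper12, and an element of order 17.
-/
import Cfsg.Agent.Lib.Helper8.HeElts.E5
import Cfsg.Agent.Lib.Helper8.HeTab2
import Cfsg.Agent.Lib.Helper8.HeCertData
import Cfsg.Agent.Lib.Helper7.StemThreeB
import Cfsg.Agent.Lib.Helper7.StemReduce
import Cfsg.Agent.Lib.Helper12.StemPAbel
import Cfsg.Agent.Lib.Helper12.StemPExtra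

set_option autoImplicit false
set_option maxRecDepth 8000

namespace Cfsg.Agent.Lib.Helper8.HeTab

open Cfsg.Spor.He (Gen)
open Cfsg.Agent.Lib.Helper28 Cfsg.Agent.Lib.Helper28.TC Cfsg.Agent.Lib.Helper28.He2058
open Cfsg.Agent.Lib.Helper56.HePerm Cfsg.Agent.Lib.Helper7.SylowPair
open Cfsg.Agent.Lib.Helper8.HeGrp Subgroup

noncomputable section

theorem card_Gh'' : Nat.card ↥Gh = 4030387200 := card_Gh

/-! ### The prime 3 -/

/-- the centre of the Sylow 3-subgroup -/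
def w3 : ↥Gh := zz * zz
theorem tabW_w3 : TabW w3 [Tzz, Tzz] := tab_zz.tabW.mul tab_zz.tabW

theorem card_P3_ge : 27 ≤ Nat.card ↥(zpowers w3 ⊔ zpowers a3 ⊔ zpowers b3) := by
  have hZ : zpowers w3 ≤ zpowers w3 ⊔ zpowers a3 ⊔ zpowers b3 := le_sup_left.trans le_sup_left
  have hA : zpowers a3 ≤ zpowers w3 ⊔ zpowers a3 ⊔ zpowers b3 := le_sup_right.trans le_sup_left
  have hB : zpowers b3 ≤ zpowers w3 ⊔ zpowers a3 ⊔ zpowers b3 := le_sup_right
  have hm : List.Forall₂ TabW [w3, w3, a3, a3, b3, b3]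
      [[Tzz, Tzz], [Tzz, Tzz], [Ta3], [Ta3], [Tb3], [Tb3]] :=
    .cons tabW_w3 (.cons tabW_w3 (.cons tab_a3.tabW (.cons tab_a3.tabW
      (.cons tab_b3.tabW (.cons tab_b3.tabW .nil)))))
  have := card_ge_of_pcw_codes (zpowers w3 ⊔ zpowers a3 ⊔ zpowers b3) hm
    (by
      intro g hg
      simp only [List.mem_cons, List.not_mem_nil, or_false] at hg
      rcases hg with rfl | rfl | rfl | rfl | rfl | rfl
      · exact hZ (mem_zpowers _)
      · exact hZ (mem_zpowers _)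
      · exact hA (mem_zpowers _)
      · exact hA (mem_zpowers _)
      · exact hB (mem_zpowers _)
      · exact hB (mem_zpowers _))
    [0, 1, 15, 34] (by decide) ks27 (by decide +kernel)
  have hl : ks27.length = 27 := by decide
  rwa [hl] at this

/-- The stem extensions of `Gh` with kernel of exponent 3 are trivial. -/
theorem ker_three {Δ : Type} [Group Δ] [Finite Δ] (τ : Δ →* ↥Gh) (hτ : Cfsg.IsStemExtension τ)
    (hexp : ∀ k ∈ τ.ker, k ^ 3 = 1) : τ.ker = ⊥ := by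
  refine Cfsg.Agent.Lib.Helper7.Stem.ker_eq_bot_three_extraspecial τ hτ hexp a3 b3 w3 t3 ss
    ?_ ?_ ?_ ?_ ?_ ?_ ?_ ?_ ?_ ?_ card_P3_ge 149273600 (by rw [card_Gh'']) (by decide)
  · exact eq_of_tabW (tab_a3.tabW.pow 3) tabW_one (by decide +kernel)
  · exact eq_of_tabW (tab_b3.tabW.pow 3) tabW_one (by decide +kernel)
  · exact eq_of_tabW (tabW_w3.pow 3) tabW_one (by decide +kernel)
  · exact eq_of_tabW (tab_a3.tabW.mul tab_b3.tabW) ((tabW_w3.mul tab_b3.tabW).mul tab_a3.tabW)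
      (by decide +kernel)
  · exact eq_of_tabW (tab_a3.tabW.mul tabW_w3) (tabW_w3.mul tab_a3.tabW) (by decide +kernel)
  · exact eq_of_tabW (tab_b3.tabW.mul tabW_w3) (tabW_w3.mul tab_b3.tabW) (by decide +kernel)
  · exact eq_of_tabW (tab_t3.tabW.mul tab_a3.tabW) ((tab_a3.tabW.mul tab_a3.tabW).mul tab_t3.tabW)
      (by decide +kernel)
  · exact eq_of_tabW (tab_t3.tabW.mul tab_b3.tabW) ((tab_b3.tabW.mul tab_b3.tabW).mul tab_t3.tabW)
      (by decide +kernel)
  · exact eq_of_tabW (tab_t3.tabW.mul tabW_w3) (tabW_w3.mul tab_t3.tabW) (by decide +kernel)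
  · exact eq_of_tabW (tab_ss.tabW.mul tabW_w3) ((tabW_w3.mul tabW_w3).mul tab_ss.tabW)
      (by decide +kernel)

/-! ### The prime 5 -/

/-- the involution inverting `b5` is the Coxeter generator `a` -/
def t5p : ↥Gh := gen Gen.a
theorem tab_t5p : Tab t5p (tfT Gen.a) := tab_gen Gen.a

theorem card_P5_ge : 5 ^ 2 ≤ Nat.card ↥(zpowers a5 ⊔ zpowers b5) := by
  have hA : zpowers a5 ≤ zpowers a5 ⊔ zpowers b5 := le_sup_left
  have hB : zpowers b5 ≤ zpowers a5 ⊔ zpowers b5 := le_sup_right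
  have hm : List.Forall₂ TabW [a5, a5, a5, a5, b5, b5, b5, b5]
      [[Ta5], [Ta5], [Ta5], [Ta5], [Tb5], [Tb5], [Tb5], [Tb5]] :=
    .cons tab_a5.tabW (.cons tab_a5.tabW (.cons tab_a5.tabW (.cons tab_a5.tabW
      (.cons tab_b5.tabW (.cons tab_b5.tabW (.cons tab_b5.tabW (.cons tab_b5.tabW .nil)))))))
  have := card_ge_of_pcw_codes (zpowers a5 ⊔ zpowers b5) hm
    (by
      intro g hg
      simp only [List.mem_cons, List.not_mem_nil, or_false] at hg
      rcases hg with rfl | rfl | rfl | rfl | rfl | rfl | rfl | rfl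
      · exact hA (mem_zpowers _)
      · exact hA (mem_zpowers _)
      · exact hA (mem_zpowers _)
      · exact hA (mem_zpowers _)
      · exact hB (mem_zpowers _)
      · exact hB (mem_zpowers _)
      · exact hB (mem_zpowers _)
      · exact hB (mem_zpowers _))
    [0, 1, 15, 34] (by decide) ks25 (by decide +kernel)
  have hl : ks25.length = 5 ^ 2 := by decide
  rwa [hl] at this

theorem a5_pow : a5 ^ 5 = 1 := eq_of_tabW (tab_a5.tabW.pow 5) tabW_one (by decide +kernel)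
theorem b5_pow : b5 ^ 5 = 1 := eq_of_tabW (tab_b5.tabW.pow 5) tabW_one (by decide +kernel)

theorem a5_inv : a5⁻¹ = a5 ^ 4 := by
  apply inv_eq_of_mul_eq_one_right
  rw [← pow_succ', a5_pow]

theorem b5_inv : b5⁻¹ = b5 ^ 4 := by
  apply inv_eq_of_mul_eq_one_right
  rw [← pow_succ', b5_pow]

/-- The stem extensions of `Gh` with kernel of exponent 5 are trivial. -/
theorem ker_five {Δ : Type} [Group Δ] [Finite Δ] (τ : Δ →* ↥Gh) (hτ : Cfsg.IsStemExtension τ)
    (hexp : ∀ k ∈ τ.ker, k ^ 5 = 1) : τ.ker = ⊥ := by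
  refine Cfsg.Agent.Lib.Helper12.Stem.ker_eq_bot_p_abelian 5 (by norm_num) (by norm_num) τ hτ hexp
    a5 b5 t5 t5p a5_pow b5_pow ?_ ?_ ?_ ?_ card_P5_ge 161215488 (by rw [card_Gh'']; norm_num) (by decide)
  · exact eq_of_tabW (tab_a5.tabW.mul tab_b5.tabW) (tab_b5.tabW.mul tab_a5.tabW) (by decide +kernel)
  · rw [a5_inv]
    exact eq_of_tabW (tab_t5.tabW.mul tab_a5.tabW) ((tab_a5.tabW.pow 4).mul tab_t5.tabW)
      (by decide +kernel)
  · exact eq_of_tabW (tab_t5.tabW.mul tab_b5.tabW) (tab_b5.tabW.mul tab_t5.tabW) (by decide +kernel)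
  · rw [b5_inv]
    exact eq_of_tabW (tab_t5p.tabW.mul tab_b5.tabW) ((tab_b5.tabW.pow 4).mul tab_t5p.tabW)
      (by decide +kernel)

/-! ### The prime 7 -/

theorem card_P7_ge : 7 ^ 3 ≤ Nat.card ↥(zpowers w7 ⊔ zpowers a7 ⊔ zpowers b7) := by
  have hZ : zpowers w7 ≤ zpowers w7 ⊔ zpowers a7 ⊔ zpowers b7 := le_sup_left.trans le_sup_left
  have hA : zpowers a7 ≤ zpowers w7 ⊔ zpowers a7 ⊔ zpowers b7 := le_sup_right.trans le_sup_left
  have hB : zpowers b7 ≤ zpowers w7 ⊔ zpowers a7 ⊔ zpowers b7 := le_sup_right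
  have hm : List.Forall₂ TabW
      [w7, w7, w7, w7, w7, w7, a7, a7, a7, a7, a7, a7, b7, b7, b7, b7, b7, b7]
      [[Tw7], [Tw7], [Tw7], [Tw7], [Tw7], [Tw7], [Ta7], [Ta7], [Ta7], [Ta7], [Ta7], [Ta7],
        [Tb7], [Tb7], [Tb7], [Tb7], [Tb7], [Tb7]] :=
    .cons tab_w7.tabW (.cons tab_w7.tabW (.cons tab_w7.tabW (.cons tab_w7.tabW
      (.cons tab_w7.tabW (.cons tab_w7.tabW (.cons tab_a7.tabW (.cons tab_a7.tabW
      (.cons tab_a7.tabW (.cons tab_a7.tabW (.cons tab_a7.tabW (.cons tab_a7.tabW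
      (.cons tab_b7.tabW (.cons tab_b7.tabW (.cons tab_b7.tabW (.cons tab_b7.tabW
      (.cons tab_b7.tabW (.cons tab_b7.tabW .nil)))))))))))))))))
  have := card_ge_of_pcw_codes (zpowers w7 ⊔ zpowers a7 ⊔ zpowers b7) hm
    (by
      intro g hg
      simp only [List.mem_cons, List.not_mem_nil, or_false] at hg
      rcases hg with rfl | rfl | rfl | rfl | rfl | rfl | rfl | rfl | rfl | rfl | rfl | rfl |
        rfl | rfl | rfl | rfl | rfl | rfl
      · exact hZ (mem_zpowers _)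
      · exact hZ (mem_zpowers _)
      · exact hZ (mem_zpowers _)
      · exact hZ (mem_zpowers _)
      · exact hZ (mem_zpowers _)
      · exact hZ (mem_zpowers _)
      · exact hA (mem_zpowers _)
      · exact hA (mem_zpowers _)
      · exact hA (mem_zpowers _)
      · exact hA (mem_zpowers _)
      · exact hA (mem_zpowers _)
      · exact hA (mem_zpowers _)
      · exact hB (mem_zpowers _)
      · exact hB (mem_zpowers _)
      · exact hB (mem_zpowers _)
      · exact hB (mem_zpowers _)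
      · exact hB (mem_zpowers _)
      · exact hB (mem_zpowers _))
    [0, 1, 15, 34] (by decide) ks343 (by decide +kernel)
  have hl : ks343.length = 7 ^ 3 := by decide
  rwa [hl] at this

/-- The stem extensions of `Gh` with kernel of exponent 7 are trivial. -/
theorem ker_seven {Δ : Type} [Group Δ] [Finite Δ] (τ : Δ →* ↥Gh) (hτ : Cfsg.IsStemExtension τ)
    (hexp : ∀ k ∈ τ.ker, k ^ 7 = 1) : τ.ker = ⊥ := by
  refine Cfsg.Agent.Lib.Helper12.Stem.ker_eq_bot_p_extraspecial 7 (by norm_num) τ hτ hexp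
    a7 b7 w7 r7 2 4 ?_ ?_ ?_ ?_ ?_ ?_ ?_ ?_ (by decide) (by decide) (by decide) (by decide)
    card_P7_ge 11750400 (by rw [card_Gh'']; norm_num) (by decide)
  · exact eq_of_tabW (tab_a7.tabW.pow 7) tabW_one (by decide +kernel)
  · exact eq_of_tabW (tab_b7.tabW.pow 7) tabW_one (by decide +kernel)
  · exact eq_of_tabW (tab_w7.tabW.pow 7) tabW_one (by decide +kernel)
  · exact eq_of_tabW (tab_a7.tabW.mul tab_b7.tabW) ((tab_w7.tabW.mul tab_b7.tabW).mul tab_a7.tabW)
      (by decide +kernel)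
  · exact eq_of_tabW (tab_a7.tabW.mul tab_w7.tabW) (tab_w7.tabW.mul tab_a7.tabW) (by decide +kernel)
  · exact eq_of_tabW (tab_b7.tabW.mul tab_w7.tabW) (tab_w7.tabW.mul tab_b7.tabW) (by decide +kernel)
  · exact eq_of_tabW (tab_r7.tabW.mul tab_a7.tabW) ((tab_a7.tabW.pow 2).mul tab_r7.tabW)
      (by decide +kernel)
  · exact eq_of_tabW (tab_r7.tabW.mul tab_b7.tabW) ((tab_b7.tabW.pow 4).mul tab_r7.tabW)
      (by decide +kernel)

/-! ### The prime 17 -/

theorem orderOf_e17 : orderOf e17 = 17 := by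
  have : Fact (Nat.Prime 17) := ⟨by norm_num⟩
  exact orderOf_eq_prime (eq_of_tabW (tab_e17.tabW.pow 17) tabW_one (by decide +kernel))
    (ne_of_tabW tab_e17.tabW tabW_one 0 (by decide +kernel))

/-- The stem extensions of `Gh` with kernel of exponent 17 are trivial. -/
theorem ker_seventeen {Δ : Type} [Group Δ] [Finite Δ] (τ : Δ →* ↥Gh)
    (hτ : Cfsg.IsStemExtension τ) (hexp : ∀ k ∈ τ.ker, k ^ 17 = 1) : τ.ker = ⊥ :=
  Cfsg.Agent.Lib.Helper7.Stem.ker_eq_bot_of_orderOf τ hτ 17 hexp e17 orderOf_e17 237081600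
    (by rw [card_Gh'']) (by norm_num) (by decide)

end

end Cfsg.Agent.Lib.Helper8.HeTab
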