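/-
The 2-part of the Schur multiplier of the Held group is trivial (helper8): the 2-local subgroup
`2^6 : 3.S6` with helper7's criterion `ker_eq_bot_two_D8C2`.
-/
import Cfsg.Agent.Lib.Helper8.HeElts.E5
import Cfsg.Agent.Lib.Helper8.HeTab2
import Cfsg.Agent.Lib.Helper8.HeCertData
import Cfsg.Agent.Lib.Helper7.StemTwoB

set_option autoImplicit false
set_option maxRecDepth 8000

namespace Cfsg.Agent.Lib.Helper8.HeTab

open Cfsg.Spor.He (Gen)
open Cfsg.Agent.Lib.Helper28 Cfsg.Agent.Lib.Helper28.TC Cfsg.Agent.Lib.Helper28.He2058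
open Cfsg.Agent.Lib.Helper56.HePerm Cfsg.Agent.Lib.Helper7.SylowPair
open Cfsg.Agent.Lib.Helper8.HeGrp Subgroup

noncomputable section

/-- the first generator of the elementary abelian subgroup is the Coxeter generator `d` -/
def n1 : ↥Gh := gen Gen.d
/-- its table -/
def Tn1 : ℕ := tfT Gen.d
theorem tab_n1 : Tab n1 Tn1 := tab_gen Gen.d

/-- generators of the elementary abelian subgroup `2^6` -/
def gensN : List ↥Gh := [n1, n2, n3, n4, n5, n6]
/-- their tables -/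
def gensNW : List (List ℕ) := [[Tn1], [Tn2], [Tn3], [Tn4], [Tn5], [Tn6]]

theorem hmN : List.Forall₂ TabW gensN gensNW :=
  .cons tab_n1.tabW (.cons tab_n2.tabW (.cons tab_n3.tabW (.cons tab_n4.tabW
    (.cons tab_n5.tabW (.cons tab_n6.tabW .nil)))))

/-- the elementary abelian subgroup `2^6` -/
def NN : Subgroup ↥Gh := closure {x | x ∈ gensN}

theorem gensN_sq : ∀ g ∈ gensN, g * g = 1 := sq_of_chk hmN (by decide +kernel)

theorem gensN_comm : ∀ g ∈ gensN, ∀ g' ∈ gensN, g * g' = g' * g :=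
  comm_of_chk hmN (by decide +kernel)

theorem mem_NN {x : ↥Gh} (hx : x ∈ NN) : ∃ k < 64, x = pcw gensN k := by
  obtain ⟨k, hk, h⟩ := mem_closure_pcw gensN gensN_sq gensN_comm x hx
  have hl : gensN.length = 6 := rfl
  rw [hl] at hk
  exact ⟨k, by norm_num at hk; exact hk, h⟩

theorem pcw_mem_NN (k : ℕ) : pcw gensN k ∈ NN := pcw_mem_closure gensN k

theorem card_NN_le : Nat.card ↥NN ≤ 64 := by
  have h := card_closure_le gensN gensN_sq gensN_comm
  have hl : gensN.length = 6 := rfl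
  rw [hl] at h
  norm_num at h
  exact h

theorem tabW_nel (k : ℕ) : TabW (pcw gensN k) (pcwW gensNW k) := tabW_pcw hmN k

/-! ### Conjugacy classes of the elements of `NN` -/

/-- the representative of the second class -/
def nBW : List ℕ := [Tn2, Tn4, Tn1]

theorem tabW_nB : TabW (n2 * n4 * n1) nBW := (tab_n2.tabW.mul tab_n4.tabW).mul tab_n1.tabW

/-- the `k`-th element of `NN` is trivial or conjugate to a representative, under the listed word -/
def clsChk (k : ℕ) : Bool :=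
  bor (Nat.beq k 0)
    (bor (chkEq (wordT Tk1 Tk2 (nth conjL k []) ++ [Tn1])
        (pcwW gensNW k ++ wordT Tk1 Tk2 (nth conjL k [])))
      (chkEq (wordT Tk1 Tk2 (nth conjL k []) ++ nBW)
        (pcwW gensNW k ++ wordT Tk1 Tk2 (nth conjL k []))))

theorem clsChk_all : allRange (guard 64 clsChk) 6 0 = true := by decide +kernel

theorem NN_conj : ∀ x ∈ NN, x = 1 ∨ (∃ g : ↥Gh, g * n1 = x * g) ∨
    (∃ g : ↥Gh, g * (n2 * n4 * n1) = x * g) := by
  intro x hx
  obtain ⟨k, hk, rfl⟩ := mem_NN hx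
  have h := guard_spec 64 clsChk k
    (allRange_spec _ 6 0 clsChk_all k (Nat.zero_le _) (by simpa using hk)) hk
  unfold clsChk at h
  have hg := tabW_wordE tab_k1 tab_k2 (nth conjL k [])
  rcases bor_eq_true.1 h with h | h
  · left
    rw [nbeq_eq_true.1 h, pcw_zero]
  · rcases bor_eq_true.1 h with h | h
    · right; left
      exact ⟨_, eq_of_tabW (hg.mul tab_n1.tabW) ((tabW_nel k).mul hg) h⟩
    · right; right
      exact ⟨_, eq_of_tabW (hg.mul tabW_nB) ((tabW_nel k).mul hg) h⟩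

/-- conjugacy to `n1` of an element with a given word of tables -/
theorem conjA {x : ↥Gh} {w : List ℕ} (hx : TabW x w) (l : List Bool)
    (h : chkEq (wordT Tk1 Tk2 l ++ [Tn1]) (w ++ wordT Tk1 Tk2 l) = true) :
    ∃ g : ↥Gh, g * n1 = x * g :=
  ⟨_, eq_of_tabW ((tabW_wordE tab_k1 tab_k2 l).mul tab_n1.tabW)
    (hx.mul (tabW_wordE tab_k1 tab_k2 l)) h⟩

/-! ### The element of order three -/

theorem zz_cube : zz ^ 3 = 1 :=
  eq_of_tabW (tab_zz.tabW.pow 3) tabW_one (by decide +kernel)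

theorem zz_inv : zz⁻¹ = zz * zz := by
  apply inv_eq_of_mul_eq_one_right
  rw [← zz_cube, pow_succ, pow_two, mul_assoc]

/-- `zz` does not commute with the `k`-th element of `NN` -/
def fpfChk (k : ℕ) : Bool :=
  bor (Nat.beq k 0) (chkNe (Tzz :: pcwW gensNW k) (pcwW gensNW k ++ [Tzz]) (nth fpfPts k 0))

theorem fpfChk_all : allRange (guard 64 fpfChk) 6 0 = true := by decide +kernel

theorem NN_fpf : ∀ x ∈ NN, zz * x = x * zz → x = 1 := by
  intro x hx hzx
  obtain ⟨k, hk, rfl⟩ := mem_NN hx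
  have h := guard_spec 64 fpfChk k
    (allRange_spec _ 6 0 fpfChk_all k (Nat.zero_le _) (by simpa using hk)) hk
  unfold fpfChk at h
  rcases bor_eq_true.1 h with h | h
  · rw [nbeq_eq_true.1 h, pcw_zero]
  · exact absurd hzx (ne_of_tabW (TabW.cons tab_zz (tabW_nel k)) ((tabW_nel k).mul tab_zz.tabW) _ h)

/-! ### Normalization -/

theorem zz_norm : ∀ x ∈ NN, zz * x * zz⁻¹ ∈ NN :=
  conj_mem_of_normChk hmN tab_zz.tabW [40, 22, 51, 17, 49, 56] (by decide +kernel)
theorem ss_norm : ∀ x ∈ NN, ss * x * ss⁻¹ ∈ NN :=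
  conj_mem_of_normChk hmN tab_ss.tabW [3, 2, 19, 37, 5, 24] (by decide +kernel)
theorem tt_norm : ∀ x ∈ NN, tt * x * tt⁻¹ ∈ NN :=
  conj_mem_of_normChk hmN tab_tt.tabW [1, 2, 7, 53, 19, 29] (by decide +kernel)
theorem vv_norm : ∀ x ∈ NN, vv * x * vv⁻¹ ∈ NN :=
  conj_mem_of_normChk hmN tab_vv.tabW [1, 2, 5, 39, 19, 14] (by decide +kernel)

theorem ss_zz : ss * zz = zz⁻¹ * ss := by
  rw [zz_inv]
  exact eq_of_tabW (tab_ss.tabW.mul tab_zz.tabW) ((tab_zz.tabW.mul tab_zz.tabW).mul tab_ss.tabW)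
    (by decide +kernel)

theorem tt_zz : tt * zz = zz * tt :=
  eq_of_tabW (tab_tt.tabW.mul tab_zz.tabW) (tab_zz.tabW.mul tab_tt.tabW) (by decide +kernel)

theorem vv_zz : vv * zz = zz⁻¹ * vv := by
  rw [zz_inv]
  exact eq_of_tabW (tab_vv.tabW.mul tab_zz.tabW) ((tab_zz.tabW.mul tab_zz.tabW).mul tab_vv.tabW)
    (by decide +kernel)

/-! ### The involutions of the complement are conjugate into `NN` -/

theorem conjN_spec {d c : ↥Gh} {dw cw : List ℕ} (hd : TabW d dw) (hc : TabW c cw) (k : ℕ)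
    (h : chkEq (dw ++ cw) (cw ++ pcwW gensNW k) = true) :
    ∃ g : ↥Gh, ∃ n ∈ NN, d * g = g * n :=
  ⟨c, pcw gensN k, pcw_mem_NN k, eq_of_tabW (hd.mul hc) (hc.mul (tabW_nel k)) h⟩

theorem tabW_uu : TabW (ss * tt * (ss * tt)) [Tss, Ttt, Tss, Ttt] :=
  (tab_ss.tabW.mul tab_tt.tabW).mul (tab_ss.tabW.mul tab_tt.tabW)

theorem conj_ss : ∃ g : ↥Gh, ∃ n ∈ NN, ss * g = g * n :=
  conjN_spec tab_ss.tabW tab_cs.tabW 11 (by decide +kernel)
theorem conj_tt : ∃ g : ↥Gh, ∃ n ∈ NN, tt * g = g * n :=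
  conjN_spec tab_tt.tabW tab_ct.tabW 12 (by decide +kernel)
theorem conj_vv : ∃ g : ↥Gh, ∃ n ∈ NN, vv * g = g * n :=
  conjN_spec tab_vv.tabW tab_cv.tabW 31 (by decide +kernel)
theorem conj_uu : ∃ g : ↥Gh, ∃ n ∈ NN, ss * tt * (ss * tt) * g = g * n :=
  conjN_spec tabW_uu tab_cu.tabW 26 (by decide +kernel)
theorem conj_sv : ∃ g : ↥Gh, ∃ n ∈ NN, ss * vv * g = g * n :=
  conjN_spec (tab_ss.tabW.mul tab_vv.tabW) tab_csv.tabW 26 (by decide +kernel)
theorem conj_tv : ∃ g : ↥Gh, ∃ n ∈ NN, tt * vv * g = g * n :=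
  conjN_spec (tab_tt.tabW.mul tab_vv.tabW) tab_ctv.tabW 6 (by decide +kernel)

/-! ### The Sylow 2-subgroup -/

/-- generators of the Sylow 2-subgroup -/
def gensP : List ↥Gh :=
  [n1, n2, n3, n4, n5, n6, ss * tt * (ss * tt), ss, tt, vv]
/-- their tables -/
def gensPW : List (List ℕ) :=
  [[Tn1], [Tn2], [Tn3], [Tn4], [Tn5], [Tn6], [Tss, Ttt, Tss, Ttt], [Tss], [Ttt], [Tvv]]

theorem hmP : List.Forall₂ TabW gensP gensPW :=
  .cons tab_n1.tabW (.cons tab_n2.tabW (.cons tab_n3.tabW (.cons tab_n4.tabW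
    (.cons tab_n5.tabW (.cons tab_n6.tabW (.cons tabW_uu (.cons tab_ss.tabW
      (.cons tab_tt.tabW (.cons tab_vv.tabW .nil)))))))))

theorem card_P_ge : 1024 ≤
    Nat.card ↥(NN ⊔ zpowers (ss * tt * (ss * tt)) ⊔ zpowers ss ⊔ zpowers tt ⊔ zpowers vv) := by
  have hN : NN ≤ NN ⊔ zpowers (ss * tt * (ss * tt)) ⊔ zpowers ss ⊔ zpowers tt ⊔ zpowers vv :=
    le_sup_left.trans (le_sup_left.trans (le_sup_left.trans le_sup_left))
  have hU : zpowers (ss * tt * (ss * tt)) ≤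
      NN ⊔ zpowers (ss * tt * (ss * tt)) ⊔ zpowers ss ⊔ zpowers tt ⊔ zpowers vv :=
    le_sup_right.trans (le_sup_left.trans (le_sup_left.trans le_sup_left))
  have hS : zpowers ss ≤
      NN ⊔ zpowers (ss * tt * (ss * tt)) ⊔ zpowers ss ⊔ zpowers tt ⊔ zpowers vv :=
    le_sup_right.trans (le_sup_left.trans le_sup_left)
  have hT : zpowers tt ≤
      NN ⊔ zpowers (ss * tt * (ss * tt)) ⊔ zpowers ss ⊔ zpowers tt ⊔ zpowers vv :=
    le_sup_right.trans le_sup_left
  have hV : zpowers vv ≤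
      NN ⊔ zpowers (ss * tt * (ss * tt)) ⊔ zpowers ss ⊔ zpowers tt ⊔ zpowers vv :=
    le_sup_right
  have hn : ∀ g ∈ gensN, g ∈ NN := fun g hg => subset_closure hg
  have := card_ge_of_pcw_codes
    (NN ⊔ zpowers (ss * tt * (ss * tt)) ⊔ zpowers ss ⊔ zpowers tt ⊔ zpowers vv) hmP
    (by
      intro g hg
      simp only [gensP, List.mem_cons, List.not_mem_nil, or_false] at hg
      rcases hg with rfl | rfl | rfl | rfl | rfl | rfl | rfl | rfl | rfl | rfl
      · exact hN (hn _ (by simp [gensN]))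
      · exact hN (hn _ (by simp [gensN]))
      · exact hN (hn _ (by simp [gensN]))
      · exact hN (hn _ (by simp [gensN]))
      · exact hN (hn _ (by simp [gensN]))
      · exact hN (hn _ (by simp [gensN]))
      · exact hU (mem_zpowers _)
      · exact hS (mem_zpowers _)
      · exact hT (mem_zpowers _)
      · exact hV (mem_zpowers _))
    [0, 1, 15, 34] (by decide) ks1024 (by decide +kernel)
  have hl : ks1024.length = 1024 := by decide
  rwa [hl] at this

theorem card_Gh' : Nat.card ↥Gh = 4030387200 := card_Gh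

/-- The stem extensions of `Gh` with kernel of exponent 2 are trivial. -/
theorem ker_two {Δ : Type} [Group Δ] [Finite Δ] (τ : Δ →* ↥Gh) (hτ : Cfsg.IsStemExtension τ)
    (hexp : ∀ k ∈ τ.ker, k ^ 2 = 1) : τ.ker = ⊥ := by
  have w := fun k => tabW_nel k
  refine Cfsg.Agent.Lib.Helper7.Stem.ker_eq_bot_two_D8C2 τ hτ
    (fun k hk => by rw [← pow_two]; exact hexp k hk) NN n1
    n1 n2 n3 n1 n2 n4 zz ss tt vv
    card_NN_le NN_conj ?_ ?_ ?_ ?_ ?_ ?_ ?_ ?_ ?_ ?_ ?_ ?_ ?_ ?_ zz_cube zz_norm NN_fpf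
    ss_norm tt_norm vv_norm (Or.inr ss_zz) (Or.inl tt_zz) (Or.inr vv_zz) conj_ss conj_tt conj_vv
    conj_uu conj_sv conj_tv card_P_ge 3935925 (by rw [card_Gh']) (by decide)
  · exact eq_of_tabW (tab_n1.tabW.mul tab_n1.tabW) tabW_one (by decide +kernel)
  · exact ⟨1, by simp⟩
  · exact conjA tab_n2.tabW (nth conjL 2 []) (by decide +kernel)
  · exact conjA tab_n3.tabW (nth conjL 4 []) (by decide +kernel)
  · exact conjA (tab_n2.tabW.mul tab_n1.tabW) (nth conjL 3 []) (by decide +kernel)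
  · exact conjA (tab_n3.tabW.mul tab_n1.tabW) (nth conjL 5 []) (by decide +kernel)
  · exact conjA (tab_n2.tabW.mul tab_n3.tabW) (nth conjL 6 []) (by decide +kernel)
  · exact conjA ((tab_n2.tabW.mul tab_n3.tabW).mul tab_n1.tabW) (nth conjL 7 []) (by decide +kernel)
  · exact ⟨1, by simp⟩
  · exact conjA tab_n2.tabW (nth conjL 2 []) (by decide +kernel)
  · exact conjA tab_n4.tabW (nth conjL 8 []) (by decide +kernel)
  · exact conjA (tab_n2.tabW.mul tab_n1.tabW) (nth conjL 3 []) (by decide +kernel)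
  · exact conjA (tab_n4.tabW.mul tab_n1.tabW) (nth conjL 9 []) (by decide +kernel)
  · exact conjA (tab_n2.tabW.mul tab_n4.tabW) (nth conjL 10 []) (by decide +kernel)

end

end Cfsg.Agent.Lib.Helper8.HeTab
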