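/-
The Schur multiplier of the Held group is trivial (helper8).
-/
import Cfsg.Agent.Lib.Helper8.HeTwo
import Cfsg.Agent.Lib.Helper8.HeOdd
import Cfsg.Agent.Lib.Helper53.SchurTransport

set_option autoImplicit false

namespace Cfsg.Agent.Lib.Helper8.HeTab

open Cfsg Cfsg.Agent.Lib.Helper56.HePerm Cfsg.Agent.Lib.Helper7.Stem

theorem coprime_card_of_prime {p : ℕ} (hp : p.Prime) (h2 : p ≠ 2) (h3 : p ≠ 3) (h5 : p ≠ 5)
    (h7 : p ≠ 7) (h17 : p ≠ 17) : Nat.Coprime 4030387200 p := by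
  rw [Nat.coprime_comm, Nat.Prime.coprime_iff_not_dvd hp]
  intro hd
  have e : 4030387200 = 2 ^ 10 * 3 ^ 3 * 5 ^ 2 * 7 ^ 3 * 17 := by norm_num
  rw [e] at hd
  have hpr := fun {q : ℕ} (hq : q.Prime) (h : p ∣ q) => (Nat.prime_dvd_prime_iff_eq hp hq).mp h
  rcases (Nat.Prime.dvd_mul hp).mp hd with hd | hd
  · rcases (Nat.Prime.dvd_mul hp).mp hd with hd | hd
    · rcases (Nat.Prime.dvd_mul hp).mp hd with hd | hd
      · rcases (Nat.Prime.dvd_mul hp).mp hd with hd | hd
        · exact h2 (hpr (by norm_num) (hp.dvd_of_dvd_pow hd))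
        · exact h3 (hpr (by norm_num) (hp.dvd_of_dvd_pow hd))
      · exact h5 (hpr (by norm_num) (hp.dvd_of_dvd_pow hd))
    · exact h7 (hpr (by norm_num) (hp.dvd_of_dvd_pow hd))
  · exact h17 (hpr (by norm_num) hd)

/-- The Schur multiplier of the permutation group `Gh ≅ He` is trivial. -/
theorem multiplier_Gh : HasCyclicSchurMultiplier ↥Gh 1 := by
  apply hasCyclicSchurMultiplier_one_of_primes
  intro p hp Δ _ _ τ hτ hexp
  by_cases h2 : p = 2
  · subst h2; exact ker_two τ hτ hexp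
  by_cases h3 : p = 3
  · subst h3; exact ker_three τ hτ hexp
  by_cases h5 : p = 5
  · subst h5; exact ker_five τ hτ hexp
  by_cases h7 : p = 7
  · subst h7; exact ker_seven τ hτ hexp
  by_cases h17 : p = 17
  · subst h17; exact ker_seventeen τ hτ hexp
  · apply ker_eq_bot_of_coprime_card τ hτ p hexp
    rw [card_Gh]
    exact coprime_card_of_prime hp h2 h3 h5 h7 h17

/-- The Schur multiplier of the presented Held group is trivial. -/
theorem multiplier_He : HasCyclicSchurMultiplier Cfsg.Spor.He 1 := by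
  obtain ⟨e⟩ := exists_equiv
  exact Cfsg.Agent.Lib.Helper53.SchurTransport.hasSchurMultiplier_of_mulEquiv e.symm multiplier_Gh

end Cfsg.Agent.Lib.Helper8.HeTab
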