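import Cfsg.Agent.Lib.Helper27.J2CentFinal

/-!
# Data for the 2-fusion system of `J₂` (S5321): explicit words in reflections

* `wA`, `wB`: words (in the reflections of `RepAll`) of elements `A`, `B` of the centraliser of the
  reflection `s₁` with `A³ = 1`, `B⁵ = -1`, `(AB)² = -1`;
* `uF`, `vF`: two minimal vectors perpendicular to `(0,2,0)` with `s_u s_v (2,0,0) = -i (2,0,0)`;
* all checks are done on helper27's integer model.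
-/

set_option autoImplicit false

namespace Cfsg.Agent.Lib.Helper8.J2Fus
open Cfsg.Agent.Lib.Helper27.J2

/-- word of the element `A` of order 3 -/
def wA : List V3 := [⟨⟨-1, 0, 1, 0, -1, 0, 0, 0⟩, ⟨0, 0, 1, 0, 1, 0, -1, 1⟩, ⟨1, 0, 0, 0, 0, 0, 0, 0⟩⟩, ⟨⟨1, 0, 0, 0, 0, 0, 0, 0⟩, ⟨1, 1, -2, 0, 0, 2, -1, -1⟩, ⟨0, -1, 0, 0, 0, 0, 0, 0⟩⟩, ⟨⟨1, 1, -1, 0, -1, 2, -1, -1⟩, ⟨0, 1, -1, 0, -1, 0, 0, 0⟩, ⟨1, 0, 0, 0, 0, 0, 0, 0⟩⟩, ⟨⟨0, 0, 0, 0, 0, 0, 0, 0⟩, ⟨0, 0, 0, 0, 0, 0, 0, 0⟩, ⟨2, 0, 0, 0, 0, 0, 0, 0⟩⟩]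
/-- word of the element `B` of order 5 (modulo `-1`) -/
def wB : List V3 := [⟨⟨1, 0, 0, 0, 0, 0, 0, 0⟩, ⟨-1, 0, 1, 0, -1, 0, 0, 0⟩, ⟨0, 0, 1, 0, 1, 0, -1, 1⟩⟩, ⟨⟨1, 0, 0, 0, 0, 0, 0, 0⟩, ⟨0, -1, 0, 0, 0, 0, 0, 0⟩, ⟨1, 1, -2, 0, 0, 2, -1, -1⟩⟩, ⟨⟨1, 0, 0, 0, 0, 0, 0, 0⟩, ⟨-2, 0, 1, -1, -1, -1, 1, -1⟩, ⟨-1, 0, 1, -1, -1, -1, 2, 0⟩⟩, ⟨⟨0, 0, 0, 0, 0, 0, 0, 0⟩, ⟨0, 0, 0, 0, 0, 0, 0, 0⟩, ⟨2, 0, 0, 0, 0, 0, 0, 0⟩⟩]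
/-- the unit by which `A` acts on `(2,0,0)` -/
def cA : Ic := ⟨-1, 1, 0, -1, -1, 0, 1, -1⟩
/-- the unit by which `B` acts on `(2,0,0)` -/
def cB : Ic := ⟨1, 0, -1, 1, 0, 1, -1, -1⟩
/-- the two reflections of the fusing element -/
def uF : V3 := ⟨⟨1, -2, 0, 2, 2, 0, -1, 1⟩, ⟨0, 0, 0, 0, 0, 0, 0, 0⟩, ⟨-1, 2, 0, -2, -2, 0, 1, -1⟩⟩
def vF : V3 := ⟨⟨1, 0, 0, 0, 0, 0, 1, 1⟩, ⟨0, 0, 0, 0, 0, 0, 0, 0⟩, ⟨-1, 2, 0, -2, -2, 0, 1, -1⟩⟩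
/-- the unit `-i` by which `s_u s_v` acts on `(2,0,0)` -/
def cF : Ic := ⟨0, -1, 0, 0, 0, 0, 0, 0⟩
/-- a reflection of `perp10` not centralised by `A` -/
def rAct : V3 := ⟨⟨0, 0, 0, 0, 0, 0, 0, 0⟩, ⟨-1, 2, 0, -2, -2, 0, 1, -1⟩, ⟨1, 0, 0, 0, 0, 0, 1, 1⟩⟩

/-- negation on the model -/
def negV (V : V3) : V3 := ⟨V.x.neg, V.y.neg, V.z.neg⟩

theorem wA_mem : ∀ A ∈ wA, A ∈ RepAll := by decide +kernel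
theorem wB_mem : ∀ A ∈ wB, A ∈ RepAll := by decide +kernel
theorem wF_mem : ∀ A ∈ [uF, vF], A ∈ RepAll := by decide +kernel
theorem rAct_mem : rAct ∈ perp10 := by decide +kernel

theorem wA_E1 : wordM wA E1 = smulM cA E1 := by decide +kernel
theorem wB_E1 : wordM wB E1 = smulM cB E1 := by decide +kernel
theorem cA_ok : cA.Tq = 16 ∧ cA ≠ Ic.one ∧ cA ≠ Ic.one.neg := by decide +kernel
theorem cB_ok : cB.Tq = 16 := by decide +kernel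

theorem wA_cube : wordM (wA ++ (wA ++ wA)) E1 = E1 ∧ wordM (wA ++ (wA ++ wA)) W0 = W0 := by
  decide +kernel
theorem wB_five : wordM (wB ++ (wB ++ (wB ++ (wB ++ wB)))) E1 = negV E1 ∧
    wordM (wB ++ (wB ++ (wB ++ (wB ++ wB)))) W0 = negV W0 := by decide +kernel
theorem wAB_sq : wordM ((wA ++ wB) ++ (wA ++ wB)) E1 = negV E1 ∧
    wordM ((wA ++ wB) ++ (wA ++ wB)) W0 = negV W0 := by decide +kernel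

theorem wF_E1 : wordM [uF, vF] E1 = smulM cF E1 := by decide +kernel
theorem wF_E2 : wordM [uF, vF] E2 = E2 := by decide +kernel
theorem cF_ok : cF.Tq = 16 ∧ cF ≠ Ic.one ∧ cF ≠ Ic.one.neg := by decide +kernel

theorem wA_act : wordM (wA ++ (rAct :: wA.reverse)) W0 ≠ wordM [rAct] W0 := by decide +kernel

end Cfsg.Agent.Lib.Helper8.J2Fus
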