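import Cfsg.Agent.Lib.Helper8.J2FusData

/-!
# Concrete facts on `J₂ = twoJ2 / centre` for the 2-fusion system (S5321)

`tJ` is the image of the reflection `s₁`, `QJ` the image of the stabiliser `Hsub` of `(2,0,0)`.
-/

set_option autoImplicit false

namespace Cfsg.Agent.Lib.Helper8.J2Fus
open Cfsg.Agent.Lib.Helper27.J2 Cfsg.Spor Quaternion

/-- the projection `2.J₂ → J₂` -/
noncomputable def mkJ : twoJ2 →* J2 := QuotientGroup.mk' (Subgroup.center twoJ2)

theorem mkJ_eq_one_iff (x : twoJ2) : mkJ x = 1 ↔ x = 1 ∨ x = negEl := by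
  constructor
  · intro h
    have : x ∈ Subgroup.center twoJ2 := by
      rwa [← QuotientGroup.ker_mk' (Subgroup.center twoJ2), MonoidHom.mem_ker]
    exact center_cases x this
  · rintro (rfl | rfl)
    · exact map_one _
    · exact (QuotientGroup.eq_one_iff _).2 negEl_mem_center

theorem mkJ_negEl : mkJ negEl = 1 := (mkJ_eq_one_iff _).2 (Or.inr rfl)

theorem negEl_mul_self : negEl * negEl = 1 := by
  apply Subtype.ext
  apply Equiv.ext
  intro x
  apply Subtype.ext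
  change -(-(x : Fin 3 → ℍ[ℝ])) = x
  exact neg_neg _

theorem mkJ_eq_iff (x y : twoJ2) : mkJ x = mkJ y ↔ y = x ∨ y = x * negEl := by
  constructor
  · intro h
    have h1 : mkJ (x⁻¹ * y) = 1 := by rw [map_mul, map_inv, h, inv_mul_cancel]
    rcases (mkJ_eq_one_iff _).1 h1 with h2 | h2
    · left
      calc y = x * (x⁻¹ * y) := by group
        _ = x := by rw [h2, mul_one]
    · right
      calc y = x * (x⁻¹ * y) := by group
        _ = x * negEl := by rw [h2]
  · rintro (rfl | rfl)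
    · rfl
    · rw [map_mul, mkJ_negEl, mul_one]

/-! ### the involution `t` -/

/-- the image of the reflection `s₁` -/
noncomputable def tJ : J2 := mkJ s1G

theorem zG_mem_Hsub : zG ∈ Hsub := mem_Hsub.2 zG_fix_e1

theorem s1G_ne_one : s1G ≠ 1 := by
  intro h
  have h1 : zG = negEl := by rw [zG, h, mul_one]
  exact negEl_notMem_Hsub (h1 ▸ zG_mem_Hsub)

theorem s1G_ne_negEl : s1G ≠ negEl := by
  intro h
  have h1 : zG = 1 := by rw [zG, h, negEl_mul_self]
  exact zH_ne_one (Subtype.ext h1)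

theorem tJ_eq_zG : tJ = mkJ zG := by
  rw [tJ, zG, map_mul, mkJ_negEl, one_mul]

theorem tJ_sq : tJ ^ 2 = 1 := by
  rw [tJ, ← map_pow, pow_two, s1G_mul_self, map_one]

theorem tJ_ne_one : tJ ≠ 1 := by
  intro h
  rcases (mkJ_eq_one_iff _).1 h with h1 | h1
  · exact s1G_ne_one h1
  · exact s1G_ne_negEl h1

theorem orderOf_tJ : orderOf tJ = 2 :=
  orderOf_eq_prime tJ_sq tJ_ne_one

/-! ### the subgroup `Q` -/

/-- the restriction of the projection to the stabiliser of `(2,0,0)` -/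
noncomputable def phiH : Hsub →* J2 := mkJ.comp Hsub.subtype

theorem phiH_apply (h : Hsub) : phiH h = mkJ (h : twoJ2) := rfl

theorem phiH_injective : Function.Injective phiH := by
  rw [injective_iff_map_eq_one]
  intro h hh
  rcases (mkJ_eq_one_iff _).1 hh with h1 | h1
  · exact Subtype.ext h1
  · exact absurd (h1 ▸ h.2) negEl_notMem_Hsub

/-- the image of the stabiliser of `(2,0,0)` in `J₂` -/
noncomputable def QJ : Subgroup J2 := phiH.range

theorem mem_QJ {x : J2} : x ∈ QJ ↔ ∃ h : twoJ2, h ∈ Hsub ∧ mkJ h = x := by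
  constructor
  · rintro ⟨h, rfl⟩
    exact ⟨h, h.2, rfl⟩
  · rintro ⟨h, hh, rfl⟩
    exact ⟨⟨h, hh⟩, rfl⟩

theorem mkJ_mem_QJ {h : twoJ2} (hh : h ∈ Hsub) : mkJ h ∈ QJ := mem_QJ.2 ⟨h, hh, rfl⟩

theorem card_QJ : Nat.card QJ = 32 := by
  rw [← card_Hsub]
  exact (Nat.card_congr (MonoidHom.ofInjective phiH_injective).toEquiv).symm

theorem tJ_mem_QJ : tJ ∈ QJ := by
  rw [tJ_eq_zG]; exact mkJ_mem_QJ zG_mem_Hsub

theorem QJ_comm_tJ : ∀ q ∈ QJ, q * tJ = tJ * q := by
  intro q hq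
  obtain ⟨h, hh, rfl⟩ := mem_QJ.1 hq
  rw [tJ, ← map_mul, ← map_mul, comm_s1G_of_fix (mem_Hsub.1 hh)]

theorem negEl_mul_notMem_Hsub {h : twoJ2} (hh : h ∈ Hsub) : h * negEl ∉ Hsub := by
  intro h1
  have h2 : h⁻¹ * (h * negEl) ∈ Hsub := Hsub.mul_mem (Hsub.inv_mem hh) h1
  have h3 : h⁻¹ * (h * negEl) = negEl := by group
  rw [h3] at h2
  exact negEl_notMem_Hsub h2

theorem QJ_center : ∀ x ∈ QJ, (∀ q ∈ QJ, x * q = q * x) → x = 1 ∨ x = tJ := by
  intro x hx hc
  obtain ⟨h, hh, rfl⟩ := mem_QJ.1 hx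
  have hcomm : ∀ h' : Hsub, (⟨h, hh⟩ : Hsub) * h' = h' * ⟨h, hh⟩ := by
    intro h'
    have h1 := hc (mkJ (h' : twoJ2)) (mkJ_mem_QJ h'.2)
    rw [← map_mul, ← map_mul] at h1
    rcases (mkJ_eq_iff _ _).1 h1 with h2 | h2
    · exact Subtype.ext h2.symm
    · exfalso
      have h3 : h * (h' : twoJ2) * negEl ∈ Hsub := h2 ▸ Hsub.mul_mem h'.2 hh
      exact negEl_mul_notMem_Hsub (Hsub.mul_mem hh h'.2) h3
  have hz : (⟨h, hh⟩ : Hsub) ∈ Subgroup.center Hsub := by
    rw [Subgroup.mem_center_iff]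
    intro g
    exact (hcomm g).symm
  rcases (center_Hsub _).1 hz with h1 | h1
  · left
    have : h = 1 := congrArg Subtype.val h1
    rw [this, map_one]
  · right
    have : h = zG := congrArg Subtype.val h1
    rw [this, tJ_eq_zG]

/-! ### the centraliser of `t` -/

theorem s1G_eq : (⟨reflPerm e1 e1_qip, reflPerm_mem e1 e1_qip⟩ : twoJ2) = 1 * s1G * 1⁻¹ := by
  rw [one_mul, inv_one, mul_one]; rfl

/-- the projection of the centraliser of `s₁` onto the centraliser of `t` -/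
noncomputable def piC : Lsub →* Subgroup.centralizer ({tJ} : Set J2) :=
  piHom (reflPerm e1 e1_qip) (reflPerm_mem e1 e1_qip) 1 s1G_eq

theorem piC_val (l : Lsub) : ((piC l : Subgroup.centralizer ({tJ} : Set J2)) : J2) = mkJ (l : twoJ2) := by
  have := piHom_val (reflPerm e1 e1_qip) (reflPerm_mem e1 e1_qip) 1 s1G_eq l
  rw [one_mul, inv_one, mul_one] at this
  exact this

theorem piC_surjective : Function.Surjective piC :=
  piHom_surjective (reflPerm e1 e1_qip) (isIcoReflection_reflPerm e1 e1_qip)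
    (reflPerm_mem e1 e1_qip) 1 s1G_eq

theorem piC_ker (l : Lsub) : piC l = 1 ↔ l = 1 ∨ l = z0L :=
  piHom_ker (reflPerm e1 e1_qip) (reflPerm_mem e1 e1_qip) 1 s1G_eq l

theorem card_piC_ker : Nat.card piC.ker = 2 := by
  rw [Nat.card_eq_two_iff]
  refine ⟨⟨1, piC.ker.one_mem⟩, ⟨z0L, (piC_ker z0L).2 (Or.inr rfl)⟩, ?_, ?_⟩
  · intro h
    exact z0L_ne_one (congrArg Subtype.val h).symm
  · ext x
    simp only [Set.mem_insert_iff, Set.mem_singleton_iff, Set.mem_univ, iff_true]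
    rcases (piC_ker x.1).1 x.2 with h | h
    · left; exact Subtype.ext h
    · right; exact Subtype.ext h

theorem card_centralizer_tJ : Nat.card (Subgroup.centralizer ({tJ} : Set J2)) = 1920 := by
  have h1 := Subgroup.card_eq_card_quotient_mul_card_subgroup piC.ker
  rw [card_Lsub, card_piC_ker,
    Nat.card_congr (QuotientGroup.quotientKerEquivOfSurjective piC piC_surjective).toEquiv] at h1
  omega

/-- every element centralising `t` lifts to the centraliser of `s₁` -/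
theorem exists_lift_of_comm {c : J2} (hc : c * tJ = tJ * c) : ∃ l : twoJ2, l ∈ Lsub ∧ mkJ l = c := by
  have hc' : c ∈ Subgroup.centralizer ({tJ} : Set J2) := by
    rw [Subgroup.mem_centralizer_singleton_iff]; exact hc
  obtain ⟨l, hl⟩ := piC_surjective ⟨c, hc'⟩
  refine ⟨l, l.2, ?_⟩
  rw [← piC_val, hl]

/-! ### `Q` is generated by conjugates of `t` -/

theorem isConj_tJ_refl {R : V3} (hR : R ∈ RepAll) (x : twoJ2)
    (hx : (x : Equiv.Perm icoLeech) = reflOf R) : IsConj tJ (mkJ x) := by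
  obtain ⟨g, hg⟩ := exists_conj_s1G ⟨embV R, embV_mem_of_RepAll hR⟩ (qip_of_RepAll hR)
  have hx' : x = g * s1G * g⁻¹ := by
    rw [← hg]; apply Subtype.ext; rw [hx, reflOf_eq hR]
  rw [isConj_iff]
  refine ⟨mkJ g, ?_⟩
  rw [hx', map_mul, map_mul, map_inv]; rfl

theorem QJ_gen : ∀ q ∈ QJ, q ∈ Subgroup.closure {x : J2 | x ∈ QJ ∧ IsConj tJ x} := by
  intro q hq
  obtain ⟨h, rfl⟩ := hq
  have h1 : h ∈ Subgroup.closure genSet := by rw [closure_genSet]; trivial
  have h2 : phiH h ∈ (Subgroup.closure genSet).map phiH := Subgroup.mem_map_of_mem _ h1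
  rw [MonoidHom.map_closure] at h2
  refine Subgroup.closure_mono ?_ h2
  rintro _ ⟨s, ⟨R, hR, rfl⟩, rfl⟩
  refine ⟨⟨_, rfl⟩, ?_⟩
  rw [phiH_apply]
  apply isConj_tJ_refl (perp10_RepAll hR)
  show wordPerm [R] = reflOf R
  simp [wordPerm]

/-! ### fusion: an element of `Q` conjugate to an element of `C(t)` outside `Q` -/

/-- the product of the two reflections `s_u s_v` -/
noncomputable def wFel : twoJ2 := ⟨wordPerm [uF, vF], wordPerm_mem wF_mem⟩

theorem actsBy_wF : ActsBy wFel cF := by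
  unfold ActsBy
  show ((wordPerm [uF, vF] e1 : icoLeech) : Fin 3 → ℍ[ℝ]) = _
  rw [(wordM_spec wF_mem E1 (RepAll_min E1 E1_mem).1 e1 rfl).2, wF_E1, embV_smulM]

theorem wF_fix_e2 : (wFel : Equiv.Perm icoLeech) e2 = e2 := by
  apply Subtype.ext
  show ((wordPerm [uF, vF] e2 : icoLeech) : Fin 3 → ℍ[ℝ]) = _
  rw [(wordM_spec wF_mem E2 inLam_E2 e2 rfl).2, wF_E2]; rfl

theorem not_actsBy_of_mem_QJ {w : twoJ2} {c : Ic} (hw : ActsBy w c) (h1 : c ≠ Ic.one)
    (h2 : c ≠ Ic.one.neg) : mkJ w ∉ QJ := by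
  intro hmem
  obtain ⟨h, hh, hhe⟩ := mem_QJ.1 hmem
  have ha : ActsBy h Ic.one := actsBy_one_iff.2 (mem_Hsub.1 hh)
  rcases (mkJ_eq_iff _ _).1 hhe with h3 | h3
  · rw [h3] at hw
    exact h1 (hw.unique ha)
  · have h4 : ActsBy (h * negEl) (Ic.one.neg.mul Ic.one) := ha.mul actsBy_negEl
    rw [unit_arith.2, ← h3] at h4
    exact h2 (hw.unique h4)

theorem QJ_fus : ∃ y ∈ QJ, ∃ g : J2, (g * y * g⁻¹) * tJ = tJ * (g * y * g⁻¹) ∧ g * y * g⁻¹ ∉ QJ := by
  obtain ⟨g, hg, hge⟩ := exists_map_e1 e2 e2_qip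
  let gG : twoJ2 := ⟨g, hg⟩
  have hy0 : gG⁻¹ * wFel * gG ∈ Hsub := by
    rw [mem_Hsub]
    have : ((gG⁻¹ * wFel * gG : twoJ2) : Equiv.Perm icoLeech) =
        g⁻¹ * (wFel : Equiv.Perm icoLeech) * g := rfl
    rw [this, Equiv.Perm.mul_apply, Equiv.Perm.mul_apply, hge, wF_fix_e2, ← hge]
    exact permInvApply g e1
  refine ⟨mkJ (gG⁻¹ * wFel * gG), mkJ_mem_QJ hy0, mkJ gG, ?_⟩
  have hconj : mkJ gG * mkJ (gG⁻¹ * wFel * gG) * (mkJ gG)⁻¹ = mkJ wFel := by
    rw [← map_inv, ← map_mul, ← map_mul]; congr 1; group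
  rw [hconj]
  constructor
  · rw [tJ, ← map_mul, ← map_mul, mem_Lsub'.1 (actsBy_mem_Lsub cF_ok.1 actsBy_wF)]
  · exact not_actsBy_of_mem_QJ actsBy_wF cF_ok.2.1 cF_ok.2.2

/-! ### words: identities checked on the model -/

theorem wordPerm_append (u v : List V3) : wordPerm (u ++ v) = wordPerm u * wordPerm v := by
  simp [wordPerm, List.map_append, List.prod_append]

theorem wordPerm_inv {w : List V3} (hw : ∀ A ∈ w, A ∈ RepAll) :
    (wordPerm w)⁻¹ = wordPerm w.reverse := by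
  induction w with
  | nil => simp [wordPerm]
  | cons A w ih =>
    have hA := hw A List.mem_cons_self
    have hinv : (reflOf A)⁻¹ = reflOf A := inv_eq_of_mul_eq_one_left (reflOf_mul_self hA)
    rw [wordPerm_cons, mul_inv_rev, ih fun B hB => hw B (List.mem_cons_of_mem _ hB), hinv,
      List.reverse_cons, wordPerm_append]
    simp [wordPerm]

theorem embV_negV (V : V3) : embV (negV V) = -embV V := by
  funext t
  fin_cases t <;> simp [negV, emb_neg]

theorem wordPerm_eq_one {w : List V3} (hw : ∀ A ∈ w, A ∈ RepAll) (h1 : wordM w E1 = E1)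
    (h2 : wordM w W0 = W0) : wordPerm w = 1 := by
  apply eq_one_of_fix (isUni_of_mem (wordPerm_mem hw))
  · apply Subtype.ext
    rw [(wordM_spec hw E1 (RepAll_min E1 E1_mem).1 e1 rfl).2, h1]; rfl
  · apply Subtype.ext
    rw [(wordM_spec hw W0 inLam_W0 w0 rfl).2, h2]; rfl

theorem negPerm_mul_self : negPerm * negPerm = 1 := congrArg Subtype.val negEl_mul_self

theorem wordPerm_eq_neg {w : List V3} (hw : ∀ A ∈ w, A ∈ RepAll) (h1 : wordM w E1 = negV E1)
    (h2 : wordM w W0 = negV W0) : wordPerm w = negPerm := by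
  have key : negPerm * wordPerm w = 1 := by
    apply eq_one_of_fix ((isUni_of_mem negPerm_mem).mul (isUni_of_mem (wordPerm_mem hw)))
    · apply Subtype.ext
      rw [Equiv.Perm.mul_apply, negPerm_apply,
        (wordM_spec hw E1 (RepAll_min E1 E1_mem).1 e1 rfl).2, h1, embV_negV, neg_neg]; rfl
    · apply Subtype.ext
      rw [Equiv.Perm.mul_apply, negPerm_apply, (wordM_spec hw W0 inLam_W0 w0 rfl).2, h2,
        embV_negV, neg_neg]; rfl
  calc wordPerm w = negPerm * negPerm * wordPerm w := by rw [negPerm_mul_self, one_mul]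
    _ = negPerm := by rw [mul_assoc, key, mul_one]

/-! ### the elements `a`, `b` -/

noncomputable def Ael : twoJ2 := ⟨wordPerm wA, wordPerm_mem wA_mem⟩
noncomputable def Bel : twoJ2 := ⟨wordPerm wB, wordPerm_mem wB_mem⟩

theorem actsBy_A : ActsBy Ael cA := by
  unfold ActsBy
  show ((wordPerm wA e1 : icoLeech) : Fin 3 → ℍ[ℝ]) = _
  rw [(wordM_spec wA_mem E1 (RepAll_min E1 E1_mem).1 e1 rfl).2, wA_E1, embV_smulM]

theorem actsBy_B : ActsBy Bel cB := by
  unfold ActsBy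
  show ((wordPerm wB e1 : icoLeech) : Fin 3 → ℍ[ℝ]) = _
  rw [(wordM_spec wB_mem E1 (RepAll_min E1 E1_mem).1 e1 rfl).2, wB_E1, embV_smulM]

theorem A_mem_Lsub : Ael ∈ Lsub := actsBy_mem_Lsub cA_ok.1 actsBy_A
theorem B_mem_Lsub : Bel ∈ Lsub := actsBy_mem_Lsub cB_ok actsBy_B

theorem mem_append_of {u v : List V3} (hu : ∀ A ∈ u, A ∈ RepAll) (hv : ∀ A ∈ v, A ∈ RepAll) :
    ∀ A ∈ u ++ v, A ∈ RepAll := by
  intro A hA
  rcases List.mem_append.1 hA with h | h
  · exact hu A h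
  · exact hv A h

theorem A_cube : Ael * (Ael * Ael) = 1 := by
  apply Subtype.ext
  show wordPerm wA * (wordPerm wA * wordPerm wA) = 1
  rw [← wordPerm_append, ← wordPerm_append]
  exact wordPerm_eq_one (mem_append_of wA_mem (mem_append_of wA_mem wA_mem)) wA_cube.1 wA_cube.2

theorem B_five : Bel * (Bel * (Bel * (Bel * Bel))) = negEl := by
  apply Subtype.ext
  show wordPerm wB * (wordPerm wB * (wordPerm wB * (wordPerm wB * wordPerm wB))) = negPerm
  rw [← wordPerm_append, ← wordPerm_append, ← wordPerm_append, ← wordPerm_append]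
  exact wordPerm_eq_neg (mem_append_of wB_mem (mem_append_of wB_mem (mem_append_of wB_mem
    (mem_append_of wB_mem wB_mem)))) wB_five.1 wB_five.2

theorem AB_sq : (Ael * Bel) * (Ael * Bel) = negEl := by
  apply Subtype.ext
  show (wordPerm wA * wordPerm wB) * (wordPerm wA * wordPerm wB) = negPerm
  rw [← wordPerm_append, ← wordPerm_append]
  exact wordPerm_eq_neg (mem_append_of (mem_append_of wA_mem wB_mem) (mem_append_of wA_mem wB_mem))
    wAB_sq.1 wAB_sq.2

/-- the images in `J₂` -/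
noncomputable def aJ : J2 := mkJ Ael
noncomputable def bJ : J2 := mkJ Bel

theorem aJ_cube : aJ ^ 3 = 1 := by
  have e : Ael ^ 3 = Ael * (Ael * Ael) := by simp [pow_succ, mul_assoc]
  rw [aJ, ← map_pow, e, A_cube, map_one]

theorem bJ_five : bJ ^ 5 = 1 := by
  have e : Bel ^ 5 = Bel * (Bel * (Bel * (Bel * Bel))) := by simp [pow_succ, mul_assoc]
  rw [bJ, ← map_pow, e, B_five, mkJ_negEl]

theorem abJ_sq : (aJ * bJ) ^ 2 = 1 := by
  rw [aJ, bJ, ← map_mul, ← map_pow, pow_two, AB_sq, mkJ_negEl]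

theorem aJ_ne_one : aJ ≠ 1 := by
  intro h
  rcases (mkJ_eq_one_iff _).1 h with h1 | h1
  · have h2 : ActsBy Ael Ic.one := by
      rw [h1]; exact actsBy_one_iff.2 rfl
    exact cA_ok.2.1 (actsBy_A.unique h2)
  · have h2 : ActsBy Ael Ic.one.neg := by rw [h1]; exact actsBy_negEl
    exact cA_ok.2.2 (actsBy_A.unique h2)

theorem aJ_comm : aJ * tJ = tJ * aJ := by
  rw [aJ, tJ, ← map_mul, ← map_mul, mem_Lsub'.1 A_mem_Lsub]

theorem bJ_comm : bJ * tJ = tJ * bJ := by
  rw [bJ, tJ, ← map_mul, ← map_mul, mem_Lsub'.1 B_mem_Lsub]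

theorem conj_mem_QJ {l : twoJ2} (hl : l ∈ Lsub) : ∀ q ∈ QJ, mkJ l * q * (mkJ l)⁻¹ ∈ QJ := by
  intro q hq
  obtain ⟨h, hh, rfl⟩ := mem_QJ.1 hq
  rw [← map_inv, ← map_mul, ← map_mul]
  exact mkJ_mem_QJ (Hsub_normal_in_Lsub hl hh)

/-- the reflection not centralised by `a` -/
noncomputable def rEl : twoJ2 := ⟨reflOf rAct, reflOf_mem (perp10_RepAll rAct_mem)⟩

theorem rEl_mem_Hsub : rEl ∈ Hsub :=
  mem_Hsub.2 (reflOf_fix_e1 (perp10_RepAll rAct_mem) (perp10_sub rAct rAct_mem).2)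

theorem aJ_act : ∃ q ∈ QJ, aJ * q * aJ⁻¹ ≠ q := by
  refine ⟨mkJ rEl, mkJ_mem_QJ rEl_mem_Hsub, ?_⟩
  intro h
  rw [aJ, ← map_inv, ← map_mul, ← map_mul] at h
  have hn : Ael * rEl * Ael⁻¹ ∈ Hsub := Hsub_normal_in_Lsub A_mem_Lsub rEl_mem_Hsub
  rcases (mkJ_eq_iff _ _).1 h with h1 | h1
  · -- `A r A⁻¹ = r` as permutations
    have h2 : reflOf rAct = wordPerm wA * reflOf rAct * (wordPerm wA)⁻¹ := congrArg Subtype.val h1
    rw [wordPerm_inv wA_mem] at h2
    have h3 : wordPerm (wA ++ (rAct :: wA.reverse)) = wordPerm [rAct] := by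
      rw [wordPerm_append, wordPerm_cons, wordPerm_cons, ← mul_assoc, ← h2]
      simp [wordPerm]
    have hmem : ∀ A ∈ wA ++ (rAct :: wA.reverse), A ∈ RepAll := by
      apply mem_append_of wA_mem
      intro A hA
      rcases List.mem_cons.1 hA with rfl | hA
      · exact perp10_RepAll rAct_mem
      · exact wA_mem A (List.mem_reverse.1 hA)
    have hmem1 : ∀ A ∈ [rAct], A ∈ RepAll := by
      intro A hA
      rw [List.mem_singleton.1 hA]; exact perp10_RepAll rAct_mem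
    have e1' := (wordM_spec hmem W0 inLam_W0 w0 rfl).2
    have e2' := (wordM_spec hmem1 W0 inLam_W0 w0 rfl).2
    rw [h3, e2'] at e1'
    exact wA_act (embV_injective e1').symm
  · exact negEl_mul_notMem_Hsub hn (h1 ▸ rEl_mem_Hsub)

end Cfsg.Agent.Lib.Helper8.J2Fus
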