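import Mathlib
import Cfsg.Agent.Lib.Helper8.LeechGen
import Cfsg.Agent.Lib.Helper8.MinShape
import Cfsg.Agent.Lib.Helper93.GolayAbstract

/-!
# Conway's characterisation of the Leech lattice, part 1: the code of a Leech-like lattice

An additive subgroup `L` of `GolayPt → ℤ` is *Leech-like* if it contains all `±4e_i ± 4e_j`, all its
vectors have `sqNorm` divisible by 16 and at least 32 (when nonzero), and all dot products are
divisible by 8.  We attach to it a binary code and show that the code is doubly even,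
self-orthogonal, of minimum weight at least 8.
-/

set_option autoImplicit false

namespace Cfsg.Agent.Lib.Helper8
open Cfsg Cfsg.Agent.Lib.Helper7 Cfsg.Agent.S0393 Cfsg.Agent.Lib.Helper93

/-- abstract Leech-like lattice in coordinates -/
structure IsLeechLike (L : AddSubgroup (GolayPt → ℤ)) : Prop where
  pair_add : ∀ i j : GolayPt, i ≠ j → (Pi.single i 4 + Pi.single j 4 : GolayPt → ℤ) ∈ L
  pair_sub : ∀ i j : GolayPt, i ≠ j → (Pi.single i 4 - Pi.single j 4 : GolayPt → ℤ) ∈ L
  norm_ge : ∀ v ∈ L, v ≠ 0 → 32 ≤ sqNorm v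
  norm_dvd : ∀ v ∈ L, (16 : ℤ) ∣ sqNorm v
  dot_dvd : ∀ v ∈ L, ∀ w ∈ L, (8 : ℤ) ∣ dotInt v w

variable {L : AddSubgroup (GolayPt → ℤ)}

theorem IsLeechLike.parity (h : IsLeechLike L) {v : GolayPt → ℤ} (hv : v ∈ L) (i j : GolayPt) :
    v i % 2 = v j % 2 := by
  by_cases hij : i = j
  · rw [hij]
  · have h1 := h.dot_dvd _ (h.pair_add i j hij) v hv
    rw [dotInt_pair_left] at h1
    omega

theorem IsLeechLike.four_mul (h : IsLeechLike L) (z : GolayPt → ℤ) (hz : (∑ i, z i) % 2 = 0) :
    (fun k => 4 * z k) ∈ L := by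
  apply four_mul_mem L _ _ z hz
  · intro i
    by_cases hi : i = none
    · rw [hi, sub_self]; exact L.zero_mem
    · exact h.pair_sub i none hi
  · exact h.pair_add none (some 0) (by decide)

theorem sqNorm_single4 (i : GolayPt) : sqNorm (Pi.single i 4 : GolayPt → ℤ) = 16 := by
  rw [sqNorm_single]; norm_num

/-- vectors of `L` with all coordinates divisible by 4 have coordinate sum divisible by 8 -/
theorem IsLeechLike.sum_of_four (h : IsLeechLike L) {v : GolayPt → ℤ} (hv : v ∈ L)
    (h4 : ∀ i, v i % 4 = 0) : (∑ i, v i) % 8 = 0 := by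
  classical
  by_contra hcon
  have hv4 : v = fun k => 4 * (v k / 4) := by
    funext k; have := h4 k; omega
  have hsum : ∑ i, v i = 4 * ∑ i, v i / 4 := by
    rw [Finset.mul_sum]
    exact Finset.sum_congr rfl fun i _ => by have := h4 i; omega
  have hodd : (∑ i, v i / 4) % 2 = 1 := by omega
  -- z' = v/4 - e_∞ has even sum
  have hz' : (∑ i, ((fun k => v k / 4) - Pi.single none 1 : GolayPt → ℤ) i) % 2 = 0 := by
    simp only [Pi.sub_apply, Finset.sum_sub_distrib, Finset.sum_pi_single', Finset.mem_univ,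
      if_true]
    omega
  have hmem := h.four_mul _ hz'
  have hdiff : v - (fun k => 4 * ((fun k => v k / 4) - Pi.single none 1 : GolayPt → ℤ) k)
      = Pi.single none 4 := by
    funext k
    have := h4 k
    simp only [Pi.sub_apply, Pi.single_apply]
    split_ifs <;> omega
  have hmem2 := L.sub_mem hv hmem
  rw [hdiff] at hmem2
  have hne : (Pi.single none 4 : GolayPt → ℤ) ≠ 0 := by
    intro h0
    have := congrFun h0 none
    simp at this
  have := h.norm_ge _ hmem2 hne
  rw [sqNorm_single4] at this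
  omega

/-- vectors congruent mod 4 to a vector of `L`, with the same coordinate sum mod 8, are in `L` -/
theorem IsLeechLike.mem_of_congr (h : IsLeechLike L) {x y : GolayPt → ℤ} (hx : x ∈ L)
    (h4 : ∀ i, y i % 4 = x i % 4) (hs : (∑ i, y i) % 8 = (∑ i, x i) % 8) : y ∈ L := by
  have hd : y - x = fun k => 4 * ((y k - x k) / 4) := by
    funext k; have := h4 k; simp only [Pi.sub_apply]; omega
  have hsum : ∑ i, (y i - x i) = 4 * ∑ i, (y i - x i) / 4 := by
    rw [Finset.mul_sum]
    exact Finset.sum_congr rfl fun i _ => by have := h4 i; omega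
  rw [Finset.sum_sub_distrib] at hsum
  have hz : (∑ i, (y i - x i) / 4) % 2 = 0 := by omega
  have := L.add_mem (h.four_mul _ hz) hx
  rw [← hd, sub_add_cancel] at this
  exact this

/-! ### the code -/

/-- `x` has the mod-4 pattern of the binary word `w` (even type) -/
def HasPat (x : GolayPt → ℤ) (w : GolayPt → ZMod 2) : Prop :=
  ∀ i, x i % 4 = if w i = 1 then 2 else 0

theorem HasPat.add {x y : GolayPt → ℤ} {w w' : GolayPt → ZMod 2} (hx : HasPat x w)
    (hy : HasPat y w') : HasPat (x + y) (w + w') := by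
  intro i
  have h1 := hx i
  have h2 := hy i
  simp only [Pi.add_apply]
  rcases zmod2_cases (w i) with a | a <;> rcases zmod2_cases (w' i) with b | b <;>
    simp only [a, b, zmod2_one_add_one, add_zero, zero_add, if_true, zero_ne_one, if_false,
      one_ne_zero] at h1 h2 ⊢ <;> omega

theorem HasPat.unique {x : GolayPt → ℤ} {w w' : GolayPt → ZMod 2} (h : HasPat x w)
    (h' : HasPat x w') : w = w' := by
  funext i
  have h1 := h i
  have h2 := h' i
  rcases zmod2_cases (w i) with a | a <;> rcases zmod2_cases (w' i) with b | b <;>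
    simp only [a, b, if_true, zero_ne_one, if_false] at h1 h2 ⊢ <;> omega

/-- the binary code attached to a lattice -/
def codeOf (L : AddSubgroup (GolayPt → ℤ)) : Submodule (ZMod 2) (GolayPt → ZMod 2) where
  carrier := {w | ∃ x ∈ L, HasPat x w}
  add_mem' := by
    rintro w w' ⟨x, hx, hxw⟩ ⟨y, hy, hyw⟩
    exact ⟨x + y, L.add_mem hx hy, hxw.add hyw⟩
  zero_mem' := ⟨0, L.zero_mem, fun i => by simp⟩
  smul_mem' := by
    rintro c w ⟨x, hx, hxw⟩
    rcases zmod2_cases c with rfl | rfl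
    · rw [zero_smul]; exact ⟨0, L.zero_mem, fun i => by simp⟩
    · rw [one_smul]; exact ⟨x, hx, hxw⟩

theorem mem_codeOf {w : GolayPt → ZMod 2} : w ∈ codeOf L ↔ ∃ x ∈ L, HasPat x w := Iff.rfl

/-- the pattern of an even vector -/
def patOf (x : GolayPt → ℤ) : GolayPt → ZMod 2 := fun i => if x i % 4 = 2 then 1 else 0

theorem hasPat_patOf {x : GolayPt → ℤ} (hev : ∀ i, x i % 2 = 0) : HasPat x (patOf x) := by
  intro i
  have := hev i
  unfold patOf
  split_ifs with h1 h2 h2
  · exact h1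
  · exact absurd rfl h2
  · exact absurd h2 zero_ne_one
  · omega

theorem patOf_mem (_h : IsLeechLike L) {x : GolayPt → ℤ} (hx : x ∈ L) (hev : ∀ i, x i % 2 = 0) :
    patOf x ∈ codeOf L := ⟨x, hx, hasPat_patOf hev⟩

theorem HasPat.even {x : GolayPt → ℤ} {w : GolayPt → ZMod 2} (h : HasPat x w) (i : GolayPt) :
    x i % 2 = 0 := by
  have := h i
  split_ifs at this <;> omega

theorem card_supp_eq_sum (w : GolayPt → ZMod 2) :
    ((supp w).card : ℤ) = ∑ i, (if w i = 1 then (1 : ℤ) else 0) := by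
  rw [Finset.sum_boole]
  congr 2
  ext i
  simp only [supp, Finset.mem_filter, Finset.mem_univ, true_and]
  exact Cfsg.Agent.Lib.Helper93.zmod2_ne_zero_iff (w i)

/-- the code is doubly even -/
theorem IsLeechLike.code_doubly_even (h : IsLeechLike L) {w : GolayPt → ZMod 2}
    (hw : w ∈ codeOf L) : 4 ∣ hammingNorm w := by
  obtain ⟨x, hx, hxw⟩ := hw
  have h16 := h.norm_dvd x hx
  have hterm : ∀ i, (16 : ℤ) ∣ x i ^ 2 - 4 * (if w i = 1 then (1 : ℤ) else 0) := by
    intro i
    have h1 := hxw i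
    split_ifs at h1 ⊢ with hwi
    · obtain ⟨k, hk⟩ : ∃ k, x i = 4 * k + 2 := ⟨x i / 4, by omega⟩
      rw [hk]; exact ⟨k ^ 2 + k, by ring⟩
    · obtain ⟨k, hk⟩ : ∃ k, x i = 4 * k := ⟨x i / 4, by omega⟩
      rw [hk]; exact ⟨k ^ 2, by ring⟩
  have hsum : (16 : ℤ) ∣ ∑ i, (x i ^ 2 - 4 * (if w i = 1 then (1 : ℤ) else 0)) :=
    Finset.dvd_sum fun i _ => hterm i
  rw [Finset.sum_sub_distrib, ← Finset.mul_sum, ← card_supp_eq_sum] at hsum
  have h3 : (16 : ℤ) ∣ 4 * ((supp w).card : ℤ) := by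
    have := dvd_sub h16 hsum
    unfold sqNorm at this
    simpa using this
  rw [hammingNorm_eq_card_supp]
  have h4 : (4 : ℤ) ∣ ((supp w).card : ℤ) := by omega
  exact_mod_cast h4

/-- the code is self-orthogonal -/
theorem IsLeechLike.code_orth (h : IsLeechLike L) {w w' : GolayPt → ZMod 2}
    (hw : w ∈ codeOf L) (hw' : w' ∈ codeOf L) : ∑ i, w i * w' i = 0 := by
  classical
  obtain ⟨x, hx, hxw⟩ := hw
  obtain ⟨y, hy, hyw⟩ := hw'
  have h8 := h.dot_dvd x hx y hy
  have hterm : ∀ i, (8 : ℤ) ∣ x i * y i - 4 * (if i ∈ supp w ∩ supp w' then (1 : ℤ) else 0) := by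
    intro i
    have h1 := hxw i
    have h2 := hyw i
    simp only [Finset.mem_inter, mem_supp]
    by_cases a : w i = 1 <;> by_cases b : w' i = 1 <;>
      simp only [a, b, if_true, if_false, and_self, and_false, false_and] at h1 h2 ⊢
    · obtain ⟨k, hk⟩ : ∃ k, x i = 4 * k + 2 := ⟨x i / 4, by omega⟩
      obtain ⟨l, hl⟩ : ∃ l, y i = 4 * l + 2 := ⟨y i / 4, by omega⟩
      rw [hk, hl]; exact ⟨2 * k * l + k + l, by ring⟩
    · obtain ⟨k, hk⟩ : ∃ k, x i = 4 * k + 2 := ⟨x i / 4, by omega⟩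
      obtain ⟨l, hl⟩ : ∃ l, y i = 4 * l := ⟨y i / 4, by omega⟩
      rw [hk, hl]; exact ⟨2 * k * l + l, by ring⟩
    · obtain ⟨k, hk⟩ : ∃ k, x i = 4 * k := ⟨x i / 4, by omega⟩
      obtain ⟨l, hl⟩ : ∃ l, y i = 4 * l + 2 := ⟨y i / 4, by omega⟩
      rw [hk, hl]; exact ⟨2 * k * l + k, by ring⟩
    · obtain ⟨k, hk⟩ : ∃ k, x i = 4 * k := ⟨x i / 4, by omega⟩
      obtain ⟨l, hl⟩ : ∃ l, y i = 4 * l := ⟨y i / 4, by omega⟩
      rw [hk, hl]; exact ⟨2 * k * l, by ring⟩
  have hsum : (8 : ℤ) ∣ ∑ i, (x i * y i - 4 * (if i ∈ supp w ∩ supp w' then (1 : ℤ) else 0)) :=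
    Finset.dvd_sum fun i _ => hterm i
  rw [Finset.sum_sub_distrib, ← Finset.mul_sum, Finset.sum_boole] at hsum
  have h3 : (8 : ℤ) ∣ 4 * (((Finset.univ.filter fun i => i ∈ supp w ∩ supp w').card : ℕ) : ℤ) := by
    have := dvd_sub h8 hsum
    unfold dotInt at this
    simpa using this
  rw [Finset.filter_mem_eq_inter, Finset.univ_inter] at h3
  rw [dot_eq_card_inter]
  have h4 : (2 : ℤ) ∣ ((supp w ∩ supp w').card : ℤ) := by omega
  have h5 : 2 ∣ (supp w ∩ supp w').card := by exact_mod_cast h4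
  exact (ZMod.natCast_eq_zero_iff _ _).2 h5

/-- a representative with entries `0, ±2` of a nonzero code word -/
theorem IsLeechLike.exists_rep (h : IsLeechLike L) {w : GolayPt → ZMod 2}
    (hw : w ∈ codeOf L) {i0 : GolayPt} (hi0 : w i0 = 1) :
    ∃ y ∈ L, (∀ i, w i = 1 → (y i = 2 ∨ y i = -2)) ∧ (∀ i, w i ≠ 1 → y i = 0) := by
  classical
  obtain ⟨x, hx, hxw⟩ := hw
  by_cases hs : (∑ i, twoVec w i) % 8 = (∑ i, x i) % 8
  · refine ⟨twoVec w, h.mem_of_congr hx (fun i => ?_) hs, fun i hi => ?_, fun i hi => ?_⟩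
    · have := hxw i
      unfold twoVec
      split_ifs at this ⊢ <;> omega
    · left; unfold twoVec; rw [if_pos hi]
    · unfold twoVec; rw [if_neg hi]
  · -- flip the sign at `i0`
    have hx4 : (∑ i, x i) % 4 = (∑ i, twoVec w i) % 4 := by
      have hd : (4 : ℤ) ∣ ∑ i, (x i - twoVec w i) := by
        apply Finset.dvd_sum
        intro i _
        have := hxw i
        unfold twoVec
        split_ifs at this ⊢ <;> omega
      rw [Finset.sum_sub_distrib] at hd
      omega
    refine ⟨twoVec w - Pi.single i0 4, h.mem_of_congr hx (fun i => ?_) ?_, fun i hi => ?_,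
      fun i hi => ?_⟩
    · have := hxw i
      simp only [Pi.sub_apply, Pi.single_apply, twoVec]
      split_ifs at this ⊢ <;> omega
    · simp only [Pi.sub_apply, Finset.sum_sub_distrib, Finset.sum_pi_single', Finset.mem_univ,
        if_true]
      omega
    · simp only [Pi.sub_apply, Pi.single_apply, twoVec, if_pos hi]
      split_ifs <;> omega
    · have hne : i ≠ i0 := fun e => hi (e ▸ hi0)
      simp only [Pi.sub_apply, Pi.single_apply, twoVec, if_neg hi, if_neg hne]
      norm_num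

/-- the code has minimum weight at least 8 -/
theorem IsLeechLike.code_minwt (h : IsLeechLike L) {w : GolayPt → ZMod 2}
    (hw : w ∈ codeOf L) (hw0 : w ≠ 0) : 8 ≤ hammingNorm w := by
  classical
  obtain ⟨i0, hi0⟩ : ∃ i0, w i0 = 1 := by
    by_contra hcon
    push Not at hcon
    apply hw0
    funext i
    rcases zmod2_cases (w i) with a | a
    · exact a
    · exact absurd a (hcon i)
  obtain ⟨y, hy, hy1, hy0⟩ := h.exists_rep hw hi0
  have hyne : y ≠ 0 := by
    intro h0
    have := hy1 i0 hi0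
    rw [h0] at this
    simp at this
  have h32 := h.norm_ge y hy hyne
  have hn : sqNorm y = 4 * ((supp w).card : ℤ) := by
    rw [card_supp_eq_sum, Finset.mul_sum]
    unfold sqNorm
    refine Finset.sum_congr rfl fun i _ => ?_
    by_cases hi : w i = 1
    · rw [if_pos hi]
      rcases hy1 i hi with e | e <;> rw [e] <;> norm_num
    · rw [if_neg hi, hy0 i hi]; norm_num
  rw [hammingNorm_eq_card_supp]
  rw [hn] at h32
  omega

end Cfsg.Agent.Lib.Helper8
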