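import Mathlib
import Cfsg.Agent.Lib.Helper8.SylSimple

/-!
# Index of an overgroup of a Sylow normaliser

If `P` has prime order `r`, `r ^ 2 ∤ |G|` and `N_G(P) ≤ K`, then `|G : K| ≡ 1 (mod r)`.
-/

set_option autoImplicit false

namespace Cfsg.Agent.Lib.Helper8
open Subgroup

theorem index_mod_of_normalizer_le {G : Type*} [Group G] [Finite G] (r : ℕ) [Fact r.Prime]
    (P K : Subgroup G) (hP : Nat.card P = r) (hr : ¬ r ^ 2 ∣ Nat.card G)
    (hN : normalizer (P : Set G) ≤ K) : K.index % r = 1 := by
  have hrp : r.Prime := Fact.out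
  have hPK : P ≤ K := le_normalizer.trans hN
  have hG0 : Nat.card G ≠ 0 := Nat.card_pos.ne'
  have hrG : r ∣ Nat.card G := by
    rw [← hP]; exact P.card_subgroup_dvd_card
  -- Sylow subgroup of `G`
  let PG : Sylow r G := Sylow.ofCard P (by
    rw [hP, factorization_eq_one_of _ _ hrp hG0 hrG hr, pow_one])
  have hnG : Nat.card (Sylow r G) = (normalizer (P : Set G)).index :=
    Sylow.card_eq_index_normalizer PG
  have hnG1 : Nat.card (Sylow r G) % r = 1 := by
    have := card_sylow_modEq_one r G
    rw [Nat.ModEq, Nat.mod_eq_of_lt hrp.one_lt] at this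
    exact this
  -- Sylow subgroup of `K`
  have hK0 : Nat.card K ≠ 0 := Nat.card_pos.ne'
  have hcardP' : Nat.card (P.subgroupOf K) = r := by
    rw [Nat.card_congr (Subgroup.subgroupOfEquivOfLe hPK).toEquiv, hP]
  have hrK : r ∣ Nat.card K := by
    rw [← hcardP']; exact (P.subgroupOf K).card_subgroup_dvd_card
  have hrK2 : ¬ r ^ 2 ∣ Nat.card K := fun h => hr (h.trans K.card_subgroup_dvd_card)
  let PK : Sylow r K := Sylow.ofCard (P.subgroupOf K) (by
    rw [hcardP', factorization_eq_one_of _ _ hrp hK0 hrK hrK2, pow_one])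
  have hnK : Nat.card (Sylow r K) = (normalizer ((P.subgroupOf K : Subgroup K) : Set K)).index :=
    Sylow.card_eq_index_normalizer PK
  have hnK1 : Nat.card (Sylow r K) % r = 1 := by
    have := card_sylow_modEq_one r K
    rw [Nat.ModEq, Nat.mod_eq_of_lt hrp.one_lt] at this
    exact this
  have hnorm : normalizer ((P.subgroupOf K : Subgroup K) : Set K)
      = (normalizer (P : Set G)).subgroupOf K := (subgroupOf_normalizer_eq hPK).symm
  rw [hnorm] at hnK
  have hrel : (normalizer (P : Set G)).relIndex K * K.index = (normalizer (P : Set G)).index :=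
    Subgroup.relIndex_mul_index hN
  have hnK' : Nat.card (Sylow r K) = (normalizer (P : Set G)).relIndex K := hnK
  rw [← hnG, ← hnK'] at hrel
  have h1 : (Nat.card (Sylow r K) * K.index) % r = 1 := by rw [hrel, hnG1]
  rw [Nat.mul_mod, hnK1, one_mul, Nat.mod_mod] at h1
  exact h1

end Cfsg.Agent.Lib.Helper8
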