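import Mathlib
import Cfsg.Agent.Lib.Helper8.SylIndex
import Cfsg.Agent.Lib.Helper8.ConwaySimple
import Cfsg.Agent.S0397

/-!
# The monomial group `N = 2^12 : M24` in `Co0`: Sylow-23 argument

* `mem_NN_of_smul_v0`: an automorphism carrying `8 e_∞` into the standard cross lies in `N`.
* `normalizer_shift_le_NN`: the normaliser of the subgroup generated by the shift of order 23 is
  contained in `N`.
* `index_mod23_of_NN_le`: every overgroup `K` of `N` has index `≡ 1 (mod 23)` in `Co0`.
-/

set_option autoImplicit false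

namespace Cfsg.Agent.Lib.Helper8
open Cfsg Cfsg.Agent.Lib.Helper7 Cfsg.Agent.S0397
open scoped Pointwise

/-- an automorphism carrying `8 e_∞` into the standard cross lies in `N` -/
theorem mem_NN_of_smul_v0 (g : Co0)
    (h : ((g • v0 : leechLattice) : GolayPt → ℤ) ∈ stdCross) : g ∈ NN := by
  have hT : g • v0 ∈ T := h
  rw [← orbit_NN] at hT
  obtain ⟨n, hn⟩ := hT
  have hn' : (n : Co0) • v0 = g • v0 := hn
  have hstab : (n : Co0)⁻¹ * g ∈ MulAction.stabilizer Co0 v0 := by
    rw [MulAction.mem_stabilizer_iff, mul_smul, ← hn', inv_smul_smul]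
  have h2 : (n : Co0)⁻¹ * g ∈ NN := stab_le hstab
  have h3 : (n : Co0) * ((n : Co0)⁻¹ * g) ∈ NN := NN.mul_mem n.2 h2
  rwa [mul_inv_cancel_left] at h3

/-- a lattice vector of squared norm 64 fixed by the shift is `± 8 e_∞` -/
theorem shift_fixed_mem_stdCross (y : leechLattice) (hn : sqNorm (y : GolayPt → ℤ) = 64)
    (h2 : sCo0 • y = y) : (y : GolayPt → ℤ) ∈ stdCross := by
  have hinv : ∀ p, (y : GolayPt → ℤ) (shiftPerm p) = (y : GolayPt → ℤ) p := by
    intro p
    have := congrFun (congrArg Subtype.val h2) (shiftPerm p)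
    unfold sCo0 at this
    rw [permCo0_apply] at this
    simp only [Equiv.symm_apply_apply] at this
    exact this.symm
  have hconst := shift_invariant_const (y : GolayPt → ℤ) hinv
  set a := (y : GolayPt → ℤ) none with ha
  set b := (y : GolayPt → ℤ) (some 0) with hb
  rw [sqNorm_option] at hn
  have e1 : ∑ x : ZMod 23, (y : GolayPt → ℤ) (some x) ^ 2 = 23 * b ^ 2 := by
    rw [Finset.sum_congr rfl (fun x _ => by rw [hconst x])]
    rw [Finset.sum_const, Finset.card_univ, ZMod.card]
    simp
  rw [e1] at hn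
  have hb0 : b = 0 := by
    have hb2 : b ^ 2 ≤ 2 := by nlinarith [sq_nonneg a]
    have hbl : -1 ≤ b := by nlinarith
    have hbu : b ≤ 1 := by nlinarith
    have : b = -1 ∨ b = 0 ∨ b = 1 := by omega
    rcases this with h | h | h
    · exfalso
      rw [h] at hn
      have : a ^ 2 = 41 := by linarith
      have h6 : a ≤ 6 := by nlinarith
      have h6' : -6 ≤ a := by nlinarith
      interval_cases a <;> omega
    · exact h
    · exfalso
      rw [h] at hn
      have : a ^ 2 = 41 := by linarith
      have h6 : a ≤ 6 := by nlinarith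
      have h6' : -6 ≤ a := by nlinarith
      interval_cases a <;> omega
  have ha8 : a = 8 ∨ a = -8 := by
    rw [hb0] at hn
    have h64 : a ^ 2 = 64 := by linarith
    have h8 : a ≤ 8 := by nlinarith
    have h8' : -8 ≤ a := by nlinarith
    interval_cases a <;> omega
  refine ⟨none, a, ha8, ?_⟩
  funext p
  cases p with
  | none => rw [Pi.single_eq_same]
  | some x =>
    rw [Pi.single_eq_of_ne (by simp), hconst x]
    exact hb0

theorem zpowers_sCo0_fix_v0 (h : Co0) (hh : h ∈ Subgroup.zpowers sCo0) : h • v0 = v0 := by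
  have hle : Subgroup.zpowers sCo0 ≤ MulAction.stabilizer Co0 v0 := by
    rw [Subgroup.zpowers_le]
    exact MulAction.mem_stabilizer_iff.2 sCo0_fix_v0
  exact MulAction.mem_stabilizer_iff.1 (hle hh)

/-- the normaliser of the shift subgroup is contained in the monomial group -/
theorem normalizer_shift_le_NN :
    Subgroup.normalizer ((Subgroup.zpowers sCo0 : Subgroup Co0) : Set Co0) ≤ NN := by
  intro g hg
  have hg' : g⁻¹ ∈ Subgroup.normalizer ((Subgroup.zpowers sCo0 : Subgroup Co0) : Set Co0) :=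
    Subgroup.inv_mem _ hg
  rw [Subgroup.mem_normalizer_iff] at hg'
  have h1 : g⁻¹ * sCo0 * g⁻¹⁻¹ ∈ Subgroup.zpowers sCo0 :=
    (hg' sCo0).1 (Subgroup.mem_zpowers sCo0)
  rw [inv_inv] at h1
  have h2 := zpowers_sCo0_fix_v0 _ h1
  apply mem_NN_of_smul_v0
  apply shift_fixed_mem_stdCross
  · rw [co0_sqNorm]; exact sqNorm_e8 none
  · have : sCo0 • (g • v0) = g • ((g⁻¹ * sCo0 * g) • v0) := by
      rw [← mul_smul, ← mul_smul]
      congr 1
      group
    rw [this, h2]

theorem permCo0_pow (σ : Equiv.Perm GolayPt) (hσ : σ ∈ M24) (n : ℕ) :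
    permCo0 σ hσ ^ n = permCo0 (σ ^ n) (Subgroup.pow_mem M24 hσ n) := by
  induction n with
  | zero =>
    simp only [pow_zero]
    exact permCo0_one.symm
  | succ n ih =>
    rw [pow_succ, ih, ← permCo0_mul]
    congr 1
    exact (pow_succ σ n).symm

theorem orderOf_sCo0 : orderOf sCo0 = 23 := by
  haveI : Fact (Nat.Prime 23) := ⟨by norm_num⟩
  apply orderOf_eq_prime
  · unfold sCo0
    rw [permCo0_pow]
    have : shiftPerm ^ 23 = 1 := by
      rw [← orderOf_shiftPerm]; exact pow_orderOf_eq_one _
    simp only [this]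
    exact permCo0_one
  · intro h
    unfold sCo0 at h
    rw [← permCo0_one] at h
    have := permCo0_injective h
    have h1 : orderOf shiftPerm = 1 := by rw [this, orderOf_one]
    rw [orderOf_shiftPerm] at h1
    norm_num at h1

theorem sCo0_mem_NN : sCo0 ∈ NN :=
  stab_le (MulAction.mem_stabilizer_iff.2 sCo0_fix_v0)

/-- every overgroup of the monomial group has index `≡ 1 (mod 23)` in `Co0` -/
theorem index_mod23_of_NN_le (K : Subgroup Co0) (hK : NN ≤ K) : K.index % 23 = 1 := by
  haveI : Fact (Nat.Prime 23) := ⟨by norm_num⟩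
  haveI : Finite Co0 := Nat.finite_of_card_ne_zero (by rw [Cfsg.Agent.S0397.result]; norm_num)
  apply index_mod_of_normalizer_le 23 (Subgroup.zpowers sCo0) K
  · rw [Nat.card_zpowers, orderOf_sCo0]
  · rw [Cfsg.Agent.S0397.result]; norm_num
  · exact normalizer_shift_le_NN.trans hK

end Cfsg.Agent.Lib.Helper8
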