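import Mathlib
import Cfsg.Agent.Lib.Helper8.Co2Orbits
import Cfsg.Agent.Lib.Helper7.M24Trans
import Cfsg.Agent.Lib.Helper7.M24Pres
import Cfsg.Agent.Lib.Helper7.GolayFacts
import Cfsg.Agent.Lib.Helper93.GolayAbstract

/-!
# Even subsets of an octad are cut out by code words

`exists_code_inter`: for an octad `O` and `M ⊆ O` of even cardinality there is a code set `c`
with `c ∩ O = M`.
-/

set_option autoImplicit false

namespace Cfsg.Agent.Lib.Helper8
open Cfsg Cfsg.Agent.Lib.Helper7 Cfsg.Spor
open scoped Pointwise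

theorem symmDiff_mem_supports {c d : Finset GolayPt}
    (hc : c ∈ supports (golayCode : Set (GolayPt → ZMod 2)))
    (hd : d ∈ supports (golayCode : Set (GolayPt → ZMod 2))) :
    symmDiff c d ∈ supports (golayCode : Set (GolayPt → ZMod 2)) := by
  obtain ⟨v, hv, rfl⟩ := hc
  obtain ⟨w, hw, rfl⟩ := hd
  exact ⟨v + w, golayCode.add_mem hv hw, Cfsg.Agent.Lib.Helper93.supp_add v w⟩

/-- an octad through `∞` and `0` -/
def octA : Finset GolayPt :=
  {some 0, some 1, some 13, some 15, some 17, some 18, some 19, none}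

/-- an octad meeting `octA` in two points -/
def octB : Finset GolayPt :=
  {some 1, some 2, some 3, some 4, some 14, some 19, some 21, some 22}

theorem octA_mem : octA ∈ octads := by
  rw [Cfsg.Agent.Lib.Helper26.mem_octads_iff]
  decide +kernel

theorem octB_mem : octB ∈ octads := by
  rw [Cfsg.Agent.Lib.Helper26.mem_octads_iff]
  decide +kernel

theorem octB_inter_octA : octB ∩ octA = {some 1, some 19} := by decide

theorem perm_smul_inter (σ : Equiv.Perm GolayPt) (s t : Finset GolayPt) :
    σ • (s ∩ t) = σ • s ∩ σ • t := by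
  ext i
  simp only [Finset.mem_inter, Finset.mem_smul_finset]
  constructor
  · rintro ⟨j, ⟨h1, h2⟩, rfl⟩
    exact ⟨⟨j, h1, rfl⟩, ⟨j, h2, rfl⟩⟩
  · rintro ⟨⟨j, h1, rfl⟩, ⟨k, h2, hk⟩⟩
    have : k = j := σ.injective hk
    subst this
    exact ⟨k, ⟨h1, h2⟩, rfl⟩

/-- for two points of an octad there is an octad meeting it exactly in these two points -/
theorem exists_octad_inter_pair {O : Finset GolayPt} (hO : O ∈ octads) {p q : GolayPt}
    (hp : p ∈ O) (hq : q ∈ O) (hpq : p ≠ q) : ∃ B ∈ octads, B ∩ O = {p, q} := by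
  classical
  have hqe : q ∈ O.erase p := Finset.mem_erase.2 ⟨hpq.symm, hq⟩
  have hcard : 3 ≤ ((O.erase p).erase q).card := by
    rw [Finset.card_erase_of_mem hqe, Finset.card_erase_of_mem hp, hO.2]
    norm_num
  obtain ⟨t, ht, ht3⟩ := Finset.exists_subset_card_eq hcard
  obtain ⟨r, s, u, hrs, hru, hsu, rfl⟩ := Finset.card_eq_three.1 ht3
  have hmem : ∀ z ∈ ({r, s, u} : Finset GolayPt), z ∈ O ∧ z ≠ p ∧ z ≠ q := by
    intro z hz
    have := ht hz
    rw [Finset.mem_erase, Finset.mem_erase] at this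
    exact ⟨this.2.2, this.2.1, this.1⟩
  obtain ⟨hrO, hrp, hrq⟩ := hmem r (by simp)
  obtain ⟨hsO, hsp, hsq⟩ := hmem s (by simp)
  obtain ⟨huO, hup, huq⟩ := hmem u (by simp)
  have hinjx : Function.Injective (![some 1, some 19, some 0, some 13, none] : Fin 5 → GolayPt) := by
    decide
  have hinjy : Function.Injective (![p, q, r, s, u] : Fin 5 → GolayPt) := by
    intro a b hab
    fin_cases a <;> fin_cases b <;>
      simp_all [Ne.symm hrp, Ne.symm hrq, Ne.symm hsp, Ne.symm hsq, Ne.symm hup, Ne.symm huq,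
        Ne.symm hrs, Ne.symm hru, Ne.symm hsu, Ne.symm hpq]
  obtain ⟨σ, hσ, hσxy⟩ := exists_M24_map_emb (k := 5) le_rfl ⟨_, hinjx⟩ ⟨_, hinjy⟩
  have h0 : σ (some 1) = p := hσxy 0
  have h1 : σ (some 19) = q := hσxy 1
  have h2 : σ (some 0) = r := hσxy 2
  have h3 : σ (some 13) = s := hσxy 3
  have h4 : σ none = u := hσxy 4
  have hA : σ • octA = O := by
    apply octad_eq_of_five (smul_mem_octads hσ octA_mem) hO
    have hsub : ({p, q, r, s, u} : Finset GolayPt) ⊆ σ • octA ∩ O := by
      intro z hz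
      simp only [Finset.mem_insert, Finset.mem_singleton] at hz
      rw [Finset.mem_inter]
      rcases hz with rfl | rfl | rfl | rfl | rfl
      · exact ⟨by rw [← h0]; exact Finset.smul_mem_smul_finset (by decide), hp⟩
      · exact ⟨by rw [← h1]; exact Finset.smul_mem_smul_finset (by decide), hq⟩
      · exact ⟨by rw [← h2]; exact Finset.smul_mem_smul_finset (by decide), hrO⟩
      · exact ⟨by rw [← h3]; exact Finset.smul_mem_smul_finset (by decide), hsO⟩
      · exact ⟨by rw [← h4]; exact Finset.smul_mem_smul_finset (by decide), huO⟩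
    have hc5 : ({p, q, r, s, u} : Finset GolayPt).card = 5 := by
      rw [Finset.card_insert_of_notMem, Finset.card_insert_of_notMem,
        Finset.card_insert_of_notMem, Finset.card_insert_of_notMem, Finset.card_singleton]
      · simp [hsu]
      · simp [hrs, hru]
      · simp [Ne.symm hrq, Ne.symm hsq, Ne.symm huq]
      · simp [hpq, Ne.symm hrp, Ne.symm hsp, Ne.symm hup]
    calc 5 = ({p, q, r, s, u} : Finset GolayPt).card := hc5.symm
      _ ≤ _ := Finset.card_le_card hsub
  refine ⟨σ • octB, smul_mem_octads hσ octB_mem, ?_⟩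
  rw [← hA, ← perm_smul_inter, octB_inter_octA]
  ext z
  simp only [Finset.mem_smul_finset, Finset.mem_insert, Finset.mem_singleton]
  constructor
  · rintro ⟨y, hy | hy, rfl⟩
    · left; rw [hy]; exact h0
    · right; rw [hy]; exact h1
  · rintro (rfl | rfl)
    · exact ⟨some 1, Or.inl rfl, h0⟩
    · exact ⟨some 19, Or.inr rfl, h1⟩

/-- **Even subsets of an octad are cut out by code words.** -/
theorem exists_code_inter_aux {O : Finset GolayPt} (hO : O ∈ octads) :
    ∀ n : ℕ, ∀ M : Finset GolayPt, M ⊆ O → M.card = 2 * n →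
      ∃ c ∈ supports (golayCode : Set (GolayPt → ZMod 2)), c ∩ O = M := by
  classical
  intro n
  induction n with
  | zero =>
    intro M _ hM
    have : M = ∅ := Finset.card_eq_zero.1 (by omega)
    subst this
    exact ⟨∅, Cfsg.Spor.empty_mem_supports_golayCode, Finset.empty_inter _⟩
  | succ n ih =>
    intro M hMO hM
    obtain ⟨p, hp, q, hq, hpq⟩ := Finset.one_lt_card.1 (by omega : 1 < M.card)
    have hqe : q ∈ M.erase p := Finset.mem_erase.2 ⟨hpq.symm, hq⟩
    have hM' : ((M.erase p).erase q).card = 2 * n := by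
      rw [Finset.card_erase_of_mem hqe, Finset.card_erase_of_mem hp, hM]
      omega
    have hsub : (M.erase p).erase q ⊆ O :=
      ((Finset.erase_subset _ _).trans (Finset.erase_subset _ _)).trans hMO
    obtain ⟨c', hc', hcM'⟩ := ih _ hsub hM'
    obtain ⟨B, hB, hBO⟩ := exists_octad_inter_pair hO (hMO hp) (hMO hq) hpq
    refine ⟨symmDiff c' B, symmDiff_mem_supports hc' hB.1, ?_⟩
    have h1 : ∀ i, (i ∈ c' ∧ i ∈ O) ↔ (i ≠ q ∧ i ≠ p ∧ i ∈ M) := by
      intro i
      have := Finset.ext_iff.1 hcM' i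
      rw [Finset.mem_inter, Finset.mem_erase, Finset.mem_erase] at this
      exact this
    have h2 : ∀ i, (i ∈ B ∧ i ∈ O) ↔ (i = p ∨ i = q) := by
      intro i
      have := Finset.ext_iff.1 hBO i
      rw [Finset.mem_inter, Finset.mem_insert, Finset.mem_singleton] at this
      exact this
    ext i
    rw [Finset.mem_inter, Finset.mem_symmDiff]
    have e1 := h1 i
    have e2 := h2 i
    have e3 : i ∈ M → i ∈ O := fun h => hMO h
    by_cases hip : i = p
    · subst hip
      have : i ∈ O := hMO hp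
      tauto
    · by_cases hiq : i = q
      · subst hiq
        have : i ∈ O := hMO hq
        tauto
      · tauto

theorem exists_code_inter {O : Finset GolayPt} (hO : O ∈ octads) (M : Finset GolayPt)
    (hMO : M ⊆ O) (hM : M.card % 2 = 0) :
    ∃ c ∈ supports (golayCode : Set (GolayPt → ZMod 2)), c ∩ O = M :=
  exists_code_inter_aux hO (M.card / 2) M hMO (by omega)

end Cfsg.Agent.Lib.Helper8
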