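import Mathlib
import Cfsg.Agent.Lib.Helper8.NMax1
import Cfsg.Agent.Lib.Helper8.NSign
import Cfsg.Agent.S0400

/-!
# Orbits of the monomial group `N = 2^12 : M24` on minimal vectors

* `SRel H w w'`: `w` and `w'` are in the same orbit of the subgroup `H` of `Co0`.
* `NU`: the stabiliser of `u = (4,4,0^22)` in `N`.
* Transitivity of `N` on the three shapes of minimal vectors, and of `NU` on the three shapes of
  minimal vectors `w` with `u · w = -16`.
-/

set_option autoImplicit false

namespace Cfsg.Agent.Lib.Helper8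
open Cfsg Cfsg.Agent.Lib.Helper7 Cfsg.Spor Cfsg.Agent.S0397
open scoped Pointwise

theorem monoCo0_mem_NN (σ : Equiv.Perm GolayPt) (hσ : σ ∈ M24) (c : Finset GolayPt)
    (hc : c ∈ supports (golayCode : Set (GolayPt → ZMod 2))) : monoCo0 σ hσ c hc ∈ NN :=
  (mem_NN _).2 (presCross_monoCo0 σ hσ c hc)

/-- the stabiliser of `u = (4,4,0^22)` in the monomial group -/
def NU : Subgroup Co0 := NN ⊓ MulAction.stabilizer Co0 leechU

theorem mem_NU (g : Co0) : g ∈ NU ↔ g ∈ NN ∧ g • leechU = leechU := by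
  unfold NU
  rw [Subgroup.mem_inf, MulAction.mem_stabilizer_iff]

/-- same orbit under a subgroup of `Co0` -/
def SRel (H : Subgroup Co0) (w w' : leechLattice) : Prop := ∃ g ∈ H, g • w = w'

theorem SRel.refl (H : Subgroup Co0) (w : leechLattice) : SRel H w w := ⟨1, H.one_mem, one_smul _ _⟩

theorem SRel.symm {H : Subgroup Co0} {w w' : leechLattice} (h : SRel H w w') : SRel H w' w := by
  obtain ⟨g, hg, rfl⟩ := h
  exact ⟨g⁻¹, H.inv_mem hg, inv_smul_smul _ _⟩

theorem SRel.trans {H : Subgroup Co0} {w w' w'' : leechLattice} (h : SRel H w w')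
    (h' : SRel H w' w'') : SRel H w w'' := by
  obtain ⟨g, hg, rfl⟩ := h
  obtain ⟨g', hg', rfl⟩ := h'
  exact ⟨g' * g, H.mul_mem hg' hg, mul_smul _ _ _⟩

theorem SRel.mono {H K : Subgroup Co0} (hHK : H ≤ K) {w w' : leechLattice} (h : SRel H w w') :
    SRel K w w' := by
  obtain ⟨g, hg, rfl⟩ := h
  exact ⟨g, hHK hg, rfl⟩

/-! ### shape `(±4, ±4, 0^22)` -/

theorem eq_pair_of_shape {x : GolayPt → ℤ} {j k : GolayPt} (hjk : j ≠ k)
    (h : ∀ i, i ≠ j → i ≠ k → x i = 0) : x = Pi.single j (x j) + Pi.single k (x k) := by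
  funext i
  rw [Pi.add_apply]
  by_cases hij : i = j
  · subst hij
    rw [Pi.single_eq_same, Pi.single_eq_of_ne hjk, add_zero]
  · by_cases hik : i = k
    · subst hik
      rw [Pi.single_eq_same, Pi.single_eq_of_ne hij, zero_add]
    · rw [Pi.single_eq_of_ne hij, Pi.single_eq_of_ne hik, h i hij hik, add_zero]

theorem exists_code_two (j k : GolayPt) (hjk : j ≠ k) (a b : Prop) :
    ∃ c ∈ supports (golayCode : Set (GolayPt → ZMod 2)), (j ∈ c ↔ a) ∧ (k ∈ c ↔ b) := by
  by_cases ha : a <;> by_cases hb : b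
  · exact ⟨Finset.univ, Cfsg.Spor.univ_mem_supports_golayCode, by simp [ha], by simp [hb]⟩
  · obtain ⟨C, hC, h1, h2⟩ := exists_separating j k hjk
    exact ⟨C, hC, by simp [ha, h1], by simp [hb, h2]⟩
  · obtain ⟨C, hC, h1, h2⟩ := exists_separating k j hjk.symm
    exact ⟨C, hC, by simp [ha, h2], by simp [hb, h1]⟩
  · exact ⟨∅, Cfsg.Spor.empty_mem_supports_golayCode, by simp [ha], by simp [hb]⟩

theorem pm4_if {s : ℤ} (hs : s = 4 ∨ s = -4) (p : Prop) [Decidable p] (hp : p ↔ s = -4) :
    (if p then (-4 : ℤ) else 4) = s := by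
  by_cases h : p
  · rw [if_pos h, hp.1 h]
  · rw [if_neg h]
    rcases hs with h' | h'
    · exact h'.symm
    · exact absurd (hp.2 h') h

/-- the monomial group is transitive on the minimal vectors of shape `(±4, ±4, 0^22)` -/
theorem srel_leechU_of_four (x : leechLattice) (hn : sqNorm (x : GolayPt → ℤ) = 32)
    (h4 : ∀ i, (x : GolayPt → ℤ) i % 4 = 0) : SRel NN leechU x := by
  classical
  obtain ⟨j, k, hjk, hj, hk, hother⟩ := min_shape_four hn h4
  have hx := eq_pair_of_shape hjk hother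
  have hinj1 : Function.Injective (![none, some 0] : Fin 2 → GolayPt) := by decide
  have hinj2 : Function.Injective (![j, k] : Fin 2 → GolayPt) := by
    intro a b hab
    fin_cases a <;> fin_cases b
    · rfl
    · exact absurd (show j = k from hab) hjk
    · exact absurd (show k = j from hab) hjk.symm
    · rfl
  obtain ⟨σ, hσM, hσ⟩ := exists_M24_map_emb (k := 2) (by norm_num) ⟨_, hinj1⟩ ⟨_, hinj2⟩
  have hσ0 : σ none = j := hσ 0
  have hσ1 : σ (some 0) = k := hσ 1
  obtain ⟨c, hc, hcj, hck⟩ := exists_code_two j k hjk ((x : GolayPt → ℤ) j = -4)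
    ((x : GolayPt → ℤ) k = -4)
  refine ⟨monoCo0 σ hσM c hc, monoCo0_mem_NN _ _ _ _, ?_⟩
  apply Subtype.ext
  rw [monoCo0_apply]
  show signedPerm σ c vecU = _
  rw [vecU_eq, signedPerm_add, signedPerm_single, signedPerm_single, hσ0, hσ1, hx]
  rw [pm4_if hj _ hcj, pm4_if hk _ hck]

/-! ### odd shape `(∓3, ±1^23)` -/

theorem mem_perm_smul_iff (σ : Equiv.Perm GolayPt) (C : Finset GolayPt) (i : GolayPt) :
    i ∈ σ • C ↔ σ.symm i ∈ C := by
  rw [Finset.mem_smul_finset]
  constructor
  · rintro ⟨j, hj, rfl⟩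
    rwa [Equiv.Perm.smul_def, Equiv.symm_apply_apply]
  · intro h
    exact ⟨σ.symm i, h, by rw [Equiv.Perm.smul_def, Equiv.apply_symm_apply]⟩

theorem odd_of_exists_odd {x : GolayPt → ℤ} (hx : x ∈ leechLattice) (h : ∃ i, x i % 2 = 1) :
    ∀ j, x j % 2 = 1 := by
  obtain ⟨m, hm, -, -⟩ := (mem_leechLattice_iff x).1 hx
  obtain ⟨i, hi⟩ := h
  intro j
  have h1 := hm i
  have h2 := hm j
  simp only [Int.ModEq] at h1 h2
  omega

theorem val_of_sq_one'' {a : ℤ} (h : a ^ 2 = 1) : a = 1 ∨ a = -1 := by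
  have h' : (a - 1) * (a + 1) = 0 := by ring_nf; omega
  rcases mul_eq_zero.1 h' with h' | h'
  · left; omega
  · right; omega

theorem val_of_sq_nine'' {a : ℤ} (h : a ^ 2 = 9) : a = 3 ∨ a = -3 := by
  have h' : (a - 3) * (a + 3) = 0 := by ring_nf; omega
  rcases mul_eq_zero.1 h' with h' | h'
  · left; omega
  · right; omega

/-- the code set of coordinates `≡ 3 mod 4` of a lattice vector -/
theorem filter_three_mem {x : GolayPt → ℤ} (hx : x ∈ leechLattice) :
    (Finset.univ.filter fun i => x i % 4 = 3) ∈ supports (golayCode : Set (GolayPt → ZMod 2)) := by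
  obtain ⟨m, -, -, h3⟩ := (mem_leechLattice_iff x).1 hx
  have := h3 3
  have e : (Finset.univ.filter fun i => x i ≡ 3 [ZMOD 4]) = Finset.univ.filter fun i => x i % 4 = 3 :=
    Finset.filter_congr fun i _ => by simp [Int.ModEq]
  rwa [e] at this

/-- the monomial group is transitive on the odd minimal vectors -/
theorem srel_vOdd_of_odd (x : leechLattice) (hn : sqNorm (x : GolayPt → ℤ) = 32)
    (hodd : ∀ i, (x : GolayPt → ℤ) i % 2 = 1) : SRel NN x Cfsg.Agent.S0400.vOddL := by
  classical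
  obtain ⟨i0, hi0, hrest⟩ := Cfsg.Agent.S0400.odd_shape hodd hn
  set C : Finset GolayPt := Finset.univ.filter fun i => (x : GolayPt → ℤ) i % 4 = 3 with hC
  have hCs : C ∈ supports (golayCode : Set (GolayPt → ZMod 2)) := filter_three_mem x.2
  have hmemC : ∀ j, j ∈ C ↔ (x : GolayPt → ℤ) j % 4 = 3 := by
    intro j; rw [hC, Finset.mem_filter]; simp
  have := M24_isPretransitive
  obtain ⟨g, hg⟩ := MulAction.exists_smul_eq M24 i0 (none : GolayPt)
  have hg' : (g : Equiv.Perm GolayPt) i0 = none := hg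
  have hCs' : (g : Equiv.Perm GolayPt) • C ∈ supports (golayCode : Set (GolayPt → ZMod 2)) :=
    smul_mem_supports_of_mem_M24 g.2 hCs
  refine ⟨monoCo0 g.1 g.2 _ hCs', monoCo0_mem_NN _ _ _ _, ?_⟩
  apply Subtype.ext
  rw [monoCo0_apply]
  funext i
  show signedPerm g.1 _ (x : GolayPt → ℤ) i = vOdd i
  unfold signedPerm vOdd
  have hmem : i ∈ (g : Equiv.Perm GolayPt) • C ↔
      (x : GolayPt → ℤ) ((g : Equiv.Perm GolayPt).symm i) % 4 = 3 := by
    rw [mem_perm_smul_iff, hmemC]
  have hsymm : (g : Equiv.Perm GolayPt).symm i = i0 ↔ i = none := by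
    rw [Equiv.symm_apply_eq, hg']
  by_cases hi : i = none
  · rw [if_pos hi]
    have h1 : (g : Equiv.Perm GolayPt).symm i = i0 := hsymm.2 hi
    rw [h1] at hmem ⊢
    rcases val_of_sq_nine'' hi0 with h | h
    · have hin : i ∈ (g : Equiv.Perm GolayPt) • C := hmem.2 (by rw [h]; norm_num)
      rw [if_pos hin, h]
    · have hin : i ∉ (g : Equiv.Perm GolayPt) • C := fun hh => by
        have := hmem.1 hh
        rw [h] at this
        norm_num at this
      rw [if_neg hin, h]
  · rw [if_neg hi]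
    have h1 : (g : Equiv.Perm GolayPt).symm i ≠ i0 := fun h => hi (hsymm.1 h)
    rcases val_of_sq_one'' (hrest _ h1) with h | h
    · have hin : i ∉ (g : Equiv.Perm GolayPt) • C := fun hh => by
        have := hmem.1 hh
        rw [h] at this
        norm_num at this
      rw [if_neg hin, h]
    · have hin : i ∈ (g : Equiv.Perm GolayPt) • C := hmem.2 (by rw [h]; norm_num)
      rw [if_pos hin, h]
      norm_num

/-! ### even shape `(±2^8, 0^16)` -/

theorem even_of_sum_mod8 {M : Finset GolayPt} {d : GolayPt → ℤ}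
    (hd : ∀ i, d i % 8 = if i ∈ M then 4 else 0) (hs : (∑ i, d i) % 8 = 0) : M.card % 2 = 0 := by
  classical
  have h1 : (∑ i, d i) % 8 = (∑ i, d i % 8) % 8 := Finset.sum_int_mod _ _ _
  rw [Finset.sum_congr rfl (fun i _ => hd i), Finset.sum_ite_mem, Finset.univ_inter,
    Finset.sum_const, hs] at h1
  simp only [nsmul_eq_mul] at h1
  omega

/-- moving a vector of shape `(±2^8, 0^16)` onto another one by a monomial element with prescribed
permutation part -/
theorem exists_mono_of_two_shape (x y : leechLattice)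
    (hx : ∀ i, (x : GolayPt → ℤ) i = 0 ∨ (x : GolayPt → ℤ) i = 2 ∨ (x : GolayPt → ℤ) i = -2)
    (hy : ∀ i, (y : GolayPt → ℤ) i = 0 ∨ (y : GolayPt → ℤ) i = 2 ∨ (y : GolayPt → ℤ) i = -2)
    (hyO : (Finset.univ.filter fun i => (y : GolayPt → ℤ) i % 4 = 2) ∈ octads)
    (σ : Equiv.Perm GolayPt) (hσ : σ ∈ M24)
    (hsupp : ∀ i, (x : GolayPt → ℤ) (σ.symm i) = 0 ↔ (y : GolayPt → ℤ) i = 0) :
    ∃ c, ∃ hc : c ∈ supports (golayCode : Set (GolayPt → ZMod 2)),
      monoCo0 σ hσ c hc • x = y ∧
        ∀ i, (y : GolayPt → ℤ) i ≠ 0 → (i ∈ c ↔ (x : GolayPt → ℤ) (σ.symm i) ≠ (y : GolayPt → ℤ) i) := by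
  classical
  set z : leechLattice := permCo0 σ hσ • x with hz
  have hzv : ∀ i, (z : GolayPt → ℤ) i = (x : GolayPt → ℤ) (σ.symm i) := by
    intro i
    rw [hz, permCo0_apply]
  set M : Finset GolayPt := Finset.univ.filter fun i => (z : GolayPt → ℤ) i ≠ (y : GolayPt → ℤ) i
    with hM
  have hmemM : ∀ i, i ∈ M ↔ (z : GolayPt → ℤ) i ≠ (y : GolayPt → ℤ) i := by
    intro i; rw [hM, Finset.mem_filter]; simp
  have hzy : ∀ i, (z : GolayPt → ℤ) i = (y : GolayPt → ℤ) i ∨
      ((y : GolayPt → ℤ) i ≠ 0 ∧ (z : GolayPt → ℤ) i = -(y : GolayPt → ℤ) i) := by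
    intro i
    have h1 := hsupp i
    rw [← hzv] at h1
    have h2 := hx (σ.symm i)
    rw [← hzv] at h2
    have h3 := hy i
    omega
  set O : Finset GolayPt := Finset.univ.filter fun i => (y : GolayPt → ℤ) i % 4 = 2 with hO
  have hmemO : ∀ i, i ∈ O ↔ (y : GolayPt → ℤ) i ≠ 0 := by
    intro i
    rw [hO, Finset.mem_filter]
    have h3 := hy i
    simp only [Finset.mem_univ, true_and]
    omega
  have hMO : M ⊆ O := by
    intro i hi
    rw [hmemM] at hi
    rw [hmemO]
    rcases hzy i with h | h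
    · exact absurd h hi
    · exact h.1
  -- parity
  have hd : ((z - y : leechLattice) : GolayPt → ℤ) ∈ leechLattice := (z - y).2
  obtain ⟨m, hm, hsum, -⟩ := (mem_leechLattice_iff _).1 hd
  have hdv : ∀ i, ((z - y : leechLattice) : GolayPt → ℤ) i
      = (z : GolayPt → ℤ) i - (y : GolayPt → ℤ) i := fun i => rfl
  have hd8 : ∀ i, ((z - y : leechLattice) : GolayPt → ℤ) i % 8 = if i ∈ M then 4 else 0 := by
    intro i
    rw [hdv]
    have h3 := hy i
    by_cases hi : i ∈ M
    · rw [if_pos hi]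
      rw [hmemM] at hi
      rcases hzy i with h | h
      · exact absurd h hi
      · omega
    · rw [if_neg hi]
      rw [hmemM, not_not] at hi
      omega
  have hmeven : m % 2 = 0 := by
    have h1 := hm none
    have h2 := hd8 none
    simp only [Int.ModEq] at h1
    split_ifs at h2 <;> omega
  have hsum0 : (∑ i, ((z - y : leechLattice) : GolayPt → ℤ) i) % 8 = 0 := by
    simp only [Int.ModEq] at hsum
    omega
  have hMeven : M.card % 2 = 0 := even_of_sum_mod8 hd8 hsum0
  obtain ⟨c, hc, hcO⟩ := exists_code_inter hyO M hMO hMeven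
  have hcmem : ∀ i, (y : GolayPt → ℤ) i ≠ 0 → (i ∈ c ↔ i ∈ M) := by
    intro i hi
    have := Finset.ext_iff.1 hcO i
    rw [Finset.mem_inter] at this
    have hiO : i ∈ O := (hmemO i).2 hi
    tauto
  refine ⟨c, hc, ?_, ?_⟩
  · apply Subtype.ext
    rw [monoCo0_apply]
    funext i
    unfold signedPerm
    rw [← hzv]
    by_cases hyi : (y : GolayPt → ℤ) i = 0
    · have : (z : GolayPt → ℤ) i = 0 := by
        rcases hzy i with h | h
        · rw [h, hyi]
        · exact absurd hyi h.1
      rw [this, hyi]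
      simp
    · have h1 := hcmem i hyi
      by_cases hic : i ∈ c
      · rw [if_pos hic]
        have := (hmemM i).1 (h1.1 hic)
        rcases hzy i with h | h
        · exact absurd h this
        · rw [h.2, neg_neg]
      · rw [if_neg hic]
        have : ¬ i ∈ M := fun h => hic (h1.2 h)
        rw [hmemM, not_not] at this
        exact this
  · intro i hi
    rw [hcmem i hi, hmemM, hzv]

/-- `2` on the octad `octA` -/
def twoAfun : GolayPt → ℤ := fun i => if i ∈ octA then 2 else 0

theorem twoAfun_test : leechTest twoAfun := by decide +kernel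

/-- `2` on the octad `octA`, as a lattice vector -/
def twoA : leechLattice :=
  ⟨twoAfun, (mem_leechLattice_iff _).2 (mem_leechSet_of_test twoAfun_test)⟩

theorem twoAfun_filter : (Finset.univ.filter fun i => twoAfun i % 4 = 2) = octA := by decide

theorem twoAfun_vals (i : GolayPt) : twoAfun i = 0 ∨ twoAfun i = 2 ∨ twoAfun i = -2 := by
  unfold twoAfun; split_ifs <;> simp

/-- the monomial group is transitive on the minimal vectors of shape `(±2^8, 0^16)` -/
theorem srel_twoA_of_two (x : leechLattice) (hn : sqNorm (x : GolayPt → ℤ) = 32)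
    (hev : ∀ i, (x : GolayPt → ℤ) i % 2 = 0) (h2 : ∃ i, (x : GolayPt → ℤ) i % 4 = 2) :
    SRel NN x twoA := by
  classical
  obtain ⟨hvals, hO⟩ := min_shape_two x.2 hn hev h2
  obtain ⟨g, hg⟩ := exists_M24_smul_octad hO octA_mem
  rw [M24_smul_finset_def] at hg
  have hyO : (Finset.univ.filter fun i => (twoA : GolayPt → ℤ) i % 4 = 2) ∈ octads := by
    show (Finset.univ.filter fun i => twoAfun i % 4 = 2) ∈ octads
    rw [twoAfun_filter]; exact octA_mem
  have hsupp : ∀ i, (x : GolayPt → ℤ) ((g : Equiv.Perm GolayPt).symm i) = 0 ↔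
      (twoA : GolayPt → ℤ) i = 0 := by
    intro i
    have h1 : i ∈ octA ↔ (x : GolayPt → ℤ) ((g : Equiv.Perm GolayPt).symm i) % 4 = 2 := by
      rw [← hg, mem_perm_smul_iff, Finset.mem_filter]
      simp
    have h3 := hvals ((g : Equiv.Perm GolayPt).symm i)
    show _ ↔ twoAfun i = 0
    unfold twoAfun
    by_cases hi : i ∈ octA
    · rw [if_pos hi]
      have := h1.1 hi
      omega
    · rw [if_neg hi]
      have : ¬ (x : GolayPt → ℤ) ((g : Equiv.Perm GolayPt).symm i) % 4 = 2 := fun h => hi (h1.2 h)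
      omega
  obtain ⟨c, hc, hmove, -⟩ := exists_mono_of_two_shape x twoA hvals twoAfun_vals hyO g.1 g.2 hsupp
  exact ⟨monoCo0 g.1 g.2 c hc, monoCo0_mem_NN _ _ _ _, hmove⟩

/-! ### the stabiliser of `u = (4,4,0^22)` -/

theorem monoCo0_fix_U' (σ : Equiv.Perm GolayPt) (hσ : σ ∈ M24) (c : Finset GolayPt)
    (hc : c ∈ supports (golayCode : Set (GolayPt → ZMod 2)))
    (h : (σ none = none ∧ σ (some 0) = some 0) ∨ (σ none = some 0 ∧ σ (some 0) = none))
    (hc0 : none ∉ c) (hc1 : some 0 ∉ c) : monoCo0 σ hσ c hc • leechU = leechU := by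
  rcases h with ⟨h0, h1⟩ | ⟨h0, h1⟩
  · exact monoCo0_fix_U σ hσ c hc h0 h1 hc0 hc1
  · apply Subtype.ext
    rw [monoCo0_apply]
    show signedPerm σ c vecU = vecU
    rw [vecU_eq, signedPerm_add, signedPerm_single, signedPerm_single, h0, h1, if_neg hc0,
      if_neg hc1, add_comm]

theorem monoCo0_mem_NU (σ : Equiv.Perm GolayPt) (hσ : σ ∈ M24) (c : Finset GolayPt)
    (hc : c ∈ supports (golayCode : Set (GolayPt → ZMod 2)))
    (h : (σ none = none ∧ σ (some 0) = some 0) ∨ (σ none = some 0 ∧ σ (some 0) = none))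
    (hc0 : none ∉ c) (hc1 : some 0 ∉ c) : monoCo0 σ hσ c hc ∈ NU :=
  (mem_NU _).2 ⟨monoCo0_mem_NN _ _ _ _, monoCo0_fix_U' σ hσ c hc h hc0 hc1⟩

/-- `-2` at `∞, 0` and `2` on the remaining points of `octA` -/
def twoUfun : GolayPt → ℤ :=
  fun i => if i = none ∨ i = some 0 then -2 else if i ∈ octA then 2 else 0

theorem twoUfun_test : leechTest twoUfun := by decide +kernel

def twoU : leechLattice :=
  ⟨twoUfun, (mem_leechLattice_iff _).2 (mem_leechSet_of_test twoUfun_test)⟩

theorem twoUfun_filter : (Finset.univ.filter fun i => twoUfun i % 4 = 2) = octA := by decide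

theorem twoUfun_vals (i : GolayPt) : twoUfun i = 0 ∨ twoUfun i = 2 ∨ twoUfun i = -2 := by
  unfold twoUfun; split_ifs <;> simp

/-- `NU` is transitive on the vectors of shape `(±2^8, 0^16)` with `u · w = -16` -/
theorem srel_twoU (x : leechLattice) (hn : sqNorm (x : GolayPt → ℤ) = 32)
    (hev : ∀ i, (x : GolayPt → ℤ) i % 2 = 0) (h2 : ∃ i, (x : GolayPt → ℤ) i % 4 = 2)
    (hd : dotInt vecU (x : GolayPt → ℤ) = -16) : SRel NU x twoU := by
  classical
  obtain ⟨hvals, hO⟩ := min_shape_two x.2 hn hev h2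
  rw [dotInt_vecU] at hd
  have hx0 : (x : GolayPt → ℤ) none = -2 := by
    have h1 := hvals none; have h2 := hvals (some 0); omega
  have hx1 : (x : GolayPt → ℤ) (some 0) = -2 := by
    have h1 := hvals none; have h2 := hvals (some 0); omega
  set O : Finset GolayPt := Finset.univ.filter fun i => (x : GolayPt → ℤ) i % 4 = 2 with hOdef
  have hmemO : ∀ i, i ∈ O ↔ (x : GolayPt → ℤ) i % 4 = 2 := by
    intro i; rw [hOdef, Finset.mem_filter]; simp
  have hp : (none : GolayPt) ∈ O := by rw [hmemO, hx0]; norm_num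
  have hq : (some 0 : GolayPt) ∈ O := by rw [hmemO, hx1]; norm_num
  have hpq : (none : GolayPt) ≠ some 0 := by decide
  -- three more points
  have hqe : (some 0 : GolayPt) ∈ O.erase none := Finset.mem_erase.2 ⟨hpq.symm, hq⟩
  have hcard : 3 ≤ ((O.erase none).erase (some 0)).card := by
    rw [Finset.card_erase_of_mem hqe, Finset.card_erase_of_mem hp, hO.2]
    norm_num
  obtain ⟨t, ht, ht3⟩ := Finset.exists_subset_card_eq hcard
  obtain ⟨r, s, u, hrs, hru, hsu, rfl⟩ := Finset.card_eq_three.1 ht3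
  have hmem : ∀ z ∈ ({r, s, u} : Finset GolayPt), z ∈ O ∧ z ≠ none ∧ z ≠ some 0 := by
    intro z hz
    have := ht hz
    rw [Finset.mem_erase, Finset.mem_erase] at this
    exact ⟨this.2.2, this.2.1, this.1⟩
  obtain ⟨hrO, hrp, hrq⟩ := hmem r (by simp)
  obtain ⟨hsO, hsp, hsq⟩ := hmem s (by simp)
  obtain ⟨huO, hup, huq⟩ := hmem u (by simp)
  have hinjy : Function.Injective (![none, some 0, some 1, some 13, some 15] : Fin 5 → GolayPt) := by
    decide
  have hinjx : Function.Injective (![none, some 0, r, s, u] : Fin 5 → GolayPt) := by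
    intro a b hab
    fin_cases a <;> fin_cases b <;>
      simp_all [Ne.symm hrp, Ne.symm hrq, Ne.symm hsp, Ne.symm hsq, Ne.symm hup, Ne.symm huq,
        Ne.symm hrs, Ne.symm hru, Ne.symm hsu]
  obtain ⟨σ, hσ, hσxy⟩ := exists_M24_map_emb (k := 5) le_rfl ⟨_, hinjx⟩ ⟨_, hinjy⟩
  have h0 : σ none = none := hσxy 0
  have h1 : σ (some 0) = some 0 := hσxy 1
  have h2' : σ r = some 1 := hσxy 2
  have h3 : σ s = some 13 := hσxy 3
  have h4 : σ u = some 15 := hσxy 4
  have hA : σ • O = octA := by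
    apply octad_eq_of_five (smul_mem_octads hσ hO) octA_mem
    have hsub : ({none, some 0, some 1, some 13, some 15} : Finset GolayPt) ⊆ σ • O ∩ octA := by
      intro z hz
      simp only [Finset.mem_insert, Finset.mem_singleton] at hz
      rw [Finset.mem_inter]
      rcases hz with rfl | rfl | rfl | rfl | rfl
      · exact ⟨by rw [← h0]; exact Finset.smul_mem_smul_finset hp, by decide⟩
      · exact ⟨by rw [← h1]; exact Finset.smul_mem_smul_finset hq, by decide⟩
      · exact ⟨by rw [← h2']; exact Finset.smul_mem_smul_finset hrO, by decide⟩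
      · exact ⟨by rw [← h3]; exact Finset.smul_mem_smul_finset hsO, by decide⟩
      · exact ⟨by rw [← h4]; exact Finset.smul_mem_smul_finset huO, by decide⟩
    calc 5 = ({none, some 0, some 1, some 13, some 15} : Finset GolayPt).card := by decide
      _ ≤ _ := Finset.card_le_card hsub
  have hyO : (Finset.univ.filter fun i => (twoU : GolayPt → ℤ) i % 4 = 2) ∈ octads := by
    show (Finset.univ.filter fun i => twoUfun i % 4 = 2) ∈ octads
    rw [twoUfun_filter]; exact octA_mem
  have hsupp : ∀ i, (x : GolayPt → ℤ) (σ.symm i) = 0 ↔ (twoU : GolayPt → ℤ) i = 0 := by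
    intro i
    have h1 : i ∈ octA ↔ (x : GolayPt → ℤ) (σ.symm i) % 4 = 2 := by
      rw [← hA, mem_perm_smul_iff, hmemO]
    have h3 := hvals (σ.symm i)
    have h5 : i ∈ octA ↔ twoUfun i % 4 = 2 := by
      have := Finset.ext_iff.1 twoUfun_filter i
      rw [Finset.mem_filter] at this
      simp only [Finset.mem_univ, true_and] at this
      exact this.symm
    have h6 := twoUfun_vals i
    show _ ↔ twoUfun i = 0
    by_cases hi : i ∈ octA
    · have e1 := h1.1 hi
      have e2 := h5.1 hi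
      omega
    · have e1 : ¬ (x : GolayPt → ℤ) (σ.symm i) % 4 = 2 := fun h => hi (h1.2 h)
      have e2 : ¬ twoUfun i % 4 = 2 := fun h => hi (h5.2 h)
      omega
  obtain ⟨c, hc, hmove, hcmem⟩ :=
    exists_mono_of_two_shape x twoU hvals twoUfun_vals hyO σ hσ hsupp
  have hs0 : σ.symm none = none := by rw [Equiv.symm_apply_eq, h0]
  have hs1 : σ.symm (some 0) = some 0 := by rw [Equiv.symm_apply_eq, h1]
  have hc0 : (none : GolayPt) ∉ c := by
    have := hcmem none (by show twoUfun none ≠ 0; decide)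
    rw [this, hs0, hx0, not_not]
    show (-2 : ℤ) = twoUfun none
    decide
  have hc1 : (some 0 : GolayPt) ∉ c := by
    have := hcmem (some 0) (by show twoUfun (some 0) ≠ 0; decide)
    rw [this, hs1, hx1, not_not]
    show (-2 : ℤ) = twoUfun (some 0)
    decide
  exact ⟨monoCo0 σ hσ c hc, monoCo0_mem_NU σ hσ c hc (Or.inl ⟨h0, h1⟩) hc0 hc1, hmove⟩

/-- `(-4, 0, 4, 0^21)`: `-4` at `∞` and `4` at `1` -/
def fourU : leechLattice :=
  ⟨Pi.single none (-4) + Pi.single (some 1) 4, pm4_pair_mem _ _ (Or.inr rfl) (Or.inl rfl)⟩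

/-- normal form of a vector of shape `(±4, ±4, 0^22)` with `u · w = -16` -/
theorem fourU_normal_form {x : GolayPt → ℤ} (hn : sqNorm x = 32)
    (h4 : ∀ i, x i % 4 = 0) (hd : dotInt vecU x = -16) :
    ∃ a b l : GolayPt, ((a = none ∧ b = some 0) ∨ (a = some 0 ∧ b = none)) ∧
      l ≠ none ∧ l ≠ some 0 ∧ ∃ s : ℤ, (s = 4 ∨ s = -4) ∧
        x = Pi.single a (-4) + Pi.single l s := by
  classical
  obtain ⟨j, k, hjk, hj, hk, hother⟩ := min_shape_four hn h4
  rw [dotInt_vecU] at hd
  have hx := eq_pair_of_shape hjk hother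
  have h0 : (none : GolayPt) ≠ some 0 := by decide
  by_cases hjn : j = none
  · -- j = ∞
    have hk0 : k ≠ some 0 := by
      intro hk0
      rw [← hjn, ← hk0] at hd
      omega
    have hx0 : x (some 0) = 0 := hother _ (by rw [hjn]; exact h0.symm) (Ne.symm hk0)
    rw [← hjn, hx0] at hd
    have e : x j = -4 := by omega
    refine ⟨none, some 0, k, Or.inl ⟨rfl, rfl⟩, by rw [← hjn]; exact hjk.symm, hk0,
      x k, hk, ?_⟩
    rw [← hjn, ← e]
    exact hx
  · by_cases hkn : k = none
    · have hj0 : j ≠ some 0 := by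
        intro hj0
        rw [← hkn, ← hj0] at hd
        omega
      have hx0 : x (some 0) = 0 := hother _ (Ne.symm hj0) (by rw [hkn]; exact h0.symm)
      rw [← hkn, hx0] at hd
      have e : x k = -4 := by omega
      refine ⟨none, some 0, j, Or.inl ⟨rfl, rfl⟩, hjn, hj0, x j, hj, ?_⟩
      rw [← hkn, ← e, add_comm]
      exact hx
    · -- `∞ ∉ {j, k}`
      have hxn : x none = 0 := hother _ (Ne.symm hjn) (Ne.symm hkn)
      rw [hxn] at hd
      by_cases hj0 : j = some 0
      · rw [← hj0] at hd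
        have e : x j = -4 := by omega
        refine ⟨some 0, none, k, Or.inr ⟨rfl, rfl⟩, hkn, by rw [← hj0]; exact hjk.symm,
          x k, hk, ?_⟩
        rw [← hj0, ← e]
        exact hx
      · by_cases hk0 : k = some 0
        · rw [← hk0] at hd
          have e : x k = -4 := by omega
          refine ⟨some 0, none, j, Or.inr ⟨rfl, rfl⟩, hjn, hj0, x j, hj, ?_⟩
          rw [← hk0, ← e, add_comm]
          exact hx
        · exfalso
          have := hother (some 0) (Ne.symm hj0) (Ne.symm hk0)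
          omega

/-- `NU` is transitive on the vectors of shape `(±4, ±4, 0^22)` with `u · w = -16` -/
theorem srel_fourU (x : leechLattice) (hn : sqNorm (x : GolayPt → ℤ) = 32)
    (h4 : ∀ i, (x : GolayPt → ℤ) i % 4 = 0)
    (hd : dotInt vecU (x : GolayPt → ℤ) = -16) : SRel NU x fourU := by
  classical
  obtain ⟨a, b, l, hab, hln, hl0, s, hs, hxs⟩ := fourU_normal_form hn h4 hd
  have hab' : a ≠ b := by rcases hab with ⟨rfl, rfl⟩ | ⟨rfl, rfl⟩ <;> decide
  have hal : a ≠ l := by rcases hab with ⟨rfl, -⟩ | ⟨rfl, -⟩ <;> [exact hln.symm; exact hl0.symm]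
  have hbl : b ≠ l := by rcases hab with ⟨-, rfl⟩ | ⟨-, rfl⟩ <;> [exact hl0.symm; exact hln.symm]
  have hinjx : Function.Injective (![a, b, l] : Fin 3 → GolayPt) := by
    intro p q hpq
    fin_cases p <;> fin_cases q
    · rfl
    · exact absurd (show a = b from hpq) hab'
    · exact absurd (show a = l from hpq) hal
    · exact absurd (show b = a from hpq) hab'.symm
    · rfl
    · exact absurd (show b = l from hpq) hbl
    · exact absurd (show l = a from hpq) hal.symm
    · exact absurd (show l = b from hpq) hbl.symm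
    · rfl
  have hinjy : Function.Injective (![none, some 0, some 1] : Fin 3 → GolayPt) := by decide
  obtain ⟨σ, hσ, hσxy⟩ := exists_M24_map_emb (k := 3) (by norm_num) ⟨_, hinjx⟩ ⟨_, hinjy⟩
  have h0 : σ a = none := hσxy 0
  have h1 : σ b = some 0 := hσxy 1
  have h2 : σ l = some 1 := hσxy 2
  obtain ⟨c, hc, hcn, hc0, hc1⟩ : ∃ c ∈ supports (golayCode : Set (GolayPt → ZMod 2)),
      none ∉ c ∧ some 0 ∉ c ∧ (some 1 ∈ c ↔ s = -4) := by
    by_cases hss : s = -4
    · obtain ⟨C, hC, e1, e2, e3⟩ := exists_separating3 (some 1) (by decide) (by decide)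
      exact ⟨C, hC, e2, e3, by simp [e1, hss]⟩
    · exact ⟨∅, Cfsg.Spor.empty_mem_supports_golayCode, by simp, by simp, by simp [hss]⟩
  have hσU : (σ none = none ∧ σ (some 0) = some 0) ∨ (σ none = some 0 ∧ σ (some 0) = none) := by
    rcases hab with ⟨rfl, rfl⟩ | ⟨rfl, rfl⟩
    · exact Or.inl ⟨h0, h1⟩
    · exact Or.inr ⟨h1, h0⟩
  refine ⟨monoCo0 σ hσ c hc, monoCo0_mem_NU σ hσ c hc hσU hcn hc0, ?_⟩
  apply Subtype.ext
  rw [monoCo0_apply, hxs]
  show _ = (Pi.single none (-4) + Pi.single (some 1) 4 : GolayPt → ℤ)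
  rw [signedPerm_add, signedPerm_single, signedPerm_single, h0, h2, if_neg hcn]
  congr 2
  by_cases hss : s = -4
  · rw [if_pos (hc1.2 hss), hss]; norm_num
  · rw [if_neg (fun h => hss (hc1.1 h))]
    rcases hs with h | h
    · exact h
    · exact absurd h hss

/-- the squares modulo 23 (with `0`), a dodecad through `0` avoiding `∞` -/
def sqC : Finset GolayPt :=
  {some 0, some 1, some 2, some 3, some 4, some 6, some 8, some 9, some 12, some 13, some 16,
    some 18}

theorem sqC_mem : sqC ∈ supports (golayCode : Set (GolayPt → ZMod 2)) := by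
  rw [Cfsg.Agent.Lib.Helper26.mem_supports_golayCode_iff]
  decide +kernel

/-- `(-3, -1, …)`: `-3` at `∞`, `-1` on `sqC`, `1` elsewhere -/
def oddUfun : GolayPt → ℤ := fun i => if i = none then -3 else if i ∈ sqC then -1 else 1

theorem oddUfun_test : leechTest oddUfun := by decide +kernel

def oddU : leechLattice :=
  ⟨oddUfun, (mem_leechLattice_iff _).2 (mem_leechSet_of_test oddUfun_test)⟩

theorem signedPerm_one (c : Finset GolayPt) (x : GolayPt → ℤ) (i : GolayPt) :
    signedPerm 1 c x i = if i ∈ c then -x i else x i := rfl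

/-- `NU` is transitive on the odd minimal vectors with `u · w = -16` -/
theorem srel_oddU (x : leechLattice) (hn : sqNorm (x : GolayPt → ℤ) = 32)
    (hodd : ∀ i, (x : GolayPt → ℤ) i % 2 = 1)
    (hd : dotInt vecU (x : GolayPt → ℤ) = -16) : SRel NU x oddU := by
  classical
  -- first the case where the `-3` sits at `∞`
  have main : ∀ y : leechLattice, sqNorm (y : GolayPt → ℤ) = 32 →
      (∀ i, (y : GolayPt → ℤ) i % 2 = 1) → (y : GolayPt → ℤ) none = -3 →
      (y : GolayPt → ℤ) (some 0) = -1 → SRel NU y oddU := by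
    intro y hyn hyodd hy0 hy1
    obtain ⟨i0, hi0, hrest⟩ := Cfsg.Agent.S0400.odd_shape hyodd hyn
    have hi0n : i0 = none := by
      by_contra hne
      have := hrest none (Ne.symm hne)
      rw [hy0] at this
      norm_num at this
    subst hi0n
    set C : Finset GolayPt := Finset.univ.filter fun i => (y : GolayPt → ℤ) i % 4 = 3 with hC
    have hCs : C ∈ supports (golayCode : Set (GolayPt → ZMod 2)) := filter_three_mem y.2
    have hmemC : ∀ j, j ∈ C ↔ (y : GolayPt → ℤ) j % 4 = 3 := by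
      intro j; rw [hC, Finset.mem_filter]; simp
    have hDs := symmDiff_mem_supports hCs sqC_mem
    have hmemD : ∀ j, j ∈ symmDiff C sqC ↔ ¬ ((y : GolayPt → ℤ) j % 4 = 3 ↔ j ∈ sqC) := by
      intro j
      rw [Finset.mem_symmDiff, hmemC]
      tauto
    have hDn : (none : GolayPt) ∉ symmDiff C sqC := by
      rw [hmemD, hy0, not_not]
      have : (none : GolayPt) ∉ sqC := by decide
      simp [this]
    have hD0 : (some 0 : GolayPt) ∉ symmDiff C sqC := by
      rw [hmemD, hy1, not_not]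
      have : (some 0 : GolayPt) ∈ sqC := by decide
      simp [this]
    refine ⟨monoCo0 1 (Subgroup.one_mem M24) _ hDs,
      monoCo0_mem_NU 1 _ _ hDs (Or.inl ⟨rfl, rfl⟩) hDn hD0, ?_⟩
    apply Subtype.ext
    rw [monoCo0_apply]
    funext i
    rw [signedPerm_one]
    show _ = oddUfun i
    unfold oddUfun
    have hD := hmemD i
    by_cases hi : i = none
    · subst hi
      rw [if_neg hDn, if_pos rfl, hy0]
    · rw [if_neg hi]
      rcases val_of_sq_one'' (hrest i hi) with h | h
      · rw [h] at hD ⊢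
        by_cases hs : i ∈ sqC
        · have : i ∈ symmDiff C sqC := hD.2 (by simp [hs])
          rw [if_pos this, if_pos hs]
        · have : i ∉ symmDiff C sqC := fun hh => (hD.1 hh) (by simp [hs])
          rw [if_neg this, if_neg hs]
      · rw [h] at hD ⊢
        by_cases hs : i ∈ sqC
        · have : i ∉ symmDiff C sqC := fun hh => (hD.1 hh) (by simp [hs])
          rw [if_neg this, if_pos hs]
        · have : i ∈ symmDiff C sqC := hD.2 (by simp [hs])
          rw [if_pos this, if_neg hs]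
          norm_num
  rw [dotInt_vecU] at hd
  obtain ⟨i0, hi0, hrest⟩ := Cfsg.Agent.S0400.odd_shape hodd hn
  have hvals : ∀ i, (x : GolayPt → ℤ) i = 1 ∨ (x : GolayPt → ℤ) i = -1 ∨
      (x : GolayPt → ℤ) i = 3 ∨ (x : GolayPt → ℤ) i = -3 := by
    intro i
    by_cases hi : i = i0
    · rw [hi]; rcases val_of_sq_nine'' hi0 with h | h <;> simp [h]
    · rcases val_of_sq_one'' (hrest i hi) with h | h <;> simp [h]
  have hcases : ((x : GolayPt → ℤ) none = -3 ∧ (x : GolayPt → ℤ) (some 0) = -1) ∨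
      ((x : GolayPt → ℤ) none = -1 ∧ (x : GolayPt → ℤ) (some 0) = -3) := by
    have h1 := hvals none
    have h2 := hvals (some 0)
    omega
  rcases hcases with ⟨h0, h1⟩ | ⟨h0, h1⟩
  · exact main x hn hodd h0 h1
  · -- swap `∞` and `0`
    have hinj1 : Function.Injective (![none, some 0] : Fin 2 → GolayPt) := by decide
    have hinj2 : Function.Injective (![some 0, none] : Fin 2 → GolayPt) := by decide
    obtain ⟨τ, hτM, hτ⟩ := exists_M24_map_emb (k := 2) (by norm_num) ⟨_, hinj1⟩ ⟨_, hinj2⟩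
    have hτ0 : τ none = some 0 := hτ 0
    have hτ1 : τ (some 0) = none := hτ 1
    have hg : monoCo0 τ hτM ∅ Cfsg.Spor.empty_mem_supports_golayCode ∈ NU :=
      monoCo0_mem_NU τ hτM ∅ _ (Or.inr ⟨hτ0, hτ1⟩) (by simp) (by simp)
    set y : leechLattice := monoCo0 τ hτM ∅ Cfsg.Spor.empty_mem_supports_golayCode • x with hy
    have hyv : ∀ i, (y : GolayPt → ℤ) i = (x : GolayPt → ℤ) (τ.symm i) := by
      intro i
      rw [hy, monoCo0_apply, signedPerm_empty]
    have hs0 : τ.symm none = some 0 := by rw [Equiv.symm_apply_eq, hτ1]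
    have hs1 : τ.symm (some 0) = none := by rw [Equiv.symm_apply_eq, hτ0]
    have hrel : SRel NU x y := ⟨_, hg, rfl⟩
    refine hrel.trans (main y ?_ ?_ ?_ ?_)
    · rw [hy, co0_sqNorm, hn]
    · intro i; rw [hyv]; exact hodd _
    · rw [hyv, hs0, h1]
    · rw [hyv, hs1, h0]

end Cfsg.Agent.Lib.Helper8
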