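import Mathlib
import Cfsg.Agent.Lib.Helper8.Census
import Cfsg.Agent.Lib.Helper8.LeechCount
import Cfsg.Agent.Lib.Helper8.NOrbits
import Cfsg.Agent.S0394

/-!
# Counting minimal vectors by shape

* `card_filter_T1 = 1104`, `card_filter_T3 = 98304`: minimal vectors with all coordinates
  `≡ 0 mod 4`, resp. odd.
* `card_filter_dot_T1 = 88`, `card_filter_dot_T3 = 2048`: the same with `u · w = -16` for
  `u = (4,4,0^22)`.
-/

set_option autoImplicit false

namespace Cfsg.Agent.Lib.Helper8
open Cfsg Cfsg.Agent.Lib.Helper7 Cfsg.Spor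

/-- all coordinates `≡ 0 mod 4` -/
def T1 (x : GolayPt → ℤ) : Prop := ∀ i, x i % 4 = 0

/-- all coordinates odd -/
def T3 (x : GolayPt → ℤ) : Prop := ∀ i, x i % 2 = 1

theorem not_T1_and_T3 {x : GolayPt → ℤ} (h1 : T1 x) (h3 : T3 x) : False := by
  have a := h1 none
  have b := h3 none
  omega

theorem mem_normF_32_iff (x : GolayPt → ℤ) :
    x ∈ normF 32 ↔ ∃ odd : Bool, ∃ w ∈ codeF, x ∈ TS odd w 32 := by
  rw [mem_normF (by norm_num)]
  simp only [TS, Finset.mem_filter, mem_TF, mem_leechLattice_iff, mem_codeF]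
  constructor
  · rintro ⟨hx, hnorm⟩
    obtain ⟨odd, w, hw, h4, hs⟩ := leechSet_structure hx
    have hnorm' : sqNorm x = ((32 : ℕ) : ℤ) := by exact_mod_cast hnorm
    refine ⟨odd, w, hw, ⟨fun i => ⟨(coord_bound hnorm' (by norm_num) i).1,
      (coord_bound hnorm' (by norm_num) i).2, h4 i⟩, (sqNorm_eq_iff x 32).1 hnorm'⟩, hs⟩
  · rintro ⟨odd, w, hw, ⟨h4, hnorm⟩, hs⟩
    refine ⟨mem_leechSet_of_structure odd w hw (fun i => (h4 i).2.2) hs, ?_⟩
    have := (sqNorm_eq_iff x 32).2 hnorm
    exact_mod_cast this

theorem res_false_zero (i : GolayPt) : res false (0 : GolayPt → ZMod 2) i = 0 := by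
  simp [res]

open Classical in
theorem filter_T1_eq : (normF 32).filter T1 = TS false 0 32 := by
  ext x
  rw [Finset.mem_filter, mem_normF_32_iff]
  constructor
  · rintro ⟨⟨odd, w, hw, hx⟩, h4⟩
    have hx' := hx
    rw [TS, Finset.mem_filter, mem_TF] at hx'
    have hres : ∀ i, x i % 4 = res odd w i := fun i => (hx'.1.1 i).2.2
    have hres0 : ∀ i, x i % 4 = res false 0 i := fun i => by rw [res_false_zero]; exact h4 i
    obtain ⟨e1, e2⟩ := res_unique hres hres0
    rw [e1, e2] at hx
    exact hx
  · intro hx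
    refine ⟨⟨false, 0, mem_codeF.2 golayCode.zero_mem, hx⟩, fun i => ?_⟩
    rw [TS, Finset.mem_filter, mem_TF] at hx
    have := (hx.1.1 i).2.2
    rwa [res_false_zero] at this

open Classical in
theorem card_filter_T1 : ((normF 32).filter T1).card = 1104 := by
  rw [filter_T1_eq, TS_even_zero, if_pos (by norm_num), card_TF_even, support₂_zero_card,
    Cfsg.Agent.S0394.gE_0_val]

theorem res_true_odd (w : GolayPt → ZMod 2) (i : GolayPt) :
    res true w i = 1 ∨ res true w i = 3 := by
  simp only [res, if_true]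
  split_ifs <;> simp

theorem res_false_even (w : GolayPt → ZMod 2) (i : GolayPt) :
    res false w i = 0 ∨ res false w i = 2 := by
  simp only [res, Bool.false_eq_true, if_false]
  split_ifs <;> simp

open Classical in
theorem filter_T3_eq : (normF 32).filter T3 = codeF.biUnion fun w => TS true w 32 := by
  ext x
  rw [Finset.mem_filter, mem_normF_32_iff, Finset.mem_biUnion]
  constructor
  · rintro ⟨⟨odd, w, hw, hx⟩, h3⟩
    have hx' := hx
    rw [TS, Finset.mem_filter, mem_TF] at hx'
    have hres : x none % 4 = res odd w none := (hx'.1.1 none).2.2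
    cases odd with
    | true => exact ⟨w, hw, hx⟩
    | false =>
      exfalso
      have := h3 none
      rcases res_false_even w none with h | h <;> rw [h] at hres <;> omega
  · rintro ⟨w, hw, hx⟩
    refine ⟨⟨true, w, hw, hx⟩, fun i => ?_⟩
    rw [TS, Finset.mem_filter, mem_TF] at hx
    have hres : x i % 4 = res true w i := (hx.1.1 i).2.2
    rcases res_true_odd w i with h | h <;> rw [h] at hres <;> omega

open Classical in
theorem card_filter_T3 : ((normF 32).filter T3).card = 98304 := by
  rw [filter_T3_eq, Finset.card_biUnion]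
  · rw [Finset.sum_congr rfl (g := fun _ => 24)]
    · rw [Finset.sum_const, card_codeF]; rfl
    · intro w hw
      rw [TS_odd_eq (mem_codeF.1 hw) 32 (by norm_num), card_TF_odd, Cfsg.Agent.S0394.gO_val]
  · intro w _ w' _ hne
    rw [Function.onFun, Finset.disjoint_left]
    intro x hx hx'
    apply hne
    simp only [TS, Finset.mem_filter, mem_TF] at hx hx'
    exact (res_unique (fun i => (hx.1.1 i).2.2) (fun i => (hx'.1.1 i).2.2)).2

/-! ### shape `(±4, ±4, 0^22)` with `u · w = -16` -/

/-- `-4 e_a + s e_k` with `a ∈ {∞, 0}` -/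
def phi1 (q : Bool × GolayPt × Bool) : GolayPt → ℤ :=
  Pi.single (if q.1 then none else some 0) (-4) + Pi.single q.2.1 (if q.2.2 then 4 else -4)

def D1 : Finset (Bool × GolayPt × Bool) :=
  Finset.univ ×ˢ ((Finset.univ.filter fun k : GolayPt => k ≠ none ∧ k ≠ some 0) ×ˢ Finset.univ)

theorem card_D1 : D1.card = 88 := by decide

theorem mem_D1 (q : Bool × GolayPt × Bool) : q ∈ D1 ↔ q.2.1 ≠ none ∧ q.2.1 ≠ some 0 := by
  simp [D1]

theorem phi1_injOn : Set.InjOn phi1 ↑D1 := by
  rintro ⟨a, k, s⟩ hq ⟨a', k', s'⟩ hq' h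
  rw [Finset.mem_coe, mem_D1] at hq hq'
  simp only at hq hq'
  obtain ⟨hk1, hk2⟩ := hq
  obtain ⟨hk1', hk2'⟩ := hq'
  have e0 := congrFun h none
  have ek := congrFun h k
  have ha : a = a' := by
    simp only [phi1, Pi.add_apply, Pi.single_apply] at e0
    rw [if_neg (Ne.symm hk1), if_neg (Ne.symm hk1')] at e0
    cases a <;> cases a' <;> simp at e0 ⊢
  subst ha
  have hka : k ≠ (if a then none else some 0) := by cases a <;> simp [hk1, hk2]
  simp only [phi1, Pi.add_apply, Pi.single_eq_same, Pi.single_eq_of_ne hka, zero_add] at ek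
  have hkk : k = k' := by
    by_contra hne
    rw [Pi.single_eq_of_ne hne] at ek
    cases s <;> simp at ek
  subst hkk
  rw [Pi.single_eq_same] at ek
  have hs : s = s' := by
    cases s <;> cases s' <;> simp at ek ⊢
  rw [hs]

open Classical in
theorem filter_dot_T1_eq :
    (normF 32).filter (fun x => dotInt vecU x = -16 ∧ T1 x) = D1.image phi1 := by
  ext x
  rw [Finset.mem_filter, Finset.mem_image, mem_normF (by norm_num)]
  constructor
  · rintro ⟨⟨-, hn⟩, hd, h4⟩
    obtain ⟨a, b, l, hab, hln, hl0, s, hs, hxs⟩ := fourU_normal_form hn h4 hd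
    refine ⟨(decide (a = none), l, decide (s = 4)), (mem_D1 _).2 ⟨hln, hl0⟩, ?_⟩
    rw [hxs]
    unfold phi1
    simp only
    congr 2
    · rcases hab with ⟨rfl, -⟩ | ⟨rfl, -⟩ <;> simp
    · rcases hs with rfl | rfl <;> simp
  · rintro ⟨⟨a, k, s⟩, hq, rfl⟩
    rw [mem_D1] at hq
    simp only at hq
    obtain ⟨hk1, hk2⟩ := hq
    have hka : (if a then none else some 0 : GolayPt) ≠ k := by cases a <;> simp [Ne.symm hk1, Ne.symm hk2]
    have hs : (if s then (4 : ℤ) else -4) = 4 ∨ (if s then (4 : ℤ) else -4) = -4 := by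
      cases s <;> simp
    refine ⟨⟨pm4_pair_mem _ _ (Or.inr rfl) hs, sqNorm_pm4_pair hka (Or.inr rfl) hs⟩, ?_, ?_⟩
    · rw [dotInt_vecU]
      unfold phi1
      simp only [Pi.add_apply, Pi.single_apply]
      cases a <;> simp [Ne.symm hk1, Ne.symm hk2]
    · intro i
      unfold phi1
      simp only [Pi.add_apply, Pi.single_apply]
      cases a <;> cases s <;> simp <;> split_ifs <;> omega

open Classical in
theorem card_filter_dot_T1 :
    ((normF 32).filter (fun x => dotInt vecU x = -16 ∧ T1 x)).card = 88 := by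
  rw [filter_dot_T1_eq, Finset.card_image_of_injOn phi1_injOn, card_D1]

/-! ### odd shape with `u · w = -16` -/

/-- the position of the `-3` -/
def aW (w : GolayPt → ZMod 2) : GolayPt := if w none = 1 then none else some 0

/-- the odd minimal vector with residue word `w` and `-3` at `aW w` -/
def psi3 (w : GolayPt → ZMod 2) : GolayPt → ℤ :=
  fun i => if i = aW w then -3 else if w i = 1 then 1 else -1

open Classical in
/-- code words separating `∞` and `0` -/
noncomputable def A3 : Finset (GolayPt → ZMod 2) := codeF.filter fun w => w none ≠ w (some 0)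

theorem zmod2_ne_iff (a b : ZMod 2) : a ≠ b ↔ a = b + 1 := by
  revert a b; decide

theorem zmod2_add_add (a b : ZMod 2) : a + b + b = a := by
  revert a b; decide

theorem qr0_none : qrWord 0 none = 0 := rfl

theorem qr0_zero : qrWord 0 (some 0) = 1 := by decide

theorem qr0_mem : qrWord 0 ∈ golayCode := Submodule.subset_span (Or.inl ⟨0, rfl⟩)

open Classical in
theorem card_A3 : A3.card = 2048 := by
  have hbij : A3.card = (codeF.filter fun w => ¬ (w none ≠ w (some 0))).card := by
    unfold A3
    refine Finset.card_nbij' (fun w => w + qrWord 0) (fun w => w + qrWord 0) ?_ ?_ ?_ ?_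
    · intro w hw
      rw [Finset.mem_coe, Finset.mem_filter, mem_codeF] at hw ⊢
      refine ⟨golayCode.add_mem hw.1 qr0_mem, ?_⟩
      rw [not_not]
      show w none + qrWord 0 none = w (some 0) + qrWord 0 (some 0)
      rw [qr0_none, qr0_zero, add_zero]
      exact (zmod2_ne_iff _ _).1 hw.2
    · intro w hw
      rw [Finset.mem_coe, Finset.mem_filter, mem_codeF] at hw ⊢
      refine ⟨golayCode.add_mem hw.1 qr0_mem, ?_⟩
      rw [not_not] at hw
      show w none + qrWord 0 none ≠ w (some 0) + qrWord 0 (some 0)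
      rw [qr0_none, qr0_zero, add_zero, hw.2, zmod2_ne_iff, zmod2_add_add]
    · intro w _
      funext i
      simp only [Pi.add_apply]
      exact zmod2_add_add _ _
    · intro w _
      funext i
      simp only [Pi.add_apply]
      exact zmod2_add_add _ _
  have hsum := Finset.card_filter_add_card_filter_not (s := codeF)
    (fun w : GolayPt → ZMod 2 => w none ≠ w (some 0))
  rw [card_codeF] at hsum
  unfold A3 at hbij ⊢
  omega

theorem zmod2_eq_one_of_ne {a b : ZMod 2} (h : a ≠ b) (ha : a ≠ 1) : b = 1 := by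
  revert a b; decide

theorem w_aW {w : GolayPt → ZMod 2} (h : w none ≠ w (some 0)) : w (aW w) = 1 := by
  unfold aW
  by_cases h1 : w none = 1
  · rw [if_pos h1]; exact h1
  · rw [if_neg h1]; exact zmod2_eq_one_of_ne h h1

theorem psi3_mod4 {w : GolayPt → ZMod 2} (h : w none ≠ w (some 0)) (i : GolayPt) :
    psi3 w i % 4 = res true w i := by
  unfold psi3
  simp only [res, if_true]
  by_cases hi : i = aW w
  · rw [if_pos hi, hi, if_pos (w_aW h)]; rfl
  · rw [if_neg hi]
    by_cases hw : w i = 1
    · rw [if_pos hw, if_pos hw]; rfl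
    · rw [if_neg hw, if_neg hw]; rfl

theorem psi3_natAbs (w : GolayPt → ZMod 2) (i : GolayPt) :
    (psi3 w i).natAbs ^ 2 = 1 + if i = aW w then 8 else 0 := by
  unfold psi3
  by_cases hi : i = aW w
  · rw [if_pos hi, if_pos hi]; rfl
  · rw [if_neg hi, if_neg hi]
    split_ifs <;> rfl

theorem psi3_mem_TS {w : GolayPt → ZMod 2} (hw : w ∈ golayCode) (h : w none ≠ w (some 0)) :
    psi3 w ∈ TS true w 32 := by
  rw [TS_odd_eq hw 32 (by norm_num), mem_TF]
  refine ⟨fun i => ⟨?_, ?_, psi3_mod4 h i⟩, ?_⟩
  · unfold psi3; split_ifs <;> norm_num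
  · unfold psi3; split_ifs <;> norm_num
  · rw [Finset.sum_congr rfl (fun i _ => psi3_natAbs w i), Finset.sum_add_distrib,
      Finset.sum_const, Finset.sum_ite_eq' Finset.univ (aW w), if_pos (Finset.mem_univ _),
      Finset.card_univ, card_golayPt']
    rfl

theorem psi3_dot {w : GolayPt → ZMod 2} (h : w none ≠ w (some 0)) :
    dotInt vecU (psi3 w) = -16 := by
  rw [dotInt_vecU]
  unfold psi3 aW
  by_cases h1 : w none = 1
  · have h2 : ¬ w (some 0) = 1 := fun h2 => h (h1.trans h2.symm)
    simp [h1, h2]
  · have h2 : w (some 0) = 1 := zmod2_eq_one_of_ne h h1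
    simp [h1, h2]

theorem psi3_odd (w : GolayPt → ZMod 2) : T3 (psi3 w) := by
  intro i
  unfold psi3
  split_ifs <;> rfl

theorem psi3_injOn : Set.InjOn psi3 ↑A3 := by
  classical
  intro w hw w' hw' h
  rw [Finset.mem_coe, A3, Finset.mem_filter] at hw hw'
  have key : ∀ v : GolayPt → ZMod 2, v none ≠ v (some 0) → ∀ i, (v i = 1 ↔ psi3 v i % 4 = 1) := by
    intro v hv i
    rw [psi3_mod4 hv]
    simp only [res, if_true]
    by_cases hvi : v i = 1
    · simp [hvi]
    · simp [hvi]
  funext i
  have e1 := key w hw.2 i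
  have e2 := key w' hw'.2 i
  rw [h] at e1
  have : w i = 1 ↔ w' i = 1 := e1.trans e2.symm
  generalize w i = a at this
  generalize w' i = b at this
  revert a b
  decide

open Classical in
theorem filter_dot_T3_eq :
    (normF 32).filter (fun x => dotInt vecU x = -16 ∧ T3 x) = A3.image psi3 := by
  ext x
  rw [Finset.mem_filter, Finset.mem_image]
  constructor
  · rintro ⟨hx, hd, h3⟩
    have hxn := hx
    rw [mem_normF (by norm_num)] at hxn
    rw [mem_normF_32_iff] at hx
    obtain ⟨odd, w, hw, hxT⟩ := hx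
    have hxT' := hxT
    rw [TS, Finset.mem_filter, mem_TF] at hxT'
    have hres : ∀ i, x i % 4 = res odd w i := fun i => (hxT'.1.1 i).2.2
    have hodd : odd = true := by
      cases odd with
      | true => rfl
      | false =>
        exfalso
        have := h3 none
        have e := hres none
        rcases res_false_even w none with h | h <;> rw [h] at e <;> omega
    subst hodd
    have hw1 : ∀ i, w i = 1 ↔ x i % 4 = 1 := by
      intro i
      have := hres i
      simp only [res, if_true] at this
      by_cases hwi : w i = 1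
      · rw [if_pos hwi] at this; simp [hwi, this]
      · rw [if_neg hwi] at this; simp [hwi, this]
    obtain ⟨i0, hi0, hrest⟩ := Cfsg.Agent.S0400.odd_shape h3 hxn.2
    have hvals : ∀ i, x i = 1 ∨ x i = -1 ∨ x i = 3 ∨ x i = -3 := by
      intro i
      by_cases hi : i = i0
      · rw [hi]; rcases val_of_sq_nine'' hi0 with h | h <;> simp [h]
      · rcases val_of_sq_one'' (hrest i hi) with h | h <;> simp [h]
    rw [dotInt_vecU] at hd
    have hcases : (x none = -3 ∧ x (some 0) = -1) ∨ (x none = -1 ∧ x (some 0) = -3) := by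
      have h1 := hvals none
      have h2 := hvals (some 0)
      omega
    have hwmem : w ∈ codeF := hw
    rcases hcases with ⟨h0, h1⟩ | ⟨h0, h1⟩
    · have hi0n : i0 = none := by
        by_contra hne
        have := hrest none (Ne.symm hne)
        rw [h0] at this
        norm_num at this
      have hwn : w none = 1 := (hw1 none).2 (by rw [h0]; rfl)
      have hw0 : ¬ w (some 0) = 1 := fun h => by
        have := (hw1 (some 0)).1 h
        rw [h1] at this
        norm_num at this
      have hne : w none ≠ w (some 0) := fun h => hw0 (h ▸ hwn)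
      refine ⟨w, by rw [A3, Finset.mem_filter]; exact ⟨hwmem, hne⟩, ?_⟩
      funext i
      unfold psi3 aW
      rw [if_pos hwn]
      by_cases hi : i = none
      · rw [if_pos hi, hi, h0]
      · rw [if_neg hi]
        have hxi := hrest i (by rw [hi0n]; exact hi)
        have e := hw1 i
        rcases val_of_sq_one'' hxi with h | h
        · rw [h] at e ⊢
          rw [if_pos (e.2 rfl)]
        · rw [h] at e ⊢
          rw [if_neg (fun hh => by have := e.1 hh; norm_num at this)]
    · have hi0n : i0 = some 0 := by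
        by_contra hne
        have := hrest (some 0) (Ne.symm hne)
        rw [h1] at this
        norm_num at this
      have hw0 : w (some 0) = 1 := (hw1 (some 0)).2 (by rw [h1]; rfl)
      have hwn : ¬ w none = 1 := fun h => by
        have := (hw1 none).1 h
        rw [h0] at this
        norm_num at this
      have hne : w none ≠ w (some 0) := fun h => hwn (h ▸ hw0)
      refine ⟨w, by rw [A3, Finset.mem_filter]; exact ⟨hwmem, hne⟩, ?_⟩
      funext i
      unfold psi3 aW
      rw [if_neg hwn]
      by_cases hi : i = some 0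
      · rw [if_pos hi, hi, h1]
      · rw [if_neg hi]
        have hxi := hrest i (by rw [hi0n]; exact hi)
        have e := hw1 i
        rcases val_of_sq_one'' hxi with h | h
        · rw [h] at e ⊢
          rw [if_pos (e.2 rfl)]
        · rw [h] at e ⊢
          rw [if_neg (fun hh => by have := e.1 hh; norm_num at this)]
  · rintro ⟨w, hw, rfl⟩
    rw [A3, Finset.mem_filter] at hw
    exact ⟨(mem_normF_32_iff _).2 ⟨true, w, hw.1, psi3_mem_TS (mem_codeF.1 hw.1) hw.2⟩,
      psi3_dot hw.2, psi3_odd w⟩

open Classical in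
theorem card_filter_dot_T3 :
    ((normF 32).filter (fun x => dotInt vecU x = -16 ∧ T3 x)).card = 2048 := by
  rw [filter_dot_T3_eq, Finset.card_image_of_injOn psi3_injOn, card_A3]

end Cfsg.Agent.Lib.Helper8
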