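import Mathlib
import Cfsg.Agent.Lib.Helper8.NCounts
import Cfsg.Agent.Lib.Helper8.Type4

/-!
# The monomial group `N = 2^12 : M24` is a maximal subgroup of `Co0`

Let `N < K ≤ Co0`.
* If `K` preserved the set of minimal vectors of shape `(±4,±4,0^22)` it would preserve the standard
  cross (`le_NN_of_pres_T1`); hence the `K`-orbit of `u = (4,4,0^22)` contains one of the other two
  `N`-orbits of minimal vectors, and by divisibility `K` is transitive on the minimal vectors.
* The same argument for the stabiliser of `u` in `K` acting on the 4600 minimal vectors `w` with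
  `u · w = -16`.
* `|N|` divides `|K| = 196560 · 4600 · |K_{u,w}|` and `|Co0 : K| ≡ 1 (mod 23)`, which forces
  `K = Co0`.
-/

set_option autoImplicit false

namespace Cfsg.Agent.Lib.Helper8
open Cfsg Cfsg.Agent.Lib.Helper7 Cfsg.Spor Cfsg.Agent.S0397
open scoped Pointwise

/-! ### finsets of minimal lattice vectors -/

open Classical in
/-- the minimal lattice vectors satisfying `P` -/
noncomputable def LF (P : (GolayPt → ℤ) → Prop) : Finset leechLattice :=
  ((normF 32).filter P).subtype (· ∈ leechLattice)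

theorem mem_LF {P : (GolayPt → ℤ) → Prop} (v : leechLattice) :
    v ∈ LF P ↔ sqNorm (v : GolayPt → ℤ) = 32 ∧ P v := by
  classical
  unfold LF
  rw [Finset.mem_subtype, Finset.mem_filter, mem_normF (by norm_num)]
  exact ⟨fun h => ⟨h.1.2, h.2⟩, fun h => ⟨⟨v.2, h.1⟩, h.2⟩⟩

open Classical in
theorem card_LF (P : (GolayPt → ℤ) → Prop) : (LF P).card = ((normF 32).filter P).card := by
  unfold LF
  rw [Finset.card_subtype]
  congr 1
  ext x
  simp only [Finset.mem_filter]
  constructor
  · rintro ⟨h, -⟩; exact h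
  · intro h
    exact ⟨h, ((mem_normF (by norm_num)).1 h.1).1⟩

theorem disjoint_LF {P Q : (GolayPt → ℤ) → Prop} (h : ∀ x, P x → Q x → False) :
    Disjoint (LF P) (LF Q) := by
  rw [Finset.disjoint_left]
  intro v hv hv'
  exact h _ ((mem_LF v).1 hv).2 ((mem_LF v).1 hv').2

/-- the third type: neither `T1` nor `T3` -/
def T2 (x : GolayPt → ℤ) : Prop := ¬ T1 x ∧ ¬ T3 x

open Classical in
theorem card_filter_three (S : Finset (GolayPt → ℤ)) :
    (S.filter T1).card + (S.filter T2).card + (S.filter T3).card = S.card := by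
  have h1 := Finset.card_filter_add_card_filter_not (s := S) T1
  have h2 := Finset.card_filter_add_card_filter_not (s := S.filter fun x => ¬ T1 x) T3
  have e3 : ((S.filter fun x => ¬ T1 x).filter T3) = S.filter T3 := by
    ext x
    simp only [Finset.mem_filter]
    exact ⟨fun h => ⟨h.1.1, h.2⟩, fun h => ⟨⟨h.1, fun h1 => not_T1_and_T3 h1 h.2⟩, h.2⟩⟩
  have e2 : ((S.filter fun x => ¬ T1 x).filter fun x => ¬ T3 x) = S.filter T2 := by
    ext x
    simp only [Finset.mem_filter, T2]
    tauto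
  rw [e3, e2] at h2
  omega

open Classical in
theorem card_filter_T2 : ((normF 32).filter T2).card = 97152 := by
  have h := card_filter_three (normF 32)
  rw [card_filter_T1, card_filter_T3, card_normF_32] at h
  generalize ((normF 32).filter T2).card = n at h ⊢
  omega

open Classical in
theorem card_filter_dot_T2 :
    ((normF 32).filter (fun x => dotInt vecU x = -16 ∧ T2 x)).card = 2464 := by
  have hX : (XF vecU (-16)).card = 4600 :=
    (census (AddSubgroup.subset_closure vecU_mem_leechSet) sqNorm_vecU).1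
  have h := card_filter_three (XF vecU (-16))
  unfold XF at h hX
  rw [Finset.filter_filter, Finset.filter_filter, Finset.filter_filter, card_filter_dot_T1,
    card_filter_dot_T3, hX] at h
  generalize ((normF 32).filter (fun x => dotInt vecU x = -16 ∧ T2 x)).card = n at h ⊢
  omega

/-! ### orbits as unions of classes -/

theorem orbit_three_classes {G α : Type*} [Group G] [MulAction G α]
    (H K : Subgroup G) (hHK : H ≤ K) (p : α) (P1 P2 P3 : Finset α)
    (hcover : ∀ k ∈ K, k • p ∈ P1 ∨ k • p ∈ P2 ∨ k • p ∈ P3)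
    (ht1 : ∀ x ∈ P1, ∃ h ∈ H, h • p = x)
    (ht2 : ∀ x ∈ P2, ∀ y ∈ P2, ∃ h ∈ H, h • x = y)
    (ht3 : ∀ x ∈ P3, ∀ y ∈ P3, ∃ h ∈ H, h • x = y) :
    ∃ b2 b3 : Bool, ∀ x, (∃ k ∈ K, k • p = x) ↔
      (x ∈ P1 ∨ (b2 = true ∧ x ∈ P2) ∨ (b3 = true ∧ x ∈ P3)) := by
  classical
  refine ⟨decide (∃ x ∈ P2, ∃ k ∈ K, k • p = x), decide (∃ x ∈ P3, ∃ k ∈ K, k • p = x), ?_⟩
  intro x
  simp only [decide_eq_true_eq]
  constructor
  · rintro ⟨k, hk, rfl⟩
    rcases hcover k hk with h | h | h
    · exact Or.inl h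
    · exact Or.inr (Or.inl ⟨⟨_, h, k, hk, rfl⟩, h⟩)
    · exact Or.inr (Or.inr ⟨⟨_, h, k, hk, rfl⟩, h⟩)
  · rintro (h | ⟨⟨x0, hx0, k0, hk0, rfl⟩, hx⟩ | ⟨⟨x0, hx0, k0, hk0, rfl⟩, hx⟩)
    · obtain ⟨h', hh', rfl⟩ := ht1 x h
      exact ⟨h', hHK hh', rfl⟩
    · obtain ⟨h', hh', rfl⟩ := ht2 _ hx0 x hx
      exact ⟨h' * k0, K.mul_mem (hHK hh') hk0, mul_smul _ _ _⟩
    · obtain ⟨h', hh', rfl⟩ := ht3 _ hx0 x hx
      exact ⟨h' * k0, K.mul_mem (hHK hh') hk0, mul_smul _ _ _⟩

theorem ncard_orbit_of_classes {G α : Type*} [Group G] [MulAction G α] [DecidableEq α]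
    (K : Subgroup G) (p : α) (P1 P2 P3 : Finset α) (b2 b3 : Bool)
    (h12 : Disjoint P1 P2) (h13 : Disjoint P1 P3) (h23 : Disjoint P2 P3)
    (horb : ∀ x, (∃ k ∈ K, k • p = x) ↔
      (x ∈ P1 ∨ (b2 = true ∧ x ∈ P2) ∨ (b3 = true ∧ x ∈ P3))) :
    (MulAction.orbit K p).ncard
      = P1.card + (if b2 then P2.card else 0) + (if b3 then P3.card else 0) := by
  have hset : MulAction.orbit K p
      = ↑(P1 ∪ (if b2 then P2 else ∅) ∪ (if b3 then P3 else ∅)) := by
    ext x
    rw [MulAction.mem_orbit_iff, Finset.mem_coe, Finset.mem_union, Finset.mem_union]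
    have : (∃ k : K, k • p = x) ↔ ∃ k ∈ K, k • p = x :=
      ⟨fun ⟨k, hk⟩ => ⟨k.1, k.2, hk⟩, fun ⟨k, hk, h⟩ => ⟨⟨k, hk⟩, h⟩⟩
    rw [this, horb x]
    cases b2 <;> cases b3 <;> simp [or_assoc]
  rw [hset, Set.ncard_coe_finset]
  cases b2 <;> cases b3
  · simp
  · simp only [Bool.false_eq_true, if_false, if_true, Finset.union_empty, add_zero]
    rw [Finset.card_union_of_disjoint h13]
  · simp only [Bool.false_eq_true, if_false, if_true, Finset.union_empty, add_zero]
    rw [Finset.card_union_of_disjoint h12]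
  · simp only [if_true]
    rw [Finset.card_union_of_disjoint, Finset.card_union_of_disjoint h12]
    rw [Finset.disjoint_union_left]
    exact ⟨h13, h23⟩

theorem card_eq_orbit_mul_stab {G α : Type*} [Group G] [MulAction G α] (K : Subgroup G) (p : α) :
    Nat.card K
      = Nat.card (K ⊓ MulAction.stabilizer G p : Subgroup G) * (MulAction.orbit K p).ncard := by
  have h1 := Subgroup.card_mul_index (MulAction.stabilizer K p)
  rw [MulAction.index_stabilizer] at h1
  have key : MulAction.stabilizer K p = (MulAction.stabilizer G p).subgroupOf K := by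
    ext; rfl
  rw [key, ← Subgroup.inf_subgroupOf_left,
    Nat.card_congr (Subgroup.subgroupOfEquivOfLe (inf_le_left : K ⊓ MulAction.stabilizer G p ≤ K)).toEquiv]
    at h1
  exact h1.symm

end Cfsg.Agent.Lib.Helper8
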