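import Mathlib
import Cfsg.Agent.Lib.Helper8.LeechChar1
import Cfsg.Agent.Lib.Helper8.NMax2

/-!
# Conway's characterisation of the Leech lattice, part 2: counting minimal vectors

For a Leech-like lattice `L` with 196560 minimal vectors, the code of `L` has `2^12` words and `L`
contains vectors with odd coordinates.
-/

set_option autoImplicit false
set_option maxRecDepth 10000

namespace Cfsg.Agent.Lib.Helper8
open Cfsg Cfsg.Agent.Lib.Helper7 Cfsg.Agent.S0393 Cfsg.Agent.Lib.Helper93

variable {L : AddSubgroup (GolayPt → ℤ)}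

theorem finrank_le_of_self_orth (C : Submodule (ZMod 2) (GolayPt → ZMod 2))
    (h : ∀ v ∈ C, ∀ w ∈ C, ∑ i, v i * w i = 0) : Module.finrank (ZMod 2) C ≤ 12 := by
  classical
  set B : LinearMap.BilinForm (ZMod 2) (GolayPt → ZMod 2) :=
    Matrix.toBilin' (1 : Matrix GolayPt GolayPt (ZMod 2)) with hB
  have hBapp : ∀ v w, B v w = ∑ i, v i * w i := by
    intro v w
    rw [hB, Matrix.toBilin'_apply']
    simp [dotProduct]
  have hnd : B.Nondegenerate :=
    LinearMap.BilinForm.nondegenerate_toBilin'_of_det_ne_zero' _ (by simp)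
  have hle : C ≤ B.orthogonal C := by
    intro v hv
    rw [LinearMap.BilinForm.mem_orthogonal_iff]
    intro w hw
    show B w v = 0
    rw [hBapp]; exact h w hw v hv
  have h1 := LinearMap.BilinForm.finrank_orthogonal hnd C
  have h2 := Submodule.finrank_mono hle
  have h3 : Module.finrank (ZMod 2) (GolayPt → ZMod 2) = 24 := by
    rw [Module.finrank_fintype_fun_eq_card, card_golayPt']
  rw [h3] at h1
  omega

open Classical in
/-- the minimal vectors of `L` as a finset -/
noncomputable def minF (L : AddSubgroup (GolayPt → ℤ)) : Finset (GolayPt → ℤ) :=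
  (Fintype.piFinset fun _ : GolayPt => Finset.Icc (-8 : ℤ) 8).filter fun v => v ∈ L ∧ sqNorm v = 32

theorem mem_minF {v : GolayPt → ℤ} : v ∈ minF L ↔ v ∈ L ∧ sqNorm v = 32 := by
  classical
  unfold minF
  rw [Finset.mem_filter, Fintype.mem_piFinset]
  constructor
  · exact fun h => h.2
  · intro h
    refine ⟨fun i => ?_, h⟩
    have := coord_bound (n := 32) (x := v) (by exact_mod_cast h.2) (by norm_num) i
    exact Finset.mem_Icc.2 this

theorem card_minF : (minF L).card = {v : GolayPt → ℤ | v ∈ L ∧ sqNorm v = 32}.ncard := by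
  have : {v : GolayPt → ℤ | v ∈ L ∧ sqNorm v = 32} = ↑(minF L) := by
    ext v; simp only [Set.mem_setOf_eq, Finset.mem_coe, mem_minF]
  rw [this, Set.ncard_coe_finset]

open Classical in
/-- the words of the code as a finset -/
noncomputable def codeFL (L : AddSubgroup (GolayPt → ℤ)) : Finset (GolayPt → ZMod 2) :=
  Finset.univ.filter fun w => w ∈ codeOf L

theorem mem_codeFL {w : GolayPt → ZMod 2} : w ∈ codeFL L ↔ w ∈ codeOf L := by
  unfold codeFL; simp

theorem card_codeFL : (codeFL L).card = Nat.card (codeOf L) := by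
  have : ((codeOf L : Submodule (ZMod 2) (GolayPt → ZMod 2)) : Set (GolayPt → ZMod 2))
      = ↑(codeFL L) := by
    ext w; simp only [SetLike.mem_coe, Finset.mem_coe, mem_codeFL]
  calc (codeFL L).card = (↑(codeFL L) : Set (GolayPt → ZMod 2)).ncard :=
        (Set.ncard_coe_finset _).symm
    _ = ((codeOf L : Submodule (ZMod 2) (GolayPt → ZMod 2)) : Set (GolayPt → ZMod 2)).ncard := by
        rw [this]
    _ = Nat.card (codeOf L) := (Nat.card_coe_set_eq _).symm

theorem card_codeFL_pow (h : IsLeechLike L) :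
    (codeFL L).card = 2 ^ Module.finrank (ZMod 2) (codeOf L) ∧
      Module.finrank (ZMod 2) (codeOf L) ≤ 12 := by
  refine ⟨?_, finrank_le_of_self_orth _ fun v hv w hw => h.code_orth hv hw⟩
  rw [card_codeFL, Module.natCard_eq_pow_finrank (K := ZMod 2) (V := codeOf L), Nat.card_zmod]

/-! ### type 1: shape `(±4, ±4, 0^22)` -/

open Classical in
theorem card_minF_T1_le : ((minF L).filter T1).card ≤ 1104 := by
  rw [← card_filter_T1]
  apply Finset.card_le_card
  intro v hv
  rw [Finset.mem_filter, mem_minF] at hv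
  obtain ⟨⟨-, hn⟩, hT⟩ := hv
  rw [Finset.mem_filter, mem_normF (by norm_num)]
  refine ⟨⟨?_, hn⟩, hT⟩
  obtain ⟨j, k, hjk, hj, hk, hrest⟩ := min_shape_four hn hT
  rw [eq_pair_of_shape hjk hrest]
  exact pm4_pair_mem j k hj hk

/-! ### type 3: odd vectors -/

theorem patOf_sub_of_odd {v w : GolayPt → ℤ} (hv : T3 v) (hw : T3 w) (i : GolayPt) :
    patOf (v - w) i = 1 ↔ v i % 4 ≠ w i % 4 := by
  have h1 := hv i
  have h2 := hw i
  unfold patOf
  simp only [Pi.sub_apply]
  split_ifs with h
  · simp only [true_iff]; omega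
  · simp only [zero_ne_one, false_iff, not_not]; omega

theorem eq_of_sq_eq_of_mod {a b : ℤ} (hsq : a ^ 2 = b ^ 2) (hodd : a % 2 = 1)
    (hmod : a % 4 = b % 4) : a = b := by
  have h := sq_eq_sq_iff_eq_or_eq_neg.mp hsq
  rcases h with h | h
  · exact h
  · omega

open Classical in
/-- the position of the entry `±3` -/
noncomputable def pos3 (v : GolayPt → ℤ) : GolayPt :=
  if h : ∃ j, v j ^ 2 = 9 then Classical.choose h else none

theorem pos3_spec {v : GolayPt → ℤ} (hv : T3 v) (hn : sqNorm v = 32) :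
    v (pos3 v) ^ 2 = 9 ∧ ∀ j, j ≠ pos3 v → v j ^ 2 = 1 := by
  classical
  obtain ⟨i0, h9, h1⟩ := Cfsg.Agent.S0400.odd_shape hv hn
  have hex : ∃ j, v j ^ 2 = 9 := ⟨i0, h9⟩
  have hp : v (pos3 v) ^ 2 = 9 := by
    unfold pos3; rw [dif_pos hex]; exact Classical.choose_spec hex
  have : pos3 v = i0 := by
    by_contra hne
    have := h1 _ hne
    omega
  rw [this]
  exact ⟨h9, h1⟩

open Classical in
theorem card_minF_T3_le (h : IsLeechLike L) :
    ((minF L).filter T3).card ≤ 24 * (codeFL L).card := by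
  by_cases hne : ((minF L).filter T3).Nonempty
  · obtain ⟨w0, hw0⟩ := hne
    rw [Finset.mem_filter, mem_minF] at hw0
    obtain ⟨⟨hw0L, hw0n⟩, hw0T⟩ := hw0
    have hcard : (Finset.univ (α := GolayPt) ×ˢ codeFL L).card = 24 * (codeFL L).card := by
      rw [Finset.card_product, Finset.card_univ, card_golayPt']
    rw [← hcard]
    apply Finset.card_le_card_of_injOn (fun v => (pos3 v, patOf (v - w0)))
    · intro v hv
      rw [Finset.mem_coe, Finset.mem_filter, mem_minF] at hv
      obtain ⟨⟨hvL, hvn⟩, hvT⟩ := hv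
      rw [Finset.mem_coe, Finset.mem_product]
      refine ⟨Finset.mem_univ _, mem_codeFL.2 ?_⟩
      apply patOf_mem h (L.sub_mem hvL hw0L)
      intro i
      have h1 := hvT i
      have h2 := hw0T i
      simp only [Pi.sub_apply]
      omega
    · intro v hv v' hv' heq
      rw [Finset.mem_coe, Finset.mem_filter, mem_minF] at hv hv'
      obtain ⟨⟨hvL, hvn⟩, hvT⟩ := hv
      obtain ⟨⟨hvL', hvn'⟩, hvT'⟩ := hv'
      simp only [Prod.mk.injEq] at heq
      obtain ⟨hpos, hpat⟩ := heq
      obtain ⟨h9, h1⟩ := pos3_spec hvT hvn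
      obtain ⟨h9', h1'⟩ := pos3_spec hvT' hvn'
      funext i
      have hmod : v i % 4 = v' i % 4 := by
        have e1 := patOf_sub_of_odd hvT hw0T i
        have e2 := patOf_sub_of_odd hvT' hw0T i
        rw [hpat] at e1
        have e3 := e1.symm.trans e2
        have a := hvT i
        have b := hvT' i
        have c := hw0T i
        by_contra hcon
        by_cases hc : v i % 4 = w0 i % 4
        · have : v' i % 4 ≠ w0 i % 4 := fun e => hcon (hc.trans e.symm)
          exact (e3.2 this) hc
        · have : ¬ (v' i % 4 ≠ w0 i % 4) := fun e => by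
            have a1 : v i % 4 = 1 ∨ v i % 4 = 3 := by omega
            have b1 : v' i % 4 = 1 ∨ v' i % 4 = 3 := by omega
            have c1 : w0 i % 4 = 1 ∨ w0 i % 4 = 3 := by omega
            omega
          exact this (e3.1 hc)
      apply eq_of_sq_eq_of_mod _ (hvT i) hmod
      by_cases hi : i = pos3 v
      · rw [hi, h9]
        rw [hpos, h9']
      · rw [h1 i hi, h1' i (by rw [← hpos]; exact hi)]
  · rw [Finset.not_nonempty_iff_eq_empty] at hne
    rw [hne]; simp

/-! ### type 2: shape `(±2^8, 0^16)` -/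

theorem T2_even (h : IsLeechLike L) {v : GolayPt → ℤ} (hv : v ∈ L) (hT : T2 v) :
    (∀ i, v i % 2 = 0) ∧ ∃ i, v i % 4 = 2 := by
  obtain ⟨h1, h3⟩ := hT
  have hev : ∀ i, v i % 2 = 0 := by
    by_contra hcon
    push Not at hcon
    obtain ⟨i0, hi0⟩ := hcon
    apply h3
    intro j
    have := h.parity hv i0 j
    omega
  refine ⟨hev, ?_⟩
  unfold T1 at h1
  push Not at h1
  obtain ⟨i, hi⟩ := h1
  exact ⟨i, by have := hev i; omega⟩

theorem patOf_eq_one_iff (x : GolayPt → ℤ) (i : GolayPt) : patOf x i = 1 ↔ x i % 4 = 2 := by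
  unfold patOf
  split_ifs with h
  · simp [h]
  · simp [h]

/-- shape of the minimal vectors of type 2 -/
theorem T2_shape (h : IsLeechLike L) {v : GolayPt → ℤ} (hv : v ∈ L) (hn : sqNorm v = 32)
    (hT : T2 v) :
    patOf v ∈ codeOf L ∧ hammingNorm (patOf v) = 8 ∧
      (∀ i, patOf v i = 1 → (v i = 2 ∨ v i = -2)) ∧ (∀ i, patOf v i ≠ 1 → v i = 0) := by
  classical
  obtain ⟨hev, i0, hi0⟩ := T2_even h hv hT
  have hmem := patOf_mem h hv hev
  have hne : patOf v ≠ 0 := by
    intro h0
    have := (patOf_eq_one_iff v i0).2 hi0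
    rw [h0] at this
    simp at this
  have h8 := h.code_minwt hmem hne
  rw [hammingNorm_eq_card_supp] at h8 ⊢
  set S := supp (patOf v) with hS
  have hmemS : ∀ j, j ∈ S ↔ v j % 4 = 2 := by
    intro j; rw [hS, mem_supp, patOf_eq_one_iff]
  have hge : ∀ j ∈ S, 4 ≤ v j ^ 2 := by
    intro j hj
    rcases sq_of_two_mod (v j) ((hmemS j).1 hj) with e | e <;> omega
  have hsplit : ∑ j ∈ S, v j ^ 2 + ∑ j ∈ Sᶜ, v j ^ 2 = 32 := by
    rw [Finset.sum_add_sum_compl]; exact hn
  have h1 : ∑ _j ∈ S, (4 : ℤ) ≤ ∑ j ∈ S, v j ^ 2 := Finset.sum_le_sum hge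
  rw [Finset.sum_const] at h1
  simp only [nsmul_eq_mul] at h1
  have hnn : 0 ≤ ∑ j ∈ Sᶜ, v j ^ 2 := Finset.sum_nonneg fun j _ => sq_nonneg _
  have hc8 : (8 : ℤ) ≤ S.card := by exact_mod_cast h8
  have hcard8 : S.card = 8 := by
    have : (S.card : ℤ) ≤ 8 := by linarith
    omega
  have hSsum : ∑ j ∈ S, v j ^ 2 = 32 := by
    rw [hcard8] at h1
    push_cast at h1
    linarith
  have hCsum : ∑ j ∈ Sᶜ, v j ^ 2 = 0 := by linarith
  have hz : ∑ j ∈ S, (v j ^ 2 - 4) = 0 := by
    rw [Finset.sum_sub_distrib, Finset.sum_const, hcard8, hSsum]; norm_num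
  rw [Finset.sum_eq_zero_iff_of_nonneg (fun j hj => by have := hge j hj; omega)] at hz
  rw [Finset.sum_eq_zero_iff_of_nonneg (fun j _ => sq_nonneg _)] at hCsum
  refine ⟨hmem, hcard8, fun i hi => ?_, fun i hi => ?_⟩
  · have hiS : i ∈ S := (hmemS i).2 ((patOf_eq_one_iff v i).1 hi)
    exact val_of_sq_four (by have := hz i hiS; omega)
  · have hiS : i ∉ S := fun hc => hi ((patOf_eq_one_iff v i).2 ((hmemS i).1 hc))
    have := hCsum i (Finset.mem_compl.2 hiS)
    exact pow_eq_zero_iff (two_ne_zero) |>.1 this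

open Classical in
/-- the words of weight 8 of the code -/
noncomputable def octF (L : AddSubgroup (GolayPt → ℤ)) : Finset (GolayPt → ZMod 2) :=
  (codeFL L).filter fun w => hammingNorm w = 8

open Classical in
/-- fibres of the pattern map on vectors of type 2 have at most 128 elements -/
theorem card_fiber_le (h : IsLeechLike L) (a : GolayPt → ZMod 2) (ha : hammingNorm a = 8) :
    (((minF L).filter T2).filter fun v => patOf v = a).card ≤ 128 := by
  rw [hammingNorm_eq_card_supp] at ha
  obtain ⟨i0, hi0⟩ : ∃ i0, i0 ∈ supp a := by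
    apply Finset.card_pos.1; omega
  have hpc : (((supp a).erase i0).powerset).card = 128 := by
    rw [Finset.card_powerset, Finset.card_erase_of_mem hi0, ha]; norm_num
  rw [← hpc]
  apply Finset.card_le_card_of_injOn (fun v => ((supp a).erase i0).filter fun i => v i = -2)
  · intro v _
    rw [Finset.mem_coe, Finset.mem_powerset]
    exact Finset.filter_subset _ _
  · intro v hv v' hv' heq
    rw [Finset.mem_coe, Finset.mem_filter, Finset.mem_filter, mem_minF] at hv hv'
    obtain ⟨⟨⟨hvL, hvn⟩, hvT⟩, hva⟩ := hv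
    obtain ⟨⟨⟨hvL', hvn'⟩, hvT'⟩, hva'⟩ := hv'
    obtain ⟨-, -, hs1, hs0⟩ := T2_shape h hvL hvn hvT
    obtain ⟨-, -, hs1', hs0'⟩ := T2_shape h hvL' hvn' hvT'
    rw [hva] at hs1 hs0
    rw [hva'] at hs1' hs0'
    simp only at heq
    have hagree : ∀ i, i ≠ i0 → v i = v' i := by
      intro i hi
      by_cases hai : a i = 1
      · have him : i ∈ (supp a).erase i0 := Finset.mem_erase.2 ⟨hi, mem_supp.2 hai⟩
        have e1 : i ∈ ((supp a).erase i0).filter (fun i => v i = -2) ↔ v i = -2 := by
          rw [Finset.mem_filter]; exact ⟨fun x => x.2, fun x => ⟨him, x⟩⟩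
        have e2 : i ∈ ((supp a).erase i0).filter (fun i => v' i = -2) ↔ v' i = -2 := by
          rw [Finset.mem_filter]; exact ⟨fun x => x.2, fun x => ⟨him, x⟩⟩
        rw [heq] at e1
        have e3 := e1.symm.trans e2
        rcases hs1 i hai with e | e <;> rcases hs1' i hai with e' | e'
        · rw [e, e']
        · exfalso; have := e3.2 e'; omega
        · exfalso; have := e3.1 e; omega
        · rw [e, e']
      · rw [hs0 i hai, hs0' i hai]
    by_contra hne
    have hi0ne : v i0 ≠ v' i0 := by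
      intro e
      apply hne
      funext i
      by_cases hi : i = i0
      · rw [hi]; exact e
      · exact hagree i hi
    have hai0 : a i0 = 1 := mem_supp.1 hi0
    have hdiff : ∀ i, (v - v') i = if i = i0 then v i0 - v' i0 else 0 := by
      intro i
      simp only [Pi.sub_apply]
      split_ifs with hi
      · rw [hi]
      · rw [hagree i hi]; ring
    have hmem := L.sub_mem hvL hvL'
    have h4 : ∀ i, (v - v') i % 4 = 0 := by
      intro i
      rw [hdiff]
      split_ifs
      · rcases hs1 i0 hai0 with e | e <;> rcases hs1' i0 hai0 with e' | e' <;> rw [e, e'] <;>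
          norm_num
      · norm_num
    have hsum := h.sum_of_four hmem h4
    rw [Finset.sum_congr rfl (fun i _ => hdiff i), Finset.sum_ite_eq' Finset.univ i0] at hsum
    simp only [Finset.mem_univ, if_true] at hsum
    rcases hs1 i0 hai0 with e | e <;> rcases hs1' i0 hai0 with e' | e' <;> rw [e, e'] at hsum hi0ne <;>
      omega

open Classical in
theorem card_minF_T2_le (h : IsLeechLike L) :
    ((minF L).filter T2).card ≤ 128 * (octF L).card := by
  have h1 := Finset.card_le_mul_card_image (f := patOf) ((minF L).filter T2) 128 (by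
    intro a ha
    obtain ⟨v, hv, rfl⟩ := Finset.mem_image.1 ha
    rw [Finset.mem_filter, mem_minF] at hv
    obtain ⟨⟨hvL, hvn⟩, hvT⟩ := hv
    exact card_fiber_le h _ (T2_shape h hvL hvn hvT).2.1)
  refine le_trans h1 (Nat.mul_le_mul_left _ (Finset.card_le_card ?_))
  intro a ha
  obtain ⟨v, hv, rfl⟩ := Finset.mem_image.1 ha
  rw [Finset.mem_filter, mem_minF] at hv
  obtain ⟨⟨hvL, hvn⟩, hvT⟩ := hv
  obtain ⟨hm, h8, -, -⟩ := T2_shape h hvL hvn hvT
  unfold octF
  rw [Finset.mem_filter]
  exact ⟨mem_codeFL.2 hm, h8⟩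

/-- two distinct words of weight 8 meet in at most 4 points -/
theorem oct_inter_le (h : IsLeechLike L) {a b : GolayPt → ZMod 2} (ha : a ∈ octF L)
    (hb : b ∈ octF L) (hab : a ≠ b) : (supp a ∩ supp b).card ≤ 4 := by
  classical
  unfold octF at ha hb
  rw [Finset.mem_filter, mem_codeFL] at ha hb
  have hsum : a + b ∈ codeOf L := (codeOf L).add_mem ha.1 hb.1
  have hne : a + b ≠ 0 := by
    intro h0
    apply hab
    have h2 : a + b + b = 0 + b := by rw [h0]
    rw [add_assoc, add_self_zmod2, add_zero, zero_add] at h2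
    exact h2
  have h8 := h.code_minwt hsum hne
  have := hammingNorm_add_eq a b
  omega

open Classical in
theorem card_octF_le (h : IsLeechLike L) : (octF L).card ≤ 759 := by
  have hdisj : ∀ a ∈ octF L, ∀ b ∈ octF L, a ≠ b →
      Disjoint ((supp a).powersetCard 5) ((supp b).powersetCard 5) := by
    intro a ha b hb hab
    rw [Finset.disjoint_left]
    intro s hs hs'
    rw [Finset.mem_powersetCard] at hs hs'
    have : s ⊆ supp a ∩ supp b := Finset.subset_inter hs.1 hs'.1
    have h1 := Finset.card_le_card this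
    have h2 := oct_inter_le h ha hb hab
    omega
  have hcard := Finset.card_biUnion (s := octF L) (t := fun a => (supp a).powersetCard 5) hdisj
  have hsub : (octF L).biUnion (fun a => (supp a).powersetCard 5)
      ⊆ (Finset.univ : Finset GolayPt).powersetCard 5 := by
    intro s hs
    rw [Finset.mem_biUnion] at hs
    obtain ⟨a, _, hs⟩ := hs
    rw [Finset.mem_powersetCard] at hs ⊢
    exact ⟨Finset.subset_univ _, hs.2⟩
  have h1 := Finset.card_le_card hsub
  rw [hcard, Finset.card_powersetCard, Finset.card_univ, card_golayPt'] at h1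
  have h2 : ∑ a ∈ octF L, ((supp a).powersetCard 5).card = (octF L).card * 56 := by
    rw [Finset.sum_const_nat]
    intro a ha
    unfold octF at ha
    rw [Finset.mem_filter] at ha
    rw [Finset.card_powersetCard, ← hammingNorm_eq_card_supp, ha.2]
    rfl
  rw [h2] at h1
  have h3 : Nat.choose 24 5 = 42504 := by decide
  rw [h3] at h1
  omega

/-- **Counting.** If `L` has 196560 minimal vectors, its code has dimension 12 and `L` has odd
vectors. -/
theorem IsLeechLike.code_finrank (h : IsLeechLike L)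
    (hcount : {v : GolayPt → ℤ | v ∈ L ∧ sqNorm v = 32}.ncard = 196560) :
    Module.finrank (ZMod 2) (codeOf L) = 12 ∧ ∃ v ∈ L, ∀ i, v i % 2 = 1 := by
  classical
  rw [← card_minF] at hcount
  have h3 := card_filter_three (minF L)
  have hA := card_minF_T1_le (L := L)
  have hB := card_minF_T2_le h
  have hC := card_minF_T3_le h
  have hO := card_octF_le h
  obtain ⟨hpow, hle⟩ := card_codeFL_pow h
  rw [hcount] at h3
  have hC' : 98304 ≤ ((minF L).filter T3).card := by omega
  have hcode : 4096 ≤ (codeFL L).card := by omega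
  constructor
  · rw [hpow] at hcode
    by_contra hne
    have hlt : Module.finrank (ZMod 2) (codeOf L) ≤ 11 := by omega
    have : 2 ^ Module.finrank (ZMod 2) (codeOf L) ≤ 2 ^ 11 :=
      Nat.pow_le_pow_right (by norm_num) hlt
    omega
  · have hne : ((minF L).filter T3).Nonempty := by
      apply Finset.card_pos.1; omega
    obtain ⟨v, hv⟩ := hne
    rw [Finset.mem_filter, mem_minF] at hv
    exact ⟨v, hv.1.1, hv.2⟩

end Cfsg.Agent.Lib.Helper8
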