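import Mathlib
import Cfsg.Agent.Lib.Helper8.LeechChar2
import Cfsg.Agent.S0375

/-!
# Conway's characterisation of the Leech lattice, part 3: identification

A Leech-like lattice with 196560 minimal vectors is the image of the standard Leech lattice under a
signed coordinate permutation.
-/

set_option autoImplicit false
set_option maxRecDepth 10000

namespace Cfsg.Agent.Lib.Helper8
open Cfsg Cfsg.Agent.Lib.Helper7 Cfsg.Agent.S0393 Cfsg.Agent.Lib.Helper93

variable {L : AddSubgroup (GolayPt → ℤ)}

/-- uniqueness of the Golay code, for codes indexed by `GolayPt` -/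
theorem golay_unique_pt (C : Submodule (ZMod 2) (GolayPt → ZMod 2)) (hG : IsGolayLike C) :
    ∃ e : GolayPt ≃ GolayPt, ∀ w : GolayPt → ZMod 2,
      w ∈ golayCode ↔ (fun i => w (e i)) ∈ C := by
  classical
  have hG' := golay_isGolayLike
  set B : Set (Finset GolayPt) := {b | ∃ c ∈ C, supp c = b ∧ b.card = 8} with hBdef
  have hB : IsSteinerSystem 5 8 B :=
    ⟨fun b hb => by obtain ⟨c, _, _, h8⟩ := hb; exact h8, fun s hs => hG.steiner s hs⟩
  obtain ⟨e, he⟩ := SteinerMain.iso_octads card_golayPt' hB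
  refine ⟨e, ?_⟩
  have hfwd : ∀ w ∈ golayCode, hammingNorm w = 8 → (fun i => w (e i)) ∈ C := by
    intro w hw h8
    have hoct : supp w ∈ octads := by
      rw [mem_octads_iff]
      exact ⟨w, hw, (supp_eq_support₂ w).symm, by rw [← hammingNorm_eq_card_supp]; exact h8⟩
    rw [← he] at hoct
    obtain ⟨b, ⟨c, hc, rfl, _⟩, hb⟩ := hoct
    have hb' : (supp c).image e = supp w := hb
    rw [← Cfsg.Agent.S0375.supp_comp_image e w] at hb'
    have h1 : supp c = supp (fun i => w (e i)) :=
      Finset.image_injective e.injective hb'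
    have h2 : c = fun i => w (e i) := supp_injective h1
    rw [← h2]; exact hc
  have hbwd : ∀ c ∈ C, hammingNorm c = 8 → (fun p => c (e.symm p)) ∈ golayCode := by
    intro c hc h8
    have hcB : supp c ∈ B := ⟨c, hc, rfl, by rw [← hammingNorm_eq_card_supp]; exact h8⟩
    have hoct : (supp c).image e ∈ octads := by
      rw [← he]; exact ⟨supp c, hcB, rfl⟩
    rw [mem_octads_iff] at hoct
    obtain ⟨w, hw, hsw, _⟩ := hoct
    rw [← supp_eq_support₂, ← Cfsg.Agent.S0375.supp_comp_image e w] at hsw
    have h1 : supp (fun i => w (e i)) = supp c := Finset.image_injective e.injective hsw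
    have h2 : (fun i => w (e i)) = c := supp_injective h1
    have h3 : (fun p => c (e.symm p)) = w := by
      funext p; rw [← h2]; simp
    rw [h3]; exact hw
  intro w
  constructor
  · intro hw
    exact Cfsg.Agent.S0375.comp_mem_of_octads e hfwd hG'.span_octads w hw
  · intro hw
    have := Cfsg.Agent.S0375.comp_mem_of_octads e.symm hbwd hG.span_octads _ hw
    simpa using this

/-! ### signs -/

/-- the sign `±1` making an odd number congruent to 1 mod 4 -/
def sgn4 (a : ℤ) : ℤ := if a % 4 = 1 then 1 else -1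

theorem sgn4_cases (a : ℤ) : sgn4 a = 1 ∨ sgn4 a = -1 := by
  unfold sgn4; split_ifs <;> simp

theorem sgn4_mul_self (a : ℤ) : sgn4 a * sgn4 a = 1 := by
  rcases sgn4_cases a with h | h <;> rw [h] <;> norm_num

theorem sgn4_mul_mod {a : ℤ} (ha : a % 2 = 1) : (sgn4 a * a) % 4 = 1 := by
  unfold sgn4
  split_ifs with h
  · omega
  · omega

theorem IsLeechLike.twisted_sum (h : IsLeechLike L) {w0 x : GolayPt → ℤ} (hw0 : w0 ∈ L)
    (hodd : ∀ i, w0 i % 2 = 1) (hx : x ∈ L) (hev : ∀ i, x i % 2 = 0) :
    (∑ q, sgn4 (w0 q) * x q) % 8 = 0 := by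
  have h8 := h.dot_dvd x hx w0 hw0
  have hterm : ∀ q, (8 : ℤ) ∣ x q * w0 q - sgn4 (w0 q) * x q := by
    intro q
    have h1 := hodd q
    have h2 := hev q
    obtain ⟨m, hm⟩ : ∃ m, x q = 2 * m := ⟨x q / 2, by omega⟩
    unfold sgn4
    split_ifs with h4
    · obtain ⟨k, hk⟩ : ∃ k, w0 q = 4 * k + 1 := ⟨w0 q / 4, by omega⟩
      rw [hm, hk]; exact ⟨m * k, by ring⟩
    · obtain ⟨k, hk⟩ : ∃ k, w0 q = 4 * k + 3 := ⟨w0 q / 4, by omega⟩
      rw [hm, hk]; exact ⟨m * (k + 1), by ring⟩
  have hsum : (8 : ℤ) ∣ ∑ q, (x q * w0 q - sgn4 (w0 q) * x q) :=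
    Finset.dvd_sum fun q _ => hterm q
  rw [Finset.sum_sub_distrib] at hsum
  unfold dotInt at h8
  omega

theorem IsLeechLike.twisted_sum_odd (h : IsLeechLike L) {w0 : GolayPt → ℤ} (hw0 : w0 ∈ L)
    (hodd : ∀ i, w0 i % 2 = 1) : (∑ q, sgn4 (w0 q) * w0 q) % 8 = 4 := by
  have h16 := h.norm_dvd w0 hw0
  have hterm : ∀ q, (16 : ℤ) ∣ w0 q ^ 2 - (2 * (sgn4 (w0 q) * w0 q) - 1) := by
    intro q
    have h1 := sgn4_mul_mod (hodd q)
    obtain ⟨k, hk⟩ : ∃ k, sgn4 (w0 q) * w0 q = 4 * k + 1 :=
      ⟨(sgn4 (w0 q) * w0 q) / 4, by omega⟩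
    have hsq : w0 q ^ 2 = (sgn4 (w0 q) * w0 q) ^ 2 := by
      rw [mul_pow, sq (sgn4 (w0 q)), sgn4_mul_self, one_mul]
    rw [hsq, hk]
    exact ⟨k ^ 2, by ring⟩
  have hsum : (16 : ℤ) ∣ ∑ q, (w0 q ^ 2 - (2 * (sgn4 (w0 q) * w0 q) - 1)) :=
    Finset.dvd_sum fun q _ => hterm q
  rw [Finset.sum_sub_distrib, Finset.sum_sub_distrib, ← Finset.mul_sum, Finset.sum_const,
    Finset.card_univ, card_golayPt'] at hsum
  unfold sqNorm at h16
  simp only [nsmul_eq_mul, Nat.cast_ofNat, mul_one] at hsum
  omega

/-- membership by congruence mod 4 and twisted sums -/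
theorem IsLeechLike.mem_of_congr_twisted (h : IsLeechLike L) (t : GolayPt → ℤ)
    (ht : ∀ q, t q = 1 ∨ t q = -1) {x y : GolayPt → ℤ} (hx : x ∈ L)
    (h4 : ∀ i, y i % 4 = x i % 4)
    (hs : (∑ q, t q * y q) % 8 = (∑ q, t q * x q) % 8) : y ∈ L := by
  apply h.mem_of_congr hx h4
  have hterm : ∀ q, (8 : ℤ) ∣ (y q - x q) - (t q * y q - t q * x q) := by
    intro q
    have := h4 q
    obtain ⟨k, hk⟩ : ∃ k, y q - x q = 4 * k := ⟨(y q - x q) / 4, by omega⟩
    rcases ht q with e | e
    · rw [e]; exact ⟨0, by ring⟩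
    · rw [e]
      have : y q - x q - (-1 * y q - -1 * x q) = 2 * (y q - x q) := by ring
      rw [this, hk]; exact ⟨k, by ring⟩
  have hsum : (8 : ℤ) ∣ ∑ q, ((y q - x q) - (t q * y q - t q * x q)) :=
    Finset.dvd_sum fun q _ => hterm q
  rw [Finset.sum_sub_distrib, Finset.sum_sub_distrib, Finset.sum_sub_distrib] at hsum
  omega

theorem IsLeechLike.pm4_mem (h : IsLeechLike L) {a b : GolayPt} (hab : a ≠ b) {s s' : ℤ}
    (hs : s = 4 ∨ s = -4) (hs' : s' = 4 ∨ s' = -4) :
    (Pi.single a s + Pi.single b s' : GolayPt → ℤ) ∈ L := by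
  have e1 : (Pi.single a (-4 : ℤ) : GolayPt → ℤ) = -Pi.single a 4 := by
    rw [← Pi.single_neg]
  have e2 : (Pi.single b (-4 : ℤ) : GolayPt → ℤ) = -Pi.single b 4 := by
    rw [← Pi.single_neg]
  rcases hs with rfl | rfl <;> rcases hs' with rfl | rfl
  · exact h.pair_add a b hab
  · rw [e2, ← sub_eq_add_neg]; exact h.pair_sub a b hab
  · have := L.neg_mem (h.pair_sub a b hab)
    rw [neg_sub, sub_eq_add_neg, add_comm] at this
    rw [e1]; exact this
  · have := L.neg_mem (h.pair_add a b hab)
    rw [neg_add] at this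
    rw [e1, e2]; exact this

/-! ### the maps -/

/-- the signed coordinate change taking `L` to the standard lattice -/
def fwdMap (σ : Equiv.Perm GolayPt) (t : GolayPt → ℤ) (x : GolayPt → ℤ) : GolayPt → ℤ :=
  fun p => t (σ.symm p) * x (σ.symm p)

/-- its inverse, as an additive map -/
def bwdHom (σ : Equiv.Perm GolayPt) (t : GolayPt → ℤ) : (GolayPt → ℤ) →+ (GolayPt → ℤ) where
  toFun y := fun q => t q * y (σ q)
  map_zero' := by funext q; simp
  map_add' := by intro y z; funext q; simp [mul_add]

theorem bwdHom_apply (σ : Equiv.Perm GolayPt) (t : GolayPt → ℤ) (y : GolayPt → ℤ) (q : GolayPt) :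
    bwdHom σ t y q = t q * y (σ q) := rfl

theorem bwd_fwd (σ : Equiv.Perm GolayPt) (t : GolayPt → ℤ) (ht : ∀ q, t q * t q = 1)
    (x : GolayPt → ℤ) : bwdHom σ t (fwdMap σ t x) = x := by
  funext q
  rw [bwdHom_apply, fwdMap, Equiv.symm_apply_apply, ← mul_assoc, ht, one_mul]

theorem sum_fwdMap (σ : Equiv.Perm GolayPt) (t : GolayPt → ℤ) (x : GolayPt → ℤ) :
    ∑ p, fwdMap σ t x p = ∑ q, t q * x q := by
  unfold fwdMap
  exact Equiv.sum_comp σ.symm fun q => t q * x q

theorem bwdHom_single (σ : Equiv.Perm GolayPt) (t : GolayPt → ℤ) (i : GolayPt) (c : ℤ) :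
    bwdHom σ t (Pi.single i c) = Pi.single (σ.symm i) (t (σ.symm i) * c) := by
  funext q
  rw [bwdHom_apply]
  by_cases hq : q = σ.symm i
  · subst hq
    rw [Equiv.apply_symm_apply, Pi.single_eq_same, Pi.single_eq_same]
  · have : σ q ≠ i := fun e => hq (by rw [← e, Equiv.symm_apply_apply])
    rw [Pi.single_eq_of_ne this, Pi.single_eq_of_ne hq, mul_zero]

/-- **Identification.** -/
theorem IsLeechLike.exists_iso (h : IsLeechLike L)
    (hcount : {v : GolayPt → ℤ | v ∈ L ∧ sqNorm v = 32}.ncard = 196560) :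
    ∃ (σ : Equiv.Perm GolayPt) (t : GolayPt → ℤ), (∀ q, t q = 1 ∨ t q = -1) ∧
      ∀ x : GolayPt → ℤ, x ∈ L ↔ fwdMap σ t x ∈ leechLattice := by
  classical
  obtain ⟨hfin, w0, hw0, hodd⟩ := h.code_finrank hcount
  have hG : IsGolayLike (codeOf L) :=
    { card_pts := card_golayPt'
      finrank_eq := hfin
      orth := fun v hv w hw => h.code_orth hv hw
      minwt := fun w hw h0 => h.code_minwt hw h0 }
  obtain ⟨σ, hσ⟩ := golay_unique_pt _ hG
  set t : GolayPt → ℤ := fun q => sgn4 (w0 q) with ht
  have htc : ∀ q, t q = 1 ∨ t q = -1 := fun q => sgn4_cases _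
  have htt : ∀ q, t q * t q = 1 := fun q => sgn4_mul_self _
  refine ⟨σ, t, htc, ?_⟩
  -- forward inclusion
  have hfwd_even : ∀ x ∈ L, (∀ i, x i % 2 = 0) → fwdMap σ t x ∈ leechLattice := by
    intro x hx hev
    have hw : (fun p => patOf x (σ.symm p)) ∈ golayCode := by
      rw [hσ]
      simp only [Equiv.symm_apply_apply]
      exact patOf_mem h hx hev
    rw [mem_leechLattice_iff]
    apply mem_leechSet_of_structure false _ hw
    · intro p
      simp only [res, Bool.false_eq_true, if_false, fwdMap]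
      have h1 := hev (σ.symm p)
      have h2 := patOf_eq_one_iff x (σ.symm p)
      rcases htc (σ.symm p) with e | e <;> rw [e] <;> split_ifs with hp
      · have := h2.1 hp; omega
      · have : ¬ x (σ.symm p) % 4 = 2 := fun e' => hp (h2.2 e'); omega
      · have := h2.1 hp; omega
      · have : ¬ x (σ.symm p) % 4 = 2 := fun e' => hp (h2.2 e'); omega
    · rw [sum_fwdMap]
      simp only [Bool.false_eq_true, if_false]
      exact h.twisted_sum hw0 hodd hx hev
  have hfwd : ∀ x ∈ L, fwdMap σ t x ∈ leechLattice := by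
    intro x hx
    by_cases hev : ∀ i, x i % 2 = 0
    · exact hfwd_even x hx hev
    · have hxodd : ∀ i, x i % 2 = 1 := by
        push Not at hev
        obtain ⟨i0, hi0⟩ := hev
        intro j
        have := h.parity hx i0 j
        omega
      have hdL : x - w0 ∈ L := L.sub_mem hx hw0
      have hdev : ∀ i, (x - w0) i % 2 = 0 := by
        intro i
        have h1 := hxodd i
        have h2 := hodd i
        simp only [Pi.sub_apply]; omega
      have hw1 : (fun p => patOf (x - w0) (σ.symm p)) ∈ golayCode := by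
        rw [hσ]
        simp only [Equiv.symm_apply_apply]
        exact patOf_mem h hdL hdev
      have hw : ((fun p => patOf (x - w0) (σ.symm p)) + 1 : GolayPt → ZMod 2) ∈ golayCode :=
        golayCode.add_mem hw1 golay_one_mem
      rw [mem_leechLattice_iff]
      apply mem_leechSet_of_structure true _ hw
      · intro p
        simp only [res, if_true, fwdMap, Pi.add_apply, Pi.one_apply]
        have h1 := hxodd (σ.symm p)
        have h2 := hodd (σ.symm p)
        have h3 := patOf_eq_one_iff (x - w0) (σ.symm p)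
        simp only [Pi.sub_apply] at h3
        have ht' : t (σ.symm p) = sgn4 (w0 (σ.symm p)) := rfl
        rw [ht']
        unfold sgn4
        have hcond : (patOf (x - w0) (σ.symm p) + 1 = 1) ↔
            ¬ ((x (σ.symm p) - w0 (σ.symm p)) % 4 = 2) := by
          rw [zmod2_add_one_eq_one_iff, h3]
        split_ifs with hs hp hp
        · have := hcond.1 hp; omega
        · have : (x (σ.symm p) - w0 (σ.symm p)) % 4 = 2 := by
            by_contra hc; exact hp (hcond.2 hc)
          omega
        · have := hcond.1 hp; omega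
        · have : (x (σ.symm p) - w0 (σ.symm p)) % 4 = 2 := by
            by_contra hc; exact hp (hcond.2 hc)
          omega
      · rw [sum_fwdMap]
        simp only [if_true]
        have e1 : ∑ q, t q * x q = ∑ q, t q * (x - w0) q + ∑ q, t q * w0 q := by
          rw [← Finset.sum_add_distrib]
          exact Finset.sum_congr rfl fun q _ => by simp only [Pi.sub_apply]; ring
        have e2 : (∑ q, t q * (x - w0) q) % 8 = 0 := h.twisted_sum hw0 hodd hdL hdev
        have e3 : (∑ q, t q * w0 q) % 8 = 4 := h.twisted_sum_odd hw0 hodd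
        rw [e1]
        omega
  -- backward inclusion
  have hbwd : leechLattice ≤ L.comap (bwdHom σ t) := by
    apply leech_le_of_gens
    · intro i
      rw [AddSubgroup.mem_comap, map_sub, bwdHom_single, bwdHom_single]
      by_cases hi : i = none
      · rw [hi, sub_self]; exact L.zero_mem
      · have hne : σ.symm i ≠ σ.symm none := fun e => hi (σ.symm.injective e)
        rw [sub_eq_add_neg, ← Pi.single_neg]
        apply h.pm4_mem hne
        · rcases htc (σ.symm i) with e | e <;> rw [e] <;> norm_num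
        · rcases htc (σ.symm none) with e | e <;> rw [e] <;> norm_num
    · rw [AddSubgroup.mem_comap, map_add, bwdHom_single, bwdHom_single]
      have hne : σ.symm none ≠ σ.symm (some 0) := fun e => by
        have := σ.symm.injective e
        exact absurd this (by decide)
      apply h.pm4_mem hne
      · rcases htc (σ.symm none) with e | e <;> rw [e] <;> norm_num
      · rcases htc (σ.symm (some 0)) with e | e <;> rw [e] <;> norm_num
    · intro b hb
      have hwb := wordOf_basis_mem b hb
      set w := wordOf b with hwdef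
      rw [AddSubgroup.mem_comap]
      have hw' : (fun q => w (σ q)) ∈ codeOf L := (hσ w).1 hwb
      obtain ⟨x, hx, hxw⟩ := hw'
      apply h.mem_of_congr_twisted t htc hx
      · intro q
        have h1 := hxw q
        rw [bwdHom_apply]
        unfold twoVec
        rcases htc q with e | e <;> rw [e] <;> split_ifs at h1 ⊢ <;> omega
      · have e1 : ∑ q, t q * bwdHom σ t (twoVec w) q = ∑ p, twoVec w p := by
          rw [← Equiv.sum_comp σ (twoVec w)]
          refine Finset.sum_congr rfl fun q _ => ?_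
          rw [bwdHom_apply, ← mul_assoc, htt, one_mul]
        have e2 : (∑ q, t q * x q) % 8 = 0 :=
          h.twisted_sum hw0 hodd hx (fun i => hxw.even i)
        rw [e1, sum_twoVec]
        obtain ⟨r, hr⟩ := golay_doubly_even hwb
        rw [hr]
        push_cast
        omega
    · rw [AddSubgroup.mem_comap]
      apply h.mem_of_congr_twisted t htc hw0
      · intro q
        rw [bwdHom_apply]
        have h2 := hodd q
        have hv : vOdd (σ q) % 4 = 1 := by
          unfold vOdd; split_ifs <;> norm_num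
        have ht' : t q = sgn4 (w0 q) := rfl
        rw [ht']
        unfold sgn4
        split_ifs <;> omega
      · have e1 : ∑ q, t q * bwdHom σ t vOdd q = ∑ p, vOdd p := by
          rw [← Equiv.sum_comp σ vOdd]
          refine Finset.sum_congr rfl fun q _ => ?_
          rw [bwdHom_apply, ← mul_assoc, htt, one_mul]
        have e2 : ∑ p, vOdd p = 20 := by decide
        have e3 : (∑ q, t q * w0 q) % 8 = 4 := h.twisted_sum_odd hw0 hodd
        rw [e1, e2]
        omega
  intro x
  constructor
  · exact hfwd x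
  · intro hx
    have := hbwd hx
    rw [AddSubgroup.mem_comap, bwd_fwd σ t htt] at this
    exact this

end Cfsg.Agent.Lib.Helper8
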