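import Mathlib

/-!
# Conway's characterisation of the Leech lattice, part 4: existence of a frame

For an even positive definite form `B` on `ℤ^24` without vectors of norm 2 and with the Leech numbers
of vectors of norms 4, 6, 8, there are 24 pairwise orthogonal vectors of norm 8 that are pairwise
congruent modulo `2`.
-/

set_option autoImplicit false
set_option maxRecDepth 10000

namespace Cfsg.Agent.Lib.Helper8.LC
open Matrix

variable (B : Matrix (Fin 24) (Fin 24) ℤ)

/-- the bilinear form -/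
def ip (x y : Fin 24 → ℤ) : ℤ := x ⬝ᵥ (B *ᵥ y)

variable {B}

theorem ip_comm (hsymm : B.IsSymm) (x y : Fin 24 → ℤ) : ip B x y = ip B y x := by
  unfold ip
  rw [Matrix.dotProduct_mulVec, ← Matrix.mulVec_transpose, hsymm.eq, dotProduct_comm]

theorem ip_add_left (x y z : Fin 24 → ℤ) : ip B (x + y) z = ip B x z + ip B y z := by
  unfold ip; rw [add_dotProduct]

theorem ip_add_right (x y z : Fin 24 → ℤ) : ip B x (y + z) = ip B x y + ip B x z := by
  unfold ip; rw [Matrix.mulVec_add, dotProduct_add]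

theorem ip_neg_left (x y : Fin 24 → ℤ) : ip B (-x) y = - ip B x y := by
  unfold ip; rw [neg_dotProduct]

theorem ip_neg_right (x y : Fin 24 → ℤ) : ip B x (-y) = - ip B x y := by
  unfold ip; rw [Matrix.mulVec_neg, dotProduct_neg]

theorem ip_sub_left (x y z : Fin 24 → ℤ) : ip B (x - y) z = ip B x z - ip B y z := by
  rw [sub_eq_add_neg, ip_add_left, ip_neg_left, sub_eq_add_neg]

theorem ip_sub_right (x y z : Fin 24 → ℤ) : ip B x (y - z) = ip B x y - ip B x z := by
  rw [sub_eq_add_neg, ip_add_right, ip_neg_right, sub_eq_add_neg]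

theorem ip_smul_left (c : ℤ) (x y : Fin 24 → ℤ) : ip B (c • x) y = c * ip B x y := by
  unfold ip; rw [smul_dotProduct, smul_eq_mul]

theorem ip_smul_right (c : ℤ) (x y : Fin 24 → ℤ) : ip B x (c • y) = c * ip B x y := by
  unfold ip; rw [Matrix.mulVec_smul, dotProduct_smul, smul_eq_mul]

theorem ip_zero_left (y : Fin 24 → ℤ) : ip B 0 y = 0 := by
  unfold ip; rw [zero_dotProduct]

/-- hypotheses on the form -/
structure Hyp (B : Matrix (Fin 24) (Fin 24) ℤ) : Prop where
  symm : B.IsSymm
  pos : ∀ x : Fin 24 → ℤ, x ≠ 0 → 0 < ip B x x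
  even : ∀ x : Fin 24 → ℤ, (2 : ℤ) ∣ ip B x x
  no2 : ∀ x : Fin 24 → ℤ, ip B x x ≠ 2

theorem Hyp.four_le (h : Hyp B) {z : Fin 24 → ℤ} (hz : z ≠ 0) : 4 ≤ ip B z z := by
  have h1 := h.pos z hz
  have h2 := h.even z
  have h3 := h.no2 z
  omega

theorem q_add (h : Hyp B) (x y : Fin 24 → ℤ) :
    ip B (x + y) (x + y) = ip B x x + ip B y y + 2 * ip B x y := by
  rw [ip_add_left, ip_add_right, ip_add_right, ip_comm h.symm y x]; ring

theorem q_sub (h : Hyp B) (x y : Fin 24 → ℤ) :
    ip B (x - y) (x - y) = ip B x x + ip B y y - 2 * ip B x y := by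
  rw [ip_sub_left, ip_sub_right, ip_sub_right, ip_comm h.symm y x]; ring

theorem q_neg (x : Fin 24 → ℤ) : ip B (-x) (-x) = ip B x x := by
  rw [ip_neg_left, ip_neg_right, neg_neg]

theorem q_two_smul (z : Fin 24 → ℤ) : ip B ((2 : ℤ) • z) ((2 : ℤ) • z) = 4 * ip B z z := by
  rw [ip_smul_left, ip_smul_right]; ring

/-- reduction mod 2 -/
def red (x : Fin 24 → ℤ) : Fin 24 → ZMod 2 := fun i => (x i : ZMod 2)

theorem red_eq_iff (x y : Fin 24 → ℤ) : red x = red y ↔ ∀ i, (2 : ℤ) ∣ x i - y i := by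
  constructor
  · intro h i
    have := congrFun h i
    unfold red at this
    rw [ZMod.intCast_eq_intCast_iff_dvd_sub] at this
    have h2 : ((2 : ℕ) : ℤ) ∣ y i - x i := this
    have : (2 : ℤ) ∣ y i - x i := by exact_mod_cast h2
    omega
  · intro h
    funext i
    unfold red
    rw [ZMod.intCast_eq_intCast_iff_dvd_sub]
    have := h i
    have h2 : (2 : ℤ) ∣ y i - x i := by omega
    exact_mod_cast h2

theorem red_neg (x : Fin 24 → ℤ) : red (-x) = red x := by
  rw [red_eq_iff]
  intro i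
  simp only [Pi.neg_apply]
  omega

theorem exists_half_sub {x y : Fin 24 → ℤ} (h : red x = red y) :
    ∃ z : Fin 24 → ℤ, x - y = (2 : ℤ) • z := by
  rw [red_eq_iff] at h
  refine ⟨fun i => (x i - y i) / 2, ?_⟩
  funext i
  have := h i
  simp only [Pi.sub_apply, Pi.smul_apply, smul_eq_mul]
  omega

theorem exists_half_add {x y : Fin 24 → ℤ} (h : red x = red y) :
    ∃ z : Fin 24 → ℤ, x + y = (2 : ℤ) • z := by
  rw [red_eq_iff] at h
  refine ⟨fun i => (x i + y i) / 2, ?_⟩
  funext i
  have := h i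
  simp only [Pi.add_apply, Pi.smul_apply, smul_eq_mul]
  omega

/-- **Key lemma**: congruent short vectors -/
theorem Hyp.key (h : Hyp B) {x y : Fin 24 → ℤ} (hx : ip B x x ≤ 8) (hy : ip B y y ≤ 8)
    (hred : red x = red y) (hne : x ≠ y) (hne' : x ≠ -y) :
    ip B x x = 8 ∧ ip B y y = 8 ∧ ip B x y = 0 := by
  obtain ⟨z, hz⟩ := exists_half_sub hred
  obtain ⟨z', hz'⟩ := exists_half_add hred
  have hz0 : z ≠ 0 := by
    intro h0
    rw [h0, smul_zero] at hz
    exact hne (sub_eq_zero.1 hz)
  have hz0' : z' ≠ 0 := by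
    intro h0
    rw [h0, smul_zero] at hz'
    exact hne' (eq_neg_of_add_eq_zero_left hz')
  have h1 := h.four_le hz0
  have h2 := h.four_le hz0'
  have e1 := q_sub h x y
  have e2 := q_add h x y
  rw [hz, q_two_smul] at e1
  rw [hz', q_two_smul] at e2
  refine ⟨by omega, by omega, by omega⟩

theorem Hyp.red_ne_zero (h : Hyp B) {x : Fin 24 → ℤ} (hx : ip B x x ≤ 8) (hx0 : x ≠ 0) :
    red x ≠ 0 := by
  intro h0
  have h0' : red x = red 0 := by
    rw [h0]; funext i; simp [red]
  obtain ⟨z, hz⟩ := exists_half_sub h0'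
  rw [sub_zero] at hz
  have hz0 : z ≠ 0 := by
    intro e; rw [e, smul_zero] at hz; exact hx0 hz
  have := h.four_le hz0
  rw [hz, q_two_smul] at hx
  omega

/-! ### selection of representatives up to sign -/

theorem exists_no_opposite (S : Finset (Fin 24 → ℤ)) (hS : ∀ x ∈ S, x ≠ 0) :
    ∀ k : ℕ, 2 * k ≤ S.card → ∃ T : Finset (Fin 24 → ℤ), T ⊆ S ∧ T.card = k ∧
      ∀ x ∈ T, ∀ y ∈ T, y ≠ -x := by
  classical
  intro k
  induction k with
  | zero => exact fun _ => ⟨∅, Finset.empty_subset _, rfl, fun x hx => absurd hx (Finset.notMem_empty x)⟩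
  | succ k ih =>
    intro hk
    obtain ⟨T, hTS, hTc, hT⟩ := ih (by omega)
    have hcard : (T ∪ T.image Neg.neg).card < S.card := by
      have h1 := Finset.card_union_le T (T.image Neg.neg)
      have h2 := Finset.card_image_le (s := T) (f := Neg.neg)
      omega
    obtain ⟨y, hyS, hyT⟩ := Finset.exists_mem_notMem_of_card_lt_card hcard
    rw [Finset.mem_union, not_or] at hyT
    obtain ⟨hy1, hy2⟩ := hyT
    refine ⟨insert y T, Finset.insert_subset hyS hTS, by rw [Finset.card_insert_of_notMem hy1, hTc],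
      ?_⟩
    intro a ha b hb
    rw [Finset.mem_insert] at ha hb
    rcases ha with ha | ha <;> rcases hb with hb | hb
    · intro e
      rw [ha, hb] at e
      apply hS y hyS
      funext i
      have := congrFun e i
      simp only [Pi.neg_apply, Pi.zero_apply] at this ⊢
      omega
    · intro e
      apply hy2
      rw [Finset.mem_image]
      exact ⟨b, hb, by rw [e, ha, neg_neg]⟩
    · intro e
      apply hy2
      rw [Finset.mem_image]
      exact ⟨a, ha, by rw [← hb, e]⟩
    · exact hT a ha b hb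

/-- **Existence of a frame.** -/
theorem Hyp.exists_frame (h : Hyp B)
    (h4 : {x : Fin 24 → ℤ | ip B x x = 4}.ncard = 196560)
    (h6 : {x : Fin 24 → ℤ | ip B x x = 6}.ncard = 16773120)
    (h8 : {x : Fin 24 → ℤ | ip B x x = 8}.ncard = 398034000) :
    ∃ e : Fin 24 → (Fin 24 → ℤ), (∀ i, ip B (e i) (e i) = 8) ∧
      (∀ i j, i ≠ j → ip B (e i) (e j) = 0) ∧ ∀ i j, red (e i) = red (e j) := by
  classical
  have hf4 : {x : Fin 24 → ℤ | ip B x x = 4}.Finite :=
    Set.finite_of_ncard_ne_zero (by rw [h4]; norm_num)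
  have hf6 : {x : Fin 24 → ℤ | ip B x x = 6}.Finite :=
    Set.finite_of_ncard_ne_zero (by rw [h6]; norm_num)
  have hf8 : {x : Fin 24 → ℤ | ip B x x = 8}.Finite :=
    Set.finite_of_ncard_ne_zero (by rw [h8]; norm_num)
  set F4 := hf4.toFinset with hF4
  set F6 := hf6.toFinset with hF6
  set F8 := hf8.toFinset with hF8
  have hc4 : F4.card = 196560 := by rw [← h4, Set.ncard_eq_toFinset_card _ hf4]
  have hc6 : F6.card = 16773120 := by rw [← h6, Set.ncard_eq_toFinset_card _ hf6]
  have hc8 : F8.card = 398034000 := by rw [← h8, Set.ncard_eq_toFinset_card _ hf8]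
  have m4 : ∀ x, x ∈ F4 ↔ ip B x x = 4 := fun x => by rw [hF4, Set.Finite.mem_toFinset]; rfl
  have m6 : ∀ x, x ∈ F6 ↔ ip B x x = 6 := fun x => by rw [hF6, Set.Finite.mem_toFinset]; rfl
  have m8 : ∀ x, x ∈ F8 ↔ ip B x x = 8 := fun x => by rw [hF8, Set.Finite.mem_toFinset]; rfl
  have hdisj : Disjoint F4 F6 := by
    rw [Finset.disjoint_left]
    intro x hx hx'
    rw [m4] at hx; rw [m6] at hx'; omega
  set U := F4 ∪ F6 with hU
  have hcU : U.card = 16969680 := by rw [hU, Finset.card_union_of_disjoint hdisj, hc4, hc6]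
  have mU : ∀ x, x ∈ U ↔ (ip B x x = 4 ∨ ip B x x = 6) := fun x => by
    rw [hU, Finset.mem_union, m4, m6]
  have hne0 : ∀ x : Fin 24 → ℤ, 0 < ip B x x → x ≠ 0 := by
    intro x hx e
    rw [e, ip_zero_left] at hx
    exact lt_irrefl _ hx
  -- fibres of `red` on `U` have at most two elements
  have hU2 : U.card ≤ 2 * (U.image red).card := by
    apply Finset.card_le_mul_card_image
    intro a ha
    obtain ⟨x0, hx0, rfl⟩ := Finset.mem_image.1 ha
    have hsub : (U.filter fun x => red x = red x0) ⊆ {x0, -x0} := by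
      intro y hy
      rw [Finset.mem_filter] at hy
      rw [Finset.mem_insert, Finset.mem_singleton]
      by_contra hcon
      push Not at hcon
      have hx0' := (mU x0).1 hx0
      have hy' := (mU y).1 hy.1
      have := h.key (x := y) (y := x0) (by omega) (by omega) hy.2 hcon.1 hcon.2
      omega
    exact le_trans (Finset.card_le_card hsub) Finset.card_le_two
  -- the image of F8 avoids the image of U and zero
  have h0U : (0 : Fin 24 → ZMod 2) ∉ U.image red := by
    intro hc
    obtain ⟨x, hx, hx0⟩ := Finset.mem_image.1 hc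
    have hx' := (mU x).1 hx
    exact h.red_ne_zero (by omega) (hne0 x (by omega)) hx0
  have h08 : (0 : Fin 24 → ZMod 2) ∉ F8.image red := by
    intro hc
    obtain ⟨x, hx, hx0⟩ := Finset.mem_image.1 hc
    have hx' := (m8 x).1 hx
    exact h.red_ne_zero (by omega) (hne0 x (by omega)) hx0
  have hdisj2 : Disjoint (U.image red) (F8.image red) := by
    rw [Finset.disjoint_left]
    intro a ha ha'
    obtain ⟨x, hx, rfl⟩ := Finset.mem_image.1 ha
    obtain ⟨y, hy, hxy⟩ := Finset.mem_image.1 ha'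
    have hx' := (mU x).1 hx
    have hy' := (m8 y).1 hy
    have hne1 : x ≠ y := by
      intro e; rw [e] at hx'; omega
    have hne2 : x ≠ -y := by
      intro e; rw [e, q_neg] at hx'; omega
    have := h.key (x := x) (y := y) (by omega) (by omega) hxy.symm hne1 hne2
    omega
  have hcard_univ : (Finset.univ : Finset (Fin 24 → ZMod 2)).card = 16777216 := by
    rw [Finset.card_univ, Fintype.card_fun, ZMod.card, Fintype.card_fin]; norm_num
  have hcard_img : (F8.image red).card ≤ 8292375 := by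
    have h1 : (insert (0 : Fin 24 → ZMod 2) (U.image red ∪ F8.image red)).card
        ≤ (Finset.univ : Finset (Fin 24 → ZMod 2)).card := Finset.card_le_card (Finset.subset_univ _)
    rw [Finset.card_insert_of_notMem (by
      rw [Finset.mem_union]; exact fun hc => hc.elim h0U h08),
      Finset.card_union_of_disjoint hdisj2, hcard_univ] at h1
    omega
  -- pigeonhole
  obtain ⟨a, _, hfib⟩ := Finset.exists_lt_card_fiber_of_mul_lt_card_of_maps_to
    (s := F8) (t := F8.image red) (f := red) (n := 47)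
    (fun x hx => Finset.mem_image_of_mem red hx) (by rw [hc8]; omega)
  set Fb := F8.filter fun x => red x = a with hFb
  have mFb : ∀ x, x ∈ Fb ↔ ip B x x = 8 ∧ red x = a := fun x => by
    rw [hFb, Finset.mem_filter, m8]
  have hFb0 : ∀ x ∈ Fb, x ≠ 0 := fun x hx => hne0 x (by rw [((mFb x).1 hx).1]; norm_num)
  obtain ⟨T, hTS, hTc, hT⟩ := exists_no_opposite Fb hFb0 24 (by omega)
  let eqv := T.equivFinOfCardEq hTc
  refine ⟨fun i => ((eqv.symm i : T) : Fin 24 → ℤ), fun i => ?_, fun i j hij => ?_, fun i j => ?_⟩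
  · exact ((mFb _).1 (hTS (eqv.symm i).2)).1
  · have hi := (mFb _).1 (hTS (eqv.symm i).2)
    have hj := (mFb _).1 (hTS (eqv.symm j).2)
    have hne1 : ((eqv.symm i : T) : Fin 24 → ℤ) ≠ ((eqv.symm j : T) : Fin 24 → ℤ) := by
      intro e
      exact hij (eqv.symm.injective (Subtype.ext e))
    have hne2 : ((eqv.symm i : T) : Fin 24 → ℤ) ≠ -((eqv.symm j : T) : Fin 24 → ℤ) :=
      hT _ (eqv.symm j).2 _ (eqv.symm i).2
    exact (h.key (by rw [hi.1]) (by rw [hj.1]) (hi.2.trans hj.2.symm) hne1 hne2).2.2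
  · have hi := (mFb _).1 (hTS (eqv.symm i).2)
    have hj := (mFb _).1 (hTS (eqv.symm j).2)
    exact hi.2.trans hj.2.symm

end Cfsg.Agent.Lib.Helper8.LC
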