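import Mathlib
import Cfsg.Agent.Lib.Helper8.LeechChar3
import Cfsg.Agent.Lib.Helper8.LeechChar4

/-!
# Conway's characterisation of the Leech lattice, part 5: coordinates and the theorem
-/

set_option autoImplicit false
set_option maxRecDepth 10000

namespace Cfsg.Agent.Lib.Helper8.LC
open Matrix Cfsg Cfsg.Agent.Lib.Helper7 Cfsg.Agent.Lib.Helper8

variable {B : Matrix (Fin 24) (Fin 24) ℤ}

/-- a frame: 24 pairwise orthogonal vectors of norm 8, pairwise congruent mod 2 -/
structure IsFrame (B : Matrix (Fin 24) (Fin 24) ℤ) (e : Fin 24 → (Fin 24 → ℤ)) : Prop where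
  norm : ∀ i, ip B (e i) (e i) = 8
  orth : ∀ i j, i ≠ j → ip B (e i) (e j) = 0
  congr : ∀ i j, red (e i) = red (e j)

/-- coordinates with respect to a frame -/
def phi (B : Matrix (Fin 24) (Fin 24) ℤ) (e : Fin 24 → (Fin 24 → ℤ)) (x : Fin 24 → ℤ) :
    Fin 24 → ℤ := fun i => ip B (e i) x

variable {e : Fin 24 → (Fin 24 → ℤ)}

theorem IsFrame.ip_eq (he : IsFrame B e) (i j : Fin 24) :
    ip B (e i) (e j) = if i = j then 8 else 0 := by
  split_ifs with h
  · rw [h]; exact he.norm j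
  · exact he.orth i j h

theorem phi_eq_mulVec (e : Fin 24 → (Fin 24 → ℤ)) (x : Fin 24 → ℤ) :
    phi B e x = (Matrix.of e * B) *ᵥ x := by
  rw [← Matrix.mulVec_mulVec]
  rfl

theorem IsFrame.gram (he : IsFrame B e) :
    (Matrix.of e * B) * (Matrix.of e)ᵀ = (8 : ℤ) • (1 : Matrix (Fin 24) (Fin 24) ℤ) := by
  ext i j
  have h1 : ((Matrix.of e * B) * (Matrix.of e)ᵀ) i j = ((Matrix.of e * B) *ᵥ (e j)) i := by
    rw [Matrix.mul_apply]
    rfl
  rw [h1, ← phi_eq_mulVec]
  show ip B (e i) (e j) = _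
  rw [he.ip_eq, Matrix.smul_apply, Matrix.one_apply]
  split_ifs <;> simp

theorem IsFrame.det_ne_zero (he : IsFrame B e) : (Matrix.of e * B).det ≠ 0 := by
  intro h0
  have h1 := congrArg Matrix.det he.gram
  rw [Matrix.det_mul, h0, zero_mul, Matrix.det_smul, Matrix.det_one, mul_one, Fintype.card_fin]
    at h1
  norm_num at h1

/-- expansion in the frame: `8x = Σ (x, e_i) e_i` -/
theorem IsFrame.expand (he : IsFrame B e) (x : Fin 24 → ℤ) :
    (8 : ℤ) • x = (Matrix.of e)ᵀ *ᵥ phi B e x := by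
  have hy : (Matrix.of e * B) *ᵥ ((8 : ℤ) • x - (Matrix.of e)ᵀ *ᵥ phi B e x) = 0 := by
    rw [Matrix.mulVec_sub, Matrix.mulVec_smul, Matrix.mulVec_mulVec, he.gram, Matrix.smul_mulVec,
      Matrix.one_mulVec, ← phi_eq_mulVec, sub_self]
  exact sub_eq_zero.1 (Matrix.eq_zero_of_mulVec_eq_zero he.det_ne_zero hy)

/-- **Parseval** -/
theorem IsFrame.parseval (he : IsFrame B e) (x : Fin 24 → ℤ) :
    ∑ i, phi B e x i ^ 2 = 8 * ip B x x := by
  have h1 : ip B ((8 : ℤ) • x) x = 8 * ip B x x := ip_smul_left _ _ _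
  rw [he.expand x] at h1
  have h2 : ip B ((Matrix.of e)ᵀ *ᵥ phi B e x) x = phi B e x ⬝ᵥ phi B e x := by
    unfold ip
    rw [Matrix.mulVec_transpose, ← Matrix.dotProduct_mulVec, Matrix.mulVec_mulVec,
      ← phi_eq_mulVec]
  rw [h2] at h1
  rw [← h1]
  unfold dotProduct
  exact Finset.sum_congr rfl fun i _ => sq _

/-! ### coordinates indexed by `GolayPt` -/

/-- a fixed bijection between the 24 points and `Fin 24` -/
noncomputable def bPt : GolayPt ≃ Fin 24 := Fintype.equivFinOfCardEq card_golayPt'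

/-- the coordinate map as an additive map to `GolayPt → ℤ` -/
noncomputable def PhiHom (B : Matrix (Fin 24) (Fin 24) ℤ) (e : Fin 24 → (Fin 24 → ℤ)) :
    (Fin 24 → ℤ) →+ (GolayPt → ℤ) where
  toFun x := fun p => ip B (e (bPt p)) x
  map_zero' := by
    funext p
    show ip B (e (bPt p)) 0 = 0
    unfold ip; rw [Matrix.mulVec_zero, dotProduct_zero]
  map_add' := by
    intro x y
    funext p
    exact ip_add_right _ _ _

theorem PhiHom_apply (x : Fin 24 → ℤ) (p : GolayPt) :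
    PhiHom B e x p = ip B (e (bPt p)) x := rfl

theorem IsFrame.sqNorm_Phi (he : IsFrame B e) (x : Fin 24 → ℤ) :
    sqNorm (PhiHom B e x) = 8 * ip B x x := by
  rw [← he.parseval x]
  unfold sqNorm
  exact Equiv.sum_comp bPt fun i => phi B e x i ^ 2

theorem IsFrame.dot_Phi (he : IsFrame B e) (hB : Hyp B) (x y : Fin 24 → ℤ) :
    dotInt (PhiHom B e x) (PhiHom B e y) = 8 * ip B x y := by
  have h1 := sqNorm_add' (PhiHom B e x) (PhiHom B e y)
  rw [← map_add, he.sqNorm_Phi, he.sqNorm_Phi, he.sqNorm_Phi, q_add hB] at h1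
  linarith

theorem IsFrame.Phi_injective (he : IsFrame B e) (hB : Hyp B) :
    Function.Injective (PhiHom B e) := by
  rw [injective_iff_map_eq_zero]
  intro x hx
  by_contra hne
  have h1 := hB.pos x hne
  have h2 := he.sqNorm_Phi x
  rw [hx] at h2
  have : sqNorm (0 : GolayPt → ℤ) = 0 := by
    unfold sqNorm; simp
  rw [this] at h2
  omega

theorem IsFrame.Phi_frame (he : IsFrame B e) (k : Fin 24) :
    PhiHom B e (e k) = Pi.single (bPt.symm k) 8 := by
  funext p
  rw [PhiHom_apply, he.ip_eq, Pi.single_apply]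
  by_cases h : bPt p = k
  · rw [if_pos h, if_pos (by rw [← h, Equiv.symm_apply_apply])]
  · rw [if_neg h, if_neg (fun e' => h (by rw [e', Equiv.apply_symm_apply]))]

/-- the lattice in coordinates -/
noncomputable def latt (B : Matrix (Fin 24) (Fin 24) ℤ) (e : Fin 24 → (Fin 24 → ℤ)) :
    AddSubgroup (GolayPt → ℤ) := (PhiHom B e).range

theorem IsFrame.pair_mem (he : IsFrame B e) (i j : GolayPt) :
    (Pi.single i 4 - Pi.single j 4 : GolayPt → ℤ) ∈ latt B e ∧
    (Pi.single i 4 + Pi.single j 4 : GolayPt → ℤ) ∈ latt B e := by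
  obtain ⟨z, hz⟩ := exists_half_sub (he.congr (bPt i) (bPt j))
  have h1 : PhiHom B e z = Pi.single i 4 - Pi.single j 4 := by
    have h2 : (2 : ℤ) • PhiHom B e z = Pi.single i 8 - Pi.single j 8 := by
      rw [← map_zsmul, ← hz, map_sub, he.Phi_frame, he.Phi_frame, Equiv.symm_apply_apply,
        Equiv.symm_apply_apply]
    funext p
    have := congrFun h2 p
    simp only [Pi.smul_apply, smul_eq_mul, Pi.sub_apply, Pi.single_apply] at this ⊢
    split_ifs at this ⊢ <;> omega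
  constructor
  · exact ⟨z, h1⟩
  · refine ⟨z + e (bPt j), ?_⟩
    rw [map_add, h1, he.Phi_frame, Equiv.symm_apply_apply]
    funext p
    simp only [Pi.add_apply, Pi.sub_apply, Pi.single_apply]
    split_ifs <;> omega

theorem IsFrame.isLeechLike (he : IsFrame B e) (hB : Hyp B) : IsLeechLike (latt B e) where
  pair_add := fun i j _ => (he.pair_mem i j).2
  pair_sub := fun i j _ => (he.pair_mem i j).1
  norm_ge := by
    rintro v ⟨x, rfl⟩ hv
    have hx : x ≠ 0 := by
      intro e0; apply hv; rw [e0, map_zero]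
    rw [he.sqNorm_Phi]
    have := hB.four_le hx
    omega
  norm_dvd := by
    rintro v ⟨x, rfl⟩
    rw [he.sqNorm_Phi]
    obtain ⟨k, hk⟩ := hB.even x
    rw [hk]; exact ⟨k, by ring⟩
  dot_dvd := by
    rintro v ⟨x, rfl⟩ w ⟨y, rfl⟩
    rw [he.dot_Phi hB]
    exact ⟨_, rfl⟩

theorem IsFrame.count (he : IsFrame B e) (hB : Hyp B)
    (h4 : {x : Fin 24 → ℤ | ip B x x = 4}.ncard = 196560) :
    {v : GolayPt → ℤ | v ∈ latt B e ∧ sqNorm v = 32}.ncard = 196560 := by
  rw [← h4]
  have : {v : GolayPt → ℤ | v ∈ latt B e ∧ sqNorm v = 32}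
      = PhiHom B e '' {x : Fin 24 → ℤ | ip B x x = 4} := by
    ext v
    constructor
    · rintro ⟨⟨x, rfl⟩, hn⟩
      rw [he.sqNorm_Phi] at hn
      exact ⟨x, by show ip B x x = 4; omega, rfl⟩
    · rintro ⟨x, hx, rfl⟩
      have hx' : ip B x x = 4 := hx
      exact ⟨⟨x, rfl⟩, by rw [he.sqNorm_Phi, hx']; norm_num⟩
  rw [this]
  exact Set.ncard_image_of_injective _ (he.Phi_injective hB)

/-! ### the theorem -/

theorem fwd_bwd (σ : Equiv.Perm GolayPt) (t : GolayPt → ℤ) (ht : ∀ q, t q * t q = 1)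
    (y : GolayPt → ℤ) : fwdMap σ t (bwdHom σ t y) = y := by
  funext p
  rw [fwdMap, bwdHom_apply, Equiv.apply_symm_apply, ← mul_assoc, ht, one_mul]

theorem sqNorm_fwdMap (σ : Equiv.Perm GolayPt) (t : GolayPt → ℤ) (ht : ∀ q, t q * t q = 1)
    (x : GolayPt → ℤ) : sqNorm (fwdMap σ t x) = sqNorm x := by
  unfold sqNorm fwdMap
  rw [Equiv.sum_comp σ.symm fun q => (t q * x q) ^ 2]
  refine Finset.sum_congr rfl fun q _ => ?_
  rw [mul_pow, sq (t q), ht, one_mul]

theorem fwdMap_add (σ : Equiv.Perm GolayPt) (t : GolayPt → ℤ) (x y : GolayPt → ℤ) :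
    fwdMap σ t (x + y) = fwdMap σ t x + fwdMap σ t y := by
  funext p
  simp only [fwdMap, Pi.add_apply, mul_add]

/-- **Conway's characterisation of the Leech lattice.** -/
theorem leech_char (hB : Hyp B)
    (h4 : {x : Fin 24 → ℤ | ip B x x = 4}.ncard = 196560)
    (h6 : {x : Fin 24 → ℤ | ip B x x = 6}.ncard = 16773120)
    (h8 : {x : Fin 24 → ℤ | ip B x x = 8}.ncard = 398034000) :
    ∃ f : (Fin 24 → ℤ) ≃+ leechLattice, ∀ x : Fin 24 → ℤ,
      sqNorm ((f x : leechLattice) : GolayPt → ℤ) = 8 * ip B x x := by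
  obtain ⟨e, h1, h2, h3⟩ := hB.exists_frame h4 h6 h8
  have he : IsFrame B e := ⟨h1, h2, h3⟩
  have hL := he.isLeechLike hB
  obtain ⟨σ, t, htc, hiff⟩ := hL.exists_iso (he.count hB h4)
  have htt : ∀ q, t q * t q = 1 := fun q => by
    rcases htc q with e' | e' <;> rw [e'] <;> norm_num
  have hmem : ∀ x : Fin 24 → ℤ, fwdMap σ t (PhiHom B e x) ∈ leechLattice :=
    fun x => (hiff _).1 ⟨x, rfl⟩
  let f0 : (Fin 24 → ℤ) →+ leechLattice :=
    { toFun := fun x => ⟨fwdMap σ t (PhiHom B e x), hmem x⟩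
      map_zero' := by
        apply Subtype.ext
        show fwdMap σ t (PhiHom B e 0) = 0
        rw [map_zero]
        funext p
        simp [fwdMap]
      map_add' := by
        intro x y
        apply Subtype.ext
        show fwdMap σ t (PhiHom B e (x + y)) = fwdMap σ t (PhiHom B e x) + fwdMap σ t (PhiHom B e y)
        rw [map_add, fwdMap_add] }
  have hinj : Function.Injective f0 := by
    intro x y hxy
    have h5 : fwdMap σ t (PhiHom B e x) = fwdMap σ t (PhiHom B e y) := congrArg Subtype.val hxy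
    have h6 := congrArg (bwdHom σ t) h5
    rw [bwd_fwd σ t htt, bwd_fwd σ t htt] at h6
    exact he.Phi_injective hB h6
  have hsurj : Function.Surjective f0 := by
    rintro ⟨y, hy⟩
    have h5 : bwdHom σ t y ∈ latt B e := by
      rw [hiff, fwd_bwd σ t htt]; exact hy
    obtain ⟨x, hx⟩ := h5
    refine ⟨x, Subtype.ext ?_⟩
    show fwdMap σ t (PhiHom B e x) = y
    rw [hx, fwd_bwd σ t htt]
  refine ⟨AddEquiv.ofBijective f0 ⟨hinj, hsurj⟩, fun x => ?_⟩
  show sqNorm (fwdMap σ t (PhiHom B e x)) = _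
  rw [sqNorm_fwdMap σ t htt, he.sqNorm_Phi]

end Cfsg.Agent.Lib.Helper8.LC
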