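import Mathlib
import Cfsg.Agent.Lib.Helper8.LeechCount

/-!
# Counting Leech vectors of small norm with coordinates restricted to a symmetric set `A`

Same method as `LeechCount`, with the coordinate values restricted to a finite set `A` closed under
negation.
-/

set_option autoImplicit false

namespace Cfsg.Agent.Lib.Helper8
open Cfsg Cfsg.Agent.Lib.Helper7

/-- allowed values with residue `r` lying in `A` -/
def VresA (A : Finset ℤ) (r : ℤ) : Finset ℤ := (Vres r).filter fun v => v ∈ A

theorem mem_VresA {A : Finset ℤ} {r v : ℤ} (hr : r = 0 ∨ r = 1 ∨ r = 2 ∨ r = 3) :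
    v ∈ VresA A r ↔ (-8 ≤ v ∧ v ≤ 8 ∧ v % 4 = r) ∧ v ∈ A := by
  unfold VresA
  rw [Finset.mem_filter, mem_Vres hr]

theorem card_VresA_le (A : Finset ℤ) (r : ℤ) : (VresA A r).card ≤ 5 :=
  le_trans (Finset.card_filter_le _ _) (card_Vres_le r)

/-- restricted one-coordinate generating function evaluated at `BB` -/
def thetaA (A : Finset ℤ) (r : ℤ) : ℕ := ∑ v ∈ VresA A r, BB ^ (v.natAbs ^ 2)

theorem thetaA_three (A : Finset ℤ) (hA : ∀ v ∈ A, -v ∈ A) : thetaA A 3 = thetaA A 1 := by
  unfold thetaA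
  refine Finset.sum_nbij' (fun v => -v) (fun v => -v) ?_ ?_ ?_ ?_ ?_
  · intro v hv
    rw [mem_VresA (by omega)] at hv ⊢
    exact ⟨by omega, hA v hv.2⟩
  · intro v hv
    rw [mem_VresA (by omega)] at hv ⊢
    exact ⟨by omega, hA v hv.2⟩
  · intro v _; exact neg_neg v
  · intro v _; exact neg_neg v
  · intro v _; rw [Int.natAbs_neg]

/-- restricted version of `TF` -/
def TFA (A : Finset ℤ) (odd : Bool) (w : GolayPt → ZMod 2) (n : ℕ) : Finset (GolayPt → ℤ) :=
  (Fintype.piFinset fun i => VresA A (res odd w i)).filter fun x => ∑ i, (x i).natAbs ^ 2 = n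

/-- restricted version of `TS` -/
def TSA (A : Finset ℤ) (odd : Bool) (w : GolayPt → ZMod 2) (n : ℕ) : Finset (GolayPt → ℤ) :=
  (TFA A odd w n).filter fun x => (∑ i, x i) % 8 = (if odd then 4 else 0)

theorem mem_TFA {A : Finset ℤ} {odd : Bool} {w : GolayPt → ZMod 2} {n : ℕ} {x : GolayPt → ℤ} :
    x ∈ TFA A odd w n ↔ x ∈ TF odd w n ∧ ∀ i, x i ∈ A := by
  unfold TFA
  rw [Finset.mem_filter, Fintype.mem_piFinset, mem_TF]
  constructor
  · rintro ⟨h1, h2⟩
    exact ⟨⟨fun i => ((mem_VresA (res_cases odd w i)).1 (h1 i)).1, h2⟩,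
      fun i => ((mem_VresA (res_cases odd w i)).1 (h1 i)).2⟩
  · rintro ⟨⟨h1, h2⟩, h3⟩
    exact ⟨fun i => (mem_VresA (res_cases odd w i)).2 ⟨h1 i, h3 i⟩, h2⟩

theorem mem_TSA {A : Finset ℤ} {odd : Bool} {w : GolayPt → ZMod 2} {n : ℕ} {x : GolayPt → ℤ} :
    x ∈ TSA A odd w n ↔ x ∈ TS odd w n ∧ ∀ i, x i ∈ A := by
  unfold TSA TS
  rw [Finset.mem_filter, Finset.mem_filter, mem_TFA]
  tauto

theorem ncard_eq_sum_A (A : Finset ℤ) (n : ℕ) (hn : n < 81) :
    {x : GolayPt → ℤ | x ∈ leechLattice ∧ sqNorm x = (n : ℤ) ∧ ∀ i, x i ∈ A}.ncard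
      = ∑ w ∈ codeF, ((TSA A false w n).card + (TSA A true w n).card) := by
  classical
  have hset : {x : GolayPt → ℤ | x ∈ leechLattice ∧ sqNorm x = (n : ℤ) ∧ ∀ i, x i ∈ A}
      = ↑(((Finset.univ : Finset Bool) ×ˢ codeF).biUnion fun p => TSA A p.1 p.2 n) := by
    ext x
    simp only [Set.mem_ofPred_eq, Finset.coe_biUnion, Finset.mem_coe, Finset.mem_product,
      Finset.mem_univ, true_and, Set.mem_iUnion, exists_prop, Prod.exists, mem_codeF, mem_TSA, TS,
      Finset.mem_filter, mem_TF, mem_leechLattice_iff]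
    constructor
    · rintro ⟨hx, hnorm, hA⟩
      obtain ⟨odd, w, hw, h4, hs⟩ := leechSet_structure hx
      refine ⟨odd, w, hw, ⟨⟨fun i => ?_, (sqNorm_eq_iff x n).1 hnorm⟩, hs⟩, hA⟩
      exact ⟨(coord_bound hnorm hn i).1, (coord_bound hnorm hn i).2, h4 i⟩
    · rintro ⟨odd, w, hw, ⟨⟨h4, hnorm⟩, hs⟩, hA⟩
      exact ⟨mem_leechSet_of_structure odd w hw (fun i => (h4 i).2.2) hs,
        (sqNorm_eq_iff x n).2 hnorm, hA⟩
  rw [hset, Set.ncard_coe_finset, Finset.card_biUnion]
  · rw [Finset.sum_product, Fintype.sum_bool, ← Finset.sum_add_distrib]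
    refine Finset.sum_congr rfl fun w _ => ?_
    rw [add_comm]
  · rintro ⟨odd, w⟩ _ ⟨odd', w'⟩ _ hne
    rw [Function.onFun, Finset.disjoint_left]
    intro x hx hx'
    apply hne
    simp only [mem_TSA, TS, Finset.mem_filter, mem_TF] at hx hx'
    obtain ⟨h1, h2⟩ := res_unique (fun i => (hx.1.1.1 i).2.2) (fun i => (hx'.1.1.1 i).2.2)
    rw [h1, h2]

theorem card_TFA (A : Finset ℤ) (odd : Bool) (w : GolayPt → ZMod 2) (n : ℕ) :
    (TFA A odd w n).card = (∏ i, thetaA A (res odd w i)) / BB ^ n % BB := by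
  unfold TFA thetaA
  rw [gf_prod, digit_extract]
  rw [Fintype.card_piFinset]
  calc ∏ i : GolayPt, (VresA A (res odd w i)).card ≤ ∏ _i : GolayPt, 5 :=
        Finset.prod_le_prod' fun i _ => card_VresA_le _ _
    _ = 5 ^ 24 := by rw [Finset.prod_const, Finset.card_univ, card_golayPt']
    _ < BB := by unfold BB; norm_num

theorem prod_thetaA_odd (A : Finset ℤ) (hA : ∀ v ∈ A, -v ∈ A) (w : GolayPt → ZMod 2) :
    ∏ i, thetaA A (res true w i) = thetaA A 1 ^ 24 := by
  have : ∀ i, thetaA A (res true w i) = thetaA A 1 := by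
    intro i
    simp only [res, if_true]
    split_ifs
    · rfl
    · exact thetaA_three A hA
  rw [Finset.prod_congr rfl fun i _ => this i, Finset.prod_const, Finset.card_univ, card_golayPt']

theorem prod_thetaA_even (A : Finset ℤ) (w : GolayPt → ZMod 2) :
    ∏ i, thetaA A (res false w i)
      = thetaA A 2 ^ (support₂ w).card * thetaA A 0 ^ (24 - (support₂ w).card) := by
  have h1 : support₂ w = Finset.univ.filter fun i => w i = 1 := by
    unfold support₂
    refine Finset.filter_congr fun i _ => ?_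
    exact zmod2_ne_zero_iff (w i)
  have : ∀ i, thetaA A (res false w i) = if w i = 1 then thetaA A 2 else thetaA A 0 := by
    intro i
    simp only [res, Bool.false_eq_true, if_false]
    split_ifs <;> rfl
  rw [Finset.prod_congr rfl fun i _ => this i, Finset.prod_ite, Finset.prod_const, Finset.prod_const,
    support₂_card_compl, h1]

theorem TSA_odd_eq (A : Finset ℤ) {w : GolayPt → ZMod 2} (hw : w ∈ golayCode) (n : ℕ)
    (hn : n % 16 = 0) : TSA A true w n = TFA A true w n := by
  ext x
  rw [mem_TSA, mem_TFA, TS_odd_eq hw n hn]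

theorem TSA_even_zero (A : Finset ℤ) (n : ℕ) :
    TSA A false 0 n = if n % 32 = 0 then TFA A false 0 n else ∅ := by
  ext x
  rw [mem_TSA, TS_even_zero]
  split_ifs
  · rw [mem_TFA]
  · simp

theorem two_mul_card_TSA_even (A : Finset ℤ) (hA : ∀ v ∈ A, -v ∈ A) {w : GolayPt → ZMod 2}
    (hw : w ∈ golayCode) (hw0 : w ≠ 0) (n : ℕ) :
    2 * (TSA A false w n).card = (TFA A false w n).card := by
  classical
  obtain ⟨i0, hi0⟩ : ∃ i0, w i0 = 1 := by
    by_contra h
    rw [not_exists] at h
    apply hw0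
    funext i
    rcases zmod2_cases (w i) with h' | h'
    · exact h'
    · exact absurd h' (h i)
  set σ : (GolayPt → ℤ) → (GolayPt → ℤ) := fun x => Function.update x i0 (- x i0) with hσ
  have hσσ : ∀ x, σ (σ x) = x := by
    intro x; simp [hσ]
  have hσapp : ∀ x i, σ x i = x i + (if i = i0 then -2 * x i0 else 0) := by
    intro x i
    by_cases h : i = i0
    · subst h; simp [hσ]; ring
    · simp [hσ, h]
  have hσabs : ∀ x i, (σ x i).natAbs = (x i).natAbs := by
    intro x i
    by_cases h : i = i0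
    · subst h; simp [hσ]
    · simp [hσ, h]
  have hσsum : ∀ x, ∑ i, σ x i = ∑ i, x i - 2 * x i0 := by
    intro x
    simp only [hσapp, Finset.sum_add_distrib, Finset.sum_ite_eq', Finset.mem_univ, if_true]
    ring
  have hσmem : ∀ x ∈ TFA A false w n, σ x ∈ TFA A false w n := by
    intro x hx
    rw [mem_TFA, mem_TF] at hx ⊢
    refine ⟨⟨fun i => ?_, ?_⟩, fun i => ?_⟩
    · by_cases h : i = i0
      · have := hx.1.1 i0
        subst h
        simp only [hσ, Function.update_self]
        simp only [res, Bool.false_eq_true, if_false, hi0, if_true] at this ⊢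
        omega
      · simp only [hσ, Function.update_of_ne h]
        exact hx.1.1 i
    · rw [← hx.1.2]
      exact Finset.sum_congr rfl fun i _ => by rw [hσabs]
    · by_cases h : i = i0
      · subst h
        simp only [hσ, Function.update_self]
        exact hA _ (hx.2 i)
      · simp only [hσ, Function.update_of_ne h]
        exact hx.2 i
  have hs4 : (support₂ w).card % 4 = 0 := Nat.mod_eq_zero_of_dvd (golay_doubly_even hw)
  have hmod : ∀ x ∈ TFA A false w n, (∑ i, x i) % 8 = 0 ∨ (∑ i, x i) % 8 = 4 := by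
    intro x hx
    rw [mem_TFA, mem_TF] at hx
    set e : GolayPt → ℤ := fun i => if w i = 1 then 1 else 0 with he
    set a : GolayPt → ℤ := fun i => x i / 4 with ha
    have hx' : ∀ i, x i = 4 * a i + 2 * e i := by
      intro i
      have := (hx.1.1 i).2.2
      simp only [res, Bool.false_eq_true, if_false] at this
      simp only [ha, he]
      split_ifs at this ⊢ <;> omega
    have hE : ∑ i, e i = ((support₂ w).card : ℤ) := by
      simp only [he]
      rw [Finset.sum_ite, Finset.sum_const_zero, add_zero, Finset.sum_const]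
      have h1 : support₂ w = Finset.univ.filter fun i => w i = 1 := by
        unfold support₂
        refine Finset.filter_congr fun i _ => ?_
        exact zmod2_ne_zero_iff (w i)
      rw [h1]; simp
    have hS : ∑ i, x i = 4 * ∑ i, a i + 2 * ∑ i, e i := by
      rw [Finset.sum_congr rfl fun i _ => hx' i]
      simp only [Finset.sum_add_distrib, ← Finset.mul_sum]
    rw [hS, hE]
    omega
  have hx0 : ∀ x ∈ TFA A false w n, x i0 % 4 = 2 := by
    intro x hx
    rw [mem_TFA, mem_TF] at hx
    have := (hx.1.1 i0).2.2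
    simpa [res, hi0] using this
  have hsplit := Finset.card_filter_add_card_filter_not (s := TFA A false w n)
    (fun x => (∑ i, x i) % 8 = 0)
  have hbij : ((TFA A false w n).filter fun x => ¬ (∑ i, x i) % 8 = 0).card
      = ((TFA A false w n).filter fun x => (∑ i, x i) % 8 = 0).card := by
    refine Finset.card_nbij' σ σ ?_ ?_ (fun x _ => hσσ x) (fun x _ => hσσ x)
    · intro x hx
      simp only [Finset.coe_filter, Set.mem_ofPred_eq] at hx ⊢
      refine ⟨hσmem x hx.1, ?_⟩
      rw [hσsum]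
      have := hmod x hx.1
      have := hx0 x hx.1
      omega
    · intro x hx
      simp only [Finset.coe_filter, Set.mem_ofPred_eq] at hx ⊢
      refine ⟨hσmem x hx.1, ?_⟩
      rw [hσsum]
      have := hx0 x hx.1
      omega
  unfold TSA
  simp only [Bool.false_eq_true, if_false]
  omega

/-- digit of the restricted generating function: even type, word of weight `k` -/
def gEA (A : Finset ℤ) (k n : ℕ) : ℕ := thetaA A 2 ^ k * thetaA A 0 ^ (24 - k) / BB ^ n % BB

/-- digit of the restricted generating function: odd type -/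
def gOA (A : Finset ℤ) (n : ℕ) : ℕ := thetaA A 1 ^ 24 / BB ^ n % BB

theorem card_TFA_even (A : Finset ℤ) (w : GolayPt → ZMod 2) (n : ℕ) :
    (TFA A false w n).card = gEA A (support₂ w).card n := by
  rw [card_TFA, prod_thetaA_even]; rfl

theorem card_TFA_odd (A : Finset ℤ) (hA : ∀ v ∈ A, -v ∈ A) (w : GolayPt → ZMod 2) (n : ℕ) :
    (TFA A true w n).card = gOA A n := by
  rw [card_TFA, prod_thetaA_odd A hA]; rfl

/-- **Counting Leech vectors of squared norm `n` with all coordinates in `A`**. -/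
theorem two_mul_leech_count_A (A : Finset ℤ) (hA : ∀ v ∈ A, -v ∈ A) (n : ℕ) (hn : n < 81)
    (hn16 : n % 16 = 0) :
    2 * {x : GolayPt → ℤ | x ∈ leechLattice ∧ sqNorm x = (n : ℤ) ∧ ∀ i, x i ∈ A}.ncard
      = 2 * (4096 * gOA A n) + 2 * (if n % 32 = 0 then gEA A 0 n else 0) + 759 * gEA A 8 n
        + 2576 * gEA A 12 n + 759 * gEA A 16 n + gEA A 24 n := by
  classical
  rw [ncard_eq_sum_A A n hn, Finset.sum_add_distrib, mul_add]
  have hodd : ∑ w ∈ codeF, (TSA A true w n).card = 4096 * gOA A n := by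
    rw [Finset.sum_congr rfl (g := fun _ => gOA A n)]
    · rw [Finset.sum_const, card_codeF, smul_eq_mul]
    · intro w hw
      rw [TSA_odd_eq A (mem_codeF.1 hw) n hn16, card_TFA_odd A hA]
  have h0mem : (0 : GolayPt → ZMod 2) ∈ codeF := mem_codeF.2 golayCode.zero_mem
  have h0 : 2 * (TSA A false 0 n).card = 2 * (if n % 32 = 0 then gEA A 0 n else 0) := by
    rw [TSA_even_zero]
    split_ifs
    · rw [card_TFA_even, support₂_zero_card]
    · rw [Finset.card_empty]
  have heven : 2 * ∑ w ∈ codeF, (TSA A false w n).card + gEA A 0 n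
      = 2 * (if n % 32 = 0 then gEA A 0 n else 0)
        + (gEA A 0 n + 759 * gEA A 8 n + 2576 * gEA A 12 n + 759 * gEA A 16 n + gEA A 24 n) := by
    rw [← sum_codeF' (fun k => gEA A k n), ← Finset.add_sum_erase _ _ h0mem,
      ← Finset.add_sum_erase _ (fun w => gEA A (support₂ w).card n) h0mem, mul_add, h0,
      support₂_zero_card, Finset.mul_sum]
    have : ∑ w ∈ codeF.erase 0, 2 * (TSA A false w n).card
        = ∑ w ∈ codeF.erase 0, gEA A (support₂ w).card n := by
      refine Finset.sum_congr rfl fun w hw => ?_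
      rw [Finset.mem_erase] at hw
      rw [two_mul_card_TSA_even A hA (mem_codeF.1 hw.2) hw.1, card_TFA_even]
    rw [this]
    ring
  rw [hodd]
  omega

end Cfsg.Agent.Lib.Helper8
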