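/-
Group-theoretic lemmas for "all characters in one 2-block" (helper8):
* a group with a normal self-centralizing `p`-subgroup has trivial `p'`-core and
  `C(O_p) ≤ O_p`;
* a counting lemma for the Robinson matrix entries.
-/
import Mathlib
import Cfsg.Prelude.Def_Solvable

set_option autoImplicit false

namespace Cfsg.Agent.Lib.Helper8.OneBlockGrp

open Cfsg

/-- A finite group with a normal `p`-subgroup containing its own centralizer has trivial `p'`-core
and `C(O_p) ≤ O_p`. -/
theorem constrained_of_normal_self_centralizing {X : Type*} [Group X] [Finite X] (p : ℕ)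
    [Fact p.Prime] (Q : Subgroup X) [hQn : Q.Normal] (hQ : IsPGroup p Q)
    (hC : Subgroup.centralizer (Q : Set X) ≤ Q) :
    pPrimeCore p X = ⊥ ∧ Subgroup.centralizer ((pCore p X : Subgroup X) : Set X) ≤ pCore p X := by
  have hQle : Q ≤ pCore p X := le_sSup ⟨hQn, hQ⟩
  refine ⟨?_, ?_⟩
  · rw [eq_bot_iff]
    apply sSup_le
    rintro N ⟨hNn, hNc⟩
    intro n hn
    rw [Subgroup.mem_bot]
    have hcop : Nat.Coprime (Nat.card N) (Nat.card Q) := by
      obtain ⟨k, hk⟩ := IsPGroup.iff_card.mp hQ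
      rw [hk]
      exact Nat.Coprime.pow_right k hNc
    have hinf : N ⊓ Q = ⊥ := (Subgroup.disjoint_of_coprime_natCard hcop).eq_bot
    have hcent : n ∈ Subgroup.centralizer (Q : Set X) := by
      rw [Subgroup.mem_centralizer_iff]
      intro q hq
      have h1 : n * q * n⁻¹ * q⁻¹ ∈ N ⊓ Q := by
        refine ⟨?_, ?_⟩
        · have : q * n⁻¹ * q⁻¹ ∈ N := hNn.conj_mem _ (N.inv_mem hn) q
          have h2 : n * (q * n⁻¹ * q⁻¹) ∈ N := N.mul_mem hn this
          simpa [mul_assoc] using h2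
        · have : n * q * n⁻¹ ∈ Q := hQn.conj_mem _ hq n
          exact Q.mul_mem this (Q.inv_mem hq)
      rw [hinf, Subgroup.mem_bot] at h1
      have h3 : n * q * n⁻¹ = q := by
        have := mul_inv_eq_one.mp h1
        exact this
      have h4 : n * q = q * n := by
        have := congrArg (· * n) h3
        simpa [mul_assoc] using this
      exact h4.symm
    have hnQ : n ∈ Q := hC hcent
    have : n ∈ N ⊓ Q := ⟨hn, hnQ⟩
    rw [hinf, Subgroup.mem_bot] at this
    exact this
  · exact (Subgroup.centralizer_le hQle).trans (hC.trans hQle)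

/-- Summing an invariant even-valued function over a finite set on which a finite group acts
freely (by conjugation) gives a multiple of twice the group order. -/
theorem two_mul_card_dvd_sum {G : Type*} [Group G] [DecidableEq G] (S : Subgroup G) [Fintype S]
    (f : G → ℕ) : ∀ (n : ℕ) (A : Finset G), A.card = n →
    (∀ a ∈ A, ∀ s ∈ S, s * a * s⁻¹ ∈ A) →
    (∀ a ∈ A, ∀ s ∈ S, s * a * s⁻¹ = a → s = 1) →
    (∀ a ∈ A, ∀ s ∈ S, f (s * a * s⁻¹) = f a) →
    (∀ a ∈ A, 2 ∣ f a) → 2 * Fintype.card S ∣ ∑ a ∈ A, f a := by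
  intro n
  induction n using Nat.strong_induction_on with
  | _ n ih =>
    intro A hA hinv hfree hf h2
    rcases A.eq_empty_or_nonempty with rfl | ⟨a, ha⟩
    · simp
    · -- the orbit of `a`
      let O : Finset G := Finset.univ.image fun s : S => (s : G) * a * (s : G)⁻¹
      have hinj : Function.Injective fun s : S => (s : G) * a * (s : G)⁻¹ := by
        intro s t hst
        have hst' : (s : G) * a * (s : G)⁻¹ = (t : G) * a * (t : G)⁻¹ := hst
        have h1 : ((t : G)⁻¹ * s) * a * ((t : G)⁻¹ * s)⁻¹ = a := by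
          calc ((t : G)⁻¹ * s) * a * ((t : G)⁻¹ * s)⁻¹
              = (t : G)⁻¹ * ((s : G) * a * (s : G)⁻¹) * t := by group
            _ = (t : G)⁻¹ * ((t : G) * a * (t : G)⁻¹) * t := by rw [hst']
            _ = a := by group
        have h2 := hfree a ha ((t : G)⁻¹ * s) (S.mul_mem (S.inv_mem t.2) s.2) h1
        have : (s : G) = t := by
          have := congrArg ((t : G) * ·) h2
          simpa using this
        exact Subtype.ext this
      have hOcard : O.card = Fintype.card S := by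
        rw [Finset.card_image_of_injective _ hinj, Finset.card_univ]
      have hOA : O ⊆ A := by
        intro b hb
        obtain ⟨s, -, rfl⟩ := Finset.mem_image.mp hb
        exact hinv a ha s s.2
      have hOsum : ∑ b ∈ O, f b = Fintype.card S * f a := by
        rw [Finset.sum_image (fun s _ t _ h => hinj h)]
        rw [Finset.sum_congr rfl (fun (s : S) _ => hf a ha (s : G) s.2)]
        simp
      have hsplit : ∑ b ∈ A, f b = ∑ b ∈ A \ O, f b + ∑ b ∈ O, f b :=
        (Finset.sum_sdiff hOA).symm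
      have hcardlt : (A \ O).card < n := by
        rw [← hA]
        apply Finset.card_lt_card
        refine ⟨Finset.sdiff_subset, ?_⟩
        intro hsub
        have haO : a ∈ O := by
          refine Finset.mem_image.mpr ⟨1, Finset.mem_univ _, ?_⟩
          simp
        have := hsub ha
        rw [Finset.mem_sdiff] at this
        exact this.2 haO
      have hrest : 2 * Fintype.card S ∣ ∑ b ∈ A \ O, f b := by
        apply ih _ hcardlt (A \ O) rfl
        · intro b hb s hs
          rw [Finset.mem_sdiff] at hb ⊢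
          refine ⟨hinv b hb.1 s hs, ?_⟩
          intro hbO
          apply hb.2
          obtain ⟨t, -, ht⟩ := Finset.mem_image.mp hbO
          refine Finset.mem_image.mpr ⟨⟨s⁻¹ * t, S.mul_mem (S.inv_mem hs) t.2⟩, Finset.mem_univ _, ?_⟩
          simp only at ht ⊢
          have : b = s⁻¹ * (s * b * s⁻¹) * s := by group
          rw [this, ← ht]; group
        · intro b hb s hs
          exact hfree b (Finset.mem_sdiff.mp hb).1 s hs
        · intro b hb s hs
          exact hf b (Finset.mem_sdiff.mp hb).1 s hs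
        · intro b hb
          exact h2 b (Finset.mem_sdiff.mp hb).1
      rw [hsplit, hOsum]
      apply Dvd.dvd.add hrest
      obtain ⟨k, hk⟩ := h2 a ha
      rw [hk]
      exact ⟨k, by ring⟩

/-- conjugation-closed sets are closed under conjugation by inverses too -/
theorem conj_mem_iff {G : Type*} [Group G] {K : Set G}
    (hK : ∀ a ∈ K, ∀ g : G, g * a * g⁻¹ ∈ K) (a g : G) : g * a * g⁻¹ ∈ K ↔ a ∈ K := by
  refine ⟨fun h => ?_, fun h => hK a h g⟩
  have := hK _ h g⁻¹
  simpa [mul_assoc] using this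

/-- The Robinson count: the number of pairs `(y, z) ∈ Ki × Kj` with `z y⁻¹ ∈ S` is divisible by
`2 |S|` when `S` acts freely on `Ki` and every coset `S g` meets `Kj` in an even number of
elements. -/
theorem two_mul_card_dvd_card_pairs {G : Type*} [Group G] [Finite G] (S : Subgroup G)
    (Ki Kj : Set G)
    (hKi : ∀ a ∈ Ki, ∀ g : G, g * a * g⁻¹ ∈ Ki) (hKj : ∀ a ∈ Kj, ∀ g : G, g * a * g⁻¹ ∈ Kj)
    (hfree : ∀ a ∈ Ki, ∀ s ∈ S, s * a * s⁻¹ = a → s = 1)
    (heven : ∀ g : G, Even (Nat.card {u : S // (u : G) * g ∈ Kj})) :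
    2 * Nat.card S ∣
      Nat.card {yz : G × G // yz.1 ∈ Ki ∧ yz.2 ∈ Kj ∧ yz.2 * yz.1⁻¹ ∈ S} := by
  classical
  haveI : Fintype G := Fintype.ofFinite G
  let f : G → ℕ := fun g => Nat.card {u : S // (u : G) * g ∈ Kj}
  let A : Finset G := Finset.univ.filter (· ∈ Ki)
  have hcard : Nat.card {yz : G × G // yz.1 ∈ Ki ∧ yz.2 ∈ Kj ∧ yz.2 * yz.1⁻¹ ∈ S}
      = ∑ a ∈ A, f a := by
    let e : {yz : G × G // yz.1 ∈ Ki ∧ yz.2 ∈ Kj ∧ yz.2 * yz.1⁻¹ ∈ S} ≃
        Σ a : {a : G // a ∈ Ki}, {u : S // (u : G) * (a : G) ∈ Kj} :=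
      { toFun := fun w => ⟨⟨w.1.1, w.2.1⟩, ⟨⟨w.1.2 * w.1.1⁻¹, w.2.2.2⟩, by
          show w.1.2 * w.1.1⁻¹ * w.1.1 ∈ Kj
          rw [inv_mul_cancel_right]; exact w.2.2.1⟩⟩
        invFun := fun x => ⟨(x.1.1, (x.2.1 : G) * x.1.1), x.1.2, x.2.2, by
          show (x.2.1 : G) * x.1.1 * (x.1.1 : G)⁻¹ ∈ S
          rw [mul_inv_cancel_right]; exact x.2.1.2⟩
        left_inv := by
          rintro ⟨⟨y, z⟩, h⟩
          apply Subtype.ext
          simp
        right_inv := by
          rintro ⟨⟨a, ha⟩, ⟨⟨u, hu⟩, h⟩⟩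
          simp }
    rw [Nat.card_congr e, Nat.card_sigma]
    rw [← Finset.sum_subtype (s := A) (p := (· ∈ Ki)) (fun x => by simp [A]) f]
  rw [hcard, Nat.card_eq_fintype_card]
  apply two_mul_card_dvd_sum S f A.card A rfl
  · intro a ha s _
    simp only [A, Finset.mem_filter, Finset.mem_univ, true_and] at ha ⊢
    exact hKi a ha s
  · intro a ha s hs
    simp only [A, Finset.mem_filter, Finset.mem_univ, true_and] at ha
    exact hfree a ha s hs
  · intro a _ s hs
    show Nat.card {u : S // (u : G) * (s * a * s⁻¹) ∈ Kj} = Nat.card {u : S // (u : G) * a ∈ Kj}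
    apply Nat.card_congr
    refine
      { toFun := fun u => ⟨⟨s⁻¹ * u.1 * s, S.mul_mem (S.mul_mem (S.inv_mem hs) u.1.2) hs⟩, ?_⟩
        invFun := fun u => ⟨⟨s * u.1 * s⁻¹, S.mul_mem (S.mul_mem hs u.1.2) (S.inv_mem hs)⟩, ?_⟩
        left_inv := ?_
        right_inv := ?_ }
    · show s⁻¹ * (u.1 : G) * s * a ∈ Kj
      have h1 : s⁻¹ * ((u.1 : G) * (s * a * s⁻¹)) * s⁻¹⁻¹ ∈ Kj := hKj _ u.2 s⁻¹
      have h2 : s⁻¹ * ((u.1 : G) * (s * a * s⁻¹)) * s⁻¹⁻¹ = s⁻¹ * (u.1 : G) * s * a := by group
      rw [h2] at h1; exact h1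
    · show s * (u.1 : G) * s⁻¹ * (s * a * s⁻¹) ∈ Kj
      have h1 : s * ((u.1 : G) * a) * s⁻¹ ∈ Kj := hKj _ u.2 s
      have h2 : s * ((u.1 : G) * a) * s⁻¹ = s * (u.1 : G) * s⁻¹ * (s * a * s⁻¹) := by group
      rw [h2] at h1; exact h1
    · intro u
      apply Subtype.ext; apply Subtype.ext
      show s * (s⁻¹ * (u.1 : G) * s) * s⁻¹ = u.1
      group
    · intro u
      apply Subtype.ext; apply Subtype.ext
      show s⁻¹ * (s * (u.1 : G) * s⁻¹) * s = u.1
      group
  · intro a _
    exact (even_iff_two_dvd).mp (heven a)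

end Cfsg.Agent.Lib.Helper8.OneBlockGrp
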