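/-
A criterion for a finite group to have a single 2-block (helper8), from landed theorems:
S4717 (deficiency classes), S4487 (2-constrained groups have one block), S4443 (Robinson's count of
blocks with a normal defect group, used with the trivial subgroup), S0906 + S0908.
-/
import Cfsg.Agent.Lib.Helper8.OneBlockGrp
import Cfsg.Agent.S4717
import Cfsg.Agent.S4443
import Cfsg.Agent.S4487
import Cfsg.Agent.S0906
import Cfsg.Agent.S0908
import Cfsg.Agent.Lib.Helper16.BlockBasic
import Cfsg.Agent.Lib.Helper78.CharMore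

set_option autoImplicit false
set_option linter.style.haveILetI false

namespace Cfsg.Agent.Lib.Helper8.OneBlock

open Cfsg Cfsg.Agent.Lib.Helper16 Cfsg.Agent.Lib.Helper8.OneBlockGrp

/-- a nontrivial element of `2`-power order has a power of order two -/
theorem exists_pow_orderOf_two {G : Type*} [Group G] {s : G} {k : ℕ} (hs : orderOf s = 2 ^ k)
    (hne : s ≠ 1) : ∃ n : ℕ, orderOf (s ^ n) = 2 := by
  cases k with
  | zero =>
    exfalso
    apply hne
    rw [pow_zero] at hs
    exact orderOf_eq_one_iff.mp hs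
  | succ k =>
    refine ⟨2 ^ k, ?_⟩
    have hpos : 0 < orderOf s := by rw [hs]; positivity
    rw [orderOf_pow' s (by positivity : 2 ^ k ≠ 0), hs]
    have : Nat.gcd (2 ^ (k + 1)) (2 ^ k) = 2 ^ k :=
      Nat.gcd_eq_right (pow_dvd_pow 2 (Nat.le_succ k))
    rw [this, pow_succ]
    exact Nat.mul_div_cancel_left 2 (by positivity)

/-- the trivial character as an irreducible character -/
noncomputable def oneIrr (X : Type*) [Group X] : IrrCharacter X :=
  ⟨fun _ => 1, Cfsg.Agent.Lib.Helper78.isIrrCharacter_one⟩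

/-- if all irreducible characters are in one block, every block is the principal block -/
theorem eq_principalBlock_of_sameBlock {X : Type*} [Group X] {M : Ideal AlgInt} [M.IsPrime]
    (h : ∀ χ ψ : IrrCharacter X, SameBlock M (χ : X → ℂ) (ψ : X → ℂ))
    (B : Set (IrrCharacter X)) (hB : IsPBlock M B) : B = principalBlock M X := by
  obtain ⟨χ, rfl⟩ := hB
  exact blockOf_eq_of_sameBlock (h χ (oneIrr X))

/-- elements of a class whose centralizer has trivial Sylow 2-subgroup commute with no
involution -/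
theorem no_involution_of_sylow_bot {G : Type*} [Group G] [Finite G] {C : ConjClasses G}
    (hC : ∃ x ∈ C.carrier, ¬ 2 ∣ orderOf x ∧
      ∃ Q : Sylow 2 (Subgroup.centralizer ({x} : Set G)),
        (Q : Subgroup (Subgroup.centralizer ({x} : Set G))).map
          (Subgroup.centralizer ({x} : Set G)).subtype = ⊥) :
    ∀ a ∈ C.carrier, ∀ t : G, orderOf t = 2 → t * a ≠ a * t := by
  haveI : Fact (Nat.Prime 2) := ⟨Nat.prime_two⟩
  obtain ⟨x, hx, -, Q, hQ⟩ := hC
  have hQbot : (Q : Subgroup (Subgroup.centralizer ({x} : Set G))) = ⊥ := by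
    rw [eq_bot_iff]
    intro q hq
    have : ((Subgroup.centralizer ({x} : Set G)).subtype q) ∈
        (Q : Subgroup (Subgroup.centralizer ({x} : Set G))).map
          (Subgroup.centralizer ({x} : Set G)).subtype := ⟨q, hq, rfl⟩
    rw [hQ, Subgroup.mem_bot] at this
    rw [Subgroup.mem_bot]
    exact Subtype.ext this
  -- no involution centralizes `x`
  have hx0 : ∀ t : G, orderOf t = 2 → t * x ≠ x * t := by
    intro t ht hcomm
    have htC : t ∈ Subgroup.centralizer ({x} : Set G) :=
      Subgroup.mem_centralizer_singleton_iff.mpr hcomm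
    have hdvd : 2 ∣ Nat.card (Subgroup.centralizer ({x} : Set G)) := by
      have h1 : orderOf (⟨t, htC⟩ : Subgroup.centralizer ({x} : Set G)) = 2 := by
        rw [← Subgroup.orderOf_coe]; exact ht
      rw [← h1]
      exact orderOf_dvd_natCard _
    have hcard := Q.card_eq_multiplicity
    rw [hQbot, Subgroup.card_bot] at hcard
    have hpos : 0 < (Nat.card (Subgroup.centralizer ({x} : Set G))).factorization 2 :=
      Nat.Prime.factorization_pos_of_dvd Nat.prime_two Nat.card_pos.ne' hdvd
    have : 2 ^ 1 ≤ 2 ^ (Nat.card (Subgroup.centralizer ({x} : Set G))).factorization 2 :=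
      Nat.pow_le_pow_right (by norm_num) hpos
    omega
  intro a ha t ht hcomm
  -- `a` is conjugate to `x`
  have hax : IsConj x a := by
    have h1 := ConjClasses.mem_carrier_iff_mk_eq.mp hx
    have h2 := ConjClasses.mem_carrier_iff_mk_eq.mp ha
    exact ConjClasses.mk_eq_mk_iff_isConj.mp (h1.trans h2.symm)
  obtain ⟨c, hc⟩ := isConj_iff.mp hax
  -- c * x * c⁻¹ = a
  apply hx0 (c⁻¹ * t * c)
  · have : c⁻¹ * t * c = (MulAut.conj c⁻¹) t := by simp [MulAut.conj_apply]
    rw [this, MulEquiv.orderOf_eq]; exact ht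
  · rw [← hc] at hcomm
    have h3 : c⁻¹ * (t * (c * x * c⁻¹)) * c = c⁻¹ * ((c * x * c⁻¹) * t) * c := by rw [hcomm]
    calc c⁻¹ * t * c * x = c⁻¹ * (t * (c * x * c⁻¹)) * c := by group
      _ = c⁻¹ * ((c * x * c⁻¹) * t) * c := h3
      _ = x * (c⁻¹ * t * c) := by group

theorem carrier_conj_closed {G : Type*} [Group G] (C : ConjClasses G) :
    ∀ a ∈ C.carrier, ∀ g : G, g * a * g⁻¹ ∈ C.carrier := by
  intro a ha g
  rw [ConjClasses.mem_carrier_iff_mk_eq] at ha ⊢
  rw [← ha]
  exact ConjClasses.mk_eq_mk_iff_isConj.mpr (isConj_iff.mpr ⟨g⁻¹, by group⟩)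

/-- **Criterion for a single 2-block.** -/
theorem sameBlock_of_criterion {G : Type*} [Group G] [Finite G] (M : Ideal AlgInt)
    (hM : IsPModular 2 M)
    (h1 : ∀ y : G, orderOf y = 2 →
      ∃ Q : Subgroup ↥(Subgroup.centralizer ({y} : Set G)), Q.Normal ∧ IsPGroup 2 Q ∧
        Subgroup.centralizer (Q : Set ↥(Subgroup.centralizer ({y} : Set G))) ≤ Q)
    (S : Sylow 2 G)
    (h2 : ∀ K : Set G, (∀ a ∈ K, ∀ g : G, g * a * g⁻¹ ∈ K) →
      (∀ a ∈ K, ∀ t : G, orderOf t = 2 → t * a ≠ a * t) →
      ∀ g : G, Even (Nat.card {u : (S : Subgroup G) // (u : G) * g ∈ K}))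
    (χ ψ : IrrCharacter G) : SameBlock M (χ : G → ℂ) (ψ : G → ℂ) := by
  classical
  haveI : Fact (Nat.Prime 2) := ⟨Nat.prime_two⟩
  haveI hprime : M.IsPrime := isPModular_isPrime hM
  have hMtop : M ≠ ⊤ := hprime.ne_top
  -- Step 1: every non-principal block has defect zero
  have hdef : ∀ B' : Set (IrrCharacter G), IsPBlock M B' → B' ≠ principalBlock M G →
      blockDefect 2 B' < 1 := by
    refine (Cfsg.Agent.S4717.result 2 M hM 1).2 (by norm_num) ?_
    intro y hy B' hB' hne
    exfalso
    apply hne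
    obtain ⟨Q, hQn, hQp, hQc⟩ := h1 y hy
    haveI := hQn
    obtain ⟨hcore, hconstr⟩ := constrained_of_normal_self_centralizing 2 Q hQp hQc
    exact eq_principalBlock_of_sameBlock
      (fun χ' ψ' => Cfsg.Agent.S4487.result 2 M hM hcore hconstr χ' ψ') B' hB'
  -- Step 2: no block has the trivial subgroup as a defect group
  have hzero : ∀ B : Set (IrrCharacter G), IsPBlock M B → ¬ IsDefectGroup 2 M B ⊥ := by
    intro B hB hD
    let ι := {C : ConjClasses G // ∃ x ∈ C.carrier, ¬ 2 ∣ orderOf x ∧
      ∃ Q : Sylow 2 (Subgroup.centralizer ({x} : Set G)),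
        (Q : Subgroup (Subgroup.centralizer ({x} : Set G))).map
          (Subgroup.centralizer ({x} : Set G)).subtype = ⊥}
    haveI : Fintype ι := Fintype.ofFinite ι
    have hcount := Cfsg.Agent.S4443.result 2 M hM (⊥ : Subgroup G) IsPGroup.of_bot S
      (ι := ι) (fun i => i.1) Subtype.val_injective
      (fun C => ⟨fun ⟨i, hi⟩ => hi ▸ i.2, fun h => ⟨⟨C, h⟩, rfl⟩⟩)
    have hmat : (Matrix.of fun i j : ι =>
        ((Nat.card {yz : G × G // yz.1 ∈ (i.1).carrier ∧ yz.2 ∈ (j.1).carrier ∧
          yz.2 * yz.1⁻¹ ∈ (S : Subgroup G)} /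
          2 ^ ((Nat.card G).factorization 2 - (Nat.card (⊥ : Subgroup G)).factorization 2) : ℕ) :
          ZMod 2)) = 0 := by
      ext i j
      simp only [Matrix.of_apply, Matrix.zero_apply]
      have hbot : (Nat.card (⊥ : Subgroup G)).factorization 2 = 0 := by
        rw [Subgroup.card_bot]; simp
      rw [hbot, Nat.sub_zero]
      have hScard : Nat.card (S : Subgroup G) = 2 ^ (Nat.card G).factorization 2 :=
        S.card_eq_multiplicity
      have hdvd := two_mul_card_dvd_card_pairs (S : Subgroup G) (i.1).carrier (j.1).carrier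
        (carrier_conj_closed i.1) (carrier_conj_closed j.1)
        (by
          intro a ha s hs hfix
          by_contra hne
          obtain ⟨k, hk⟩ := (IsPGroup.iff_orderOf.mp S.isPGroup') ⟨s, hs⟩
          have hk' : orderOf s = 2 ^ k := by
            rw [← hk, Subgroup.orderOf_mk]
          obtain ⟨n, hn⟩ := exists_pow_orderOf_two hk' hne
          have hcomm : s * a = a * s := by
            have := congrArg (· * s) hfix
            simpa [mul_assoc] using this
          have hcomm' : s ^ n * a = a * s ^ n := by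
            have hc : Commute s a := hcomm
            exact (hc.pow_left n).eq
          exact no_involution_of_sylow_bot i.2 a ha (s ^ n) hn hcomm')
        (h2 (j.1).carrier (carrier_conj_closed j.1) (no_involution_of_sylow_bot j.2))
      rw [hScard] at hdvd
      obtain ⟨k, hk⟩ := hdvd
      rw [hk]
      have : 2 * 2 ^ (Nat.card G).factorization 2 * k / 2 ^ (Nat.card G).factorization 2
          = 2 * k := by
        rw [mul_comm 2 (2 ^ _), mul_assoc]
        exact Nat.mul_div_cancel_left _ (by positivity)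
      rw [this]
      exact (ZMod.natCast_eq_zero_iff (2 * k) 2).mpr ⟨k, rfl⟩
    rw [hmat, Matrix.rank_zero] at hcount
    haveI : Finite (IrrCharacter G) := Cfsg.Agent.Lib.Helper78.instFiniteIrrCharacter
    haveI hne : Nonempty {B : Set (IrrCharacter G) // IsPBlock M B ∧ IsDefectGroup 2 M B ⊥} :=
      ⟨⟨B, hB, hD⟩⟩
    have hpos : 0 < Nat.card {B : Set (IrrCharacter G) // IsPBlock M B ∧ IsDefectGroup 2 M B ⊥} :=
      Nat.card_pos
    omega
  -- Step 3: every block is principal
  have hprinc : ∀ θ : IrrCharacter G, blockOf M (θ : G → ℂ) = principalBlock M G := by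
    intro θ
    by_contra hne
    have hB : IsPBlock M (blockOf M (θ : G → ℂ)) := isPBlock_blockOf θ
    have hd := hdef _ hB hne
    obtain ⟨g, hg⟩ := Cfsg.Agent.S0906.result 2 M hM _ hB
    let P : Sylow 2 (Subgroup.centralizer ({g} : Set G)) := default
    have hD : IsDefectGroup 2 M (blockOf M (θ : G → ℂ))
        ((P : Subgroup (Subgroup.centralizer ({g} : Set G))).map
          (Subgroup.centralizer ({g} : Set G)).subtype) := ⟨g, hg, P, rfl⟩
    have hcard := Cfsg.Agent.S0908.result 2 M hM _ hB _ hD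
    have hd0 : blockDefect 2 (blockOf M (θ : G → ℂ)) = 0 := by omega
    rw [hd0, pow_zero] at hcard
    have hbot := Subgroup.eq_bot_of_card_eq _ hcard
    rw [hbot] at hD
    exact hzero _ hB hD
  have h1' : SameBlock M (fun _ : G => (1 : ℂ)) (χ : G → ℂ) := by
    have : χ ∈ blockOf M (χ : G → ℂ) := self_mem_blockOf hMtop χ
    rw [hprinc χ] at this
    exact this
  have h2' : SameBlock M (fun _ : G => (1 : ℂ)) (ψ : G → ℂ) := by
    have : ψ ∈ blockOf M (ψ : G → ℂ) := self_mem_blockOf hMtop ψ
    rw [hprinc ψ] at this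
    exact this
  exact sameBlock_trans (sameBlock_symm h1') h2'

end Cfsg.Agent.Lib.Helper8.OneBlock
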