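/-
The single-2-block criterion for a subgroup `H` of an ambient group `P`, with all hypotheses stated
in `P` (helper8).  Also: conjugation invariance of the 2-constrained hypothesis, and the parity
lemmas used to verify the coset hypothesis.
-/
import Cfsg.Agent.Lib.Helper8.OneBlock

set_option autoImplicit false
set_option linter.style.haveILetI false

namespace Cfsg.Agent.Lib.Helper8.OneBlockSub

open Cfsg Cfsg.Agent.Lib.Helper8.OneBlock

variable {P : Type*} [Group P]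

/-- hypothesis (h1) at an involution `y` of `H`, stated in the ambient group -/
def Constrained (H : Subgroup P) (y : P) : Prop :=
  ∃ Q : Subgroup P, Q ≤ H ∧ IsPGroup 2 Q ∧ (∀ q ∈ Q, q * y = y * q) ∧
    (∀ c ∈ H, c * y = y * c → ∀ q ∈ Q, c * q * c⁻¹ ∈ Q) ∧
    (∀ c ∈ H, c * y = y * c → (∀ q ∈ Q, c * q = q * c) → c ∈ Q)

theorem Constrained.conj {H : Subgroup P} {y : P} (h : Constrained H y) {x : P} (hx : x ∈ H) :
    Constrained H (x * y * x⁻¹) := by
  obtain ⟨Q, hQH, hQp, hQy, hQn, hQc⟩ := h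
  refine ⟨Q.map (MulAut.conj x).toMonoidHom, ?_, hQp.map _, ?_, ?_, ?_⟩
  · rintro _ ⟨q, hq, rfl⟩
    show x * q * x⁻¹ ∈ H
    exact H.mul_mem (H.mul_mem hx (hQH hq)) (H.inv_mem hx)
  · rintro _ ⟨q, hq, rfl⟩
    show x * q * x⁻¹ * (x * y * x⁻¹) = x * y * x⁻¹ * (x * q * x⁻¹)
    have := hQy q hq
    calc x * q * x⁻¹ * (x * y * x⁻¹) = x * (q * y) * x⁻¹ := by group
      _ = x * (y * q) * x⁻¹ := by rw [this]
      _ = x * y * x⁻¹ * (x * q * x⁻¹) := by group
  · intro c hc hcy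
    have hc0 : x⁻¹ * c * x ∈ H := H.mul_mem (H.mul_mem (H.inv_mem hx) hc) hx
    have hc0y : x⁻¹ * c * x * y = y * (x⁻¹ * c * x) := by
      calc x⁻¹ * c * x * y = x⁻¹ * (c * (x * y * x⁻¹)) * x := by group
        _ = x⁻¹ * ((x * y * x⁻¹) * c) * x := by rw [hcy]
        _ = y * (x⁻¹ * c * x) := by group
    rintro _ ⟨q, hq, rfl⟩
    refine ⟨(x⁻¹ * c * x) * q * (x⁻¹ * c * x)⁻¹, hQn _ hc0 hc0y q hq, ?_⟩
    show x * ((x⁻¹ * c * x) * q * (x⁻¹ * c * x)⁻¹) * x⁻¹ = c * (x * q * x⁻¹) * c⁻¹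
    group
  · intro c hc hcy hcomm
    have hc0 : x⁻¹ * c * x ∈ H := H.mul_mem (H.mul_mem (H.inv_mem hx) hc) hx
    have hc0y : x⁻¹ * c * x * y = y * (x⁻¹ * c * x) := by
      calc x⁻¹ * c * x * y = x⁻¹ * (c * (x * y * x⁻¹)) * x := by group
        _ = x⁻¹ * ((x * y * x⁻¹) * c) * x := by rw [hcy]
        _ = y * (x⁻¹ * c * x) := by group
    have hmem : x⁻¹ * c * x ∈ Q := by
      apply hQc _ hc0 hc0y
      intro q hq
      have h1 : c * (x * q * x⁻¹) = (x * q * x⁻¹) * c := hcomm _ ⟨q, hq, rfl⟩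
      calc x⁻¹ * c * x * q = x⁻¹ * (c * (x * q * x⁻¹)) * x := by group
        _ = x⁻¹ * ((x * q * x⁻¹) * c) * x := by rw [h1]
        _ = q * (x⁻¹ * c * x) := by group
    refine ⟨x⁻¹ * c * x, hmem, ?_⟩
    show x * (x⁻¹ * c * x) * x⁻¹ = c
    group

/-- a finite type with a fixed-point-free involution has even cardinality -/
theorem even_card_of_involution {α : Type*} [Finite α] (φ : α → α) (h1 : ∀ a, φ (φ a) = a)
    (h2 : ∀ a, φ a ≠ a) : Even (Nat.card α) := by
  classical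
  haveI : Fintype α := Fintype.ofFinite α
  rw [Nat.card_eq_fintype_card, ← Finset.card_univ]
  have hsum : ∑ _a ∈ (Finset.univ : Finset α), (1 : ZMod 2) = 0 := by
    apply Finset.sum_involution (fun a _ => φ a)
    · intro a _; decide
    · intro a _ _; exact h2 a
    · intro a _; exact Finset.mem_univ _
    · intro a _; exact h1 a
  rw [Finset.sum_const, nsmul_eq_mul, mul_one] at hsum
  rw [even_iff_two_dvd]
  exact (ZMod.natCast_eq_zero_iff _ 2).mp hsum

/-- If an involution `t` of `S` is conjugated into `S` by `g`, every conjugation-closed set without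
elements centralized by involutions of `S` meets the coset `S g` in an even number of elements. -/
theorem even_card_of_nonregular (S : Subgroup P) [Finite S] (K : Set P)
    (hK : ∀ a ∈ K, ∀ s ∈ S, s * a * s⁻¹ ∈ K)
    (hinv : ∀ a ∈ K, ∀ t ∈ S, orderOf t = 2 → t * a ≠ a * t)
    (g t : P) (ht : t ∈ S) (ht2 : orderOf t = 2) (hgt : g * t * g⁻¹ ∈ S) :
    Even (Nat.card {u : S // (u : P) * g ∈ K}) := by
  have htt : t * t = 1 := by
    have := pow_orderOf_eq_one t
    rw [ht2, pow_two] at this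
    exact this
  have htinv : t⁻¹ = t := inv_eq_of_mul_eq_one_left htt
  have hφmem : ∀ u : S, t * (u : P) * (g * t * g⁻¹) ∈ S := fun u =>
    S.mul_mem (S.mul_mem ht u.2) hgt
  have hφK : ∀ u : S, (u : P) * g ∈ K → t * (u : P) * (g * t * g⁻¹) * g ∈ K := by
    intro u hu
    have := hK _ hu t ht
    rw [htinv] at this
    have h2 : t * (u : P) * (g * t * g⁻¹) * g = t * ((u : P) * g) * t := by group
    rw [h2]; exact this
  apply even_card_of_involution
    (fun u : {u : S // (u : P) * g ∈ K} => ⟨⟨t * (u.1 : P) * (g * t * g⁻¹), hφmem u.1⟩, hφK u.1 u.2⟩)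
  · intro u
    apply Subtype.ext; apply Subtype.ext
    show t * (t * (u.1 : P) * (g * t * g⁻¹)) * (g * t * g⁻¹) = u.1
    calc t * (t * (u.1 : P) * (g * t * g⁻¹)) * (g * t * g⁻¹)
        = (t * t) * (u.1 : P) * (g * (t * t) * g⁻¹) := by group
      _ = u.1 := by rw [htt]; group
  · intro u hfix
    have h1 : t * (u.1 : P) * (g * t * g⁻¹) = u.1 := congrArg (fun v => ((v.1 : S) : P)) hfix
    apply hinv _ u.2 t ht ht2
    calc t * ((u.1 : P) * g) = t * (u.1 : P) * (g * t * g⁻¹) * g * t⁻¹ := by group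
      _ = (u.1 : P) * g * t⁻¹ := by rw [h1]
      _ = (u.1 : P) * g * t := by rw [htinv]

/-- The count `#{u ∈ S : u g ∈ K}` only depends on the double coset `S g S`. -/
theorem card_coset_mul (S : Subgroup P) (K : Set P)
    (hK : ∀ a ∈ K, ∀ s ∈ S, s * a * s⁻¹ ∈ K) (g s s' : P) (hs : s ∈ S) (hs' : s' ∈ S) :
    Nat.card {u : S // (u : P) * (s * g * s') ∈ K} = Nat.card {u : S // (u : P) * g ∈ K} := by
  apply Nat.card_congr
  refine
    { toFun := fun u => ⟨⟨s' * u.1 * s, S.mul_mem (S.mul_mem hs' u.1.2) hs⟩, ?_⟩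
      invFun := fun u => ⟨⟨s'⁻¹ * u.1 * s⁻¹,
        S.mul_mem (S.mul_mem (S.inv_mem hs') u.1.2) (S.inv_mem hs)⟩, ?_⟩
      left_inv := ?_
      right_inv := ?_ }
  · show s' * (u.1 : P) * s * g ∈ K
    have h1 := hK _ u.2 s' hs'
    have h2 : s' * ((u.1 : P) * (s * g * s')) * s'⁻¹ = s' * (u.1 : P) * s * g := by group
    rw [h2] at h1; exact h1
  · show s'⁻¹ * (u.1 : P) * s⁻¹ * (s * g * s') ∈ K
    have h1 := hK _ u.2 s'⁻¹ (S.inv_mem hs')
    have h2 : s'⁻¹ * ((u.1 : P) * g) * s'⁻¹⁻¹ = s'⁻¹ * (u.1 : P) * s⁻¹ * (s * g * s') := by group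
    rw [h2] at h1; exact h1
  · intro u
    apply Subtype.ext; apply Subtype.ext
    show s'⁻¹ * (s' * (u.1 : P) * s) * s⁻¹ = u.1
    group
  · intro u
    apply Subtype.ext; apply Subtype.ext
    show s' * (s'⁻¹ * (u.1 : P) * s⁻¹) * s = u.1
    group

/-- Pairing certificate: with an enumeration `el` of `S` by `i < n` and an involution `π` of the
indices such that unpaired elements `el i * g` are centralized by an involution of `H` and paired
ones are `H`-conjugate, every conjugation-closed `K` without elements centralized by involutions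
meets `S g` in an even number of elements. -/
theorem even_card_of_pairing (H S : Subgroup P) (n : ℕ) (el : ℕ → P)
    (hel : ∀ i < n, el i ∈ S) (hsurj : ∀ u ∈ S, ∃ i < n, el i = u)
    (hinj : ∀ i < n, ∀ j < n, el i = el j → i = j)
    (K : Set P) (hK : ∀ a ∈ K, ∀ h ∈ H, h * a * h⁻¹ ∈ K)
    (hinv : ∀ a ∈ K, ∀ t ∈ H, orderOf t = 2 → t * a ≠ a * t)
    (g : P) (π : ℕ → ℕ)
    (hπ : ∀ i < n, π i < n ∧ π (π i) = i ∧
      (π i = i → ∃ t ∈ H, orderOf t = 2 ∧ t * (el i * g) = el i * g * t) ∧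
      (π i ≠ i → ∃ h ∈ H, h * (el i * g) * h⁻¹ = el (π i) * g)) :
    Even (Nat.card {u : S // (u : P) * g ∈ K}) := by
  classical
  -- transfer to indices
  have hequiv : Nat.card {u : S // (u : P) * g ∈ K} = Nat.card {i : Fin n // el i * g ∈ K} := by
    symm
    apply Nat.card_congr
    refine Equiv.ofBijective
      (fun i : {i : Fin n // el i * g ∈ K} => ⟨⟨el i.1, hel i.1 i.1.2⟩, i.2⟩) ⟨?_, ?_⟩
    · intro i j hij
      have h1 : el i.1 = el j.1 := congrArg (fun v => ((v.1 : S) : P)) hij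
      apply Subtype.ext; apply Fin.ext
      exact hinj _ i.1.2 _ j.1.2 h1
    · rintro ⟨⟨u, hu⟩, huK⟩
      obtain ⟨i, hi, rfl⟩ := hsurj u hu
      exact ⟨⟨⟨i, hi⟩, huK⟩, rfl⟩
  rw [hequiv]
  have hmemK : ∀ i : {i : Fin n // el i * g ∈ K}, el (π i.1) * g ∈ K := by
    intro i
    obtain ⟨_, _, hfix, hne⟩ := hπ i.1 i.1.2
    by_cases hi : π i.1 = i.1
    · rw [hi]; exact i.2
    · obtain ⟨h, hh, hconj⟩ := hne hi
      rw [← hconj]
      exact hK _ i.2 h hh
  apply even_card_of_involution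
    (fun i : {i : Fin n // el i * g ∈ K} => ⟨⟨π i.1, (hπ i.1 i.1.2).1⟩, hmemK i⟩)
  · intro i
    apply Subtype.ext; apply Fin.ext
    exact (hπ i.1 i.1.2).2.1
  · intro i hfix
    have h1 : π i.1 = i.1 := congrArg (fun v => ((v.1 : Fin n) : ℕ)) hfix
    obtain ⟨t, ht, ht2, hcomm⟩ := (hπ i.1 i.1.2).2.2.1 h1
    exact hinv _ i.2 t ht ht2 hcomm

/-- **The criterion in ambient form.** -/
theorem sameBlock_of_ambient (H S0 : Subgroup P) [Finite H] (hS0H : S0 ≤ H)
    (hcard : Nat.card S0 = 2 ^ (Nat.card H).factorization 2)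
    (M : Ideal AlgInt) (hM : IsPModular 2 M)
    (h1 : ∀ y ∈ H, orderOf y = 2 → Constrained H y)
    (h2 : ∀ K : Set P, K ⊆ H → (∀ a ∈ K, ∀ g ∈ H, g * a * g⁻¹ ∈ K) →
      (∀ a ∈ K, ∀ t ∈ H, orderOf t = 2 → t * a ≠ a * t) →
      ∀ g ∈ H, Even (Nat.card {u : S0 // (u : P) * g ∈ K}))
    (χ ψ : IrrCharacter H) : SameBlock M (χ : H → ℂ) (ψ : H → ℂ) := by
  haveI : Fact (Nat.Prime 2) := ⟨Nat.prime_two⟩
  have hcard' : Nat.card (S0.subgroupOf H) = 2 ^ (Nat.card H).factorization 2 := by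
    rw [Nat.card_congr (Subgroup.subgroupOfEquivOfLe hS0H).toEquiv, hcard]
  refine sameBlock_of_criterion M hM ?_ (Sylow.ofCard (S0.subgroupOf H) hcard') ?_ χ ψ
  · intro y hy
    have hy' : orderOf (y : P) = 2 := by rw [Subgroup.orderOf_coe]; exact hy
    obtain ⟨Q, hQH, hQp, hQy, hQn, hQc⟩ := h1 (y : P) y.2 hy'
    let C : Subgroup H := Subgroup.centralizer ({y} : Set H)
    let f : C →* P := H.subtype.comp C.subtype
    have hf : Function.Injective f := by
      intro a b hab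
      exact Subtype.ext (Subtype.ext hab)
    have hcy : ∀ c : C, ((c : H) : P) * (y : P) = (y : P) * ((c : H) : P) := by
      intro c
      have := Subgroup.mem_centralizer_singleton_iff.mp c.2
      have h3 : ((c : H) : P) * (y : P) = (((c : H) * y : H) : P) := rfl
      have h4 : (y : P) * ((c : H) : P) = ((y * (c : H) : H) : P) := rfl
      rw [h3, h4, this]
    refine ⟨Q.comap f, ?_, hQp.comap_of_injective f hf, ?_⟩
    · constructor
      intro n hn c
      show f (c * n * c⁻¹) ∈ Q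
      rw [map_mul, map_mul, map_inv]
      exact hQn _ (c : H).2 (hcy c) _ hn
    · intro c hc
      show f c ∈ Q
      apply hQc _ (c : H).2 (hcy c)
      intro q hq
      have hqH : q ∈ H := hQH hq
      have hqC : (⟨q, hqH⟩ : H) ∈ C := by
        apply Subgroup.mem_centralizer_singleton_iff.mpr
        apply Subtype.ext
        exact hQy q hq
      have hmem : (⟨⟨q, hqH⟩, hqC⟩ : C) ∈ Q.comap f := hq
      have := (Subgroup.mem_centralizer_iff.mp hc) _ hmem
      have h5 : f (⟨⟨q, hqH⟩, hqC⟩ * c) = f (c * ⟨⟨q, hqH⟩, hqC⟩) := by rw [this]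
      rw [map_mul, map_mul] at h5
      exact h5.symm
  · intro K' hK' hinv' g
    let K : Set P := Subtype.val '' K'
    have hKH : K ⊆ H := by
      rintro _ ⟨a, _, rfl⟩
      exact a.2
    have hKc : ∀ a ∈ K, ∀ x ∈ H, x * a * x⁻¹ ∈ K := by
      rintro _ ⟨a, ha, rfl⟩ x hx
      exact ⟨⟨x, hx⟩ * a * ⟨x, hx⟩⁻¹, hK' a ha ⟨x, hx⟩, rfl⟩
    have hKi : ∀ a ∈ K, ∀ t ∈ H, orderOf t = 2 → t * a ≠ a * t := by
      rintro _ ⟨a, ha, rfl⟩ t ht ht2 hcomm
      apply hinv' a ha ⟨t, ht⟩ (by rw [← Subgroup.orderOf_coe]; exact ht2)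
      exact Subtype.ext hcomm
    have heven := h2 K hKH hKc hKi (g : P) g.2
    have hcongr : Nat.card {u : ((Sylow.ofCard (S0.subgroupOf H) hcard' : Sylow 2 H) :
        Subgroup H) // ((u : H)) * g ∈ K'} = Nat.card {u : S0 // (u : P) * (g : P) ∈ K} := by
      apply Nat.card_congr
      refine
        { toFun := fun u => ⟨⟨((u.1 : H) : P), Subgroup.mem_subgroupOf.mp u.1.2⟩,
            ⟨(u.1 : H) * g, u.2, rfl⟩⟩
          invFun := fun u => ⟨⟨⟨(u.1 : P), hS0H u.1.2⟩, Subgroup.mem_subgroupOf.mpr u.1.2⟩, by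
            obtain ⟨a, ha, hau⟩ := u.2
            have : a = ⟨(u.1 : P), hS0H u.1.2⟩ * g := Subtype.ext hau
            rw [← this]; exact ha⟩
          left_inv := fun u => by apply Subtype.ext; apply Subtype.ext; rfl
          right_inv := fun u => by apply Subtype.ext; apply Subtype.ext; rfl }
    rw [hcongr]
    exact heven

end Cfsg.Agent.Lib.Helper8.OneBlockSub
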