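/-
Involution centralizers in `M22` are 2-constrained (helper8): for an involution `y` of `M22`, the
pointwise stabilizer (in `M24`) of the octad of fixed points of `y` is a normal self-centralizing
2-subgroup of `C(y)`.
-/
import Cfsg.Agent.Lib.Helper92.SylM22
import Cfsg.Agent.Lib.Helper8.OneBlockSub

set_option autoImplicit false

namespace Cfsg.Agent.Lib.Helper8.M22Cent

open Cfsg Cfsg.Agent.Lib.Helper7 Cfsg.Agent.Lib.Helper92 Cfsg.Agent.Lib.Helper92.SylM22
open Cfsg.Agent.Lib.Helper8.OneBlockSub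
open scoped Pointwise

/-- propagation certificate: fixing the 16 points outside the octad `mF4` forces the identity -/
def cert2 : List (ℕ × ℕ) :=
  [(0x5c6011, 0x293e00), (0x5c6011, 0x38c023), (0x320265, 0xa4f8), (0x320265, 0x6404ca),
   (0x320265, 0xac246), (0x6404ca, 0xa4f8), (0x6404ca, 0xac246), (0x800c75, 0x94c109)]

theorem propagate_cert2 : propagate (allMask ^^^ mF4) cert2 = allMask := by decide +kernel

theorem eq_one_of_fixes_outside {c : Equiv.Perm GolayPt} (hc : c ∈ M24)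
    (h : ∀ p, p ∉ setOf mF4 → c p = p) : c = 1 :=
  eq_one_of_propagate hc cert2 (allMask ^^^ mF4)
    (fun p hp => h p (mem_setOf_compl.mp hp)) propagate_cert2

theorem pt23_mem : pt 23 ∈ setOf mF4 := by rw [mem_setOf]; decide

theorem pt0_mem : pt 0 ∈ setOf mF4 := by rw [mem_setOf]; decide

theorem Q0_le_M22 : fixM24 (setOf mF4) ≤ Spor.M22 := by
  intro g hg
  rw [mem_fixM24] at hg
  exact mem_M22.mpr ⟨hg.1, hg.2 _ pt23_mem, hg.2 _ pt0_mem⟩

theorem Q0_mul_self {g : Equiv.Perm GolayPt} (hg : g ∈ fixM24 (setOf mF4)) : g * g = 1 :=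
  (fixM24_octad mF4_mem_octads).2 g hg

theorem Q0_comm {a b : Equiv.Perm GolayPt} (ha : a ∈ fixM24 (setOf mF4))
    (hb : b ∈ fixM24 (setOf mF4)) : a * b = b * a := by
  have hab : (a * b)⁻¹ = a * b := inv_eq_of_mul_eq_one_left (Q0_mul_self ((fixM24 _).mul_mem ha hb))
  have haa : a⁻¹ = a := inv_eq_of_mul_eq_one_left (Q0_mul_self ha)
  have hbb : b⁻¹ = b := inv_eq_of_mul_eq_one_left (Q0_mul_self hb)
  calc a * b = (a * b)⁻¹ := hab.symm
    _ = b⁻¹ * a⁻¹ := mul_inv_rev a b
    _ = b * a := by rw [haa, hbb]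

theorem Q0_isPGroup : IsPGroup 2 (fixM24 (setOf mF4)) := by
  intro g
  refine ⟨1, ?_⟩
  apply Subtype.ext
  rw [pow_one, pow_two]
  exact Q0_mul_self g.2

/-- a nontrivial element of `Q0` fixes exactly the octad -/
theorem mem_of_fixed {y : Equiv.Perm GolayPt} (hy : y ∈ fixM24 (setOf mF4)) (hy1 : y ≠ 1)
    {p : GolayPt} (hp : y p = p) : p ∈ setOf mF4 := by
  by_contra hnot
  exact hy1 (eq_one_of_mem_fixM24 mF4_mem_octads hnot hy hp)

theorem maps_octad {y c : Equiv.Perm GolayPt} (hy : y ∈ fixM24 (setOf mF4)) (hy1 : y ≠ 1)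
    (hcy : c * y = y * c) {p : GolayPt} (hp : p ∈ setOf mF4) : c p ∈ setOf mF4 := by
  apply mem_of_fixed hy hy1
  have h1 : y p = p := (mem_fixM24.mp hy).2 p hp
  have h2 : (y * c) p = (c * y) p := by rw [hcy]
  simp only [Equiv.Perm.mul_apply] at h2
  rw [h2, h1]

theorem inv_comm {y c : Equiv.Perm GolayPt} (hcy : c * y = y * c) : c⁻¹ * y = y * c⁻¹ := by
  calc c⁻¹ * y = c⁻¹ * (y * c) * c⁻¹ := by group
    _ = c⁻¹ * (c * y) * c⁻¹ := by rw [hcy]
    _ = y * c⁻¹ := by group

theorem constrained_of_mem_Q0 {y : Equiv.Perm GolayPt} (hy : y ∈ fixM24 (setOf mF4))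
    (hy1 : y ≠ 1) : Constrained Spor.M22 y := by
  refine ⟨fixM24 (setOf mF4), Q0_le_M22, Q0_isPGroup, fun q hq => Q0_comm hq hy, ?_, ?_⟩
  · intro c hc hcy q hq
    have hcM : c ∈ M24 := (mem_M22.mp hc).1
    rw [mem_fixM24]
    refine ⟨M24.mul_mem (M24.mul_mem hcM (mem_fixM24.mp hq).1) (M24.inv_mem hcM), ?_⟩
    intro p hp
    have h1 : c⁻¹ p ∈ setOf mF4 := maps_octad hy hy1 (inv_comm hcy) hp
    simp only [Equiv.Perm.mul_apply]
    rw [(mem_fixM24.mp hq).2 _ h1]
    simp
  · intro c hc hcy hcomm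
    have hcM : c ∈ M24 := (mem_M22.mp hc).1
    have hp0 : pt 3 ∉ setOf mF4 := pt3_not_mem
    have hcp0 : c (pt 3) ∉ setOf mF4 := by
      intro hmem
      have := maps_octad hy hy1 (inv_comm hcy) hmem
      simp at this
      exact hp0 this
    obtain ⟨e, he, hee⟩ := exists_fixM24_map mF4_mem_octads hp0 hcp0
    -- `e * c` fixes every point outside the octad
    have hfix : ∀ p, p ∉ setOf mF4 → (e * c) p = p := by
      intro p hp
      obtain ⟨e', he', hep⟩ := exists_fixM24_map mF4_mem_octads hp hp0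
      have h1 : (e * c) * e' = e' * (e * c) := by
        calc e * c * e' = e * (c * e') := by group
          _ = e * (e' * c) := by rw [hcomm e' he']
          _ = (e * e') * c := by group
          _ = (e' * e) * c := by rw [Q0_comm he he']
          _ = e' * (e * c) := by group
      have h2 : ((e * c) * e') (pt 3) = (e' * (e * c)) (pt 3) := by rw [h1]
      simp only [Equiv.Perm.mul_apply] at h2
      rw [hep, hee, hep] at h2
      simpa [Equiv.Perm.mul_apply] using h2
    have hone : e * c = 1 :=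
      eq_one_of_fixes_outside (M24.mul_mem (mem_fixM24.mp he).1 hcM) hfix
    have : c = e⁻¹ := by
      calc c = e⁻¹ * (e * c) := by group
        _ = e⁻¹ := by rw [hone, mul_one]
    rw [this]
    exact (fixM24 _).inv_mem he

theorem pt0_ne_pt23 : pt 0 ≠ pt 23 := by decide

/-- every involution centralizer of `M22` is 2-constrained -/
theorem constrained_M22 : ∀ y ∈ Spor.M22, orderOf y = 2 → Constrained Spor.M22 y := by
  intro y hy hy2
  obtain ⟨hyM, hy23, hy0⟩ := mem_M22.mp hy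
  obtain ⟨g, hg, hg23, hg0, hconj, -⟩ := exists_conj_normal hyM hy2 hy23 pt0_ne_pt23 hy0
  have hgM22 : g ∈ Spor.M22 := mem_M22.mpr ⟨hg, hg23, hg0⟩
  have hy1 : y ≠ 1 := by
    intro h
    rw [h, orderOf_one] at hy2
    exact absurd hy2 (by decide)
  have hne : g * y * g⁻¹ ≠ 1 := by
    intro h
    apply hy1
    calc y = g⁻¹ * (g * y * g⁻¹) * g := by group
      _ = 1 := by rw [h]; group
  have h1 := (constrained_of_mem_Q0 hconj hne).conj (Spor.M22.inv_mem hgM22)
  have h2 : g⁻¹ * (g * y * g⁻¹) * g⁻¹⁻¹ = y := by group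
  rw [h2] at h1
  exact h1

end Cfsg.Agent.Lib.Helper8.M22Cent
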