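/-
Packed-table calculus for permutations of the 24 Golay points (helper8): a permutation is tracked
by a natural number holding its images in 5-bit fields; products are tracked by words of tables and
compared pointwise in the kernel.
-/
import Cfsg.Agent.Lib.Helper92.SylM22

set_option autoImplicit false

namespace Cfsg.Agent.Lib.Helper8.M22Tab

open Cfsg Cfsg.Agent.Lib.Helper7 Cfsg.Agent.Lib.Helper92 Cfsg.Agent.Lib.Helper92.SylM22

/-- entry `i` of a packed table -/
def lk (t i : ℕ) : ℕ := Nat.land (Nat.shiftRight t (Nat.mul 5 i)) 31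

/-- action of a word of tables: the first table is applied last -/
def actW (w : List ℕ) (i : ℕ) : ℕ :=
  List.rec i (fun t _ ih => Nat.land (Nat.shiftRight t (Nat.mul 5 ih)) 31) w

theorem actW_nil (i : ℕ) : actW [] i = i := rfl

theorem actW_cons (t : ℕ) (w : List ℕ) (i : ℕ) : actW (t :: w) i = lk t (actW w i) := rfl

theorem actW_append (w u : List ℕ) (i : ℕ) : actW (w ++ u) i = actW w (actW u i) := by
  induction w with
  | nil => rfl
  | cons t w ih => simp only [List.cons_append, actW_cons, ih]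

/-- `f k` holds for all `k < n` (kernel-friendly) -/
def allLt (n : ℕ) (f : ℕ → Bool) : Bool := Nat.rec true (fun k ih => and (f k) ih) n

theorem allLt_succ (n : ℕ) (f : ℕ → Bool) : allLt (n + 1) f = (f n && allLt n f) := rfl

theorem allLt_spec {n : ℕ} {f : ℕ → Bool} (h : allLt n f = true) {k : ℕ} (hk : k < n) :
    f k = true := by
  induction n with
  | zero => omega
  | succ n ih =>
    rw [allLt_succ, Bool.and_eq_true] at h
    by_cases hkn : k = n
    · rw [hkn]; exact h.1
    · exact ih h.2 (by omega)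

/-- `f k` holds for some `k < n` (kernel-friendly) -/
def anyLt (n : ℕ) (f : ℕ → Bool) : Bool := Nat.rec false (fun k ih => or (f k) ih) n

theorem anyLt_succ (n : ℕ) (f : ℕ → Bool) : anyLt (n + 1) f = (f n || anyLt n f) := rfl

theorem anyLt_spec {n : ℕ} {f : ℕ → Bool} (h : anyLt n f = true) : ∃ k < n, f k = true := by
  induction n with
  | zero => exact Bool.noConfusion (h : false = true)
  | succ n ih =>
    rw [anyLt_succ, Bool.or_eq_true] at h
    rcases h with h | h
    · exact ⟨n, by omega, h⟩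
    · obtain ⟨k, hk, hf⟩ := ih h
      exact ⟨k, by omega, hf⟩

/-- the permutation `σ` acts as the word of tables `w` -/
def TabW (σ : Equiv.Perm GolayPt) (w : List ℕ) : Prop :=
  ∀ p : GolayPt, idx (σ p) = actW w (idx p)

theorem tabW_one : TabW 1 [] := fun _ => rfl

theorem TabW.mul {σ τ : Equiv.Perm GolayPt} {w u : List ℕ} (hσ : TabW σ w) (hτ : TabW τ u) :
    TabW (σ * τ) (w ++ u) := by
  intro p
  rw [actW_append, ← hτ p, Equiv.Perm.mul_apply]
  exact hσ _

theorem TabW.pow {σ : Equiv.Perm GolayPt} {w : List ℕ} (hσ : TabW σ w) (k : ℕ) :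
    TabW (σ ^ k) (List.replicate k w).flatten := by
  induction k with
  | zero => exact tabW_one
  | succ k ih =>
    rw [pow_succ', List.replicate_succ, List.flatten_cons]
    exact hσ.mul ih

theorem tabW_prod {xs : List (Equiv.Perm GolayPt)} {ts : List ℕ}
    (h : List.Forall₂ (fun x t => TabW x [t]) xs ts) : TabW xs.prod ts := by
  induction h with
  | nil => exact tabW_one
  | cons h _ ih => rw [List.prod_cons]; exact TabW.mul h ih

/-- pointwise comparison of two words of tables -/
def chkEq (w u : List ℕ) : Bool := allLt 24 fun j => Nat.beq (actW w j) (actW u j)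

theorem chkEq_spec {w u : List ℕ} (h : chkEq w u = true) {j : ℕ} (hj : j < 24) :
    actW w j = actW u j :=
  Nat.eq_of_beq_eq_true (allLt_spec h hj)

theorem eq_of_tabW {σ τ : Equiv.Perm GolayPt} {w u : List ℕ} (hσ : TabW σ w) (hτ : TabW τ u)
    (h : chkEq w u = true) : σ = τ := by
  ext p
  rw [← pt_idx (σ p), ← pt_idx (τ p), hσ p, hτ p, chkEq_spec h (idx_lt p)]

theorem TabW.of_chkEq {σ : Equiv.Perm GolayPt} {w u : List ℕ} (hσ : TabW σ w)
    (h : chkEq w u = true) : TabW σ u := by
  intro p
  rw [hσ p, chkEq_spec h (idx_lt p)]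

theorem TabW.unique {σ τ : Equiv.Perm GolayPt} {w : List ℕ} (hσ : TabW σ w) (hτ : TabW τ w) :
    σ = τ := by
  ext p
  rw [← pt_idx (σ p), ← pt_idx (τ p), hσ p, hτ p]

/-- the two words differ somewhere -/
def chkNe (w u : List ℕ) : Bool :=
  anyLt 24 fun j => Bool.rec true false (Nat.beq (actW w j) (actW u j))

theorem ne_of_tabW {σ τ : Equiv.Perm GolayPt} {w u : List ℕ} (hσ : TabW σ w) (hτ : TabW τ u)
    (h : chkNe w u = true) : σ ≠ τ := by
  obtain ⟨j, hj, hne⟩ := anyLt_spec h
  intro heq
  have h1 := hσ (pt j)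
  rw [heq, hτ (pt j), idx_pt hj] at h1
  have h2 : Nat.beq (actW w j) (actW u j) = true := by rw [h1]; exact Nat.beq_refl _
  rw [h2] at hne
  exact absurd hne (by decide)

theorem TabW.apply_pt {σ : Equiv.Perm GolayPt} {w : List ℕ} (hσ : TabW σ w) {j : ℕ}
    (hj : j < 24) : σ (pt j) = pt (actW w j) := by
  rw [← pt_idx (σ (pt j)), hσ (pt j), idx_pt hj]

/-- a table from a `Matches` list -/
theorem tabW_of_matches {σ : Equiv.Perm GolayPt} {t : List ℕ} {n : ℕ} (h : Matches σ t)
    (hn : ∀ j < 24, lk n j = t.getD j 0) : TabW σ [n] := by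
  intro p
  show idx (σ p) = lk n (idx p)
  rw [h p, hn _ (idx_lt p)]

/-- a table from a word in the generators of `M24` -/
theorem tabW_m24Word (w : List ℕ) {n : ℕ} (hn : ∀ j < 24, lk n j = m24Eval w j) :
    TabW (m24Word w) [n] := by
  intro p
  show idx (m24Word w p) = lk n (idx p)
  rw [m24Word_apply, idx_pt (m24Eval_lt w (idx_lt p)), hn _ (idx_lt p)]

/-- `t'` is the table of the inverse of `t` -/
def chkInv (t t' : ℕ) : Bool :=
  allLt 24 fun j => and (Nat.blt (lk t' j) 24) (Nat.beq (lk t (lk t' j)) j)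

theorem TabW.inv {σ : Equiv.Perm GolayPt} {t t' : ℕ} (hσ : TabW σ [t])
    (h : chkInv t t' = true) : TabW σ⁻¹ [t'] := by
  intro p
  show idx (σ⁻¹ p) = lk t' (idx p)
  have h1 := allLt_spec h (idx_lt p)
  rw [Bool.and_eq_true] at h1
  have hlt : lk t' (idx p) < 24 := by
    have := h1.1
    simpa [Nat.blt_eq] using this
  have hval : lk t (lk t' (idx p)) = idx p := Nat.eq_of_beq_eq_true h1.2
  have h2 : σ (pt (lk t' (idx p))) = p := by
    rw [← pt_idx (σ (pt (lk t' (idx p)))), hσ (pt (lk t' (idx p))), idx_pt hlt]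
    show pt (lk t (lk t' (idx p))) = p
    rw [hval, pt_idx]
  have h3 : σ⁻¹ p = pt (lk t' (idx p)) := by
    rw [Equiv.Perm.inv_eq_iff_eq]
    exact h2.symm
  rw [h3, idx_pt hlt]

end Cfsg.Agent.Lib.Helper8.M22Tab
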