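/-
`M22` is covered by 3465 explicit cosets of the Sylow 2-subgroup `S0` (helper8).
-/
import Cfsg.Agent.Lib.Helper8.M22Tab
import Cfsg.Agent.Lib.Helper8.M22Data

set_option autoImplicit false

namespace Cfsg.Agent.Lib.Helper8.M22Cover

open Cfsg Cfsg.Agent.Lib.Helper7 Cfsg.Agent.Lib.Helper92 Cfsg.Agent.Lib.Helper92.SylM22
open Cfsg.Agent.Lib.Helper8.M22Tab Cfsg.Agent.Lib.Helper8.M22Data

/-! ### Accessors -/

/-- table of the `i`-th element of `S0` -/
def st (i : ℕ) : ℕ := Nat.land (Nat.shiftRight STbig (Nat.mul 120 i)) 0xffffffffffffffffffffffffffffff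

/-- table of the `c`-th coset representative -/
def rt (c : ℕ) : ℕ := Nat.land (Nat.shiftRight RTbig (Nat.mul 120 c)) 0xffffffffffffffffffffffffffffff

/-- table of a letter -/
def tl (l : ℕ) : ℕ := TLL.getD l 0

/-- field `i` of width `w` of a packed list -/
def fld (big w i : ℕ) : ℕ := Nat.land (Nat.shiftRight big (Nat.mul w i)) (Nat.sub (Nat.pow 2 w) 1)

def par (c : ℕ) : ℕ := Nat.shiftRight (fld PGbig 13 c) 1
def gen (c : ℕ) : ℕ := Nat.land (fld PGbig 13 c) 1
def nxI (c x : ℕ) : ℕ := Nat.shiftRight (fld NXbig 20 (Nat.add (Nat.mul 2 c) x)) 12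
def nxC (c x : ℕ) : ℕ := Nat.land (fld NXbig 20 (Nat.add (Nat.mul 2 c) x)) 4095

/-! ### The letters -/

noncomputable def gA : Equiv.Perm GolayPt := m24Word [3]
noncomputable def gB : Equiv.Perm GolayPt := m24Word [1, 3, 3, 0, 0]

/-- the letters `a`, `b`, `a⁻¹`, `b⁻¹` -/
noncomputable def gL : ℕ → Equiv.Perm GolayPt
  | 0 => gA
  | 1 => gB
  | 2 => gA⁻¹
  | _ => gB⁻¹

/-- the subgroup generated by `a` and `b` -/
noncomputable def H0 : Subgroup (Equiv.Perm GolayPt) := Subgroup.closure {gA, gB}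

theorem gA_mem : gA ∈ H0 := Subgroup.subset_closure (by simp)
theorem gB_mem : gB ∈ H0 := Subgroup.subset_closure (by simp)

theorem gL_mem (l : ℕ) : gL l ∈ H0 := by
  unfold gL
  split
  · exact gA_mem
  · exact gB_mem
  · exact H0.inv_mem gA_mem
  · exact H0.inv_mem gB_mem

theorem tabW_gA : TabW gA [tl 0] := tabW_m24Word _ (by decide)
theorem tabW_gB : TabW gB [tl 1] := tabW_m24Word _ (by decide)

theorem tabW_gL : ∀ l < 4, TabW (gL l) [tl l] := by
  intro l hl
  have : l = 0 ∨ l = 1 ∨ l = 2 ∨ l = 3 := by omega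
  rcases this with rfl | rfl | rfl | rfl
  · exact tabW_gA
  · exact tabW_gB
  · exact tabW_gA.inv (by decide)
  · exact tabW_gB.inv (by decide)

theorem gA_mem_M22 : gA ∈ Spor.M22 := by
  rw [mem_M22]
  refine ⟨m24Word_mem _, ?_, ?_⟩
  · unfold gA; rw [m24Word_apply_pt _ (by norm_num)]; rfl
  · unfold gA; rw [m24Word_apply_pt _ (by norm_num)]; rfl

theorem gB_mem_M22 : gB ∈ Spor.M22 := by
  rw [mem_M22]
  refine ⟨m24Word_mem _, ?_, ?_⟩
  · unfold gB; rw [m24Word_apply_pt _ (by norm_num)]; rfl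
  · unfold gB; rw [m24Word_apply_pt _ (by norm_num)]; rfl

theorem H0_le_M22 : H0 ≤ Spor.M22 := by
  unfold H0
  rw [Subgroup.closure_le]
  intro g hg
  rcases hg with rfl | rfl
  · exact gA_mem_M22
  · exact gB_mem_M22

/-! ### The elements of `S0` -/

def chkST : Bool := allLt 128 fun i => allLt 24 fun j =>
  Nat.beq (lk (st i) j) ((tbl i).getD j 0)

set_option maxRecDepth 100000 in
theorem chkST_ok : chkST = true := by decide +kernel

theorem st_spec {i j : ℕ} (hi : i < 128) (hj : j < 24) : lk (st i) j = (tbl i).getD j 0 := by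
  exact Nat.eq_of_beq_eq_true (allLt_spec (allLt_spec chkST_ok hi) hj)

theorem exists_st {i : ℕ} (hi : i < 128) : ∃ s ∈ S0, TabW s [st i] := by
  obtain ⟨s, hs, hm⟩ := exists_mem_of_tbl i hi
  exact ⟨s, hs, tabW_of_matches hm (fun j hj => st_spec hi hj)⟩

theorem exists_idx {s : Equiv.Perm GolayPt} (hs : s ∈ S0) : ∃ i < 128, TabW s [st i] := by
  obtain ⟨i, hi, hm⟩ := exists_tbl_of_mem hs
  exact ⟨i, hi, tabW_of_matches hm (fun j hj => st_spec hi hj)⟩

/-! ### The coset representatives -/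

def chkTree : Bool := allLt 3465 fun c =>
  or (and (Nat.beq c 0) (chkEq [rt 0] []))
    (and (Nat.blt (par c) c) (chkEq [rt (par c), tl (gen c)] [rt c]))

set_option maxRecDepth 100000 in
theorem chkTree_ok : chkTree = true := by decide +kernel

theorem gen_lt (c : ℕ) : gen c < 4 := by
  unfold gen
  have : Nat.land (fld PGbig 13 c) 1 ≤ 1 := Nat.and_le_right
  omega

theorem exists_rt : ∀ c < 3465, ∃ r ∈ H0, TabW r [rt c] := by
  intro c
  induction c using Nat.strong_induction_on with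
  | _ c ih =>
    intro hc
    have h1 := allLt_spec chkTree_ok hc
    rw [Bool.or_eq_true, Bool.and_eq_true, Bool.and_eq_true] at h1
    rcases h1 with ⟨h0, h2⟩ | ⟨hlt, h2⟩
    · have hc0 : c = 0 := Nat.eq_of_beq_eq_true h0
      subst hc0
      refine ⟨1, H0.one_mem, ?_⟩
      intro p
      have := chkEq_spec h2 (idx_lt p)
      show idx p = lk (rt 0) (idx p)
      exact this.symm
    · have hlt' : par c < c := by simpa [Nat.blt_eq] using hlt
      obtain ⟨r, hr, hrt⟩ := ih (par c) hlt' (by omega)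
      refine ⟨r * gL (gen c), H0.mul_mem hr (gL_mem _), ?_⟩
      exact (hrt.mul (tabW_gL _ (gen_lt c))).of_chkEq h2

/-- the `c`-th coset representative -/
noncomputable def rEl (c : ℕ) : Equiv.Perm GolayPt :=
  if h : c < 3465 then Classical.choose (exists_rt c h) else 1

theorem rEl_mem {c : ℕ} (hc : c < 3465) : rEl c ∈ H0 := by
  unfold rEl; rw [dif_pos hc]; exact (Classical.choose_spec (exists_rt c hc)).1

theorem tabW_rEl {c : ℕ} (hc : c < 3465) : TabW (rEl c) [rt c] := by
  unfold rEl; rw [dif_pos hc]; exact (Classical.choose_spec (exists_rt c hc)).2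

/-- the `i`-th element of `S0` -/
noncomputable def sEl (i : ℕ) : Equiv.Perm GolayPt :=
  if h : i < 128 then Classical.choose (exists_st h) else 1

theorem sEl_mem {i : ℕ} (hi : i < 128) : sEl i ∈ S0 := by
  unfold sEl; rw [dif_pos hi]; exact (Classical.choose_spec (exists_st hi)).1

theorem tabW_sEl {i : ℕ} (hi : i < 128) : TabW (sEl i) [st i] := by
  unfold sEl; rw [dif_pos hi]; exact (Classical.choose_spec (exists_st hi)).2

theorem exists_sEl {s : Equiv.Perm GolayPt} (hs : s ∈ S0) : ∃ i < 128, sEl i = s := by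
  obtain ⟨i, hi, hi'⟩ := exists_idx hs
  exact ⟨i, hi, (tabW_sEl hi).unique hi'⟩

/-! ### Closure under the generators -/

def chkNxt : Bool := allLt 3465 fun c => allLt 2 fun x =>
  and (and (Nat.blt (nxI c x) 128) (Nat.blt (nxC c x) 3465))
    (chkEq [rt c, tl x] [st (nxI c x), rt (nxC c x)])

set_option maxRecDepth 100000 in
theorem chkNxt_ok : chkNxt = true := by decide +kernel

theorem nxt_spec {c x : ℕ} (hc : c < 3465) (hx : x < 2) :
    ∃ i < 128, ∃ c' < 3465, rEl c * gL x = sEl i * rEl c' := by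
  have h2 := allLt_spec (allLt_spec chkNxt_ok hc) hx
  rw [Bool.and_eq_true, Bool.and_eq_true] at h2
  obtain ⟨⟨hi, hc'⟩, heq⟩ := h2
  have hi' : nxI c x < 128 := by simpa [Nat.blt_eq] using hi
  have hc'' : nxC c x < 3465 := by simpa [Nat.blt_eq] using hc'
  refine ⟨_, hi', _, hc'', ?_⟩
  exact eq_of_tabW ((tabW_rEl hc).mul (tabW_gL x (by omega)))
    ((tabW_sEl hi').mul (tabW_rEl hc'')) heq

/-- the union of the cosets `S0 * rEl c` -/
def Cov (g : Equiv.Perm GolayPt) : Prop := ∃ c < 3465, ∃ s ∈ S0, g = s * rEl c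

theorem cov_mul_gen {g : Equiv.Perm GolayPt} (hg : Cov g) {x : ℕ} (hx : x < 2) :
    Cov (g * gL x) := by
  obtain ⟨c, hc, s, hs, rfl⟩ := hg
  obtain ⟨i, hi, c', hc', heq⟩ := nxt_spec hc hx
  refine ⟨c', hc', s * sEl i, S0.mul_mem hs (sEl_mem hi), ?_⟩
  rw [mul_assoc, heq, mul_assoc]

theorem gL_pow_five : ∀ x < 2, gL x ^ 5 = 1 := by
  intro x hx
  have h1 := (tabW_gL x (by omega)).pow 5
  have : x = 0 ∨ x = 1 := by omega
  rcases this with rfl | rfl
  · exact eq_of_tabW h1 tabW_one (by decide)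
  · exact eq_of_tabW h1 tabW_one (by decide)

theorem cov_mul_gen_inv {g : Equiv.Perm GolayPt} (hg : Cov g) {x : ℕ} (hx : x < 2) :
    Cov (g * (gL x)⁻¹) := by
  have h5 := gL_pow_five x hx
  have hinv : (gL x)⁻¹ = gL x * gL x * gL x * gL x := by
    apply inv_eq_of_mul_eq_one_right
    rw [← h5]; simp only [pow_succ, pow_zero, one_mul, mul_assoc]
  rw [hinv]
  have h1 := cov_mul_gen (cov_mul_gen (cov_mul_gen (cov_mul_gen hg hx) hx) hx) hx
  simpa [mul_assoc] using h1

theorem cov_one : Cov 1 := by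
  refine ⟨0, by norm_num, 1, S0.one_mem, ?_⟩
  have h : TabW (rEl 0) [rt 0] := tabW_rEl (by norm_num)
  have h1 : (rEl 0) = 1 := eq_of_tabW h tabW_one (by decide)
  rw [h1, mul_one]

theorem cov_of_mem_H0 {g : Equiv.Perm GolayPt} (hg : g ∈ H0) : Cov g := by
  unfold H0 at hg
  induction hg using Subgroup.closure_induction_right with
  | one => exact cov_one
  | mul_right x hx y hy ih =>
    rcases hy with rfl | rfl
    · exact cov_mul_gen (x := 0) ih (by norm_num)
    · exact cov_mul_gen (x := 1) ih (by norm_num)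
  | mul_inv_cancel x hx y hy ih =>
    rcases hy with rfl | rfl
    · exact cov_mul_gen_inv (x := 0) ih (by norm_num)
    · exact cov_mul_gen_inv (x := 1) ih (by norm_num)

/-! ### `M22` is generated by `a` and `b` -/

/-- a word of letters as a permutation -/
noncomputable def wordL (w : List ℕ) : Equiv.Perm GolayPt := (w.map gL).prod

theorem wordL_mem (w : List ℕ) : wordL w ∈ H0 := by
  unfold wordL
  apply Subgroup.list_prod_mem
  intro x hx
  obtain ⟨l, _, rfl⟩ := List.mem_map.mp hx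
  exact gL_mem l

theorem tabW_wordL (w : List ℕ) (hw : w.all (fun l => Nat.blt l 4) = true) :
    TabW (wordL w) (w.map tl) := by
  unfold wordL
  apply tabW_prod
  induction w with
  | nil => exact List.Forall₂.nil
  | cons l w ih =>
    rw [List.all_cons, Bool.and_eq_true] at hw
    rw [List.map_cons, List.map_cons]
    refine List.Forall₂.cons (tabW_gL l ?_) (ih hw.2)
    have := hw.1
    simpa [Nat.blt_eq] using this

/-- the sifting word for level `i` and point `q` -/
def sw (i q : ℕ) : List ℕ := (siftW.getD i []).getD q []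

def chkSift : Bool := allLt 7 fun i => or (Nat.blt i 2) (allLt 24 fun q =>
  or (not (orbitOK i q))
    (and ((sw i q).all fun l => Nat.blt l 4)
      (and (allLt i fun j =>
          Nat.beq (actW ((sw i q).map tl) (baseL.getD j 0)) (baseL.getD j 0))
        (Nat.beq (actW ((sw i q).map tl) q) (baseL.getD i 0)))))

set_option maxRecDepth 100000 in
theorem chkSift_ok : chkSift = true := by decide +kernel

theorem exists_chain_elem' {i q : ℕ} (hi2 : 2 ≤ i) (hi : i < 7) (hq : q < 24)
    (h : orbitOK i q = true) :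
    ∃ u ∈ H0, (∀ j < i, u (bp j) = bp j) ∧ u (pt q) = bp i := by
  have h1 := allLt_spec chkSift_ok hi
  rw [Bool.or_eq_true] at h1
  rcases h1 with h1 | h1
  · have : i < 2 := by simpa [Nat.blt_eq] using h1
    omega
  have h2 := allLt_spec h1 hq
  rw [Bool.or_eq_true] at h2
  rcases h2 with h2 | h2
  · rw [h] at h2; exact absurd h2 (by decide)
  rw [Bool.and_eq_true, Bool.and_eq_true] at h2
  obtain ⟨hw, hfix, hmap⟩ := h2
  have htab := tabW_wordL (sw i q) hw
  refine ⟨wordL (sw i q), wordL_mem _, ?_, ?_⟩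
  · intro j hj
    unfold bp
    rw [htab.apply_pt (baseL_lt j), Nat.eq_of_beq_eq_true (allLt_spec hfix hj)]
  · unfold bp
    rw [htab.apply_pt hq, Nat.eq_of_beq_eq_true hmap]

theorem H0_le_M24 : H0 ≤ M24 := fun _ hg => (mem_M22.mp (H0_le_M22 hg)).1

theorem sift_aux' : ∀ k i : ℕ, i + k = 7 → 2 ≤ i → ∀ g ∈ M24, (∀ j < i, g (bp j) = bp j) →
    g ∈ H0 := by
  intro k
  induction k with
  | zero =>
    intro i hi _ g hg hfix
    have : i = 7 := by omega
    subst this
    rw [eq_one_of_fixes_base hg hfix]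
    exact H0.one_mem
  | succ k ih =>
    intro i hi hi2 g hg hfix
    have hi7 : i < 7 := by omega
    obtain ⟨u, hu, hufix, huq⟩ := exists_chain_elem' hi2 hi7 (idx_lt (g (bp i)))
      (orbitOK_of_fixes hg hi7 hfix)
    rw [pt_idx] at huq
    have hug : u * g ∈ H0 := by
      apply ih (i + 1) (by omega) (by omega) (u * g) (M24.mul_mem (H0_le_M24 hu) hg)
      intro j hj
      rw [Equiv.Perm.mul_apply]
      by_cases hji : j < i
      · rw [hfix j hji, hufix j hji]
      · have : j = i := by omega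
        subst this
        exact huq
    have : g = u⁻¹ * (u * g) := by group
    rw [this]
    exact H0.mul_mem (H0.inv_mem hu) hug

theorem M22_le_H0 : Spor.M22 ≤ H0 := by
  intro g hg
  obtain ⟨hgM, h23, h0⟩ := mem_M22.mp hg
  apply sift_aux' 5 2 (by norm_num) (by norm_num) g hgM
  intro j hj
  have : j = 0 ∨ j = 1 := by omega
  rcases this with rfl | rfl
  · exact h23
  · exact h0

/-- every element of `M22` lies in one of the 3465 cosets -/
theorem cov_of_mem_M22 {g : Equiv.Perm GolayPt} (hg : g ∈ Spor.M22) : Cov g :=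
  cov_of_mem_H0 (M22_le_H0 hg)

theorem rEl_mem_M22 {c : ℕ} (hc : c < 3465) : rEl c ∈ Spor.M22 := H0_le_M22 (rEl_mem hc)

theorem sEl_mem_M22 {i : ℕ} (hi : i < 128) : sEl i ∈ Spor.M22 := S0_le_M22 (sEl_mem hi)

end Cfsg.Agent.Lib.Helper8.M22Cover
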