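/-
Every coset of the Sylow 2-subgroup `S0` of `M22` meets every conjugation-closed set of elements
centralized by no involution in an even number of elements (helper8).
-/
import Cfsg.Agent.Lib.Helper8.M22Cover
import Cfsg.Agent.Lib.Helper8.OneBlockSub

set_option autoImplicit false

namespace Cfsg.Agent.Lib.Helper8.M22Even

open Cfsg Cfsg.Agent.Lib.Helper7 Cfsg.Agent.Lib.Helper92 Cfsg.Agent.Lib.Helper92.SylM22
open Cfsg.Agent.Lib.Helper8.M22Tab Cfsg.Agent.Lib.Helper8.M22Data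
open Cfsg.Agent.Lib.Helper8.M22Cover Cfsg.Agent.Lib.Helper8.OneBlockSub

/-! ### Accessors -/

def cl (c : ℕ) : ℕ := fld CLbig 20 c
def clK (c : ℕ) : ℕ := Nat.land (cl c) 1
def clD (c : ℕ) : ℕ := Nat.land (Nat.shiftRight (cl c) 1) 31
def clI (c : ℕ) : ℕ := Nat.land (Nat.shiftRight (cl c) 6) 127
def clJ (c : ℕ) : ℕ := Nat.land (Nat.shiftRight (cl c) 13) 127
def drep (d : ℕ) : ℕ := drepL.getD d 0
def pc (d i : ℕ) : ℕ := fld PCbig 28 (Nat.add (Nat.mul 128 d) i)
def pcK (d i : ℕ) : ℕ := Nat.land (pc d i) 3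
def pcA (d i : ℕ) : ℕ := Nat.land (Nat.shiftRight (pc d i) 2) 127
def pcS (d i : ℕ) : ℕ := Nat.land (Nat.shiftRight (pc d i) 9) 127
def pcC (d i : ℕ) : ℕ := Nat.land (Nat.shiftRight (pc d i) 16) 4095

/-! ### Small lemmas -/

theorem lt_of_blt {a b : ℕ} (h : Nat.blt a b = true) : a < b := by
  simpa [Nat.blt_eq] using h

theorem orderOf_two_of {t : Equiv.Perm GolayPt} (h1 : t * t = 1) (h2 : t ≠ 1) : orderOf t = 2 := by
  apply orderOf_eq_prime
  · rw [pow_two]; exact h1
  · exact h2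

theorem S0_conj_closed {K : Set (Equiv.Perm GolayPt)}
    (hK : ∀ a ∈ K, ∀ g ∈ Spor.M22, g * a * g⁻¹ ∈ K) : ∀ a ∈ K, ∀ s ∈ S0, s * a * s⁻¹ ∈ K :=
  fun a ha s hs => hK a ha s (S0_le_M22 hs)

/-! ### Classification of the cosets -/

def chkDrep : Bool := allLt 17 fun d => Nat.blt (drep d) 3465

theorem chkDrep_ok : chkDrep = true := by decide +kernel

theorem drep_lt {d : ℕ} (hd : d < 17) : drep d < 3465 := lt_of_blt (allLt_spec chkDrep_ok hd)

def chkCls : Bool := allLt 3465 fun c =>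
  Bool.rec
    (and (and (Nat.blt (clI c) 128) (Nat.blt (clJ c) 128))
      (and (and (chkEq [st (clI c), st (clI c)] []) (chkNe [st (clI c)] []))
        (chkEq [rt c, st (clI c)] [st (clJ c), rt c])))
    (and (and (Nat.blt (clD c) 17) (and (Nat.blt (clI c) 128) (Nat.blt (clJ c) 128)))
      (chkEq [rt c] [st (clI c), rt (drep (clD c)), st (clJ c)]))
    (Nat.beq (clK c) 1)

set_option maxRecDepth 100000 in
theorem chkCls_ok : chkCls = true := by decide +kernel

theorem cls_spec {c : ℕ} (hc : c < 3465) :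
    (∃ t ∈ S0, orderOf t = 2 ∧ rEl c * t * (rEl c)⁻¹ ∈ S0) ∨
    (∃ d < 17, ∃ s ∈ S0, ∃ s' ∈ S0, rEl c = s * rEl (drep d) * s') := by
  have h := allLt_spec chkCls_ok hc
  cases hk : Nat.beq (clK c) 1 with
  | false =>
    rw [hk] at h
    simp only [Bool.and_eq_true] at h
    obtain ⟨⟨hi, hj⟩, ⟨hsq, hne⟩, hconj⟩ := h
    have hi' := lt_of_blt hi
    have hj' := lt_of_blt hj
    left
    refine ⟨sEl (clI c), sEl_mem hi', ?_, ?_⟩
    · apply orderOf_two_of
      · exact eq_of_tabW ((tabW_sEl hi').mul (tabW_sEl hi')) tabW_one hsq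
      · exact ne_of_tabW (tabW_sEl hi') tabW_one hne
    · have h1 : rEl c * sEl (clI c) = sEl (clJ c) * rEl c :=
        eq_of_tabW ((tabW_rEl hc).mul (tabW_sEl hi')) ((tabW_sEl hj').mul (tabW_rEl hc)) hconj
      rw [h1, mul_inv_cancel_right]
      exact sEl_mem hj'
  | true =>
    rw [hk] at h
    simp only [Bool.and_eq_true] at h
    obtain ⟨⟨hd, hi, hj⟩, heq⟩ := h
    have hd' := lt_of_blt hd
    have hi' := lt_of_blt hi
    have hj' := lt_of_blt hj
    right
    refine ⟨clD c, hd', sEl (clI c), sEl_mem hi', sEl (clJ c), sEl_mem hj', ?_⟩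
    exact eq_of_tabW (tabW_rEl hc)
      (((tabW_sEl hi').mul (tabW_rEl (drep_lt hd'))).mul (tabW_sEl hj')) heq

/-! ### The pairing certificates -/

/-- word of `sEl i * rEl (drep d)` -/
def yW (d i : ℕ) : List ℕ := [st i, rt (drep d)]

/-- word of `sEl k * rEl c` -/
def hW (d i : ℕ) : List ℕ := [st (pcS d i), rt (pcC d i)]

def chkE (d i : ℕ) : Bool :=
  and (chkEq ((List.replicate (pcA d i) (yW d i)).flatten ++
      (List.replicate (pcA d i) (yW d i)).flatten) [])
    (chkNe (List.replicate (pcA d i) (yW d i)).flatten [])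

def chkT (d i : ℕ) : Bool :=
  and (and (Nat.blt (pcS d i) 128) (Nat.blt (pcC d i) 3465))
    (and (and (chkEq (hW d i ++ hW d i) []) (chkNe (hW d i) []))
      (chkEq (hW d i ++ yW d i) (yW d i ++ hW d i)))

def chkP (d i : ℕ) : Bool :=
  and (and (and (Nat.blt (pcS d i) 128) (Nat.blt (pcC d i) 3465))
      (and (Nat.blt (pcA d i) 128) (Bool.rec true false (Nat.beq (pcA d i) i))))
    (and (and (Nat.beq (pcK d (pcA d i)) 2) (Nat.beq (pcA d (pcA d i)) i))
      (chkEq (hW d i ++ yW d i) (yW d (pcA d i) ++ hW d i)))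

def chkPair : Bool := allLt 17 fun d => allLt 128 fun i =>
  Nat.rec (chkE d i) (fun k _ => Nat.rec (chkT d i) (fun k' _ => Nat.rec (chkP d i)
    (fun _ _ => false) k') k) (pcK d i)

set_option maxRecDepth 100000 in
theorem chkPair_ok : chkPair = true := by decide +kernel

/-- the pairing -/
def pi (d i : ℕ) : ℕ := if pcK d i = 2 then pcA d i else i

theorem pair_spec {d : ℕ} (hd : d < 17) {i : ℕ} (hi : i < 128) :
    pi d i < 128 ∧ pi d (pi d i) = i ∧
      (pi d i = i → ∃ t ∈ Spor.M22, orderOf t = 2 ∧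
        t * (sEl i * rEl (drep d)) = sEl i * rEl (drep d) * t) ∧
      (pi d i ≠ i → ∃ h ∈ Spor.M22,
        h * (sEl i * rEl (drep d)) * h⁻¹ = sEl (pi d i) * rEl (drep d)) := by
  have h := allLt_spec (allLt_spec chkPair_ok hd) hi
  have hy : TabW (sEl i * rEl (drep d)) (yW d i) := (tabW_sEl hi).mul (tabW_rEl (drep_lt hd))
  have hyM : sEl i * rEl (drep d) ∈ Spor.M22 :=
    Spor.M22.mul_mem (sEl_mem_M22 hi) (rEl_mem_M22 (drep_lt hd))
  rcases hk : pcK d i with _ | _ | _ | k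
  · -- kind E
    rw [hk] at h
    change chkE d i = true at h
    have hpi : pi d i = i := by unfold pi; rw [hk]; simp
    rw [hpi]
    refine ⟨hi, hpi, fun _ => ?_, fun hne => absurd rfl hne⟩
    unfold chkE at h
    rw [Bool.and_eq_true] at h
    have hp := hy.pow (pcA d i)
    refine ⟨(sEl i * rEl (drep d)) ^ pcA d i, Spor.M22.pow_mem hyM _, ?_, ?_⟩
    · apply orderOf_two_of
      · exact eq_of_tabW (hp.mul hp) tabW_one h.1
      · exact ne_of_tabW hp tabW_one h.2
    · exact (Commute.pow_self _ _).eq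
  · -- kind T
    rw [hk] at h
    change chkT d i = true at h
    have hpi : pi d i = i := by unfold pi; rw [hk]; simp
    rw [hpi]
    refine ⟨hi, hpi, fun _ => ?_, fun hne => absurd rfl hne⟩
    unfold chkT at h
    simp only [Bool.and_eq_true] at h
    obtain ⟨⟨hs, hc⟩, ⟨hsq, hne⟩, hcomm⟩ := h
    have hs' := lt_of_blt hs
    have hc' := lt_of_blt hc
    have ht : TabW (sEl (pcS d i) * rEl (pcC d i)) (hW d i) := (tabW_sEl hs').mul (tabW_rEl hc')
    refine ⟨sEl (pcS d i) * rEl (pcC d i),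
      Spor.M22.mul_mem (sEl_mem_M22 hs') (rEl_mem_M22 hc'), ?_, ?_⟩
    · apply orderOf_two_of
      · exact eq_of_tabW (ht.mul ht) tabW_one hsq
      · exact ne_of_tabW ht tabW_one hne
    · exact eq_of_tabW (ht.mul hy) (hy.mul ht) hcomm
  · -- kind P
    rw [hk] at h
    change chkP d i = true at h
    unfold chkP at h
    simp only [Bool.and_eq_true] at h
    obtain ⟨⟨⟨hs, hc⟩, hj, hne⟩, ⟨hkj, haj⟩, hconj⟩ := h
    have hs' := lt_of_blt hs
    have hc' := lt_of_blt hc
    have hj' := lt_of_blt hj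
    have hne' : pcA d i ≠ i := by
      intro heq
      have : Nat.beq (pcA d i) i = true := by rw [heq]; exact Nat.beq_refl _
      rw [this] at hne
      exact absurd hne (by decide)
    have hpi : pi d i = pcA d i := by unfold pi; rw [hk]; simp
    have hpi2 : pi d (pcA d i) = i := by
      unfold pi
      rw [Nat.eq_of_beq_eq_true hkj]
      simp only [if_true]
      exact Nat.eq_of_beq_eq_true haj
    rw [hpi]
    refine ⟨hj', hpi2, fun heq => absurd heq hne', fun _ => ?_⟩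
    have hh : TabW (sEl (pcS d i) * rEl (pcC d i)) (hW d i) := (tabW_sEl hs').mul (tabW_rEl hc')
    have hy' : TabW (sEl (pcA d i) * rEl (drep d)) (yW d (pcA d i)) :=
      (tabW_sEl hj').mul (tabW_rEl (drep_lt hd))
    refine ⟨sEl (pcS d i) * rEl (pcC d i),
      Spor.M22.mul_mem (sEl_mem_M22 hs') (rEl_mem_M22 hc'), ?_⟩
    have h1 : sEl (pcS d i) * rEl (pcC d i) * (sEl i * rEl (drep d)) =
        sEl (pcA d i) * rEl (drep d) * (sEl (pcS d i) * rEl (pcC d i)) :=
      eq_of_tabW (hh.mul hy) (hy'.mul hh) hconj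
    rw [h1, mul_inv_cancel_right]
  · -- impossible kind
    rw [hk] at h
    exact Bool.noConfusion (h : false = true)

/-! ### The main statement -/

theorem sEl_inj {i j : ℕ} (hi : i < 128) (hj : j < 128) (h : sEl i = sEl j) : i = j := by
  apply chkNodup_spec hi hj
  intro k hk
  rw [← st_spec hi hk, ← st_spec hj hk]
  have h1 := tabW_sEl hi (pt k)
  have h2 := tabW_sEl hj (pt k)
  rw [h, h2, idx_pt hk] at h1
  exact h1.symm

theorem even_of_regular {d : ℕ} (hd : d < 17) (K : Set (Equiv.Perm GolayPt))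
    (hK : ∀ a ∈ K, ∀ g ∈ Spor.M22, g * a * g⁻¹ ∈ K)
    (hinv : ∀ a ∈ K, ∀ t ∈ Spor.M22, orderOf t = 2 → t * a ≠ a * t) :
    Even (Nat.card {u : S0 // (u : Equiv.Perm GolayPt) * rEl (drep d) ∈ K}) :=
  even_card_of_pairing Spor.M22 S0 128 sEl (fun _ hi => sEl_mem hi)
    (fun _ hu => exists_sEl hu) (fun _ hi _ hj h => sEl_inj hi hj h) K hK hinv
    (rEl (drep d)) (pi d) (fun _ hi => pair_spec hd hi)

/-- **Every coset of `S0` in `M22` meets `K` in an even number of elements.** -/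
theorem even_M22 (K : Set (Equiv.Perm GolayPt))
    (hK : ∀ a ∈ K, ∀ g ∈ Spor.M22, g * a * g⁻¹ ∈ K)
    (hinv : ∀ a ∈ K, ∀ t ∈ Spor.M22, orderOf t = 2 → t * a ≠ a * t)
    (g : Equiv.Perm GolayPt) (hg : g ∈ Spor.M22) :
    Even (Nat.card {u : S0 // (u : Equiv.Perm GolayPt) * g ∈ K}) := by
  obtain ⟨c, hc, s, hs, rfl⟩ := cov_of_mem_M22 hg
  have hKS := S0_conj_closed hK
  have h1 := card_coset_mul S0 K hKS (rEl c) s 1 hs S0.one_mem
  rw [mul_one] at h1
  rw [h1]
  rcases cls_spec hc with ⟨t, ht, ht2, hconj⟩ | ⟨d, hd, s1, hs1, s2, hs2, heq⟩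
  · exact even_card_of_nonregular S0 K hKS
      (fun a ha t ht ht2 => hinv a ha t (S0_le_M22 ht) ht2) (rEl c) t ht ht2 hconj
  · rw [heq, card_coset_mul S0 K hKS (rEl (drep d)) s1 s2 hs1 hs2]
    exact even_of_regular hd K hK hinv

end Cfsg.Agent.Lib.Helper8.M22Even
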