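import Mathlib
import Cfsg.Agent.Lib.Helper8.NMax2

/-!
# Automorphisms preserving the vectors of shape `(±4,±4,0^22)` preserve the standard cross
-/

set_option autoImplicit false

namespace Cfsg.Agent.Lib.Helper8
open Cfsg Cfsg.Agent.Lib.Helper7 Cfsg.Spor Cfsg.Agent.S0397
open scoped Pointwise

/-- the possible values `0, ±8` -/
def D8 (t : ℤ) : Prop := t = 0 ∨ t = 8 ∨ t = -8

theorem single_of_coord_eight {u : GolayPt → ℤ} (hn : sqNorm u = 64) {i : GolayPt}
    (hi : u i = 8 ∨ u i = -8) : u ∈ stdCross := by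
  refine ⟨i, u i, hi, ?_⟩
  funext j
  by_cases hj : j = i
  · rw [hj, Pi.single_eq_same]
  · rw [Pi.single_eq_of_ne hj]
    have := sum_two_le u (Ne.symm hj)
    have h64 : u i ^ 2 = 64 := by rcases hi with h | h <;> rw [h] <;> norm_num
    have : u j ^ 2 ≤ 0 := by linarith
    have h0 : u j ^ 2 = 0 := le_antisymm this (sq_nonneg _)
    exact pow_eq_zero_iff (two_ne_zero) |>.1 h0

/-- the frame lemma -/
theorem mem_stdCross_of_constraints {u : GolayPt → ℤ} (hn : sqNorm u = 64)
    (h : ∀ k, k ≠ none → k ≠ some 0 → D8 (u none + u k) ∧ D8 (u none - u k) ∧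
      D8 (u (some 0) + u k) ∧ D8 (u (some 0) - u k)) : u ∈ stdCross := by
  classical
  unfold D8 at h
  by_contra hcon
  have hno : ∀ i, ¬ (u i = 8 ∨ u i = -8) := fun i hi => hcon (single_of_coord_eight hn hi)
  have h1 := h (some 1) (by decide) (by decide)
  have hn0 := hno none
  have hn1 := hno (some 0)
  have ha : u none = 0 ∨ u none = 4 ∨ u none = -4 := by omega
  have hb : u (some 0) = 0 ∨ u (some 0) = 4 ∨ u (some 0) = -4 := by omega
  -- the case where `u_∞` or `u_0` is `±4`
  have hbig : (u none ^ 2 = 16 ∨ u (some 0) ^ 2 = 16) → False := by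
    intro h16
    have hk : ∀ k, k ≠ none → k ≠ some 0 → u k ^ 2 = 16 := by
      intro k hk1 hk2
      have := h k hk1 hk2
      have hnk := hno k
      have : u k = 4 ∨ u k = -4 := by
        rcases h16 with h16 | h16
        · have : u none = 4 ∨ u none = -4 := by
            rcases ha with h' | h' | h' <;> rw [h'] at h16 <;> simp_all
          omega
        · have : u (some 0) = 4 ∨ u (some 0) = -4 := by
            rcases hb with h' | h' | h' <;> rw [h'] at h16 <;> simp_all
          omega
      rcases this with h' | h' <;> rw [h'] <;> norm_num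
    have hlow : ∀ i, (16 : ℤ) - (if i = none then 16 else 0) - (if i = some 0 then 16 else 0)
        ≤ u i ^ 2 := by
      intro i
      by_cases hi1 : i = none
      · rw [if_pos hi1, if_neg (by rw [hi1]; decide)]
        have := sq_nonneg (u i)
        linarith
      · by_cases hi2 : i = some 0
        · rw [if_neg hi1, if_pos hi2]
          have := sq_nonneg (u i)
          linarith
        · rw [if_neg hi1, if_neg hi2, hk i hi1 hi2]
          norm_num
    have hsum := Finset.sum_le_sum (s := Finset.univ) (fun i _ => hlow i)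
    rw [Finset.sum_sub_distrib, Finset.sum_sub_distrib, Finset.sum_const, Finset.card_univ,
      Finset.sum_ite_eq' Finset.univ none, Finset.sum_ite_eq' Finset.univ (some 0),
      if_pos (Finset.mem_univ _), if_pos (Finset.mem_univ _), card_golayPt'] at hsum
    unfold sqNorm at hn
    rw [hn] at hsum
    norm_num at hsum
  have ha0 : u none = 0 := by
    rcases ha with h' | h' | h'
    · exact h'
    · exact absurd (Or.inl (by rw [h']; norm_num)) hbig
    · exact absurd (Or.inl (by rw [h']; norm_num)) hbig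
  have hb0 : u (some 0) = 0 := by
    rcases hb with h' | h' | h'
    · exact h'
    · exact absurd (Or.inr (by rw [h']; norm_num)) hbig
    · exact absurd (Or.inr (by rw [h']; norm_num)) hbig
  have hall : ∀ i, u i = 0 := by
    intro i
    by_cases hi1 : i = none
    · rw [hi1]; exact ha0
    · by_cases hi2 : i = some 0
      · rw [hi2]; exact hb0
      · have := h i hi1 hi2
        have hni := hno i
        omega
  unfold sqNorm at hn
  rw [Finset.sum_congr rfl (fun i _ => by rw [hall i])] at hn
  simp at hn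

/-- `dot (g • 8e_∞) x = 8 (g⁻¹ • x)_∞` -/
theorem dot_smul_v0 (g : Co0) (x : leechLattice) :
    dotInt ((g • v0 : leechLattice) : GolayPt → ℤ) (x : GolayPt → ℤ)
      = 8 * ((g⁻¹ • x : leechLattice) : GolayPt → ℤ) none := by
  have h1 := co0_dotInt g⁻¹ (g • v0) x
  rw [inv_smul_smul] at h1
  rw [← h1, dotInt_comm]
  exact dotInt_e8 _ none

theorem coord_of_T1_min {y : GolayPt → ℤ} (hn : sqNorm y = 32) (h4 : T1 y) (i : GolayPt) :
    y i = 0 ∨ y i = 4 ∨ y i = -4 := by
  have h1 : y i ^ 2 ≤ sqNorm y := by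
    unfold sqNorm
    exact Finset.single_le_sum (f := fun j => y j ^ 2) (fun j _ => sq_nonneg (y j))
      (Finset.mem_univ i)
  rw [hn] at h1
  have h2 := h4 i
  have h3 : -6 < y i := by nlinarith
  have h4' : y i < 6 := by nlinarith
  omega

/-- a pair constraint from a preserved vector `s e_i + s' e_k` -/
theorem pair_constraint (g : Co0) {i k : GolayPt} (hik : i ≠ k) {s s' : ℤ}
    (hs : s = 4 ∨ s = -4) (hs' : s' = 4 ∨ s' = -4)
    (hT : T1 ((g⁻¹ • (⟨Pi.single i s + Pi.single k s', pm4_pair_mem i k hs hs'⟩ : leechLattice)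
      : leechLattice) : GolayPt → ℤ)) :
    s * ((g • v0 : leechLattice) : GolayPt → ℤ) i + s' * ((g • v0 : leechLattice) : GolayPt → ℤ) k
      = 0 ∨
    s * ((g • v0 : leechLattice) : GolayPt → ℤ) i + s' * ((g • v0 : leechLattice) : GolayPt → ℤ) k
      = 32 ∨
    s * ((g • v0 : leechLattice) : GolayPt → ℤ) i + s' * ((g • v0 : leechLattice) : GolayPt → ℤ) k
      = -32 := by
  set x : leechLattice := ⟨Pi.single i s + Pi.single k s', pm4_pair_mem i k hs hs'⟩ with hx
  have h1 := dot_smul_v0 g x
  rw [dotInt_comm] at h1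
  have h2 : dotInt (x : GolayPt → ℤ) ((g • v0 : leechLattice) : GolayPt → ℤ)
      = s * ((g • v0 : leechLattice) : GolayPt → ℤ) i
        + s' * ((g • v0 : leechLattice) : GolayPt → ℤ) k := dotInt_pair_left i k s s' _
  rw [h2] at h1
  have hn : sqNorm ((g⁻¹ • x : leechLattice) : GolayPt → ℤ) = 32 := by
    rw [co0_sqNorm]
    exact sqNorm_pm4_pair hik hs hs'
  have := coord_of_T1_min hn hT none
  omega

/-- **first dot trick**: a subgroup preserving the vectors of shape `(±4,±4,0^22)` lies in `N` -/
theorem le_NN_of_pres_T1 (K : Subgroup Co0)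
    (h : ∀ k ∈ K, ∀ v : leechLattice, sqNorm (v : GolayPt → ℤ) = 32 → T1 (v : GolayPt → ℤ) →
      T1 ((k • v : leechLattice) : GolayPt → ℤ)) : K ≤ NN := by
  intro g hg
  apply mem_NN_of_smul_v0
  apply mem_stdCross_of_constraints
  · rw [co0_sqNorm]; exact sqNorm_e8 none
  · have key : ∀ i k : GolayPt, i ≠ k →
        D8 (((g • v0 : leechLattice) : GolayPt → ℤ) i + ((g • v0 : leechLattice) : GolayPt → ℤ) k) ∧
        D8 (((g • v0 : leechLattice) : GolayPt → ℤ) i - ((g • v0 : leechLattice) : GolayPt → ℤ) k) := by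
      intro i k hik
      have hT : ∀ (s s' : ℤ) (hs : s = 4 ∨ s = -4) (hs' : s' = 4 ∨ s' = -4),
          T1 ((g⁻¹ • (⟨Pi.single i s + Pi.single k s', pm4_pair_mem i k hs hs'⟩ : leechLattice)
            : leechLattice) : GolayPt → ℤ) := by
        intro s s' hs hs'
        apply h g⁻¹ (K.inv_mem hg) _ (sqNorm_pm4_pair hik hs hs')
        intro j
        show (Pi.single i s + Pi.single k s' : GolayPt → ℤ) j % 4 = 0
        simp only [Pi.add_apply, Pi.single_apply]
        rcases hs with rfl | rfl <;> rcases hs' with rfl | rfl <;> split_ifs <;> norm_num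
      have c1 := pair_constraint g hik (Or.inl rfl) (Or.inl rfl) (hT 4 4 (Or.inl rfl) (Or.inl rfl))
      have c2 := pair_constraint g hik (Or.inl rfl) (Or.inr rfl)
        (hT 4 (-4) (Or.inl rfl) (Or.inr rfl))
      unfold D8
      constructor <;> omega
    intro k hk1 hk2
    exact ⟨(key none k (Ne.symm hk1)).1, (key none k (Ne.symm hk1)).2,
      (key (some 0) k (Ne.symm hk2)).1, (key (some 0) k (Ne.symm hk2)).2⟩

/-- **second dot trick**: a subgroup fixing `u = (4,4,0^22)` and preserving the vectors of shape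
`(±4,±4,0^22)` with `u · w = -16` lies in `N` -/
theorem le_NN_of_pres_dot_T1 (K : Subgroup Co0) (hfix : ∀ k ∈ K, k • leechU = leechU)
    (h : ∀ k ∈ K, ∀ v : leechLattice, sqNorm (v : GolayPt → ℤ) = 32 →
      dotInt vecU (v : GolayPt → ℤ) = -16 → T1 (v : GolayPt → ℤ) →
      T1 ((k • v : leechLattice) : GolayPt → ℤ)) : K ≤ NN := by
  intro g hg
  apply mem_NN_of_smul_v0
  apply mem_stdCross_of_constraints
  · rw [co0_sqNorm]; exact sqNorm_e8 none
  · have key : ∀ a k : GolayPt, (a = none ∨ a = some 0) → k ≠ none → k ≠ some 0 →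
        D8 (((g • v0 : leechLattice) : GolayPt → ℤ) a + ((g • v0 : leechLattice) : GolayPt → ℤ) k) ∧
        D8 (((g • v0 : leechLattice) : GolayPt → ℤ) a - ((g • v0 : leechLattice) : GolayPt → ℤ) k) := by
      intro a k ha hk1 hk2
      have hak : a ≠ k := by rcases ha with rfl | rfl <;> [exact hk1.symm; exact hk2.symm]
      have hT : ∀ (s' : ℤ) (hs' : s' = 4 ∨ s' = -4),
          T1 ((g⁻¹ • (⟨Pi.single a (-4) + Pi.single k s',
            pm4_pair_mem a k (Or.inr rfl) hs'⟩ : leechLattice) : leechLattice) : GolayPt → ℤ) := by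
        intro s' hs'
        apply h g⁻¹ (K.inv_mem hg) _ (sqNorm_pm4_pair hak (Or.inr rfl) hs')
        · show dotInt vecU (Pi.single a (-4) + Pi.single k s' : GolayPt → ℤ) = -16
          rw [dotInt_vecU]
          simp only [Pi.add_apply, Pi.single_apply]
          rcases ha with rfl | rfl <;> simp [Ne.symm hk1, Ne.symm hk2]
        · intro j
          show (Pi.single a (-4) + Pi.single k s' : GolayPt → ℤ) j % 4 = 0
          simp only [Pi.add_apply, Pi.single_apply]
          rcases hs' with rfl | rfl <;> split_ifs <;> norm_num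
      have c1 := pair_constraint g hak (Or.inr rfl) (Or.inl rfl) (hT 4 (Or.inl rfl))
      have c2 := pair_constraint g hak (Or.inr rfl) (Or.inr rfl) (hT (-4) (Or.inr rfl))
      unfold D8
      constructor <;> omega
    intro k hk1 hk2
    exact ⟨(key none k (Or.inl rfl) hk1 hk2).1, (key none k (Or.inl rfl) hk1 hk2).2,
      (key (some 0) k (Or.inr rfl) hk1 hk2).1, (key (some 0) k (Or.inr rfl) hk1 hk2).2⟩

end Cfsg.Agent.Lib.Helper8
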