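import Mathlib
import Cfsg.Agent.Lib.Helper8.NMax3

/-!
# The monomial group `N = 2^12 : M24` is a maximal subgroup of `Co0`: the main argument
-/

set_option autoImplicit false

namespace Cfsg.Agent.Lib.Helper8
open Cfsg Cfsg.Agent.Lib.Helper7 Cfsg.Spor Cfsg.Agent.S0397
open scoped Pointwise

theorem T_cases (x : GolayPt → ℤ) : T1 x ∨ T2 x ∨ T3 x := by
  by_cases h1 : T1 x
  · exact Or.inl h1
  · by_cases h3 : T3 x
    · exact Or.inr (Or.inr h3)
    · exact Or.inr (Or.inl ⟨h1, h3⟩)

theorem even_of_T2 {x : GolayPt → ℤ} (hx : x ∈ leechLattice) (h : T2 x) :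
    (∀ i, x i % 2 = 0) ∧ ∃ i, x i % 4 = 2 := by
  obtain ⟨h1, h3⟩ := h
  have hev : ∀ i, x i % 2 = 0 := by
    intro i
    by_contra hi
    apply h3
    exact odd_of_exists_odd hx ⟨i, by omega⟩
  refine ⟨hev, ?_⟩
  unfold T1 at h1
  push Not at h1
  obtain ⟨i, hi⟩ := h1
  exact ⟨i, by have := hev i; omega⟩

theorem disj12 : Disjoint (LF T1) (LF T2) := disjoint_LF fun _ h1 h2 => h2.1 h1
theorem disj13 : Disjoint (LF T1) (LF T3) := disjoint_LF fun _ h1 h3 => not_T1_and_T3 h1 h3
theorem disj23 : Disjoint (LF T2) (LF T3) := disjoint_LF fun _ h2 h3 => h2.2 h3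

/-- orbits of an overgroup of `N` on the minimal vectors -/
theorem orbit_min_classes (K : Subgroup Co0) (hK : NN ≤ K) :
    ∃ b2 b3 : Bool,
      (∀ x : leechLattice, (∃ k ∈ K, k • leechU = x) ↔
        (x ∈ LF T1 ∨ (b2 = true ∧ x ∈ LF T2) ∨ (b3 = true ∧ x ∈ LF T3))) ∧
      Nat.card K = Nat.card (K ⊓ MulAction.stabilizer Co0 leechU : Subgroup Co0) *
        (1104 + (if b2 then 97152 else 0) + (if b3 then 98304 else 0)) := by
  classical
  have hcover : ∀ k ∈ K, k • leechU ∈ LF T1 ∨ k • leechU ∈ LF T2 ∨ k • leechU ∈ LF T3 := by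
    intro k _
    have hn : sqNorm ((k • leechU : leechLattice) : GolayPt → ℤ) = 32 := by
      rw [co0_sqNorm]; exact sqNorm_vecU
    rcases T_cases ((k • leechU : leechLattice) : GolayPt → ℤ) with h | h | h
    · exact Or.inl ((mem_LF _).2 ⟨hn, h⟩)
    · exact Or.inr (Or.inl ((mem_LF _).2 ⟨hn, h⟩))
    · exact Or.inr (Or.inr ((mem_LF _).2 ⟨hn, h⟩))
  have ht1 : ∀ x ∈ LF T1, ∃ h ∈ NN, h • leechU = x := by
    intro x hx
    rw [mem_LF] at hx
    exact srel_leechU_of_four x hx.1 hx.2
  have ht2 : ∀ x ∈ LF T2, ∀ y ∈ LF T2, ∃ h ∈ NN, h • x = y := by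
    intro x hx y hy
    rw [mem_LF] at hx hy
    obtain ⟨e1, e2⟩ := even_of_T2 x.2 hx.2
    obtain ⟨f1, f2⟩ := even_of_T2 y.2 hy.2
    exact (srel_twoA_of_two x hx.1 e1 e2).trans (srel_twoA_of_two y hy.1 f1 f2).symm
  have ht3 : ∀ x ∈ LF T3, ∀ y ∈ LF T3, ∃ h ∈ NN, h • x = y := by
    intro x hx y hy
    rw [mem_LF] at hx hy
    exact (srel_vOdd_of_odd x hx.1 hx.2).trans (srel_vOdd_of_odd y hy.1 hy.2).symm
  obtain ⟨b2, b3, horb⟩ := orbit_three_classes NN K hK leechU (LF T1) (LF T2) (LF T3)
    hcover ht1 ht2 ht3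
  have hn := ncard_orbit_of_classes K leechU (LF T1) (LF T2) (LF T3) b2 b3 disj12 disj13 disj23 horb
  rw [card_LF, card_LF, card_LF, card_filter_T1, card_filter_T2, card_filter_T3] at hn
  have hc := card_eq_orbit_mul_stab K leechU
  rw [hn] at hc
  exact ⟨b2, b3, horb, hc⟩

/-- the classes of minimal vectors `w` with `u · w = -16` -/
def Q1 (x : GolayPt → ℤ) : Prop := dotInt vecU x = -16 ∧ T1 x
def Q2 (x : GolayPt → ℤ) : Prop := dotInt vecU x = -16 ∧ T2 x
def Q3 (x : GolayPt → ℤ) : Prop := dotInt vecU x = -16 ∧ T3 x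

theorem disjQ12 : Disjoint (LF Q1) (LF Q2) := disjoint_LF fun _ h1 h2 => h2.2.1 h1.2
theorem disjQ13 : Disjoint (LF Q1) (LF Q3) := disjoint_LF fun _ h1 h3 => not_T1_and_T3 h1.2 h3.2
theorem disjQ23 : Disjoint (LF Q2) (LF Q3) := disjoint_LF fun _ h2 h3 => h2.2.2 h3.2

theorem sqNorm_fourU : sqNorm (fourU : GolayPt → ℤ) = 32 :=
  sqNorm_pm4_pair (by decide) (Or.inr rfl) (Or.inl rfl)

theorem dot_fourU : dotInt vecU (fourU : GolayPt → ℤ) = -16 := by
  rw [dotInt_vecU]
  show 4 * (Pi.single none (-4) + Pi.single (some 1) 4 : GolayPt → ℤ) none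
    + 4 * (Pi.single none (-4) + Pi.single (some 1) 4 : GolayPt → ℤ) (some 0) = -16
  have h1 : (Pi.single (some 1) 4 : GolayPt → ℤ) none = 0 := Pi.single_eq_of_ne (by decide) _
  have h2 : (Pi.single none (-4) : GolayPt → ℤ) (some 0) = 0 := Pi.single_eq_of_ne (by decide) _
  have h3 : (Pi.single (some 1) 4 : GolayPt → ℤ) (some 0) = 0 := Pi.single_eq_of_ne (by decide) _
  simp only [Pi.add_apply, Pi.single_eq_same, h1, h2, h3]
  norm_num

/-- orbits of an overgroup of `NU` inside the stabiliser of `u` on the 4600 vectors -/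
theorem orbit_dot_classes (K : Subgroup Co0) (hK : NU ≤ K)
    (hfix : K ≤ MulAction.stabilizer Co0 leechU) :
    ∃ b2 b3 : Bool,
      (∀ x : leechLattice, (∃ k ∈ K, k • fourU = x) ↔
        (x ∈ LF Q1 ∨ (b2 = true ∧ x ∈ LF Q2) ∨ (b3 = true ∧ x ∈ LF Q3))) ∧
      Nat.card K = Nat.card (K ⊓ MulAction.stabilizer Co0 fourU : Subgroup Co0) *
        (88 + (if b2 then 2464 else 0) + (if b3 then 2048 else 0)) := by
  classical
  have hcover : ∀ k ∈ K, k • fourU ∈ LF Q1 ∨ k • fourU ∈ LF Q2 ∨ k • fourU ∈ LF Q3 := by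
    intro k hk
    have hn : sqNorm ((k • fourU : leechLattice) : GolayPt → ℤ) = 32 := by
      rw [co0_sqNorm]; exact sqNorm_fourU
    have hd : dotInt vecU ((k • fourU : leechLattice) : GolayPt → ℤ) = -16 := by
      have h1 := co0_dotInt k leechU fourU
      rw [MulAction.mem_stabilizer_iff.1 (hfix hk)] at h1
      rw [← dot_fourU]
      exact h1
    rcases T_cases ((k • fourU : leechLattice) : GolayPt → ℤ) with h | h | h
    · exact Or.inl ((mem_LF _).2 ⟨hn, hd, h⟩)
    · exact Or.inr (Or.inl ((mem_LF _).2 ⟨hn, hd, h⟩))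
    · exact Or.inr (Or.inr ((mem_LF _).2 ⟨hn, hd, h⟩))
  have ht1 : ∀ x ∈ LF Q1, ∃ h ∈ NU, h • fourU = x := by
    intro x hx
    rw [mem_LF] at hx
    exact (srel_fourU x hx.1 hx.2.2 hx.2.1).symm
  have ht2 : ∀ x ∈ LF Q2, ∀ y ∈ LF Q2, ∃ h ∈ NU, h • x = y := by
    intro x hx y hy
    rw [mem_LF] at hx hy
    obtain ⟨e1, e2⟩ := even_of_T2 x.2 hx.2.2
    obtain ⟨f1, f2⟩ := even_of_T2 y.2 hy.2.2
    exact (srel_twoU x hx.1 e1 e2 hx.2.1).trans (srel_twoU y hy.1 f1 f2 hy.2.1).symm
  have ht3 : ∀ x ∈ LF Q3, ∀ y ∈ LF Q3, ∃ h ∈ NU, h • x = y := by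
    intro x hx y hy
    rw [mem_LF] at hx hy
    exact (srel_oddU x hx.1 hx.2.2 hx.2.1).trans (srel_oddU y hy.1 hy.2.2 hy.2.1).symm
  obtain ⟨b2, b3, horb⟩ := orbit_three_classes NU K hK fourU (LF Q1) (LF Q2) (LF Q3)
    hcover ht1 ht2 ht3
  have hn := ncard_orbit_of_classes K fourU (LF Q1) (LF Q2) (LF Q3) b2 b3 disjQ12 disjQ13 disjQ23
    horb
  have e1 : (LF Q1).card = 88 := by
    rw [card_LF, ← card_filter_dot_T1]
    congr 1
    ext x
    simp only [Finset.mem_filter, Q1]
  have e2 : (LF Q2).card = 2464 := by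
    rw [card_LF, ← card_filter_dot_T2]
    congr 1
    ext x
    simp only [Finset.mem_filter, Q2]
  have e3 : (LF Q3).card = 2048 := by
    rw [card_LF, ← card_filter_dot_T3]
    congr 1
    ext x
    simp only [Finset.mem_filter, Q3]
  rw [e1, e2, e3] at hn
  have hc := card_eq_orbit_mul_stab K fourU
  rw [hn] at hc
  exact ⟨b2, b3, horb, hc⟩

theorem divs_25515 : ∀ d ∈ Nat.divisors 25515, d % 23 = 1 → d = 1 := by decide +kernel

theorem final_arith (n d : ℕ) (hK : 1002795171840 ∣ 904176000 * n)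
    (h : 904176000 * n * d = 8315553613086720000) (hd : d % 23 = 1) : d = 1 := by
  obtain ⟨c, hc⟩ := hK
  have h1 : n % 360448 = 0 := by omega
  obtain ⟨t, rfl⟩ : ∃ t, n = 360448 * t := ⟨n / 360448, by omega⟩
  have h2 : t * d = 25515 := by
    have : 904176000 * (360448 * t) * d = 325908430848000 * (t * d) := by ring
    rw [this] at h
    omega
  have hdvd : d ∣ 25515 := ⟨t, by rw [← h2]; ring⟩
  exact divs_25515 d (Nat.mem_divisors.2 ⟨hdvd, by norm_num⟩) hd

/-- **The monomial group `2^12 : M24` is a maximal subgroup of `Co0`.** -/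
theorem NN_isCoatom : IsCoatom NN := by
  haveI : Finite Co0 := Nat.finite_of_card_ne_zero (by rw [Cfsg.Agent.S0397.result]; norm_num)
  constructor
  · intro htop
    have := card_NN
    rw [htop, Subgroup.card_top, Cfsg.Agent.S0397.result] at this
    norm_num at this
  · intro K hK
    have hle : NN ≤ K := hK.le
    have hnot : ¬ K ≤ NN := not_le_of_gt hK
    have hKdvd : Nat.card K ∣ 8315553613086720000 := by
      rw [← Cfsg.Agent.S0397.result]; exact K.card_subgroup_dvd_card
    obtain ⟨b2, b3, horb, hcard⟩ := orbit_min_classes K hle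
    have hb : b2 = true ∧ b3 = true := by
      cases b2 <;> cases b3
      · exfalso
        apply hnot
        apply le_NN_of_pres_T1
        intro k hk v hv hT
        obtain ⟨k', hk', hkv⟩ := (horb v).2 (Or.inl ((mem_LF v).2 ⟨hv, hT⟩))
        have := (horb (k • v)).1 ⟨k * k', K.mul_mem hk hk', by rw [mul_smul, hkv]⟩
        rcases this with h | ⟨h, -⟩ | ⟨h, -⟩
        · exact ((mem_LF _).1 h).2
        · exact absurd h (by decide)
        · exact absurd h (by decide)
      · exfalso
        simp only [Bool.false_eq_true, if_false, if_true, add_zero] at hcard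
        have : (1104 + 98304) ∣ 8315553613086720000 :=
          Nat.dvd_trans (Dvd.intro_left _ hcard.symm) hKdvd
        norm_num at this
      · exfalso
        simp only [Bool.false_eq_true, if_false, if_true, add_zero] at hcard
        have : (1104 + 97152) ∣ 8315553613086720000 :=
          Nat.dvd_trans (Dvd.intro_left _ hcard.symm) hKdvd
        norm_num at this
      · exact ⟨rfl, rfl⟩
    obtain ⟨rfl, rfl⟩ := hb
    simp only [if_true] at hcard
    -- second level
    set K' : Subgroup Co0 := K ⊓ MulAction.stabilizer Co0 leechU with hK'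
    have hNU : NU ≤ K' := inf_le_inf_right _ hle
    have hK'dvd : Nat.card K' ∣ 8315553613086720000 := by
      rw [← Cfsg.Agent.S0397.result]; exact K'.card_subgroup_dvd_card
    obtain ⟨c2, c3, horb', hcard'⟩ := orbit_dot_classes K' hNU inf_le_right
    have hc : c2 = true ∧ c3 = true := by
      cases c2 <;> cases c3
      · exfalso
        have hK'N : K' ≤ NN := by
          apply le_NN_of_pres_dot_T1 K'
            (fun k hk => MulAction.mem_stabilizer_iff.1 ((inf_le_right : K' ≤ _) hk))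
          intro k hk v hv hd hT
          obtain ⟨k', hk', hkv⟩ := (horb' v).2 (Or.inl ((mem_LF v).2 ⟨hv, hd, hT⟩))
          have := (horb' (k • v)).1 ⟨k * k', K'.mul_mem hk hk', by rw [mul_smul, hkv]⟩
          rcases this with h | ⟨h, -⟩ | ⟨h, -⟩
          · exact ((mem_LF _).1 h).2.2
          · exact absurd h (by decide)
          · exact absurd h (by decide)
        have hK'eq : K' = NU := le_antisymm (le_inf hK'N inf_le_right) hNU
        obtain ⟨e2, e3, -, hcardN⟩ := orbit_min_classes NN le_rfl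
        rw [card_NN] at hcardN
        have hNUeq : (NN ⊓ MulAction.stabilizer Co0 leechU : Subgroup Co0) = NU := rfl
        rw [hNUeq] at hcardN
        rw [hK'eq] at hcard
        have hdvd : Nat.card NN ∣ Nat.card K := Subgroup.card_dvd_of_le hle
        rw [card_NN, hcard] at hdvd
        generalize Nat.card NU = n at hcardN hdvd
        have hn : n = 908328960 := by
          cases e2 <;> cases e3 <;>
            simp only [Bool.false_eq_true, if_false, if_true, add_zero] at hcardN <;> omega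
        rw [hn] at hdvd
        norm_num at hdvd
      · exfalso
        simp only [Bool.false_eq_true, if_false, if_true, add_zero] at hcard'
        have : (88 + 2048) ∣ 8315553613086720000 :=
          Nat.dvd_trans (Dvd.intro_left _ hcard'.symm) hK'dvd
        norm_num at this
      · exfalso
        simp only [Bool.false_eq_true, if_false, if_true, add_zero] at hcard'
        have : (88 + 2464) ∣ 8315553613086720000 :=
          Nat.dvd_trans (Dvd.intro_left _ hcard'.symm) hK'dvd
        norm_num at this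
      · exact ⟨rfl, rfl⟩
    obtain ⟨rfl, rfl⟩ := hc
    simp only [if_true] at hcard'
    -- final arithmetic
    have hidx := index_mod23_of_NN_le K hle
    have hmul := Subgroup.card_mul_index K
    rw [Cfsg.Agent.S0397.result] at hmul
    have hdvd : Nat.card NN ∣ Nat.card K := Subgroup.card_dvd_of_le hle
    rw [card_NN] at hdvd
    rw [hcard'] at hcard
    generalize Nat.card (K' ⊓ MulAction.stabilizer Co0 fourU : Subgroup Co0) = n at hcard
    rw [hcard] at hdvd hmul
    have h1 : K.index = 1 := by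
      apply final_arith n K.index
      · have : n * (88 + 2464 + 2048) * (1104 + 97152 + 98304) = 904176000 * n := by ring
        rw [this] at hdvd
        norm_num at hdvd ⊢
        exact hdvd
      · rw [← hmul]; ring
      · exact hidx
    exact Subgroup.index_eq_one.1 h1

end Cfsg.Agent.Lib.Helper8
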