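/-
Step 1 of the single-2-block criterion, exposed separately (helper8, requested by helper90):
if every involution centralizer has a normal self-centralizing 2-subgroup, then every non-principal
2-block has defect zero; and a block of defect zero has the trivial subgroup as a defect group.
-/
import Cfsg.Agent.Lib.Helper8.OneBlock

set_option autoImplicit false
set_option linter.style.haveILetI false

namespace Cfsg.Agent.Lib.Helper8.OneBlock

open Cfsg Cfsg.Agent.Lib.Helper16 Cfsg.Agent.Lib.Helper8.OneBlockGrp

/-- **Step 1.** If every involution centralizer is 2-constrained, every non-principal 2-block has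
defect zero. -/
theorem blockDefect_lt_one_of_constrained {G : Type*} [Group G] [Finite G] (M : Ideal AlgInt)
    (hM : IsPModular 2 M)
    (h1 : ∀ y : G, orderOf y = 2 →
      ∃ Q : Subgroup ↥(Subgroup.centralizer ({y} : Set G)), Q.Normal ∧ IsPGroup 2 Q ∧
        Subgroup.centralizer (Q : Set ↥(Subgroup.centralizer ({y} : Set G))) ≤ Q)
    (B' : Set (IrrCharacter G)) (hB' : IsPBlock M B') (hne : B' ≠ principalBlock M G) :
    blockDefect 2 B' < 1 := by
  haveI : Fact (Nat.Prime 2) := ⟨Nat.prime_two⟩
  haveI hprime : M.IsPrime := isPModular_isPrime hM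
  refine (Cfsg.Agent.S4717.result 2 M hM 1).2 (by norm_num) ?_ B' hB' hne
  intro y hy B'' hB'' hne''
  exfalso
  apply hne''
  obtain ⟨Q, hQn, hQp, hQc⟩ := h1 y hy
  haveI := hQn
  obtain ⟨hcore, hconstr⟩ := constrained_of_normal_self_centralizing 2 Q hQp hQc
  exact eq_principalBlock_of_sameBlock
    (fun χ' ψ' => Cfsg.Agent.S4487.result 2 M hM hcore hconstr χ' ψ') B'' hB''

/-- A block of defect zero has the trivial subgroup as a defect group. -/
theorem isDefectGroup_bot_of_blockDefect_eq_zero {G : Type*} [Group G] [Finite G]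
    (M : Ideal AlgInt) (hM : IsPModular 2 M) (B : Set (IrrCharacter G)) (hB : IsPBlock M B)
    (hd : blockDefect 2 B = 0) : IsDefectGroup 2 M B ⊥ := by
  haveI : Fact (Nat.Prime 2) := ⟨Nat.prime_two⟩
  obtain ⟨g, hg⟩ := Cfsg.Agent.S0906.result 2 M hM B hB
  let P : Sylow 2 (Subgroup.centralizer ({g} : Set G)) := default
  have hD : IsDefectGroup 2 M B
      ((P : Subgroup (Subgroup.centralizer ({g} : Set G))).map
        (Subgroup.centralizer ({g} : Set G)).subtype) := ⟨g, hg, P, rfl⟩
  have hcard := Cfsg.Agent.S0908.result 2 M hM B hB _ hD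
  rw [hd, pow_zero] at hcard
  have hbot := Subgroup.eq_bot_of_card_eq _ hcard
  rw [hbot] at hD
  exact hD

/-- If every involution centralizer is 2-constrained and no irreducible character has degree
divisible by the full power of 2 (so that no block has defect zero, in the sense that no block has
the trivial subgroup as a defect group), all irreducible characters lie in one 2-block. -/
theorem sameBlock_of_constrained_of_no_defect_zero {G : Type*} [Group G] [Finite G]
    (M : Ideal AlgInt) (hM : IsPModular 2 M)
    (h1 : ∀ y : G, orderOf y = 2 →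
      ∃ Q : Subgroup ↥(Subgroup.centralizer ({y} : Set G)), Q.Normal ∧ IsPGroup 2 Q ∧
        Subgroup.centralizer (Q : Set ↥(Subgroup.centralizer ({y} : Set G))) ≤ Q)
    (hzero : ∀ B : Set (IrrCharacter G), IsPBlock M B → ¬ IsDefectGroup 2 M B ⊥)
    (χ ψ : IrrCharacter G) : SameBlock M (χ : G → ℂ) (ψ : G → ℂ) := by
  haveI hprime : M.IsPrime := isPModular_isPrime hM
  have hMtop : M ≠ ⊤ := hprime.ne_top
  have hprinc : ∀ θ : IrrCharacter G, blockOf M (θ : G → ℂ) = principalBlock M G := by
    intro θ
    by_contra hne
    have hB : IsPBlock M (blockOf M (θ : G → ℂ)) := isPBlock_blockOf θ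
    have hd := blockDefect_lt_one_of_constrained M hM h1 _ hB hne
    exact hzero _ hB (isDefectGroup_bot_of_blockDefect_eq_zero M hM _ hB (by omega))
  have h1' : SameBlock M (fun _ : G => (1 : ℂ)) (χ : G → ℂ) := by
    have : χ ∈ blockOf M (χ : G → ℂ) := self_mem_blockOf hMtop χ
    rw [hprinc χ] at this
    exact this
  have h2' : SameBlock M (fun _ : G => (1 : ℂ)) (ψ : G → ℂ) := by
    have : ψ ∈ blockOf M (ψ : G → ℂ) := self_mem_blockOf hMtop ψ
    rw [hprinc ψ] at this
    exact this
  exact sameBlock_trans (sameBlock_symm h1') h2'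

end Cfsg.Agent.Lib.Helper8.OneBlock
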