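import Cfsg.Prelude.Def_Sporadic_a

/-!
Counting in a Steiner system S(3, 6, 22): replication numbers 77, 21, 5, block intersection
numbers (0 or 2), 16 blocks disjoint from a given block, and the numbers of blocks disjoint from
two given blocks (0 if they are disjoint, 4 if they meet).
-/

set_option autoImplicit false

namespace Cfsg.Agent.Lib.Helper8
open Cfsg Finset

section
variable {α : Type*} [Fintype α] [DecidableEq α]

/-- The blocks as a finset. -/
noncomputable def blocksF (B : Set (Finset α)) : Finset (Finset α) :=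
  by classical exact Finset.univ.filter (· ∈ B)

theorem mem_blocksF {B : Set (Finset α)} {b : Finset α} : b ∈ blocksF B ↔ b ∈ B := by
  classical
  simp [blocksF]

variable {B : Set (Finset α)}

theorem block_card (hB : IsSteinerSystem 3 6 B) {b : Finset α} (hb : b ∈ blocksF B) :
    b.card = 6 := hB.1 b (mem_blocksF.mp hb)

/-- two blocks sharing three points are equal -/
theorem block_eq_of_three (hB : IsSteinerSystem 3 6 B) {b c : Finset α} (hb : b ∈ blocksF B)
    (hc : c ∈ blocksF B) {s : Finset α} (hs : s.card = 3) (hsb : s ⊆ b) (hsc : s ⊆ c) : b = c := by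
  obtain ⟨d, _, hd⟩ := hB.2 s hs
  rw [hd b ⟨mem_blocksF.mp hb, hsb⟩, hd c ⟨mem_blocksF.mp hc, hsc⟩]

theorem inter_le_two (hB : IsSteinerSystem 3 6 B) {b c : Finset α} (hb : b ∈ blocksF B)
    (hc : c ∈ blocksF B) (hbc : b ≠ c) : (b ∩ c).card ≤ 2 := by
  by_contra h
  push Not at h
  obtain ⟨s, hs, hs3⟩ := Finset.exists_subset_card_eq (show 3 ≤ (b ∩ c).card by omega)
  exact hbc (block_eq_of_three hB hb hc hs3 (hs.trans inter_subset_left)
    (hs.trans inter_subset_right))

/-- exactly one block through three distinct points -/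
theorem lam3 (hB : IsSteinerSystem 3 6 B) {p q r : α} (hpq : p ≠ q) (hpr : p ≠ r) (hqr : q ≠ r) :
    #{c ∈ blocksF B | p ∈ c ∧ q ∈ c ∧ r ∈ c} = 1 := by
  have hs : ({p, q, r} : Finset α).card = 3 := by
    rw [card_insert_of_notMem, card_insert_of_notMem, card_singleton]
    · simpa using hqr
    · simp [hpq, hpr]
  obtain ⟨d, ⟨hdB, hds⟩, hd⟩ := hB.2 _ hs
  rw [card_eq_one]
  refine ⟨d, ?_⟩
  ext c
  simp only [mem_filter, mem_singleton, mem_blocksF]
  constructor
  · rintro ⟨hcB, hp, hq, hr⟩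
    apply hd c ⟨hcB, ?_⟩
    intro x hx
    simp only [mem_insert, mem_singleton] at hx
    rcases hx with rfl | rfl | rfl <;> assumption
  · rintro rfl
    refine ⟨hdB, hds (by simp), hds (by simp), hds (by simp)⟩

/-- five blocks through two distinct points -/
theorem lam2 (hα : Fintype.card α = 22) (hB : IsSteinerSystem 3 6 B) {p q : α} (hpq : p ≠ q) :
    #{c ∈ blocksF B | p ∈ c ∧ q ∈ c} = 5 := by
  set S := {c ∈ blocksF B | p ∈ c ∧ q ∈ c} with hS
  set X : Finset α := univ \ {p, q} with hX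
  have hXcard : X.card = 20 := by
    rw [hX, card_sdiff_of_subset (subset_univ _), card_univ, hα, card_pair hpq]
  have h1 : ∀ r ∈ X, #{c ∈ S | r ∈ c} = 1 := by
    intro r hr
    rw [hX, mem_sdiff, mem_insert, mem_singleton] at hr
    push Not at hr
    have : {c ∈ S | r ∈ c} = {c ∈ blocksF B | p ∈ c ∧ q ∈ c ∧ r ∈ c} := by
      rw [hS, filter_filter]
      apply filter_congr
      intro c _
      tauto
    rw [this]
    exact lam3 hB hpq (Ne.symm hr.2.1) (Ne.symm hr.2.2)
  have h2 := sum_card_inter h1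
  have h3 : ∀ c ∈ S, #(X ∩ c) = 4 := by
    intro c hc
    rw [hS, mem_filter] at hc
    have : X ∩ c = c \ {p, q} := by
      ext x
      simp only [hX, mem_inter, mem_sdiff, mem_univ, true_and]
      tauto
    rw [this, card_sdiff_of_subset, block_card hB hc.1, card_pair hpq]
    intro x hx
    simp only [mem_insert, mem_singleton] at hx
    rcases hx with rfl | rfl
    · exact hc.2.1
    · exact hc.2.2
  rw [sum_congr rfl h3, sum_const, smul_eq_mul, hXcard] at h2
  omega

/-- twenty-one blocks through a point -/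
theorem lam1 (hα : Fintype.card α = 22) (hB : IsSteinerSystem 3 6 B) (p : α) :
    #{c ∈ blocksF B | p ∈ c} = 21 := by
  set S := {c ∈ blocksF B | p ∈ c} with hS
  set X : Finset α := univ \ {p} with hX
  have hXcard : X.card = 21 := by
    rw [hX, card_sdiff_of_subset (subset_univ _), card_univ, hα, card_singleton]
  have h1 : ∀ r ∈ X, #{c ∈ S | r ∈ c} = 5 := by
    intro r hr
    rw [hX, mem_sdiff, mem_singleton] at hr
    have : {c ∈ S | r ∈ c} = {c ∈ blocksF B | p ∈ c ∧ r ∈ c} := by
      rw [hS, filter_filter]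
    rw [this]
    exact lam2 hα hB (Ne.symm hr.2)
  have h2 := sum_card_inter h1
  have h3 : ∀ c ∈ S, #(X ∩ c) = 5 := by
    intro c hc
    rw [hS, mem_filter] at hc
    have : X ∩ c = c \ {p} := by
      ext x
      simp only [hX, mem_inter, mem_sdiff, mem_univ, true_and]
      tauto
    rw [this, card_sdiff_of_subset, block_card hB hc.1, card_singleton]
    intro x hx
    rw [mem_singleton] at hx
    rw [hx]; exact hc.2
  rw [sum_congr rfl h3, sum_const, smul_eq_mul, hXcard] at h2
  omega

/-- seventy-seven blocks -/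
theorem lam0 (hα : Fintype.card α = 22) (hB : IsSteinerSystem 3 6 B) :
    (blocksF B).card = 77 := by
  have h1 : ∀ a : α, #{c ∈ blocksF B | a ∈ c} = 21 := fun a => lam1 hα hB a
  have h2 := Finset.sum_card h1
  have h3 : ∀ c ∈ blocksF B, c.card = 6 := fun c hc => block_card hB hc
  rw [sum_congr rfl h3, sum_const, smul_eq_mul, hα] at h2
  omega


/-- number of blocks through two (possibly equal) points -/
theorem lam_pair (hα : Fintype.card α = 22) (hB : IsSteinerSystem 3 6 B) (p q : α) :
    #{c ∈ blocksF B | p ∈ c ∧ q ∈ c} = if p = q then 21 else 5 := by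
  split_ifs with h
  · subst h
    simp only [and_self]
    exact lam1 hα hB p
  · exact lam2 hα hB h

theorem sum1 (hα : Fintype.card α = 22) (hB : IsSteinerSystem 3 6 B) {b : Finset α}
    (hb : b ∈ blocksF B) : ∑ c ∈ blocksF B, #(b ∩ c) = 126 := by
  have h1 : ∀ a ∈ b, #{c ∈ blocksF B | a ∈ c} = 21 := fun a _ => lam1 hα hB a
  rw [sum_card_inter h1, block_card hB hb]

theorem card_diag_filter (b b' : Finset α) :
    #{x ∈ b ×ˢ b' | x.1 = x.2} = #(b ∩ b') := by
  symm
  apply card_bij (fun a _ => (a, a))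
  · intro a ha
    rw [mem_inter] at ha
    simp [ha.1, ha.2]
  · intro a _ a' _ h
    exact (Prod.mk.inj h).1
  · rintro ⟨x, y⟩ hxy
    simp only [mem_filter, mem_product] at hxy
    obtain ⟨⟨hx, hy⟩, rfl⟩ := hxy
    exact ⟨x, mem_inter.mpr ⟨hx, hy⟩, rfl⟩

theorem sum2 (hα : Fintype.card α = 22) (hB : IsSteinerSystem 3 6 B) {b b' : Finset α}
    (hb : b ∈ blocksF B) (hb' : b' ∈ blocksF B) :
    ∑ c ∈ blocksF B, #(b ∩ c) * #(b' ∩ c) = 180 + 16 * #(b ∩ b') := by
  have key := sum_card_bipartiteAbove_eq_sum_card_bipartiteBelow (s := b ×ˢ b') (t := blocksF B)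
    (fun (x : α × α) (c : Finset α) => x.1 ∈ c ∧ x.2 ∈ c)
  have hR : ∀ c ∈ blocksF B,
      #((b ×ˢ b').bipartiteBelow (fun (x : α × α) (c : Finset α) => x.1 ∈ c ∧ x.2 ∈ c) c) =
        #(b ∩ c) * #(b' ∩ c) := by
    intro c _
    rw [← card_product]
    congr 1
    ext ⟨x, y⟩
    simp only [mem_bipartiteBelow, mem_product, mem_inter]
    tauto
  have hL : ∀ x ∈ b ×ˢ b',
      #((blocksF B).bipartiteAbove (fun (x : α × α) (c : Finset α) => x.1 ∈ c ∧ x.2 ∈ c) x) =
        5 + if x.1 = x.2 then 16 else 0 := by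
    intro x _
    have := lam_pair hα hB x.1 x.2
    unfold bipartiteAbove
    rw [this]
    split_ifs <;> rfl
  rw [sum_congr rfl hR, sum_congr rfl hL, sum_add_distrib, sum_const, smul_eq_mul, card_product,
    block_card hB hb, block_card hB hb', ← sum_filter, sum_const, smul_eq_mul,
    card_diag_filter] at key
  omega


theorem inter_self_card (hB : IsSteinerSystem 3 6 B) {b : Finset α} (hb : b ∈ blocksF B) :
    #(b ∩ b) = 6 := by rw [inter_self, block_card hB hb]

/-- two distinct blocks meet in 0 or 2 points -/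
theorem inter_02 (hα : Fintype.card α = 22) (hB : IsSteinerSystem 3 6 B) {b c : Finset α}
    (hb : b ∈ blocksF B) (hc : c ∈ blocksF B) (hbc : b ≠ c) : #(b ∩ c) = 0 ∨ #(b ∩ c) = 2 := by
  have s1 := sum1 hα hB hb
  have s2 := sum2 hα hB hb hb
  rw [← add_sum_erase _ _ hb, inter_self_card hB hb] at s1 s2
  have hle : ∀ c ∈ (blocksF B).erase b, #(b ∩ c) * #(b ∩ c) ≤ 2 * #(b ∩ c) := by
    intro c hc
    have := inter_le_two hB hb (mem_of_mem_erase hc) (ne_of_mem_erase hc).symm
    exact Nat.mul_le_mul_right _ this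
  have hsum : ∑ c ∈ (blocksF B).erase b, #(b ∩ c) * #(b ∩ c) =
      ∑ c ∈ (blocksF B).erase b, 2 * #(b ∩ c) := by
    rw [← mul_sum]; omega
  have := (sum_eq_sum_iff_of_le hle).mp hsum c (mem_erase.mpr ⟨hbc.symm, hc⟩)
  have h2 := inter_le_two hB hb hc hbc
  interval_cases h : #(b ∩ c)
  · left; rfl
  · simp at this
  · right; rfl

theorem disjoint_iff_card (b c : Finset α) : Disjoint b c ↔ #(b ∩ c) = 0 := by
  rw [card_eq_zero, disjoint_iff_inter_eq_empty]

theorem not_disjoint_self (hB : IsSteinerSystem 3 6 B) {b : Finset α} (hb : b ∈ blocksF B) :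
    ¬ Disjoint b b := by
  rw [disjoint_iff_card, inter_self_card hB hb]; omega

/-- summing intersection sizes over a family of blocks different from `b` -/
theorem sum_inter_eq (hα : Fintype.card α = 22) (hB : IsSteinerSystem 3 6 B) {b : Finset α}
    (hb : b ∈ blocksF B) (S : Finset (Finset α)) (hS : ∀ c ∈ S, c ∈ blocksF B ∧ c ≠ b) :
    ∑ c ∈ S, #(b ∩ c) = 2 * #{c ∈ S | ¬ Disjoint b c} := by
  rw [card_filter, mul_sum]
  apply sum_congr rfl
  intro c hc
  rcases inter_02 hα hB hb (hS c hc).1 (hS c hc).2.symm with h | h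
  · rw [if_neg (not_not.mpr ((disjoint_iff_card b c).mpr h)), h, mul_zero]
  · have hnd : ¬ Disjoint b c := by rw [disjoint_iff_card, h]; omega
    rw [if_pos hnd, h, mul_one]

/-- sixteen blocks are disjoint from a given block -/
theorem disj16 (hα : Fintype.card α = 22) (hB : IsSteinerSystem 3 6 B) {b : Finset α}
    (hb : b ∈ blocksF B) : #{c ∈ blocksF B | Disjoint b c} = 16 := by
  have s1 := sum1 hα hB hb
  rw [← add_sum_erase _ _ hb, inter_self_card hB hb,
    sum_inter_eq hα hB hb ((blocksF B).erase b)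
      (fun c hc => ⟨mem_of_mem_erase hc, ne_of_mem_erase hc⟩)] at s1
  have hcard : #((blocksF B).erase b) = 76 := by rw [card_erase_of_mem hb, lam0 hα hB]
  have hsplit := card_filter_add_card_filter_not (s := (blocksF B).erase b)
    (fun c => Disjoint b c)
  have : {c ∈ blocksF B | Disjoint b c} = {c ∈ (blocksF B).erase b | Disjoint b c} := by
    ext c
    simp only [mem_filter, mem_erase]
    constructor
    · rintro ⟨h1, h2⟩
      refine ⟨⟨?_, h1⟩, h2⟩
      rintro rfl
      exact not_disjoint_self hB hb h2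
    · rintro ⟨⟨_, h1⟩, h2⟩
      exact ⟨h1, h2⟩
  rw [this]
  omega

/-- six blocks through a point outside a block are disjoint from that block -/
theorem pointDisj (hα : Fintype.card α = 22) (hB : IsSteinerSystem 3 6 B) {b : Finset α}
    (hb : b ∈ blocksF B) {a : α} (ha : a ∉ b) :
    #{c ∈ blocksF B | a ∈ c ∧ Disjoint b c} = 6 := by
  set S := {c ∈ blocksF B | a ∈ c} with hSdef
  have h1 : ∀ p ∈ b, #{c ∈ S | p ∈ c} = 5 := by
    intro p hp
    rw [hSdef, filter_filter]
    apply lam2 hα hB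
    rintro rfl
    exact ha hp
  have h2 := sum_card_inter h1
  have hS : ∀ c ∈ S, c ∈ blocksF B ∧ c ≠ b := by
    intro c hc
    rw [hSdef, mem_filter] at hc
    refine ⟨hc.1, ?_⟩
    rintro rfl
    exact ha hc.2
  rw [sum_inter_eq hα hB hb S hS, block_card hB hb] at h2
  have hcard : #S = 21 := lam1 hα hB a
  have hsplit := card_filter_add_card_filter_not (s := S) (fun c => Disjoint b c)
  have : {c ∈ blocksF B | a ∈ c ∧ Disjoint b c} = {c ∈ S | Disjoint b c} := by
    rw [hSdef, filter_filter]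
  rw [this]
  omega


/-- the number of blocks disjoint from two distinct blocks is twice the size of their
intersection (so 0 or 4) -/
theorem common (hα : Fintype.card α = 22) (hB : IsSteinerSystem 3 6 B) {b b' : Finset α}
    (hb : b ∈ blocksF B) (hb' : b' ∈ blocksF B) (hne : b ≠ b') :
    #{c ∈ blocksF B | Disjoint b c ∧ Disjoint b' c} = 2 * #(b ∩ b') := by
  have hb'e : b' ∈ (blocksF B).erase b := mem_erase.mpr ⟨hne.symm, hb'⟩
  set C := ((blocksF B).erase b).erase b' with hC
  have hCmem : ∀ c ∈ C, c ∈ blocksF B ∧ c ≠ b ∧ c ≠ b' := by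
    intro c hc
    rw [hC, mem_erase, mem_erase] at hc
    exact ⟨hc.2.2, hc.2.1, hc.1⟩
  have hCcard : #C = 75 := by
    rw [hC, card_erase_of_mem hb'e, card_erase_of_mem hb, lam0 hα hB]
  have e1 := sum1 hα hB hb
  have e2 := sum1 hα hB hb'
  have e3 := sum2 hα hB hb hb'
  rw [← add_sum_erase _ _ hb, ← add_sum_erase _ _ hb'e, inter_self_card hB hb] at e1
  rw [← add_sum_erase _ _ hb, ← add_sum_erase _ _ hb'e, inter_self_card hB hb',
    inter_comm b' b] at e2
  rw [← add_sum_erase _ _ hb, ← add_sum_erase _ _ hb'e, inter_self_card hB hb,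
    inter_self_card hB hb', inter_comm b' b] at e3
  rw [← hC] at e1 e2 e3
  -- termwise identity
  have hterm : ∀ c ∈ C, 4 * (if Disjoint b c ∧ Disjoint b' c then 1 else 0) + 2 * #(b ∩ c) +
      2 * #(b' ∩ c) = 4 + #(b ∩ c) * #(b' ∩ c) := by
    intro c hc
    obtain ⟨hcB, hcb, hcb'⟩ := hCmem c hc
    rcases inter_02 hα hB hb hcB hcb.symm with h | h <;>
    rcases inter_02 hα hB hb' hcB hcb'.symm with h' | h'
    · rw [if_pos ⟨(disjoint_iff_card _ _).mpr h, (disjoint_iff_card _ _).mpr h'⟩, h, h']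
    · rw [if_neg, h, h']
      rintro ⟨_, h2⟩
      rw [disjoint_iff_card, h'] at h2; omega
    · rw [if_neg, h, h']
      rintro ⟨h2, _⟩
      rw [disjoint_iff_card, h] at h2; omega
    · rw [if_neg, h, h']
      rintro ⟨h2, _⟩
      rw [disjoint_iff_card, h] at h2; omega
  have hsum := sum_congr (rfl : C = C) hterm
  rw [sum_add_distrib, sum_add_distrib, ← mul_sum, ← mul_sum, ← mul_sum, sum_add_distrib,
    sum_const, smul_eq_mul, hCcard, ← card_filter] at hsum
  have : {c ∈ blocksF B | Disjoint b c ∧ Disjoint b' c} =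
      {c ∈ C | Disjoint b c ∧ Disjoint b' c} := by
    ext c
    simp only [mem_filter, hC, mem_erase]
    constructor
    · rintro ⟨h1, h2, h3⟩
      refine ⟨⟨?_, ?_, h1⟩, h2, h3⟩
      · rintro rfl; exact not_disjoint_self hB hb' h3
      · rintro rfl; exact not_disjoint_self hB hb h2
    · rintro ⟨⟨_, _, h1⟩, h2⟩
      exact ⟨h1, h2⟩
  rw [this]
  have hi := inter_le_two hB hb hb' hne
  omega


end

end Cfsg.Agent.Lib.Helper8
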